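import Cfsg.Agent.Lib.Helper11.ZJ8

/-!
# Auxiliary facts on `Z(J(P))` (abelian version) used for the control of normalizers
-/

set_option autoImplicit false
set_option linter.style.haveILetI false

namespace Cfsg.Agent.Helper11.ZJ

open Cfsg
open scoped commutatorElement

variable {G : Type*} [Group G]

/-- `Z(J(P))`, abelian version, as the intersection of the abelian subgroups of `P` of largest order. -/
abbrev ZJ (P : Subgroup G) : Subgroup G := W (fun A : Subgroup G => IsMulCommutative A) P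

/-- Central elements of `P` lie in `Z(J(P))`. -/
theorem center_le_ZJ [Finite G] (P : Subgroup G) :
    P ⊓ Subgroup.centralizer (P : Set G) ≤ ZJ P := by
  intro z hz
  show z ∈ sInf (Fam (fun A : Subgroup G => IsMulCommutative A) P)
  rw [Subgroup.mem_sInf]
  intro A hA
  have hzA : ∀ a ∈ A, a * z = z * a := fun a ha =>
    (Subgroup.mem_centralizer_iff.mp hz.2) a (hA.1 ha)
  have hAc := (Repl.isMulCommutative_iff_forall A).mp hA.2.1
  have hcomm : ∀ a ∈ ((A : Set G) ∪ {z}), ∀ b ∈ ((A : Set G) ∪ {z}), a * b = b * a := by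
    intro a ha b hb
    rcases ha with ha | ha <;> rcases hb with hb | hb
    · exact hAc a ha b hb
    · rw [Set.mem_singleton_iff] at hb
      subst hb
      exact hzA a ha
    · rw [Set.mem_singleton_iff] at ha
      subst ha
      exact (hzA b hb).symm
    · rw [Set.mem_singleton_iff] at ha hb
      subst ha; subst hb; rfl
  have heq : A ⊔ Subgroup.zpowers z = Subgroup.closure ((A : Set G) ∪ {z}) := by
    rw [Subgroup.closure_union, Subgroup.closure_eq, Subgroup.zpowers_eq_closure]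
  have hc : IsMulCommutative ↥(A ⊔ Subgroup.zpowers z) := by
    rw [heq]; exact Subgroup.isMulCommutative_closure hcomm
  have hle : A ⊔ Subgroup.zpowers z ≤ P := by
    apply sup_le hA.1
    rw [Subgroup.zpowers_le]; exact hz.1
  have hcard := hA.2.2 _ hle hc
  have h1 := Subgroup.eq_of_le_of_card_ge (le_sup_left : A ≤ A ⊔ Subgroup.zpowers z) hcard
  rw [h1]
  exact Subgroup.mem_sup_right (Subgroup.mem_zpowers z)

/-- `Z(J(P)) ≠ 1` for a nontrivial `p`-subgroup `P`. -/
theorem ZJ_ne_bot [Finite G] {p : ℕ} [Fact p.Prime] {P : Subgroup G} (hP : IsPGroup p P)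
    (hne : P ≠ ⊥) : ZJ P ≠ ⊥ := by
  haveI : Nontrivial ↥P := (Subgroup.nontrivial_iff_ne_bot P).mpr hne
  haveI := hP.center_nontrivial
  obtain ⟨z, hz⟩ := exists_ne (1 : ↥(Subgroup.center ↥P))
  intro hbot
  apply hz
  have h0 : ((z : ↥P) : G) ∈ Subgroup.centralizer (P : Set G) := by
    rw [Subgroup.mem_centralizer_iff]
    intro y hy
    have := (Subgroup.mem_center_iff.mp z.2) ⟨y, hy⟩
    exact congrArg Subtype.val this
  have h1 : ((z : ↥P) : G) ∈ P ⊓ Subgroup.centralizer (P : Set G) := ⟨(z : ↥P).2, h0⟩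
  have h2 := center_le_ZJ P h1
  rw [hbot, Subgroup.mem_bot] at h2
  apply Subtype.ext
  apply Subtype.ext
  exact h2

/-- Normalizers grow in `p`-subgroups. -/
theorem lt_inf_normalizer [Finite G] {p : ℕ} [Fact p.Prime] {P H : Subgroup G} (hP : IsPGroup p P)
    (hlt : H < P) : H < P ⊓ Subgroup.normalizer (H : Set G) := by
  haveI : Group.IsNilpotent ↥P := hP.isNilpotent
  have hnc := Group.normalizerCondition_of_isNilpotent (G := ↥P)
  have hle : H ≤ P := le_of_lt hlt
  have h1 : H.subgroupOf P < ⊤ := by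
    rw [lt_top_iff_ne_top]
    intro h
    rw [Subgroup.subgroupOf_eq_top] at h
    exact (not_le_of_gt hlt) h
  have h2 := hnc _ h1
  obtain ⟨x, hx1, hx2⟩ := SetLike.exists_of_lt h2
  refine lt_of_le_of_ne (le_inf hle Subgroup.le_normalizer) ?_
  intro heq
  apply hx2
  rw [Subgroup.mem_subgroupOf, heq]
  suffices hsuff : (x : G) ∈ Subgroup.normalizer (H : Set G) from ⟨x.2, hsuff⟩
  rw [Subgroup.mem_normalizer_iff] at hx1 ⊢
  intro g
  constructor
  · intro hg
    have := (hx1 ⟨g, hle hg⟩).mp (Subgroup.mem_subgroupOf.mpr hg)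
    exact Subgroup.mem_subgroupOf.mp this
  · intro hg
    have hgP : g ∈ P := by
      have h3 : (x : G)⁻¹ * ((x : G) * g * (x : G)⁻¹) * (x : G) ∈ P :=
        P.mul_mem (P.mul_mem (P.inv_mem x.2) (hle hg)) x.2
      have h4 : (x : G)⁻¹ * ((x : G) * g * (x : G)⁻¹) * (x : G) = g := by group
      rwa [h4] at h3
    have := (hx1 ⟨g, hgP⟩).mpr (Subgroup.mem_subgroupOf.mpr hg)
    exact Subgroup.mem_subgroupOf.mp this

/-- `Z(J(P^m)) = Z(J(P))` for `m` normalizing `Z(J(P))`. -/
theorem ZJ_smul_eq {p : ℕ} (P : Sylow p G) {m : G}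
    (hm : m ∈ Subgroup.normalizer (ZJ (P : Subgroup G) : Set G)) :
    ZJ ((m • P : Sylow p G) : Subgroup G) = ZJ (P : Subgroup G) := by
  have h1 : ((m • P : Sylow p G) : Subgroup G) =
      (P : Subgroup G).map (MulAut.conj m).toMonoidHom := rfl
  rw [h1]
  show W _ _ = _
  rw [← W_map goodAx_comm (MulAut.conj m)]
  ext x
  constructor
  · rintro ⟨y, hy, rfl⟩
    exact (Subgroup.mem_normalizer_iff.mp hm y).mp hy
  · intro hx
    refine ⟨m⁻¹ * x * m, ?_, by simp [MulAut.conj_apply, mul_assoc]⟩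
    have := (Subgroup.mem_normalizer_iff.mp (Subgroup.inv_mem _ hm) x).mp hx
    simpa using this

/-- Sylow's theorem inside a subgroup `M` containing the Sylow subgroup `P`. -/
theorem exists_smul_le [Finite G] {p : ℕ} [Fact p.Prime] (P : Sylow p G) (M H : Subgroup G)
    (hPM : (P : Subgroup G) ≤ M) (hH : IsPGroup p H) (hHM : H ≤ M) :
    ∃ m ∈ M, H ≤ ((m • P : Sylow p G) : Subgroup G) := by
  have hH' : IsPGroup p (H.subgroupOf M) := hH.comap_subtype
  obtain ⟨Q', hQ'⟩ := hH'.exists_le_sylow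
  obtain ⟨m, hm⟩ := MulAction.exists_smul_eq ↥M (P.subtype hPM) Q'
  refine ⟨(m : G), m.2, ?_⟩
  intro h hh
  have h1 : (⟨h, hHM hh⟩ : ↥M) ∈ (Q' : Subgroup ↥M) := hQ' (Subgroup.mem_subgroupOf.mpr hh)
  rw [← hm] at h1
  have h2 : ((m • P.subtype hPM : Sylow p ↥M) : Subgroup ↥M) =
      ((P.subtype hPM : Sylow p ↥M) : Subgroup ↥M).map (MulAut.conj m).toMonoidHom := rfl
  rw [h2, Sylow.coe_subtype] at h1
  obtain ⟨y, hy, hyh⟩ := h1
  have hy' : (y : G) ∈ (P : Subgroup G) := Subgroup.mem_subgroupOf.mp hy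
  have h3 : (((m : G) • P : Sylow p G) : Subgroup G) =
      (P : Subgroup G).map (MulAut.conj (m : G)).toMonoidHom := rfl
  rw [h3]
  refine ⟨(y : G), hy', ?_⟩
  have := congrArg Subtype.val hyh
  simpa [MulAut.conj_apply] using this

/-- The local ZJ theorem: if `N` is `p`-constrained and `p`-stable with trivial `p'`-core, then
`Z(J(R))` is normalized by `N` for every Sylow `p`-subgroup `R` of `N`. -/
theorem le_normalizer_ZJ_of_local [Finite G] {p : ℕ} [Fact p.Prime] (hp : p ≠ 2) (N : Subgroup G)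
    (hK : pPrimeCore p ↥N = ⊥) (hc : IsPConstrained p ↥N) (hs : IsPStable p ↥N) (R : Sylow p ↥N) :
    N ≤ Subgroup.normalizer (ZJ ((R : Subgroup ↥N).map N.subtype) : Set G) := by
  have hchar := W_characteristic_of_pPrimeCore_eq_bot hp hc hs hK R (goodAx_comm (G := ↥N))
  have hnorm : (W (fun A : Subgroup ↥N => IsMulCommutative A) (R : Subgroup ↥N)).Normal := by
    haveI := hchar
    infer_instance
  have hinj : N.subtype.ker ⊓ (R : Subgroup ↥N) = ⊥ := by
    rw [N.ker_subtype, bot_inf_eq]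
  have hmap := W_comm_map N.subtype (R : Subgroup ↥N) hinj
  intro n hn
  show n ∈ Subgroup.normalizer ((W _ _ : Subgroup G) : Set G)
  rw [hmap, Subgroup.mem_normalizer_iff]
  intro g
  constructor
  · rintro ⟨x, hx, rfl⟩
    exact ⟨⟨n, hn⟩ * x * (⟨n, hn⟩ : ↥N)⁻¹, hnorm.conj_mem x hx ⟨n, hn⟩, rfl⟩
  · rintro ⟨y, hy, hyg⟩
    refine ⟨(⟨n, hn⟩ : ↥N)⁻¹ * y * ⟨n, hn⟩, ?_, ?_⟩
    · have := hnorm.conj_mem y hy (⟨n, hn⟩ : ↥N)⁻¹
      simpa using this
    · show n⁻¹ * (N.subtype y) * n = g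
      rw [hyg]; group

end Cfsg.Agent.Helper11.ZJ
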