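import Cfsg.Agent.Lib.Helper11.Replacement4

set_option autoImplicit false
set_option linter.unusedSectionVars false

namespace Cfsg.Agent.Helper11.Repl

open scoped commutatorElement

section
variable {S : Type*} [Group S] [Finite S] {p : ℕ} [hp : Fact p.Prime] (hS : IsPGroup p S)
  {A B : Subgroup S} [hBn : B.Normal] {b : S}
  (hB2 : p = 2 → IsMulCommutative B)
  (hA : IsMulCommutative A) (hBA : ⁅B, B⁆ ≤ A) (hb : b ∈ B)
  (hbN : b ∈ Subgroup.normalizer ((Subgroup.normalizer (A : Set S)) : Set S))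

include hA hbN in
/-- `[a, t_{a'}] ∈ D`. -/
theorem comm_A_t_mem_D {a a' : S} (ha : a ∈ A) (ha' : a' ∈ A) :
    a * (a' * b⁻¹ * a'⁻¹ * b) * a⁻¹ * (a' * b⁻¹ * a'⁻¹ * b)⁻¹ ∈ DD A b := by
  set y := (b⁻¹ * a' * b)⁻¹ with hy
  have hyAb : y ∈ Ab A b := (Ab A b).inv_mem (conj_mem_Ab ha')
  have hw : a * y * a⁻¹ * y⁻¹ ∈ DD A b := comm_mem_D hbN ha hyAb
  have h1 : a * (a' * b⁻¹ * a'⁻¹ * b) * a⁻¹ * (a' * b⁻¹ * a'⁻¹ * b)⁻¹
      = (a * a') * y * a⁻¹ * y⁻¹ * a'⁻¹ := by rw [hy]; group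
  have h2 : (a * a') * y * a⁻¹ * y⁻¹ * a'⁻¹ = a' * (a * y * a⁻¹ * y⁻¹) * a'⁻¹ := by
    rw [A_comm hA ha ha']; group
  rw [h1, h2]
  have h3 := D_comm_A hA hw ha'
  have : a' * (a * y * a⁻¹ * y⁻¹) * a'⁻¹ = a * y * a⁻¹ * y⁻¹ := by
    rw [← h3]; group
  rw [this]; exact hw

include hBA hb in
theorem t_mem_D_iff {a : S} (ha : a ∈ A) : a * b⁻¹ * a⁻¹ * b ∈ DD A b ↔ a ∈ DD A b := by
  constructor
  · intro h
    apply Subgroup.mem_inf.mpr ⟨ha, ?_⟩
    have h1 := (Subgroup.mem_inf.mp h).2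
    have h2 : a = (a * b⁻¹ * a⁻¹ * b) * (b⁻¹ * a * b) := by group
    rw [h2]
    exact (Ab A b).mul_mem h1 (conj_mem_Ab ha)
  · intro h
    have h1 := D_conj_mem hBA hb h
    rw [t_eq]
    exact (DD A b).mul_mem h ((DD A b).inv_mem h1)

include hS hB2 hA hBA hb hbN in
/-- Claim 1: `A*` has the same order as `A`. -/
theorem card_Astar : Nat.card (Astar A b) = Nat.card A := by
  classical
  have hcomm := @Astar_comm S _ _ p hp hS A B hBn b hB2 hA hBA hb hbN
  set D' : Subgroup (Astar A b) := (DD A b).subgroupOf (Astar A b) with hD'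
  have hD'n : D'.Normal := by
    refine ⟨fun n hn g => ?_⟩
    have : g * n * g⁻¹ = n := by
      apply Subtype.ext
      show (g : S) * n * (g : S)⁻¹ = n
      rw [hcomm g.2 n.2]; group
    rw [this]; exact hn
  have htmem : ∀ a : A, (a : S) * b⁻¹ * (a : S)⁻¹ * b ∈ Astar A b :=
    fun a => Subgroup.mem_sup_right (t_mem_TT a.2)
  let f : A → (Astar A b) ⧸ D' := fun a => QuotientGroup.mk ⟨_, htmem a⟩
  have hf_mul : ∀ a a' : A, f (a * a') = f a * f a' := by
    intro a a'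
    show (QuotientGroup.mk _ : (Astar A b) ⧸ D') = QuotientGroup.mk _ * QuotientGroup.mk _
    rw [← QuotientGroup.mk_mul, QuotientGroup.eq]
    rw [hD', Subgroup.mem_subgroupOf]
    show (((a : S) * (a' : S)) * b⁻¹ * ((a : S) * (a' : S))⁻¹ * b)⁻¹ *
      ((a : S) * b⁻¹ * (a : S)⁻¹ * b * ((a' : S) * b⁻¹ * (a' : S)⁻¹ * b)) ∈ DD A b
    set ta := (a : S) * b⁻¹ * (a : S)⁻¹ * b with hta
    set ta' := (a' : S) * b⁻¹ * (a' : S)⁻¹ * b with hta'
    set w := (a : S) * ta' * (a : S)⁻¹ * ta'⁻¹ with hw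
    have hwD : w ∈ DD A b := comm_A_t_mem_D hA hbN a.2 a'.2
    have htaT : ta ∈ TT A b := t_mem_TT a.2
    have hta'T : ta' ∈ TT A b := t_mem_TT a'.2
    have h1 : ((a : S) * (a' : S)) * b⁻¹ * ((a : S) * (a' : S))⁻¹ * b = w * ta' * ta := by
      rw [hw, hta, hta']; group
    have h2 : ta' * ta = ta * ta' := TT_comm hS hB2 hA hBA hb hbN hta'T htaT
    have h3 : w * (ta * ta') = (ta * ta') * w :=
      D_comm_TT hA hbN hwD ((TT A b).mul_mem htaT hta'T)
    have h4 : (w * ta' * ta)⁻¹ * (ta * ta') = w⁻¹ := by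
      rw [mul_assoc w, h2, h3]; group
    rw [h1, h4]; exact (DD A b).inv_mem hwD
  let ψ : A →* (Astar A b) ⧸ D' := MonoidHom.mk' f hf_mul
  have hψ : ∀ a : A, ψ a = QuotientGroup.mk ⟨_, htmem a⟩ := fun a => rfl
  -- surjectivity
  have hsurj : ψ.range = ⊤ := by
    rw [eq_top_iff]
    have hle : Astar A b ≤ ((ψ.range).comap (QuotientGroup.mk' D')).map (Astar A b).subtype := by
      apply sup_le
      · intro d hd
        refine ⟨⟨d, Subgroup.mem_sup_left hd⟩, ?_, rfl⟩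
        rw [SetLike.mem_coe, Subgroup.mem_comap]
        have : (QuotientGroup.mk' D') ⟨d, Subgroup.mem_sup_left hd⟩ = 1 := by
          rw [QuotientGroup.mk'_apply, QuotientGroup.eq_one_iff, hD', Subgroup.mem_subgroupOf]
          exact hd
        rw [this]; exact Subgroup.one_mem _
      · rw [Subgroup.closure_le]
        rintro g ⟨a, ha, rfl⟩
        refine ⟨⟨_, htmem ⟨a, ha⟩⟩, ?_, rfl⟩
        rw [SetLike.mem_coe, Subgroup.mem_comap]
        exact ⟨⟨a, ha⟩, rfl⟩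
    intro q _
    induction q using QuotientGroup.induction_on with
    | H x =>
      obtain ⟨x', hx', hxx'⟩ := hle x.2
      have : x' = x := Subtype.ext hxx'
      rw [this, SetLike.mem_coe, Subgroup.mem_comap] at hx'
      exact hx'
  -- kernel
  have hker : ψ.ker = (DD A b).subgroupOf A := by
    ext a
    rw [MonoidHom.mem_ker, hψ, QuotientGroup.eq_one_iff, hD', Subgroup.mem_subgroupOf,
      Subgroup.mem_subgroupOf]
    exact t_mem_D_iff hBA hb a.2
  have hDA : DD A b ≤ A := inf_le_left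
  have hDAstar : DD A b ≤ Astar A b := le_sup_left
  have c1 : Nat.card ψ.ker * Nat.card ψ.range = Nat.card A := by
    rw [← Subgroup.index_ker]; exact Subgroup.card_mul_index _
  have c2 : Nat.card ψ.range = Nat.card ((Astar A b) ⧸ D') := by
    rw [hsurj, Subgroup.card_top]
  have c3 : Nat.card ψ.ker = Nat.card (DD A b) := by
    rw [hker]
    exact Nat.card_congr (Subgroup.subgroupOfEquivOfLe hDA).toEquiv
  have c4 : Nat.card D' = Nat.card (DD A b) := by
    rw [hD']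
    exact Nat.card_congr (Subgroup.subgroupOfEquivOfLe hDAstar).toEquiv
  have c5 : Nat.card (Astar A b) = Nat.card ((Astar A b) ⧸ D') * Nat.card D' :=
    Subgroup.card_eq_card_quotient_mul_card_subgroup D'
  rw [c5, c4, ← c1, c3, c2, mul_comm]

end

end Cfsg.Agent.Helper11.Repl
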