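import Cfsg.Agent.Lib.Helper11.Replacement5
import Cfsg.Agent.S0649
import Cfsg.Agent.S0650

set_option autoImplicit false
set_option linter.unusedSectionVars false

namespace Cfsg.Agent.Helper11.Repl

open scoped commutatorElement

/-- Generic replacement property: a family of abelian subgroups stable under `A ↦ A*`
contains, next to any member containing `[B,B]` but not `B`, such a member normalized by `B`. -/
theorem exists_normalized_member {S : Type*} [Group S] [Finite S] {p : ℕ} [Fact p.Prime]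
    (hS : IsPGroup p S) (hp : p ≠ 2) (B : Subgroup S) [B.Normal] (Fam : Set (Subgroup S))
    (hFam_comm : ∀ A ∈ Fam, IsMulCommutative A)
    (hFam_star : ∀ A ∈ Fam, ⁅B, B⁆ ≤ A → ∀ b ∈ B,
      b ∈ Subgroup.normalizer ((Subgroup.normalizer (A : Set S)) : Set S) →
      b ∉ Subgroup.normalizer (A : Set S) → Astar A b ∈ Fam)
    (U : Subgroup S) (hU : U ∈ Fam) (hBU : ⁅B, B⁆ ≤ U) (hnU : ¬ B ≤ U) :
    ∃ A ∈ Fam, ⁅B, B⁆ ≤ A ∧ ¬ B ≤ A ∧ B ≤ Subgroup.normalizer (A : Set S) := by
  classical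
  let F : Set (Subgroup S) := {A | A ∈ Fam ∧ ⁅B, B⁆ ≤ A ∧ ¬ B ≤ A}
  have hFfin : F.Finite := Set.toFinite F
  have hFne : F.Nonempty := ⟨U, hU, hBU, hnU⟩
  obtain ⟨A, hAF, hmax⟩ := Set.exists_max_image F (fun A : Subgroup S => Nat.card (A ⊓ B : Subgroup S)) hFfin hFne
  obtain ⟨hAFam, hBA, hnBA⟩ := hAF
  refine ⟨A, hAFam, hBA, hnBA, ?_⟩
  by_contra hnot
  have hB2 : p = 2 → IsMulCommutative B := fun h => absurd h hp
  have hA := hFam_comm A hAFam
  obtain ⟨b, hb, hbN, hbA⟩ := Cfsg.Agent.S0649.result hS B hB2 A hA hBA hnot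
  have hres := Cfsg.Agent.S0650.result hS B hB2 A hA hBA hnot b hb hbN hbA
  obtain ⟨_, _, h3, h4, h5, _⟩ := hres
  have hstarFam : Astar A b ∈ Fam := hFam_star A hAFam hBA b hb hbN hbA
  have hstarF : Astar A b ∈ F := by
    refine ⟨hstarFam, h3, ?_⟩
    intro hB
    have : Astar A b ⊓ B = B := inf_eq_right.mpr hB
    exact (ne_of_lt h5) this
  have hle := hmax (Astar A b) hstarF
  have hlt : Nat.card (A ⊓ B : Subgroup S) < Nat.card (Astar A b ⊓ B : Subgroup S) := by
    by_contra hcon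
    push Not at hcon
    have := Subgroup.eq_of_le_of_card_ge (le_of_lt h4) hcon
    exact (ne_of_lt h4) this
  exact absurd hle (not_le.mpr hlt)

theorem isMulCommutative_iff_forall {S : Type*} [Group S] (X : Subgroup S) :
    IsMulCommutative X ↔ ∀ x ∈ X, ∀ y ∈ X, x * y = y * x := by
  constructor
  · intro h x hx y hy
    have := h.is_comm.comm (⟨x, hx⟩ : X) ⟨y, hy⟩
    exact congrArg Subtype.val this
  · intro h
    exact ⟨⟨fun x y => Subtype.ext (h x x.2 y y.2)⟩⟩

/-- Membership in the family of images of largest abelian subgroups of `D`. -/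
theorem mem_image_maxAbelian_iff {S : Type*} [Group S] [Finite S] (D X : Subgroup S) :
    X ∈ Set.image (fun A : Subgroup ↥D => A.map D.subtype) (Cfsg.maxAbelianSubgroups ↥D) ↔
      X ≤ D ∧ IsMulCommutative X ∧
        ∀ Y : Subgroup S, Y ≤ D → IsMulCommutative Y → Nat.card Y ≤ Nat.card X := by
  constructor
  · rintro ⟨A', ⟨hA'c, hA'max⟩, rfl⟩
    refine ⟨Subgroup.map_subtype_le A', ?_, ?_⟩
    · haveI := hA'c
      infer_instance
    · intro Y hYD hYc
      haveI := hYc
      have h1 : IsMulCommutative (Y.subgroupOf D) := inferInstance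
      have h2 := hA'max (Y.subgroupOf D) h1
      have h3 : Nat.card (Y.subgroupOf D) = Nat.card Y :=
        Nat.card_congr (Subgroup.subgroupOfEquivOfLe hYD).toEquiv
      have h4 : Nat.card (A'.map D.subtype) = Nat.card A' :=
        Subgroup.card_map_of_injective D.subtype_injective
      rw [h4, ← h3]; exact h2
  · rintro ⟨hXD, hXc, hXmax⟩
    refine ⟨X.subgroupOf D, ⟨?_, ?_⟩, Subgroup.map_subgroupOf_eq_of_le hXD⟩
    · haveI := hXc
      infer_instance
    · intro B' hB'c
      haveI := hB'c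
      have h1 : IsMulCommutative (B'.map D.subtype) := inferInstance
      have h2 := hXmax (B'.map D.subtype) (Subgroup.map_subtype_le B') h1
      have h3 : Nat.card (X.subgroupOf D) = Nat.card X :=
        Nat.card_congr (Subgroup.subgroupOfEquivOfLe hXD).toEquiv
      have h4 : Nat.card (B'.map D.subtype) = Nat.card B' :=
        Subgroup.card_map_of_injective D.subtype_injective
      rw [h3, ← h4]; exact h2

/-- `A*` stays inside a normal subgroup containing `A`. -/
theorem Astar_le_of_normal {S : Type*} [Group S] {A D : Subgroup S} [hD : D.Normal] (hAD : A ≤ D)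
    (b : S) : Astar A b ≤ D := by
  apply sup_le (inf_le_left.trans hAD)
  rw [Subgroup.closure_le]
  rintro g ⟨a, ha, rfl⟩
  have h1 : b⁻¹ * a⁻¹ * b⁻¹⁻¹ ∈ D := hD.conj_mem a⁻¹ (D.inv_mem (hAD ha)) b⁻¹
  have : a * b⁻¹ * a⁻¹ * b = a * (b⁻¹ * a⁻¹ * b⁻¹⁻¹) := by group
  rw [this]
  exact D.mul_mem (hAD ha) h1

end Cfsg.Agent.Helper11.Repl
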