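import Mathlib
import Cfsg.Prelude.Def_PLocal

/-!
# Tools for the ZJ theorem, part 1: `p`-cores and the consequence of `p`-stability.
(The three Sylow lemmas at the end follow helper46's `SylowLemmas`/`Omega`, restated here so that
this development does not depend on other seats' files.)
-/

set_option autoImplicit false
set_option linter.style.haveILetI false

namespace Cfsg.Agent.Helper11.ZJ

open Cfsg
open scoped commutatorElement

variable {G : Type*} [Group G] {p : ℕ}

theorem pCore_normal' (p : ℕ) (G : Type*) [Group G] : (pCore p G).Normal :=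
  Subgroup.sSup_normal _ fun _ h => h.1

theorem le_pCore' {N : Subgroup G} (hN : N.Normal) (h : IsPGroup p N) : N ≤ pCore p G :=
  le_sSup ⟨hN, h⟩

theorem pCore_le_sylow' (P : Sylow p G) : pCore p G ≤ (P : Subgroup G) := by
  apply sSup_le
  rintro N ⟨hN, hp⟩
  haveI := hN
  exact hp.le_sylow_of_normal P

theorem isPGroup_subgroup_iff' {H : Subgroup G} :
    IsPGroup p H ↔ ∀ x ∈ H, ∃ k : ℕ, x ^ p ^ k = 1 := by
  constructor
  · intro h x hx
    obtain ⟨k, hk⟩ := h ⟨x, hx⟩
    exact ⟨k, by simpa using congrArg Subtype.val hk⟩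
  · rintro h ⟨x, hx⟩
    obtain ⟨k, hk⟩ := h x hx
    exact ⟨k, Subtype.ext (by simpa using hk)⟩

theorem isPGroup_pCore' : IsPGroup p (pCore p G) := by
  have P : Sylow p G := Classical.arbitrary _
  exact P.isPGroup'.to_le (pCore_le_sylow' P)

/-- The preimage in `G` of `O_p(G / C_G(V))`. -/
def stabL (p : ℕ) (V : Subgroup G) [V.Normal] : Subgroup G :=
  (pCore p (G ⧸ Subgroup.centralizer (V : Set G))).comap
    (QuotientGroup.mk' (Subgroup.centralizer (V : Set G)))

theorem stabL_normal (p : ℕ) (V : Subgroup G) [V.Normal] : (stabL p V).Normal := by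
  haveI := pCore_normal' p (G ⧸ Subgroup.centralizer (V : Set G))
  unfold stabL
  infer_instance

theorem centralizer_le_stabL (p : ℕ) (V : Subgroup G) [V.Normal] :
    Subgroup.centralizer (V : Set G) ≤ stabL p V := by
  intro x hx
  show QuotientGroup.mk' _ x ∈ pCore p _
  have : QuotientGroup.mk' (Subgroup.centralizer (V : Set G)) x = 1 :=
    (QuotientGroup.eq_one_iff x).mpr hx
  rw [this]
  exact Subgroup.one_mem _

theorem stabL_pow (V : Subgroup G) [V.Normal] {d : G} (hd : d ∈ stabL p V) :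
    ∃ k : ℕ, d ^ p ^ k ∈ Subgroup.centralizer (V : Set G) := by
  have h1 : QuotientGroup.mk' (Subgroup.centralizer (V : Set G)) d ∈
      pCore p (G ⧸ Subgroup.centralizer (V : Set G)) := hd
  obtain ⟨k, hk⟩ := (isPGroup_pCore' (p := p) (G := G ⧸ Subgroup.centralizer (V : Set G))) ⟨_, h1⟩
  refine ⟨k, ?_⟩
  have h2 : (QuotientGroup.mk' (Subgroup.centralizer (V : Set G)) d) ^ p ^ k = 1 := by
    have := congrArg Subtype.val hk
    simpa using this
  rw [← QuotientGroup.eq_one_iff]
  rw [QuotientGroup.mk'_apply] at h2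
  rw [QuotientGroup.mk_pow]
  exact h2

/-- A subgroup acting quadratically on a normal subgroup on which `G` acts `p`-stably lies in the
preimage of `O_p(G / C_G(V))`. -/
theorem le_stabL_of_quadratic (V : Subgroup G) [V.Normal] (hst : IsPStableOn p V)
    (A : Subgroup G) (h : ⁅⁅V, A⁆, A⁆ = ⊥) : A ≤ stabL p V := by
  intro a ha
  have hz : Subgroup.zpowers a ≤ A := by
    rw [Subgroup.zpowers_le]; exact ha
  have h1 : ⁅⁅V, Subgroup.zpowers a⁆, Subgroup.zpowers a⁆ = ⊥ := by
    rw [eq_bot_iff, ← h]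
    exact Subgroup.commutator_mono (Subgroup.commutator_mono le_rfl hz) hz
  exact hst a h1

/-- If the centralizer of `V` is a `p`-group then so is the preimage of `O_p(G / C_G(V))`. -/
theorem isPGroup_stabL (V : Subgroup G) [V.Normal]
    (hC : IsPGroup p (Subgroup.centralizer (V : Set G))) : IsPGroup p (stabL p V) := by
  rintro ⟨d, hd⟩
  obtain ⟨k, hk⟩ := stabL_pow V hd
  obtain ⟨m, hm⟩ := hC ⟨_, hk⟩
  refine ⟨k + m, ?_⟩
  apply Subtype.ext
  have := congrArg Subtype.val hm
  simp only [SubgroupClass.coe_pow, Subgroup.coe_one] at this ⊢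
  rw [pow_add, pow_mul]
  exact this

section sylow

variable [Finite G] [Fact p.Prime]

theorem not_dvd_relIndex_normal (T : Sylow p G) (N : Subgroup G)
    [hN : N.Normal] : ¬ p ∣ (T : Subgroup G).relIndex N := by
  obtain ⟨P₀⟩ : Nonempty (Sylow p N) := inferInstance
  obtain ⟨Q, hQ⟩ := P₀.exists_comap_subtype_eq
  obtain ⟨g, hg⟩ := MulAction.exists_smul_eq G Q T
  have h1 : (T : Subgroup G) = (Q : Subgroup G).map (MulAut.conj g).toMonoidHom := by
    rw [← hg]; rfl
  have h2 : N.map (MulAut.conj g).toMonoidHom = N := Subgroup.Normal.map_conj_eq N g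
  have h3 : ((Q : Subgroup G).map (MulAut.conj g).toMonoidHom).relIndex
      (N.map (MulAut.conj g).toMonoidHom) = (Q : Subgroup G).relIndex N :=
    Subgroup.relIndex_map_map_of_injective _ _ (MulAut.conj g).injective
  rw [h2] at h3
  rw [h1, h3]
  have : (Q : Subgroup G).relIndex N = (P₀ : Subgroup N).index := by
    rw [← hQ]; rfl
  rw [this]; exact P₀.not_dvd_index

/-- The intersection of a Sylow `p`-subgroup with a normal subgroup is a Sylow `p`-subgroup of the
normal subgroup. -/
theorem exists_sylow_subgroupOf_normal (T : Sylow p G) (N : Subgroup G)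
    [N.Normal] : ∃ P : Sylow p N, (P : Subgroup N) = (T : Subgroup G).subgroupOf N := by
  have hp : IsPGroup p ((T : Subgroup G).subgroupOf N) := T.isPGroup'.comap_subtype
  exact ⟨hp.toSylow (not_dvd_relIndex_normal T N), rfl⟩

/-- If `D` is normal and a `p`-group modulo the normal subgroup `N`, then `D ⊆ N T` for every
Sylow `p`-subgroup `T`. -/
theorem exists_mul_of_pow_mem {N D : Subgroup G} [N.Normal]
    (hD : D.Normal) (hpow : ∀ d ∈ D, ∃ k : ℕ, d ^ p ^ k ∈ N) (T : Sylow p G) :
    ∀ d ∈ D, ∃ c ∈ N, ∃ t ∈ (T : Subgroup G), d = c * t := by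
  have hmapN : (D.map (QuotientGroup.mk' N)).Normal :=
    hD.map _ (QuotientGroup.mk'_surjective N)
  have hmapP : IsPGroup p (D.map (QuotientGroup.mk' N)) := by
    rw [isPGroup_subgroup_iff']
    rintro y ⟨d, hd, rfl⟩
    obtain ⟨k, hk⟩ := hpow d hd
    refine ⟨k, ?_⟩
    rw [QuotientGroup.mk'_apply, ← QuotientGroup.mk_pow]
    exact (QuotientGroup.eq_one_iff _).mpr hk
  have hle := hmapP.le_sylow_of_normal (T.mapSurjective (QuotientGroup.mk'_surjective N))
  intro d hd
  have hmem : QuotientGroup.mk' N d ∈ (T : Subgroup G).map (QuotientGroup.mk' N) :=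
    hle ⟨d, hd, rfl⟩
  obtain ⟨t, ht, hteq⟩ := hmem
  refine ⟨d * t⁻¹, ?_, t, ht, by group⟩
  rw [← QuotientGroup.eq_one_iff, QuotientGroup.mk_mul, QuotientGroup.mk_inv]
  rw [QuotientGroup.mk'_apply, QuotientGroup.mk'_apply] at hteq
  rw [hteq, mul_inv_cancel]

theorem frattini_inf (T : Sylow p G) (C : Subgroup G) [C.Normal] :
    Subgroup.normalizer (((T : Subgroup G) ⊓ C : Subgroup G) : Set G) ⊔ C = ⊤ := by
  obtain ⟨P, hP⟩ := exists_sylow_subgroupOf_normal T C
  have := Sylow.normalizer_sup_eq_top P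
  rw [hP, Subgroup.subgroupOf_map_subtype] at this
  exact this

/-- With `C = C_G(B)` and `L` the preimage of `O_p(G/C)`: `G = N_G(P ∩ L) C`. -/
theorem normalizer_sup_centralizer_eq_top (T : Sylow p G) (V : Subgroup G) [V.Normal] :
    Subgroup.normalizer (((T : Subgroup G) ⊓ stabL p V : Subgroup G) : Set G) ⊔
      Subgroup.centralizer (V : Set G) = ⊤ := by
  haveI := stabL_normal p V
  have h1 := frattini_inf T (stabL p V)
  rw [eq_top_iff, ← h1]
  apply sup_le le_sup_left
  intro d hd
  obtain ⟨c, hc, t, ht, rfl⟩ := exists_mul_of_pow_mem (N := Subgroup.centralizer (V : Set G))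
    (stabL_normal p V) (fun d hd => stabL_pow V hd) T d hd
  have htL : t ∈ stabL p V := by
    have h2 : c⁻¹ ∈ stabL p V := Subgroup.inv_mem _ (centralizer_le_stabL p V hc)
    have : t = c⁻¹ * (c * t) := by group
    rw [this]
    exact Subgroup.mul_mem _ h2 hd
  have h3 : t ∈ Subgroup.normalizer (((T : Subgroup G) ⊓ stabL p V : Subgroup G) : Set G) :=
    Subgroup.le_normalizer ⟨ht, htL⟩
  exact Subgroup.mul_mem _ (Subgroup.mem_sup_right hc) (Subgroup.mem_sup_left h3)

end sylow

end Cfsg.Agent.Helper11.ZJ
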