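import Mathlib
import Cfsg.Prelude.Def_Local

/-! Automizers of `p`-subgroups: basic notions (`HasQ`, `AutSolv`) and element lemmas. -/

set_option autoImplicit false
open Subgroup

namespace Cfsg.Agent.Helper11.AZ

variable {G : Type*} [Group G]

/-- some `q`-element of `N_G(P)` does not centralize `P`. -/
def HasQ (q : ℕ) (P : Subgroup G) : Prop :=
  ∃ y : G, y ∈ normalizer (P : Set G) ∧ (∃ k : ℕ, orderOf y = q ^ k) ∧ y ∉ centralizer (P : Set G)

/-- all automizers of `p`-subgroups are `p`-solvable. -/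
def AutSolv (p : ℕ) (G : Type*) [Group G] : Prop :=
  ∀ H : Subgroup G, IsPGroup p ↥H →
    Cfsg.IsPSolvable p (↥(normalizer (H : Set G)) ⧸
      (centralizer (H : Set G)).subgroupOf (normalizer (H : Set G)))

theorem exists_qpart [Finite G] (q : ℕ) [hq : Fact q.Prime] (g : G) :
    ∃ m : ℕ, m.Coprime q ∧ ∃ k : ℕ, orderOf (g ^ m) = q ^ k := by
  have hn : orderOf g ≠ 0 := (orderOf_pos g).ne'
  obtain ⟨e, m, hm, hem⟩ := Nat.exists_eq_pow_mul_and_not_dvd hn q hq.out.ne_one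
  have hm0 : m ≠ 0 := by
    rintro rfl
    exact hm (dvd_zero _)
  refine ⟨m, ((Nat.Prime.coprime_iff_not_dvd hq.out).2 hm).symm, e, ?_⟩
  have hdvd : m ∣ orderOf g := ⟨q ^ e, by rw [hem]; ring⟩
  rw [orderOf_pow_of_dvd hm0 hdvd, hem]
  exact Nat.mul_div_cancel _ (Nat.pos_of_ne_zero hm0)

/-- a power `g^m` which is a `q`-element and whose image generates the image of `g`, when
the image of `g` is a `q`-element. -/
theorem exists_qelt_lift [Finite G] {G' : Type*} [Group G'] (q : ℕ) [hq : Fact q.Prime]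
    (f : G →* G') (g : G) (hfg : ∃ j : ℕ, orderOf (f g) = q ^ j) :
    ∃ g' : G, g' ∈ zpowers g ∧ (∃ k : ℕ, orderOf g' = q ^ k) ∧ f g ∈ zpowers (f g') := by
  obtain ⟨m, hm, k, hk⟩ := exists_qpart q g
  obtain ⟨j, hj⟩ := hfg
  refine ⟨g ^ m, Subgroup.pow_mem _ (mem_zpowers g) m, ⟨k, hk⟩, ?_⟩
  have hcop : Nat.Coprime m (q ^ j) := Nat.Coprime.pow_right j hm
  by_cases hj1 : q ^ j = 1
  · have : f g = 1 := by
      rw [← orderOf_eq_one_iff, hj, hj1]
    rw [this]; exact one_mem _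
  · have h1 : 1 < q ^ j := by
      have : 0 < q ^ j := Nat.pos_of_ne_zero (pow_ne_zero _ hq.out.ne_zero)
      omega
    obtain ⟨n, -, hn⟩ := Nat.exists_mul_mod_eq_one_of_coprime hcop h1
    refine mem_zpowers_iff.2 ⟨(n : ℤ), ?_⟩
    rw [zpow_natCast, map_pow, ← pow_mul, ← pow_mod_orderOf, hj, hn, pow_one]

theorem mem_map_conj {P : Subgroup G} {g x : G} :
    x ∈ P.map (MulAut.conj g).toMonoidHom ↔ g⁻¹ * x * g ∈ P := by
  constructor
  · rintro ⟨a, ha, rfl⟩
    have : g⁻¹ * (MulAut.conj g).toMonoidHom a * g = a := by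
      show g⁻¹ * (MulAut.conj g a) * g = a
      rw [MulAut.conj_apply]; group
    rw [this]; exact ha
  · intro h
    refine ⟨g⁻¹ * x * g, h, ?_⟩
    show MulAut.conj g (g⁻¹ * x * g) = x
    rw [MulAut.conj_apply]; group

theorem HasQ.conj {q : ℕ} {P : Subgroup G} (h : HasQ q P) (g : G) :
    HasQ q (P.map (MulAut.conj g).toMonoidHom) := by
  obtain ⟨y, hyN, ⟨k, hk⟩, hyC⟩ := h
  refine ⟨g * y * g⁻¹, ?_, ⟨k, ?_⟩, ?_⟩
  · rw [mem_normalizer_iff] at hyN ⊢
    intro x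
    rw [mem_map_conj, mem_map_conj, hyN (g⁻¹ * x * g)]
    have : y * (g⁻¹ * x * g) * y⁻¹ = g⁻¹ * (g * y * g⁻¹ * x * (g * y * g⁻¹)⁻¹) * g := by group
    rw [this]
  · have h1 : g * y * g⁻¹ = (MulAut.conj g).toMonoidHom y := by
      show g * y * g⁻¹ = MulAut.conj g y
      rw [MulAut.conj_apply]
    rw [h1, orderOf_injective (MulAut.conj g).toMonoidHom (MulAut.conj g).injective y]
    exact hk
  · intro hc
    apply hyC
    rw [mem_centralizer_iff] at hc ⊢
    intro a ha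
    have ha' : g * a * g⁻¹ ∈ P.map (MulAut.conj g).toMonoidHom := by
      rw [mem_map_conj]
      have : g⁻¹ * (g * a * g⁻¹) * g = a := by group
      rw [this]; exact ha
    have := hc (g * a * g⁻¹) ha'
    have h3 : g⁻¹ * (g * a * g⁻¹ * (g * y * g⁻¹)) * g = g⁻¹ * (g * y * g⁻¹ * (g * a * g⁻¹)) * g := by
      rw [this]
    have h4 : g⁻¹ * (g * a * g⁻¹ * (g * y * g⁻¹)) * g = a * y := by group
    have h5 : g⁻¹ * (g * y * g⁻¹ * (g * a * g⁻¹)) * g = y * a := by group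
    rw [h4, h5] at h3
    exact h3

theorem hasQ_of_dvd [Finite G] {q : ℕ} [hq : Fact q.Prime] {P : Subgroup G}
    (h : q ∣ ((centralizer (P : Set G)).subgroupOf (normalizer (P : Set G))).index) : HasQ q P := by
  set N := normalizer (P : Set G)
  set C := (centralizer (P : Set G)).subgroupOf N
  have hcard : q ∣ Nat.card (↥N ⧸ C) := by
    rw [← Subgroup.index_eq_card]; exact h
  obtain ⟨x, hx⟩ := exists_prime_orderOf_dvd_card' q hcard
  obtain ⟨n, rfl⟩ := QuotientGroup.mk'_surjective C x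
  obtain ⟨g', hg'z, hg'q, hmem⟩ := exists_qelt_lift q (QuotientGroup.mk' C) n ⟨1, by rw [hx, pow_one]⟩
  refine ⟨(g' : G), g'.2, ?_, ?_⟩
  · obtain ⟨k, hk⟩ := hg'q
    exact ⟨k, by rw [Subgroup.orderOf_coe]; exact hk⟩
  · intro hc
    have hg'C : g' ∈ C := by
      rw [Subgroup.mem_subgroupOf]; exact hc
    have h1 : (QuotientGroup.mk' C) g' = 1 := by
      rw [QuotientGroup.mk'_apply, QuotientGroup.eq_one_iff]; exact hg'C
    rw [h1] at hmem
    have h2 : (QuotientGroup.mk' C) n = 1 := by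
      simpa [Subgroup.zpowers_one_eq_bot, Subgroup.mem_bot] using hmem
    rw [h2, orderOf_one] at hx
    exact hq.out.one_lt.ne hx

theorem dvd_of_hasQ [Finite G] {q : ℕ} [hq : Fact q.Prime] {P : Subgroup G} (h : HasQ q P) :
    q ∣ ((centralizer (P : Set G)).subgroupOf (normalizer (P : Set G))).index := by
  obtain ⟨y, hyN, ⟨k, hk⟩, hyC⟩ := h
  set N := normalizer (P : Set G)
  set C := (centralizer (P : Set G)).subgroupOf N
  rw [Subgroup.index_eq_card]
  set yb : ↥N ⧸ C := QuotientGroup.mk' C ⟨y, hyN⟩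
  have hyb1 : yb ≠ 1 := by
    intro h1
    have h1' : (QuotientGroup.mk' C) ⟨y, hyN⟩ = 1 := h1
    rw [QuotientGroup.mk'_apply, QuotientGroup.eq_one_iff, Subgroup.mem_subgroupOf] at h1'
    exact hyC h1'
  have hdvd : orderOf yb ∣ q ^ k := by
    rw [← hk]
    have : orderOf (⟨y, hyN⟩ : ↥N) = orderOf y := Subgroup.orderOf_mk y hyN
    rw [← this]
    exact orderOf_map_dvd _ _
  obtain ⟨j, hj, hjq⟩ := (Nat.dvd_prime_pow hq.out).1 hdvd
  have hj0 : j ≠ 0 := by
    rintro rfl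
    rw [pow_zero, orderOf_eq_one_iff] at hjq
    exact hyb1 hjq
  have : q ∣ orderOf yb := by rw [hjq]; exact dvd_pow_self q hj0
  exact this.trans (orderOf_dvd_natCard yb)

end Cfsg.Agent.Helper11.AZ
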