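import Mathlib
import Cfsg.Prelude.Def_Local
import Cfsg.Agent.Lib.Helper11.AZ1
import Cfsg.Agent.Lib.Helper54.PSolv
import Cfsg.Agent.Lib.Helper69.PSolvSub

/-! Transfer of `HasQ` and `AutSolv` to subgroups and to quotients by normal `p`-subgroups. -/

set_option autoImplicit false
open Subgroup

namespace Cfsg.Agent.Helper11.AZ

variable {G : Type*} [Group G]

theorem HasQ.map_subtype {q : ℕ} {L : Subgroup G} {P' : Subgroup ↥L} (h : HasQ q P') :
    HasQ q (P'.map L.subtype) := by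
  obtain ⟨y, hyN, ⟨k, hk⟩, hyC⟩ := h
  refine ⟨(y : G), ?_, ⟨k, by rw [Subgroup.orderOf_coe]; exact hk⟩, ?_⟩
  · have h1 : (y : G) ∈ (normalizer (P' : Set ↥L)).map L.subtype := ⟨y, hyN, rfl⟩
    exact Subgroup.le_normalizer_map L.subtype h1
  · intro hc
    apply hyC
    rw [mem_centralizer_iff] at hc ⊢
    intro a ha
    have := hc (a : G) ⟨a, ha, rfl⟩
    exact Subtype.ext this

theorem hasQ_subgroupOf {q : ℕ} {L P : Subgroup G} (hPL : P ≤ L) {y : G} (hyL : y ∈ L)
    (hyN : y ∈ normalizer (P : Set G)) (hyq : ∃ k : ℕ, orderOf y = q ^ k)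
    (hyC : y ∉ centralizer (P : Set G)) : HasQ q (P.subgroupOf L) := by
  obtain ⟨k, hk⟩ := hyq
  refine ⟨⟨y, hyL⟩, ?_, ⟨k, by rw [Subgroup.orderOf_mk]; exact hk⟩, ?_⟩
  · rw [mem_normalizer_iff] at hyN ⊢
    intro a
    rw [mem_subgroupOf, mem_subgroupOf]
    exact hyN a
  · intro hc
    apply hyC
    rw [mem_centralizer_iff] at hc ⊢
    intro a ha
    have := hc ⟨a, hPL ha⟩ (by rw [SetLike.mem_coe, mem_subgroupOf]; exact ha)
    exact congrArg Subtype.val this

theorem AutSolv.subgroup {p : ℕ} [Fact p.Prime] (hG : AutSolv p G) (L : Subgroup G) :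
    AutSolv p ↥L := by
  intro P' hP'
  set P : Subgroup G := P'.map L.subtype with hPdef
  have hP : IsPGroup p ↥P := hP'.map L.subtype
  have hsol := hG P hP
  set N' := normalizer (P' : Set ↥L)
  set N := normalizer (P : Set G)
  set C := (centralizer (P : Set G)).subgroupOf N
  have hNN : ∀ x : ↥N', ((x : ↥L) : G) ∈ N := fun x =>
    Subgroup.le_normalizer_map L.subtype ⟨(x : ↥L), x.2, rfl⟩
  let ι : ↥N' →* ↥N :=
    { toFun := fun x => ⟨((x : ↥L) : G), hNN x⟩
      map_one' := rfl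
      map_mul' := fun _ _ => rfl }
  let φ : ↥N' →* ↥N ⧸ C := (QuotientGroup.mk' C).comp ι
  have hker : φ.ker = (centralizer (P' : Set ↥L)).subgroupOf N' := by
    ext x
    rw [MonoidHom.mem_ker, mem_subgroupOf]
    show (QuotientGroup.mk' C) (ι x) = 1 ↔ _
    rw [QuotientGroup.mk'_apply, QuotientGroup.eq_one_iff, mem_subgroupOf, mem_centralizer_iff,
      mem_centralizer_iff]
    constructor
    · intro h a ha
      have := h (a : G) ⟨a, ha, rfl⟩
      exact Subtype.ext this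
    · rintro h _ ⟨a, ha, rfl⟩
      exact congrArg Subtype.val (h a ha)
  have h1 : Cfsg.IsPSolvable p ↥φ.range := Cfsg.Agent.Helper69.IsPSolvable.subgroup' hsol φ.range
  have e1 : ↥N' ⧸ φ.ker ≃* ↥φ.range := QuotientGroup.quotientKerEquivRange φ
  have e2 : ↥N' ⧸ φ.ker ≃* ↥N' ⧸ (centralizer (P' : Set ↥L)).subgroupOf N' :=
    QuotientGroup.quotientMulEquivOfEq hker
  exact Cfsg.Agent.Helper54.IsPSolvable.of_surjective h1 (e1.symm.trans e2).toMonoidHom
    (e1.symm.trans e2).surjective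

theorem AutSolv.quotient [Finite G] {p : ℕ} [Fact p.Prime] (hG : AutSolv p G) (Z : Subgroup G)
    [Z.Normal] (hZ : IsPGroup p ↥Z) : AutSolv p (G ⧸ Z) := by
  intro Pb hPb
  set π := QuotientGroup.mk' Z
  have hπ : Function.Surjective π := QuotientGroup.mk'_surjective Z
  set P : Subgroup G := Pb.comap π
  have hP : IsPGroup p ↥P := by
    apply hPb.comap_of_ker_isPGroup π
    rw [QuotientGroup.ker_mk']; exact hZ
  have hsol := hG P hP
  set N := normalizer (P : Set G)
  set C := (centralizer (P : Set G)).subgroupOf N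
  set Nb := normalizer (Pb : Set (G ⧸ Z))
  set Cb := (centralizer (Pb : Set (G ⧸ Z))).subgroupOf Nb
  have hcomapN : Nb.comap π = N := Subgroup.comap_normalizer_eq_of_surjective Pb hπ
  have hNN : ∀ x : ↥N, π (x : G) ∈ Nb := fun x => by
    have : (x : G) ∈ Nb.comap π := by rw [hcomapN]; exact x.2
    exact this
  let ι : ↥N →* ↥Nb :=
    { toFun := fun x => ⟨π (x : G), hNN x⟩
      map_one' := by ext; simp
      map_mul' := fun _ _ => by ext; simp }
  have hι : Function.Surjective ι := by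
    rintro ⟨yb, hyb⟩
    obtain ⟨y, rfl⟩ := hπ yb
    have : y ∈ N := by rw [← hcomapN]; exact hyb
    exact ⟨⟨y, this⟩, rfl⟩
  let ψ : ↥N →* ↥Nb ⧸ Cb := (QuotientGroup.mk' Cb).comp ι
  have hψ : Function.Surjective ψ := (QuotientGroup.mk'_surjective Cb).comp hι
  have hle : C ≤ ψ.ker := by
    intro x hx
    rw [mem_subgroupOf, mem_centralizer_iff] at hx
    rw [MonoidHom.mem_ker]
    show (QuotientGroup.mk' Cb) (ι x) = 1
    rw [QuotientGroup.mk'_apply, QuotientGroup.eq_one_iff, mem_subgroupOf, mem_centralizer_iff]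
    intro ab hab
    obtain ⟨a, rfl⟩ := hπ ab
    have haP : a ∈ P := hab
    have := hx a haP
    show π a * π (x : G) = π (x : G) * π a
    rw [← map_mul, ← map_mul, this]
  let ψ' : ↥N ⧸ C →* ↥Nb ⧸ Cb := QuotientGroup.lift C ψ hle
  have hψ' : Function.Surjective ψ' := by
    intro z
    obtain ⟨x, rfl⟩ := hψ z
    exact ⟨QuotientGroup.mk x, rfl⟩
  exact Cfsg.Agent.Helper54.IsPSolvable.of_surjective hsol ψ' hψ'

/-- lifting `HasQ` from a quotient to the full preimage. -/
theorem HasQ.comap [Finite G] {q : ℕ} [Fact q.Prime] (Z : Subgroup G) [Z.Normal]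
    {Kb : Subgroup (G ⧸ Z)} (h : HasQ q Kb) : HasQ q (Kb.comap (QuotientGroup.mk' Z)) := by
  obtain ⟨yb, hyN, hyq, hyC⟩ := h
  set π := QuotientGroup.mk' Z
  have hπ : Function.Surjective π := QuotientGroup.mk'_surjective Z
  obtain ⟨g, rfl⟩ := hπ yb
  obtain ⟨g', hg'z, hg'q, hmem⟩ := exists_qelt_lift q π g hyq
  have hg'N : π g' ∈ normalizer (Kb : Set (G ⧸ Z)) := by
    obtain ⟨n, hn⟩ := mem_zpowers_iff.1 hg'z
    rw [← hn, map_zpow]
    exact Subgroup.zpow_mem _ hyN n
  refine ⟨g', ?_, hg'q, ?_⟩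
  · have : g' ∈ (normalizer (Kb : Set (G ⧸ Z))).comap π := hg'N
    rw [Subgroup.comap_normalizer_eq_of_surjective Kb hπ] at this
    exact this
  · intro hc
    apply hyC
    have hc' : π g' ∈ centralizer (Kb : Set (G ⧸ Z)) := by
      rw [mem_centralizer_iff] at hc ⊢
      intro ab hab
      obtain ⟨a, rfl⟩ := hπ ab
      have := hc a hab
      rw [← map_mul, ← map_mul, this]
    have hz : zpowers (π g') ≤ centralizer (Kb : Set (G ⧸ Z)) := by
      rw [zpowers_le]; exact hc'
    exact hz hmem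

/-- a `q`-element centralizing `Z` and `R/Z` (with `Z ≤ R` a `p`-group, `p ≠ q`) centralizes `R`. -/
theorem centralizes_of_stable [Finite G] {p q : ℕ} [hp : Fact p.Prime] [hq : Fact q.Prime]
    (hpq : p ≠ q) {Z : Subgroup G} (hZp : IsPGroup p ↥Z) {y : G}
    (hyq : ∃ k : ℕ, orderOf y = q ^ k) (hyZ : ∀ z ∈ Z, z * y = y * z) {r : G}
    (hr : y * r * y⁻¹ * r⁻¹ ∈ Z) : r * y = y * r := by
  set z := y * r * y⁻¹ * r⁻¹ with hz
  have hconj : y * r * y⁻¹ = z * r := by rw [hz]; group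
  have hzy : z * y = y * z := hyZ z hr
  have hpow : ∀ n : ℕ, y ^ n * r * (y ^ n)⁻¹ = z ^ n * r := by
    intro n
    induction n with
    | zero => simp
    | succ n ih =>
      have h1 : y ^ (n + 1) * r * (y ^ (n + 1))⁻¹ = y * (y ^ n * r * (y ^ n)⁻¹) * y⁻¹ := by
        rw [pow_succ']; group
      have hzn : y * z ^ n = z ^ n * y := by
        have : Commute y z := hzy.symm
        exact (this.pow_right n).eq
      rw [h1, ih]
      calc y * (z ^ n * r) * y⁻¹ = (y * z ^ n) * r * y⁻¹ := by group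
        _ = z ^ n * (y * r * y⁻¹) := by rw [hzn]; group
        _ = z ^ n * (z * r) := by rw [hconj]
        _ = z ^ (n + 1) * r := by rw [pow_succ]; group
  obtain ⟨k, hk⟩ := hyq
  have h1 := hpow (q ^ k)
  rw [← hk, pow_orderOf_eq_one] at h1
  have hzq : z ^ (q ^ k) = 1 := by
    have : r = z ^ orderOf y * r := by simpa using h1
    rw [hk] at this
    exact (mul_eq_right.1 this.symm)
  obtain ⟨j, hj⟩ := hZp ⟨z, hr⟩
  have hzp : z ^ (p ^ j) = 1 := by
    have := congrArg Subtype.val hj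
    simpa using this
  have hcop : Nat.Coprime (q ^ k) (p ^ j) :=
    Nat.Coprime.pow k j ((Nat.coprime_primes hq.out hp.out).2 (Ne.symm hpq))
  have hz1 : z = 1 := by
    have h2 : orderOf z ∣ q ^ k := orderOf_dvd_of_pow_eq_one hzq
    have h3 : orderOf z ∣ p ^ j := orderOf_dvd_of_pow_eq_one hzp
    have : orderOf z = 1 := Nat.eq_one_of_dvd_coprimes hcop h2 h3
    exact orderOf_eq_one_iff.1 this
  rw [hz1, one_mul] at hconj
  have : y * r = r * y := by
    calc y * r = y * r * y⁻¹ * y := by group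
      _ = r * y := by rw [hconj]
  exact this.symm

end Cfsg.Agent.Helper11.AZ
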