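import Mathlib
import Cfsg.Prelude.Def_Local
import Cfsg.Agent.Lib.Helper11.AZ2
import Cfsg.Agent.Lib.Helper24.CharSub

/-! `CharQ q B`: some characteristic subgroup of `B` has a `q`-element in its automizer.
Transfers along subgroups and quotients. -/

set_option autoImplicit false
open Subgroup

namespace Cfsg.Agent.Helper11.AZ

variable {G : Type*} [Group G]

def CharQ (q : ℕ) (B : Subgroup G) : Prop :=
  ∃ K : Subgroup ↥B, K.Characteristic ∧ HasQ q (K.map B.subtype)

theorem CharQ.congr {q : ℕ} {B B' : Subgroup G} (h : B = B') (hB : CharQ q B) : CharQ q B' := by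
  subst h; exact hB

/-- a witness `K` of `CharQ q T` is normalized by `N_G(T)`. -/
theorem CharQ.exists_sub {q : ℕ} {T : Subgroup G} (h : CharQ q T) :
    ∃ K : Subgroup G, K ≤ T ∧ normalizer (T : Set G) ≤ normalizer (K : Set G) ∧ HasQ q K := by
  obtain ⟨K, hK, hq⟩ := h
  refine ⟨K.map T.subtype, ?_, ?_, hq⟩
  · rintro _ ⟨a, -, rfl⟩; exact a.2
  · have := hK
    exact Cfsg.Agent.Helper24.normalizer_le_normalizer_map_subtype_of_characteristic T K

theorem CharQ.of_subgroup {q : ℕ} {L : Subgroup G} {A : Subgroup ↥L} (h : CharQ q A) :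
    CharQ q (A.map L.subtype) := by
  obtain ⟨K', hK', hq⟩ := h
  have hinj : Function.Injective L.subtype := L.subtype_injective
  set B := A.map L.subtype
  let e : ↥A ≃* ↥B := A.equivMapOfInjective L.subtype hinj
  refine ⟨K'.map e.toMonoidHom, ?_, ?_⟩
  · rw [characteristic_iff_map_eq]
    intro φ
    have hφ' : K'.map (e.trans (φ.trans e.symm)).toMonoidHom = K' :=
      (characteristic_iff_map_eq.1 hK') _
    rw [Subgroup.map_map]
    conv_rhs => rw [← hφ', Subgroup.map_map]
    congr 1
    ext x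
    simp
  · have : (K'.map e.toMonoidHom).map B.subtype = (K'.map A.subtype).map L.subtype := by
      rw [Subgroup.map_map, Subgroup.map_map]
      congr 1
    rw [this]
    exact hq.map_subtype

theorem CharQ.of_quotient [Finite G] {q : ℕ} [Fact q.Prime] (Z S : Subgroup G) [Z.Normal]
    (hZS : Z ≤ S) (hZc : (Z.subgroupOf S).Characteristic)
    (h : CharQ q (S.map (QuotientGroup.mk' Z))) : CharQ q S := by
  set π := QuotientGroup.mk' Z
  set Sb := S.map π
  obtain ⟨Kb, hKb, hq⟩ := h
  let ψ : ↥S →* ↥Sb := π.subgroupMap S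
  have hψ : Function.Surjective ψ := π.subgroupMap_surjective S
  have hψval : ∀ x : ↥S, ((ψ x : ↥Sb) : G ⧸ Z) = π (x : G) := fun x => rfl
  have hker : ψ.ker = Z.subgroupOf S := by
    ext x
    rw [MonoidHom.mem_ker, mem_subgroupOf]
    constructor
    · intro h1
      have h2 : π (x : G) = 1 := by rw [← hψval, h1]; rfl
      rw [QuotientGroup.mk'_apply, QuotientGroup.eq_one_iff] at h2
      exact h2
    · intro h1
      apply Subtype.ext
      rw [hψval]
      show π (x : G) = 1
      rw [QuotientGroup.mk'_apply, QuotientGroup.eq_one_iff]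
      exact h1
  refine ⟨Kb.comap ψ, ?_, ?_⟩
  · rw [characteristic_iff_comap_eq]
    intro φ
    have hmap : (ψ.ker).map (φ : ↥S →* ↥S) = ψ.ker := by
      rw [hker]
      exact (characteristic_iff_map_eq.1 hZc) φ
    let e₀ : ↥S ⧸ ψ.ker ≃* ↥Sb := QuotientGroup.quotientKerEquivOfSurjective ψ hψ
    let c : ↥S ⧸ ψ.ker ≃* ↥S ⧸ ψ.ker := QuotientGroup.congr ψ.ker ψ.ker φ hmap
    let φb : ↥Sb ≃* ↥Sb := e₀.symm.trans (c.trans e₀)
    have he₀ : ∀ x : ↥S, e₀ (QuotientGroup.mk x) = ψ x := fun x => rfl
    have hφb : ∀ x : ↥S, φb (ψ x) = ψ (φ x) := by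
      intro x
      show e₀ (c (e₀.symm (ψ x))) = ψ (φ x)
      rw [← he₀ x, MulEquiv.symm_apply_apply]
      rfl
    have hKb' : Kb.comap φb.toMonoidHom = Kb := (characteristic_iff_comap_eq.1 hKb) φb
    ext x
    rw [mem_comap, mem_comap, mem_comap]
    show ψ (φ x) ∈ Kb ↔ ψ x ∈ Kb
    rw [← hφb]
    conv_rhs => rw [← hKb']
    rfl
  · have : (Kb.comap ψ).map S.subtype = (Kb.map Sb.subtype).comap π := by
      ext x
      constructor
      · rintro ⟨a, ha, rfl⟩
        exact ⟨ψ a, ha, rfl⟩
      · rintro ⟨b, hb, hbx⟩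
        have hxS : x ∈ S := by
          have h1 : π x ∈ Sb := by
            have : (Sb.subtype b) = π x := hbx
            rw [← this]; exact b.2
          obtain ⟨s, hs, hsx⟩ := h1
          have h2 : s⁻¹ * x ∈ Z := by
            have : π (s⁻¹ * x) = 1 := by rw [map_mul, map_inv, hsx]; group
            rw [QuotientGroup.mk'_apply, QuotientGroup.eq_one_iff] at this
            exact this
          have : x = s * (s⁻¹ * x) := by group
          rw [this]
          exact S.mul_mem hs (hZS h2)
        refine ⟨⟨x, hxS⟩, ?_, rfl⟩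
        show ψ ⟨x, hxS⟩ ∈ Kb
        have : ψ ⟨x, hxS⟩ = b := by
          apply Subtype.ext
          rw [hψval]
          exact hbx.symm
        rw [this]; exact hb
    rw [this]
    exact hq.comap Z

end Cfsg.Agent.Helper11.AZ
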