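import Mathlib
import Cfsg.Prelude.Def_Local
import Cfsg.Prelude.Def_PLocal
import Cfsg.Agent.Lib.Helper11.AZ3

/-! General group-theoretic lemmas for the automizer theorem. -/

set_option autoImplicit false
open Subgroup

namespace Cfsg.Agent.Helper11.AZ

variable {G : Type*} [Group G]

/-- an `r`-element of `H N` (`H` a `p`-group, `N` normal, `r ≠ p`) lies in `N`. -/
theorem mem_of_relt_sup [Finite G] {p r : ℕ} [hp : Fact p.Prime] [hr : Fact r.Prime] (hpr : p ≠ r)
    {N H : Subgroup G} [N.Normal] (hH : IsPGroup p ↥H) {g : G} (hg : g ∈ H ⊔ N)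
    (hgr : ∃ k : ℕ, orderOf g = r ^ k) : g ∈ N := by
  set π := QuotientGroup.mk' N
  have h1 : π g ∈ H.map π := by
    have : π g ∈ (H ⊔ N).map π := ⟨g, hg, rfl⟩
    rw [Subgroup.map_sup] at this
    have hN : N.map π = ⊥ := by
      rw [eq_bot_iff]
      rintro _ ⟨n, hn, rfl⟩
      rw [mem_bot]
      show (QuotientGroup.mk' N) n = 1
      rw [QuotientGroup.mk'_apply, QuotientGroup.eq_one_iff]
      exact hn
    rw [hN, sup_bot_eq] at this
    exact this
  have hmap : IsPGroup p ↥(H.map π) := hH.map π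
  obtain ⟨j, hj⟩ := hmap ⟨π g, h1⟩
  have hj' : (π g) ^ (p ^ j) = 1 := by
    have := congrArg Subtype.val hj
    simpa using this
  obtain ⟨k, hk⟩ := hgr
  have hk' : (π g) ^ (r ^ k) = 1 := by
    rw [← map_pow, ← hk, pow_orderOf_eq_one, map_one]
  have hcop : Nat.Coprime (r ^ k) (p ^ j) :=
    Nat.Coprime.pow k j ((Nat.coprime_primes hr.out hp.out).2 (Ne.symm hpr))
  have h2 : orderOf (π g) = 1 :=
    Nat.eq_one_of_dvd_coprimes hcop (orderOf_dvd_of_pow_eq_one hk') (orderOf_dvd_of_pow_eq_one hj')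
  have h3 : π g = 1 := orderOf_eq_one_iff.1 h2
  rw [QuotientGroup.mk'_apply, QuotientGroup.eq_one_iff] at h3
  exact h3

theorem sylow_conj_le [Finite G] {p : ℕ} [Fact p.Prime] (S : Sylow p G) {P : Subgroup G}
    (hP : IsPGroup p ↥P) : ∃ g : G, P.map (MulAut.conj g).toMonoidHom ≤ (S : Subgroup G) := by
  obtain ⟨Q, hQ⟩ := hP.exists_le_sylow
  obtain ⟨g, hg⟩ := MulAction.exists_smul_eq G Q S
  refine ⟨g, ?_⟩
  have h1 : (S : Subgroup G) = (Q : Subgroup G).map (MulAut.conj g).toMonoidHom := by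
    rw [← hg]; rfl
  rw [h1]
  exact Subgroup.map_mono hQ

theorem exists_normalizer_not_mem [Finite G] {p : ℕ} [Fact p.Prime] {S T : Subgroup G}
    (hS : IsPGroup p ↥S) (hTS : T < S) :
    ∃ x : G, x ∈ S ∧ x ∈ normalizer (T : Set G) ∧ x ∉ T := by
  have hnil : Group.IsNilpotent ↥S := hS.isNilpotent
  have hnc : NormalizerCondition ↥S := Group.normalizerCondition_of_isNilpotent
  have hlt : T.subgroupOf S < ⊤ := by
    rw [lt_top_iff_ne_top]
    intro h
    rw [subgroupOf_eq_top] at h
    exact hTS.not_ge h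
  have h2 := hnc (T.subgroupOf S) hlt
  obtain ⟨x, hxN, hxT⟩ := SetLike.exists_of_lt h2
  refine ⟨(x : G), x.2, ?_, ?_⟩
  · rw [mem_normalizer_iff] at hxN ⊢
    intro a
    constructor
    · intro ha
      have := (hxN ⟨a, hTS.le ha⟩).1 (by rw [mem_subgroupOf]; exact ha)
      rw [mem_subgroupOf] at this
      exact this
    · intro ha
      have haS : a ∈ S := by
        have h3 : (x : G) * a * (x : G)⁻¹ ∈ S := hTS.le ha
        have : a = (x : G)⁻¹ * ((x : G) * a * (x : G)⁻¹) * (x : G) := by group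
        rw [this]
        exact S.mul_mem (S.mul_mem (S.inv_mem x.2) h3) x.2
      have := (hxN ⟨a, haS⟩).2 (by rw [mem_subgroupOf]; exact ha)
      rw [mem_subgroupOf] at this
      exact this
  · intro h
    apply hxT
    rw [mem_subgroupOf]; exact h

/-- index computation: if `L F = G` with `F` normal, then `|G : L| = |F : L ∩ F|`. -/
theorem not_dvd_index_of_sup_eq_top [Finite G] {p : ℕ} {L F B : Subgroup G} [F.Normal]
    (hLF : L ⊔ F = ⊤) (hBL : B ≤ L) (hBF : B ≤ F) (hB : ¬ p ∣ B.relIndex F) : ¬ p ∣ L.index := by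
  set D := L ⊓ F
  have h1 : F.index = D.relIndex L := by
    have := Subgroup.relIndex_sup_right L F
    rw [hLF, relIndex_top_right] at this
    rw [this]
    have h' : (F ⊓ L).relIndex L = F.relIndex L := Subgroup.inf_relIndex_right F L
    rw [← h', inf_comm]
  have h2 : D.relIndex L * L.index = D.index := Subgroup.relIndex_mul_index inf_le_left
  have h3 : D.relIndex F * F.index = D.index := Subgroup.relIndex_mul_index inf_le_right
  have hF0 : F.index ≠ 0 := Subgroup.index_ne_zero_of_finite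
  have h4 : L.index = D.relIndex F := by
    have : F.index * L.index = D.relIndex F * F.index := by rw [h1, h2, ← h3, h1]
    have h5 : F.index * L.index = F.index * D.relIndex F := by rw [this, mul_comm]
    exact Nat.eq_of_mul_eq_mul_left (Nat.pos_of_ne_zero hF0) h5
  have h6 : D.relIndex F ∣ B.relIndex F := Subgroup.relIndex_dvd_of_le_left F (le_inf hBL hBF)
  intro hp
  exact hB ((h4 ▸ hp).trans h6)

/-- `Ω₁(Z(S))` inside `↥S`. -/
def omegaZ (p : ℕ) (S : Subgroup G) : Subgroup ↥S :=
  closure {x : ↥S | x ∈ center ↥S ∧ x ^ p = 1}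

instance omegaZ_characteristic (p : ℕ) (S : Subgroup G) : (omegaZ p S).Characteristic := by
  rw [characteristic_iff_map_eq]
  intro φ
  unfold omegaZ
  rw [MonoidHom.map_closure]
  congr 1
  ext x
  constructor
  · rintro ⟨a, ⟨hac, hap⟩, rfl⟩
    refine ⟨?_, ?_⟩
    · rw [mem_center_iff] at hac ⊢
      intro g
      have := hac (φ.symm g)
      have h2 := congrArg φ this
      simpa using h2
    · show (φ a) ^ p = 1
      rw [← map_pow, hap, map_one]
  · rintro ⟨hxc, hxp⟩
    refine ⟨φ.symm x, ⟨?_, ?_⟩, by simp⟩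
    · rw [mem_center_iff] at hxc ⊢
      intro g
      have := hxc (φ g)
      have h2 := congrArg φ.symm this
      simpa using h2
    · rw [← map_pow, hxp, map_one]

theorem omegaZ_map (p : ℕ) (S : Subgroup G) :
    (omegaZ p S).map S.subtype = Cfsg.omegaOne p (S ⊓ centralizer (S : Set G)) := by
  unfold omegaZ Cfsg.omegaOne
  rw [MonoidHom.map_closure]
  congr 1
  ext x
  constructor
  · rintro ⟨a, ⟨hac, hap⟩, rfl⟩
    refine ⟨⟨a.2, ?_⟩, ?_⟩
    · show (a : G) ∈ centralizer (S : Set G)
      rw [mem_centralizer_iff]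
      intro s hs
      rw [mem_center_iff] at hac
      have := hac ⟨s, hs⟩
      exact congrArg Subtype.val this
    · have := congrArg Subtype.val hap
      simpa using this
  · rintro ⟨⟨hxS, hxC⟩, hxp⟩
    refine ⟨⟨x, hxS⟩, ⟨?_, ?_⟩, rfl⟩
    · rw [mem_center_iff]
      intro s
      have hxC' : x ∈ centralizer (S : Set G) := hxC
      rw [mem_centralizer_iff] at hxC'
      exact Subtype.ext (hxC' s s.2)
    · exact Subtype.ext hxp

end Cfsg.Agent.Helper11.AZ
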