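import Mathlib
import Cfsg.Prelude.Def_Local
import Cfsg.Prelude.Def_PLocal
import Cfsg.Agent.Lib.Helper11.AZ4
import Cfsg.Agent.Lib.Helper11.ZJ1

/-! The minimal counterexample: first reductions. -/

set_option autoImplicit false
open Subgroup

namespace Cfsg.Agent.Helper11.AZ

universe u

/-- context of a minimal counterexample to the characteristic-subgroup version. -/
structure MC (p q : ℕ) [Fact p.Prime] [Fact q.Prime] (G : Type u) [Group G] [Finite G]
    (S : Sylow p G) : Prop where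
  hpq : p ≠ q
  aut : AutSolv p G
  ih : ∀ (G' : Type u) [Group G'] [Finite G'], Nat.card G' < Nat.card G → AutSolv p G' →
      ∀ S' : Sylow p G', (∃ P : Subgroup G', IsPGroup p ↥P ∧ HasQ q P) → CharQ q (S' : Subgroup G')
  hno : ¬ CharQ q (S : Subgroup G)

variable {p q : ℕ} [hp : Fact p.Prime] [hq : Fact q.Prime] {G : Type u} [Group G] [Finite G]
  {S : Sylow p G}

theorem card_lt_of_ne_top {L : Subgroup G} (hL : L ≠ ⊤) : Nat.card ↥L < Nat.card G := by
  refine lt_of_le_of_ne (Subgroup.card_le_card_group L) ?_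
  intro h
  exact hL ((Subgroup.card_eq_iff_eq_top L).1 h)

/-- in a proper subgroup containing `S`, `q`-elements centralize the `p`-subgroups they normalize. -/
theorem MC.mp (h : MC p q G S) {L : Subgroup G} (hL : L ≠ ⊤) (hSL : (S : Subgroup G) ≤ L)
    {P : Subgroup G} (hP : IsPGroup p ↥P) (hPL : P ≤ L) {y : G} (hyL : y ∈ L)
    (hyN : y ∈ normalizer (P : Set G)) (hyq : ∃ k : ℕ, orderOf y = q ^ k) :
    y ∈ centralizer (P : Set G) := by
  by_contra hyC
  have hQ : HasQ q (P.subgroupOf L) := hasQ_subgroupOf hPL hyL hyN hyq hyC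
  have hPp : IsPGroup p ↥(P.subgroupOf L) := hP.comap_subtype
  have h1 := h.ih ↥L (card_lt_of_ne_top hL) (h.aut.subgroup L) (S.subtype hSL)
    ⟨P.subgroupOf L, hPp, hQ⟩
  rw [Sylow.coe_subtype] at h1
  have h2 := h1.of_subgroup
  rw [Subgroup.subgroupOf_map_subtype, inf_eq_left.2 hSL] at h2
  exact h.hno h2

theorem MC.exists_normal (h : MC p q G S) (hex : ∃ P : Subgroup G, IsPGroup p ↥P ∧ HasQ q P) :
    ∃ H : Subgroup G, IsPGroup p ↥H ∧ H.Normal ∧ HasQ q H := by
  classical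
  set 𝒮 : Set (Subgroup G) := {H | H ≤ (S : Subgroup G) ∧ HasQ q H} with h𝒮
  have hne : 𝒮.Nonempty := by
    obtain ⟨P, hP, hPq⟩ := hex
    obtain ⟨g, hg⟩ := sylow_conj_le S hP
    exact ⟨_, hg, hPq.conj g⟩
  obtain ⟨H, hH𝒮, hmax⟩ := Set.exists_max_image 𝒮
    (fun H => Nat.card ↥((S : Subgroup G) ⊓ normalizer (H : Set G))) (Set.toFinite 𝒮) hne
  obtain ⟨hHS, hHq⟩ := hH𝒮
  have hHp : IsPGroup p ↥H := S.isPGroup'.to_le hHS
  by_cases hN : normalizer (H : Set G) = ⊤
  · exact ⟨H, hHp, normalizer_eq_top_iff.1 hN, hHq⟩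
  exfalso
  set L := normalizer (H : Set G) with hLdef
  set T := (S : Subgroup G) ⊓ L with hTdef
  have hTp : IsPGroup p ↥T := S.isPGroup'.to_le inf_le_left
  obtain ⟨TL, hTL⟩ := (hTp.comap_subtype (K := L)).exists_le_sylow
  set T' := (TL : Subgroup ↥L).map L.subtype with hT'def
  have hT'p : IsPGroup p ↥T' := TL.isPGroup'.map L.subtype
  have hTT' : T ≤ T' := by
    intro x hx
    have hxL : x ∈ L := hx.2
    exact ⟨⟨x, hxL⟩, hTL (show (⟨x, hxL⟩ : ↥L) ∈ T.comap L.subtype from hx), rfl⟩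
  have hT'L : T' ≤ L := by
    rintro _ ⟨a, -, rfl⟩; exact a.2
  have hHT : H ≤ T := le_inf hHS le_normalizer
  obtain ⟨g, hg⟩ := sylow_conj_le S hT'p
  set cg := (MulAut.conj g).toMonoidHom with hcg
  have hcginj : Function.Injective cg := (MulAut.conj g).injective
  have hH'S : H.map cg ≤ (S : Subgroup G) := (Subgroup.map_mono (hHT.trans hTT')).trans hg
  have hH'𝒮 : H.map cg ∈ 𝒮 := ⟨hH'S, hHq.conj g⟩
  have h1 := hmax _ hH'𝒮
  have hnorm : normalizer ((H.map cg : Subgroup G) : Set G) = L.map cg :=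
    (Subgroup.map_equiv_normalizer_eq H (MulAut.conj g)).symm
  have h2 : T'.map cg ≤ (S : Subgroup G) ⊓ normalizer ((H.map cg : Subgroup G) : Set G) := by
    rw [hnorm]
    exact le_inf hg (Subgroup.map_mono hT'L)
  have hTT'eq : T = T' := by
    apply Subgroup.eq_of_le_of_card_ge hTT'
    calc Nat.card ↥T' = Nat.card ↥(T'.map cg) := (Subgroup.card_map_of_injective hcginj).symm
      _ ≤ Nat.card ↥((S : Subgroup G) ⊓ normalizer ((H.map cg : Subgroup G) : Set G)) :=
          Subgroup.card_le_of_le h2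
      _ ≤ Nat.card ↥T := h1
  -- induction hypothesis in `L`
  obtain ⟨y, hyN, hyq, hyC⟩ := hHq
  have hQ : HasQ q (H.subgroupOf L) := hasQ_subgroupOf le_normalizer hyN hyN hyq hyC
  have h3 := h.ih ↥L (card_lt_of_ne_top hN) (h.aut.subgroup L) TL
    ⟨H.subgroupOf L, hHp.comap_subtype, hQ⟩
  have h4 : CharQ q T' := h3.of_subgroup
  by_cases hTS : T' = (S : Subgroup G)
  · exact h.hno (h4.congr hTS)
  · obtain ⟨K, hKT, hNK, hKq⟩ := h4.exists_sub
    have hT'S : T' ≤ (S : Subgroup G) := by rw [← hTT'eq]; exact inf_le_left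
    have hlt : T' < (S : Subgroup G) := lt_of_le_of_ne hT'S hTS
    obtain ⟨x, hxS, hxN, hxT⟩ := exists_normalizer_not_mem S.isPGroup' hlt
    have hK𝒮 : K ∈ 𝒮 := ⟨hKT.trans hT'S, hKq⟩
    have h5 := hmax _ hK𝒮
    have h6 : T' ≤ (S : Subgroup G) ⊓ normalizer (K : Set G) :=
      le_inf hT'S (le_normalizer.trans hNK)
    have h7 : T' = (S : Subgroup G) ⊓ normalizer (K : Set G) := by
      apply Subgroup.eq_of_le_of_card_ge h6
      rw [← hTT'eq]
      exact h5
    apply hxT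
    rw [h7]
    exact ⟨hxS, hNK hxN⟩

/-- `R = O_p(G)` has a `q`-element in its automizer. -/
theorem MC.hasQ_pCore (h : MC p q G S) (hex : ∃ P : Subgroup G, IsPGroup p ↥P ∧ HasQ q P) :
    ∃ y : G, (∃ k : ℕ, orderOf y = q ^ k) ∧ y ∉ centralizer (Cfsg.pCore p G : Set G) := by
  obtain ⟨H, hHp, hHn, y, -, hyq, hyC⟩ := h.exists_normal hex
  refine ⟨y, hyq, fun hc => hyC ?_⟩
  have hle : H ≤ Cfsg.pCore p G := ZJ.le_pCore' hHn hHp
  exact Subgroup.centralizer_le hle hc

instance pCore_normal_inst (p : ℕ) (G : Type*) [Group G] : (Cfsg.pCore p G).Normal :=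
  ZJ.pCore_normal' p G

omit [Finite G] in
theorem sylow_le_normalizer_inf (S W : Subgroup G) [W.Normal] :
    S ≤ normalizer ((S ⊓ W : Subgroup G) : Set G) := by
  have h1 : S ≤ normalizer (S : Set G) ⊓ normalizer (W : Set G) := by
    rw [normalizer_eq_top_iff.2 (inferInstance : W.Normal), inf_top_eq]
    exact le_normalizer
  exact h1.trans Subgroup.inf_normalizer_le_normalizer_inf

/-- Frattini + minimality: for a normal `W ≥ C_G(R)`, either `S ∩ W` is normal in `G` or all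
`q`-elements lie in `W`. -/
theorem MC.fm (h : MC p q G S) (W : Subgroup G) [W.Normal]
    (hCW : centralizer (Cfsg.pCore p G : Set G) ≤ W) :
    ((S : Subgroup G) ⊓ W).Normal ∨ ∀ y : G, (∃ k : ℕ, orderOf y = q ^ k) → y ∈ W := by
  set L := normalizer (((S : Subgroup G) ⊓ W : Subgroup G) : Set G) with hLdef
  by_cases hL : L = ⊤
  · exact Or.inl (normalizer_eq_top_iff.1 hL)
  right
  intro y hyq
  have hfr : L ⊔ W = ⊤ := ZJ.frattini_inf S W
  have hy : y ∈ L ⊔ W := by rw [hfr]; trivial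
  have hy' : y ∈ ((L ⊔ W : Subgroup G) : Set G) := hy
  rw [Subgroup.mul_normal L W] at hy'
  obtain ⟨l, hl, w, hw, rfl⟩ := hy'
  set f := QuotientGroup.mk' W
  have hfw : f w = 1 := by
    rw [QuotientGroup.mk'_apply, QuotientGroup.eq_one_iff]; exact hw
  have hfl : f (l * w) = f l := by rw [map_mul, hfw, mul_one]
  obtain ⟨k, hk⟩ := hyq
  have hord : ∃ j : ℕ, orderOf (f l) = q ^ j := by
    have hdvd : orderOf (f l) ∣ q ^ k := by
      rw [← hfl, ← hk]; exact orderOf_map_dvd f (l * w)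
    obtain ⟨j, -, hj⟩ := (Nat.dvd_prime_pow hq.out).1 hdvd
    exact ⟨j, hj⟩
  obtain ⟨l', hl'z, hl'q, hmem⟩ := exists_qelt_lift q f l hord
  have hl'L : l' ∈ L := (zpowers_le.2 hl) hl'z
  have hSL : (S : Subgroup G) ≤ L := sylow_le_normalizer_inf _ W
  have hRp : IsPGroup p ↥(Cfsg.pCore p G) := ZJ.isPGroup_pCore'
  have hRL : Cfsg.pCore p G ≤ L := (ZJ.pCore_le_sylow' S).trans hSL
  have hl'N : l' ∈ normalizer (Cfsg.pCore p G : Set G) := by
    rw [normalizer_eq_top_iff.2 (inferInstance : (Cfsg.pCore p G).Normal)]; trivial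
  have hl'C := h.mp hL hSL hRp hRL hl'L hl'N hl'q
  have hfl' : f l' = 1 := by
    rw [QuotientGroup.mk'_apply, QuotientGroup.eq_one_iff]; exact hCW hl'C
  rw [hfl', Subgroup.zpowers_one_eq_bot, mem_bot] at hmem
  have : f (l * w) = 1 := by rw [hfl, hmem]
  rw [QuotientGroup.mk'_apply, QuotientGroup.eq_one_iff] at this
  exact this

/-- `S ∩ C_G(R) ≤ R`. -/
theorem MC.centric (h : MC p q G S) (hex : ∃ P : Subgroup G, IsPGroup p ↥P ∧ HasQ q P) :
    (S : Subgroup G) ⊓ centralizer (Cfsg.pCore p G : Set G) ≤ Cfsg.pCore p G := by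
  obtain ⟨y, hyq, hyC⟩ := h.hasQ_pCore hex
  rcases h.fm (centralizer (Cfsg.pCore p G : Set G)) le_rfl with hn | hall
  · exact ZJ.le_pCore' hn (S.isPGroup'.to_le inf_le_left)
  · exact absurd (hall y hyq) hyC

end Cfsg.Agent.Helper11.AZ
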