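import Mathlib
import Cfsg.Prelude.Def_Local
import Cfsg.Prelude.Def_PLocal
import Cfsg.Agent.Lib.Helper11.AZ5

/-! The minimal counterexample: all `q`-elements lie in the preimage of `O_{p'}(G/RC)`. -/

set_option autoImplicit false
set_option linter.style.haveILetI false
open Subgroup

namespace Cfsg.Agent.Helper11.AZ

universe u

variable {p q : ℕ} [hp : Fact p.Prime] [hq : Fact q.Prime] {G : Type u} [Group G] [Finite G]
  {S : Sylow p G}

theorem eq_one_of_pq {X : Type*} [Group X] (hpq : p ≠ q) {x : X} {k j : ℕ}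
    (hq1 : x ^ (q ^ k) = 1) (hp1 : x ^ (p ^ j) = 1) : x = 1 := by
  have hcop : Nat.Coprime (q ^ k) (p ^ j) :=
    Nat.Coprime.pow k j ((Nat.coprime_primes hq.out hp.out).2 (Ne.symm hpq))
  have : orderOf x = 1 :=
    Nat.eq_one_of_dvd_coprimes hcop (orderOf_dvd_of_pow_eq_one hq1) (orderOf_dvd_of_pow_eq_one hp1)
  exact orderOf_eq_one_iff.1 this

theorem isPSolvable_trivial_of_cores {X : Type*} [Group X] [Finite X]
    (hsol : Cfsg.IsPSolvable p X) (h1 : Cfsg.pCore p X = ⊥) (h2 : Cfsg.pPrimeCore p X = ⊥) :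
    ∀ x : X, x = 1 := by
  by_contra hne
  push Not at hne
  obtain ⟨x, hx⟩ := hne
  haveI : Nontrivial X := ⟨⟨x, 1, hx⟩⟩
  have hlt : (⊥ : Subgroup X) < ⊤ := bot_lt_top
  obtain ⟨L, hLn, hBL, -, hfac⟩ := Cfsg.Agent.Helper54.IsPSolvable.exists_step hsol ⊥ ⊤ hlt
  rw [Subgroup.relIndex_bot_left] at hfac
  rcases hfac with ⟨m, hm⟩ | hcop
  · have hLp : IsPGroup p ↥L := IsPGroup.of_card hm
    have := ZJ.le_pCore' hLn hLp
    rw [h1] at this
    exact hBL.ne' (le_bot_iff.1 this)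
  · have := Cfsg.Agent.Helper54.le_pPrimeCore hLn hcop
    rw [h2] at this
    exact hBL.ne' (le_bot_iff.1 this)

theorem MC.exists_F (h : MC p q G S) :
    ∃ F : Subgroup G, F.Normal ∧
      Cfsg.pCore p G ⊔ centralizer (Cfsg.pCore p G : Set G) ≤ F ∧
      ¬ p ∣ (Cfsg.pCore p G ⊔ centralizer (Cfsg.pCore p G : Set G)).relIndex F ∧
      ∀ y : G, (∃ k : ℕ, orderOf y = q ^ k) → y ∈ F := by
  set R := Cfsg.pCore p G with hRdef
  set C := centralizer (R : Set G) with hCdef
  set B := R ⊔ C with hBdef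
  haveI hBn : B.Normal := inferInstance
  set π := QuotientGroup.mk' B with hπdef
  have hπ : Function.Surjective π := QuotientGroup.mk'_surjective B
  have hkerπ : ∀ x : G, π x = 1 ↔ x ∈ B := fun x => by
    rw [hπdef, QuotientGroup.mk'_apply, QuotientGroup.eq_one_iff]
  have hsol : Cfsg.IsPSolvable p (G ⧸ B) := by
    have h0 := h.aut R ZJ.isPGroup_pCore'
    set N := normalizer (R : Set G)
    have hNtop : N = ⊤ := normalizer_eq_top_iff.2 inferInstance
    let φ : ↥N →* G ⧸ B := π.comp N.subtype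
    have hle : C.subgroupOf N ≤ φ.ker := by
      intro x hx
      rw [mem_subgroupOf] at hx
      rw [MonoidHom.mem_ker]
      show π (x : G) = 1
      rw [hkerπ]
      exact (le_sup_right : C ≤ B) hx
    let φ' := QuotientGroup.lift (C.subgroupOf N) φ hle
    have hφ' : Function.Surjective φ' := by
      intro z
      obtain ⟨g, rfl⟩ := hπ z
      have hg : g ∈ N := by rw [hNtop]; trivial
      exact ⟨QuotientGroup.mk ⟨g, hg⟩, rfl⟩
    exact Cfsg.Agent.Helper54.IsPSolvable.of_surjective h0 φ' hφ'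
  set Fb := Cfsg.pPrimeCore p (G ⧸ B) with hFbdef
  haveI hFbn : Fb.Normal := inferInstance
  set ρ := QuotientGroup.mk' Fb with hρdef
  have hρ : Function.Surjective ρ := QuotientGroup.mk'_surjective Fb
  have hkerρ : ∀ x : G ⧸ B, ρ x = 1 ↔ x ∈ Fb := fun x => by
    rw [hρdef, QuotientGroup.mk'_apply, QuotientGroup.eq_one_iff]
  set Pc := Cfsg.pCore p ((G ⧸ B) ⧸ Fb) with hPcdef
  have hPcp : IsPGroup p ↥Pc := ZJ.isPGroup_pCore'
  set F := Fb.comap π with hFdef
  set U := (Pc.comap ρ).comap π with hUdef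
  haveI hFn : F.Normal := inferInstance
  haveI hUn : U.Normal := inferInstance
  have hBF : B ≤ F := by
    intro x hx
    show π x ∈ Fb
    rw [(hkerπ x).2 hx]; exact one_mem _
  have hFU : F ≤ U := by
    intro x hx
    show ρ (π x) ∈ Pc
    rw [(hkerρ _).2 hx]; exact one_mem _
  have hCU : C ≤ U := (le_sup_right : C ≤ B).trans (hBF.trans hFU)
  have hrel : ¬ p ∣ B.relIndex F := by
    have h1 : B = (⊥ : Subgroup (G ⧸ B)).comap π := by
      rw [MonoidHom.comap_bot, hπdef, QuotientGroup.ker_mk']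
    have h2 : B.relIndex F = Nat.card ↥Fb := by
      have h3 : B.relIndex F = ((⊥ : Subgroup (G ⧸ B)).comap π).relIndex F :=
        congrArg (fun X : Subgroup G => X.relIndex F) h1
      rw [h3, Subgroup.relIndex_comap, hFdef, Subgroup.map_comap_eq_self_of_surjective hπ,
        Subgroup.relIndex_bot_left]
    rw [h2]
    have hc : (Nat.card ↥Fb).Coprime p := Cfsg.Agent.Helper54.pPrimeCore_coprime p
    exact (Nat.Prime.coprime_iff_not_dvd hp.out).1 hc.symm
  have hqF : ∀ y : G, (∃ k : ℕ, orderOf y = q ^ k) → y ∈ U → y ∈ F := by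
    intro y ⟨k, hk⟩ hyU
    have hx : ρ (π y) ∈ Pc := hyU
    obtain ⟨j, hj⟩ := hPcp ⟨_, hx⟩
    have hj' : (ρ (π y)) ^ (p ^ j) = 1 := by
      have := congrArg Subtype.val hj
      simpa using this
    have hk' : (ρ (π y)) ^ (q ^ k) = 1 := by
      rw [← map_pow, ← map_pow, ← hk, pow_orderOf_eq_one, map_one, map_one]
    have := eq_one_of_pq h.hpq hk' hj'
    exact (hkerρ _).1 this
  refine ⟨F, hFn, hBF, hrel, ?_⟩
  rcases h.fm U hCU with hn | hall
  · -- `S ∩ U` is normal, hence in `R`; then `U = F` and `G = F`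
    have hSU : (S : Subgroup G) ⊓ U ≤ R := ZJ.le_pCore' hn (S.isPGroup'.to_le inf_le_left)
    have hpow : ∀ d ∈ U, ∃ k : ℕ, d ^ p ^ k ∈ F := by
      intro d hd
      have hx : ρ (π d) ∈ Pc := hd
      obtain ⟨j, hj⟩ := hPcp ⟨_, hx⟩
      have hj' : (ρ (π d)) ^ (p ^ j) = 1 := by
        have := congrArg Subtype.val hj
        simpa using this
      refine ⟨j, ?_⟩
      show π (d ^ p ^ j) ∈ Fb
      rw [map_pow, ← hkerρ, map_pow]
      exact hj'
    have hUF : U ≤ F := by
      intro d hd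
      obtain ⟨c, hc, t, ht, rfl⟩ := ZJ.exists_mul_of_pow_mem (N := F) hUn hpow S d hd
      have htU : t ∈ U := by
        have : t = c⁻¹ * (c * t) := by group
        rw [this]
        exact U.mul_mem (U.inv_mem (hFU hc)) hd
      have htR : t ∈ R := hSU ⟨ht, htU⟩
      exact F.mul_mem hc (hBF ((le_sup_left : R ≤ B) htR))
    have hPc : Pc = ⊥ := by
      rw [eq_bot_iff]
      intro x hx
      obtain ⟨a, rfl⟩ := hρ x
      obtain ⟨g, rfl⟩ := hπ a
      have hgU : g ∈ U := hx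
      have hgF : π g ∈ Fb := hUF hgU
      rw [mem_bot]
      exact (hkerρ _).2 hgF
    have hsol' : Cfsg.IsPSolvable p ((G ⧸ B) ⧸ Fb) :=
      Cfsg.Agent.Helper54.IsPSolvable.quotient hsol Fb
    have hpp : Cfsg.pPrimeCore p ((G ⧸ B) ⧸ Fb) = ⊥ :=
      Cfsg.Agent.Helper54.pPrimeCore_quotient_eq_bot p
    have htriv := isPSolvable_trivial_of_cores hsol' hPc hpp
    intro y _
    show π y ∈ Fb
    exact (hkerρ _).1 (htriv _)
  · intro y hy
    exact hqF y hy (hall y hy)

end Cfsg.Agent.Helper11.AZ
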