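import Mathlib
import Cfsg.Prelude.Def_Local
import Cfsg.Prelude.Def_PLocal
import Cfsg.Agent.Lib.Helper11.AZ6

/-! The minimal counterexample: `G = S Q R C` with `Q` a `q`-group. -/

set_option autoImplicit false
set_option linter.style.haveILetI false
open Subgroup

namespace Cfsg.Agent.Helper11.AZ

universe u

variable {p q : ℕ} [hp : Fact p.Prime] [hq : Fact q.Prime] {G : Type u} [Group G] [Finite G]
  {S : Sylow p G}

omit [Finite G] in
theorem qelt_of_mem_pGroup {Q : Subgroup G} (hQ : IsPGroup q ↥Q) {x : G} (hx : x ∈ Q) :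
    ∃ k : ℕ, orderOf x = q ^ k := by
  obtain ⟨k, hk⟩ := hQ ⟨x, hx⟩
  have hk' : x ^ (q ^ k) = 1 := by
    have := congrArg Subtype.val hk
    simpa using this
  obtain ⟨j, -, hj⟩ := (Nat.dvd_prime_pow hq.out).1 (orderOf_dvd_of_pow_eq_one hk')
  exact ⟨j, hj⟩

omit [Finite G] in
theorem mem_normalizer_sup {H K : Subgroup G} {n : G} (hH : n ∈ normalizer (H : Set G))
    (hK : n ∈ normalizer (K : Set G)) : n ∈ normalizer ((H ⊔ K : Subgroup G) : Set G) := by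
  rw [Subgroup.mem_normalizer_iff_map_conj_eq] at hH hK ⊢
  rw [Subgroup.map_sup, hH, hK]

theorem MC.pq_structure (h : MC p q G S) (hex : ∃ P : Subgroup G, IsPGroup p ↥P ∧ HasQ q P) :
    ∃ Q : Subgroup G, IsPGroup q ↥Q ∧
      (Q ⊔ (Cfsg.pCore p G ⊔ centralizer (Cfsg.pCore p G : Set G))).Normal ∧
      (S : Subgroup G) ⊔ (Q ⊔ (Cfsg.pCore p G ⊔ centralizer (Cfsg.pCore p G : Set G))) = ⊤ := by
  obtain ⟨y₀, hy₀q, hy₀C⟩ := h.hasQ_pCore hex
  obtain ⟨F, hFn, hBF, hrel, hqF⟩ := h.exists_F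
  set R := Cfsg.pCore p G with hRdef
  set C := centralizer (R : Set G) with hCdef
  set B := R ⊔ C with hBdef
  haveI hBn : B.Normal := inferInstance
  haveI := hFn
  have hRp : IsPGroup p ↥R := ZJ.isPGroup_pCore'
  have hzq : IsPGroup q ↥(zpowers y₀) := by
    obtain ⟨k, hk⟩ := hy₀q
    exact IsPGroup.of_card (n := k) (by rw [Nat.card_zpowers, hk])
  obtain ⟨Q₀, hQ₀⟩ := hzq.exists_le_sylow
  have hQ₀F : (Q₀ : Subgroup G) ≤ F := fun x hx => hqF x (qelt_of_mem_pGroup Q₀.isPGroup' hx)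
  have hfr := ZJ.frattini_inf (p := q) Q₀ F
  rw [inf_eq_left.2 hQ₀F] at hfr
  set L₀ := normalizer ((Q₀ : Subgroup G) : Set G) ⊔ B with hL₀def
  have hL₀F : L₀ ⊔ F = ⊤ := by
    rw [eq_top_iff, ← hfr]
    exact sup_le_sup_right le_sup_left F
  have hidx : ¬ p ∣ L₀.index :=
    not_dvd_index_of_sup_eq_top hL₀F (le_sup_right : B ≤ L₀) hBF hrel
  obtain ⟨PL⟩ : Nonempty (Sylow p ↥L₀) := inferInstance
  set P' := (PL : Subgroup ↥L₀).map L₀.subtype with hP'def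
  have hP'L : P' ≤ L₀ := by rintro _ ⟨a, -, rfl⟩; exact a.2
  have hP'idx : ¬ p ∣ P'.index := by
    rw [hP'def, Subgroup.index_map_of_injective _ L₀.subtype_injective, Subgroup.range_subtype]
    intro hd
    rcases (Nat.Prime.dvd_mul hp.out).1 hd with h1 | h1
    · exact PL.not_dvd_index h1
    · exact hidx h1
  have hP'p : IsPGroup p ↥P' := PL.isPGroup'.map L₀.subtype
  set PS : Sylow p G := hP'p.toSylow hP'idx with hPSdef
  obtain ⟨g, hg⟩ := MulAction.exists_smul_eq G PS S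
  set cg := (MulAut.conj g).toMonoidHom with hcg
  have hS : (S : Subgroup G) = P'.map cg := by
    rw [← hg]; rfl
  set Q := (Q₀ : Subgroup G).map cg with hQdef
  have hQq : IsPGroup q ↥Q := Q₀.isPGroup'.map cg
  have hBmap : B.map cg = B := Subgroup.Normal.map_conj_eq B g
  have hLmap : L₀.map cg = normalizer (Q : Set G) ⊔ B := by
    rw [hL₀def, Subgroup.map_sup, hBmap, Subgroup.map_equiv_normalizer_eq _ (MulAut.conj g)]
  set L := normalizer (Q : Set G) ⊔ B with hLdef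
  have hSL : (S : Subgroup G) ≤ L := by
    rw [hS, ← hLmap]; exact Subgroup.map_mono hP'L
  -- the conjugate of `y₀`
  set y₁ := g * y₀ * g⁻¹ with hy₁
  have hy₁cg : y₁ = cg y₀ := by
    show g * y₀ * g⁻¹ = MulAut.conj g y₀
    rw [MulAut.conj_apply]
  have hy₁Q : y₁ ∈ Q := by
    rw [hy₁cg]; exact ⟨y₀, hQ₀ (mem_zpowers y₀), rfl⟩
  have hy₁q : ∃ k : ℕ, orderOf y₁ = q ^ k := qelt_of_mem_pGroup hQq hy₁Q
  have hCn : C.Normal := inferInstance
  have hy₁C : y₁ ∉ C := by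
    intro hc
    apply hy₀C
    have := hCn.conj_mem y₁ hc g⁻¹
    have h2 : g⁻¹ * y₁ * g⁻¹⁻¹ = y₀ := by rw [hy₁]; group
    rw [h2] at this
    exact this
  have hy₁N : y₁ ∈ normalizer (R : Set G) := by
    rw [normalizer_eq_top_iff.2 (inferInstance : R.Normal)]; trivial
  have hRS : R ≤ (S : Subgroup G) := ZJ.pCore_le_sylow' S
  have hLtop : L = ⊤ := by
    by_contra hL
    have hy₁L : y₁ ∈ L := (le_sup_left : normalizer (Q : Set G) ≤ L) (le_normalizer hy₁Q)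
    exact hy₁C (h.mp hL hSL hRp (hRS.trans hSL) hy₁L hy₁N hy₁q)
  set M := Q ⊔ B with hMdef
  have hMn : M.Normal := by
    rw [← normalizer_eq_top_iff, eq_top_iff, ← hLtop]
    apply sup_le
    · intro n hn
      have hnB : n ∈ normalizer (B : Set G) := by
        rw [normalizer_eq_top_iff.2 hBn]; trivial
      exact mem_normalizer_sup hn hnB
    · exact (le_sup_right : B ≤ M).trans le_normalizer
  refine ⟨Q, hQq, hMn, ?_⟩
  by_contra hL2
  have hSL2 : (S : Subgroup G) ≤ (S : Subgroup G) ⊔ M := le_sup_left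
  have hy₁L2 : y₁ ∈ (S : Subgroup G) ⊔ M :=
    (le_sup_right : M ≤ (S : Subgroup G) ⊔ M) ((le_sup_left : Q ≤ M) hy₁Q)
  exact hy₁C (h.mp hL2 hSL2 hRp (hRS.trans hSL2) hy₁L2 hy₁N hy₁q)

/-- `r`-elements for `r ∉ {p, q}` centralize `R`. -/
theorem MC.relt_mem_centralizer (h : MC p q G S)
    (hex : ∃ P : Subgroup G, IsPGroup p ↥P ∧ HasQ q P) {r : ℕ} [hr : Fact r.Prime]
    (hrp : r ≠ p) (hrq : r ≠ q) {g : G} (hg : ∃ k : ℕ, orderOf g = r ^ k) :
    g ∈ centralizer (Cfsg.pCore p G : Set G) := by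
  obtain ⟨Q, hQq, hMn, htop⟩ := h.pq_structure hex
  haveI := hMn
  have h1 : g ∈ Q ⊔ (Cfsg.pCore p G ⊔ centralizer (Cfsg.pCore p G : Set G)) :=
    mem_of_relt_sup (Ne.symm hrp) S.isPGroup' (by rw [htop]; trivial) hg
  have h2 : g ∈ Cfsg.pCore p G ⊔ centralizer (Cfsg.pCore p G : Set G) :=
    mem_of_relt_sup (Ne.symm hrq) hQq h1 hg
  exact mem_of_relt_sup (Ne.symm hrp) ZJ.isPGroup_pCore' h2 hg

end Cfsg.Agent.Helper11.AZ
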