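import Mathlib
import Cfsg.Prelude.Def_Local
import Cfsg.Prelude.Def_PLocal
import Cfsg.Agent.Lib.Helper11.AZ7
import Cfsg.Agent.Lib.Helper76.SolvPSolv
import Cfsg.Agent.Lib.Helper1.FFY
import Cfsg.Agent.S0609

/-! The minimal counterexample is `p`-solvable and Thompson factorizable. -/

set_option autoImplicit false
set_option linter.style.haveILetI false
open Subgroup

namespace Cfsg.Agent.Helper11.AZ

universe u

variable {p q : ℕ} [hp : Fact p.Prime] [hq : Fact q.Prime] {G : Type u} [Group G] [Finite G]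
  {S : Sylow p G}

/-- Burnside: `C = C_G(R)` has a normal `p`-complement `O`, normal in `G`. -/
theorem MC.exists_O (h : MC p q G S) (hex : ∃ P : Subgroup G, IsPGroup p ↥P ∧ HasQ q P) :
    ∃ O : Subgroup G, O.Normal ∧ O ≤ centralizer (Cfsg.pCore p G : Set G) ∧
      (Nat.card ↥O).Coprime p ∧ ∃ m : ℕ, O.relIndex (centralizer (Cfsg.pCore p G : Set G)) = p ^ m := by
  set R := Cfsg.pCore p G with hRdef
  set C := centralizer (R : Set G) with hCdef
  haveI hCn : C.Normal := inferInstance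
  have hcen := h.centric hex
  obtain ⟨PC, hPC⟩ := ZJ.exists_sylow_subgroupOf_normal S C
  have hcent : normalizer ((PC : Subgroup ↥C) : Set ↥C) ≤ centralizer ((PC : Subgroup ↥C) : Set ↥C) := by
    intro c _
    rw [mem_centralizer_iff]
    intro x hx
    have hx' : x ∈ (S : Subgroup G).subgroupOf C := by rw [← hPC]; exact hx
    rw [mem_subgroupOf] at hx'
    have hxR : (x : G) ∈ R := hcen ⟨hx', x.2⟩
    have hc : (c : G) ∈ centralizer (R : Set G) := c.2
    rw [mem_centralizer_iff] at hc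
    exact Subtype.ext (hc (x : G) hxR)
  set K := (MonoidHom.transferSylow PC hcent).ker with hKdef
  have hKc : K.IsComplement' (PC : Subgroup ↥C) :=
    MonoidHom.ker_transferSylow_isComplement' PC hcent
  have hcard : Nat.card ↥K * Nat.card ↥(PC : Subgroup ↥C) = Nat.card ↥C := hKc.card_mul_card
  have hidx : (PC : Subgroup ↥C).index * Nat.card ↥(PC : Subgroup ↥C) = Nat.card ↥C :=
    Subgroup.index_mul_card _
  have hPCpos : 0 < Nat.card ↥(PC : Subgroup ↥C) := Nat.card_pos
  have hKidx : Nat.card ↥K = (PC : Subgroup ↥C).index :=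
    Nat.eq_of_mul_eq_mul_right hPCpos (hcard.trans hidx.symm)
  have hKcop : (Nat.card ↥K).Coprime p := by
    rw [hKidx]
    exact ((Nat.Prime.coprime_iff_not_dvd hp.out).2 PC.not_dvd_index).symm
  have hKn : K.Normal := inferInstance
  set O' := Cfsg.pPrimeCore p ↥C with hO'def
  have hKO' : K ≤ O' := Cfsg.Agent.Helper54.le_pPrimeCore hKn hKcop
  haveI hO'c : O'.Characteristic := inferInstance
  refine ⟨O'.map C.subtype, ConjAct.normal_of_characteristic_of_normal, ?_, ?_, ?_⟩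
  · rintro _ ⟨a, -, rfl⟩; exact a.2
  · rw [Subgroup.card_map_of_injective C.subtype_injective]
    exact Cfsg.Agent.Helper54.pPrimeCore_coprime p
  · have h1 : (O'.map C.subtype).relIndex C = O'.index := by
      unfold Subgroup.relIndex Subgroup.subgroupOf
      rw [Subgroup.comap_map_eq_self_of_injective C.subtype_injective]
    rw [h1]
    have h2 : O'.index ∣ K.index := Subgroup.index_dvd_of_le hKO'
    have h3 : K.index = Nat.card ↥(PC : Subgroup ↥C) := by
      have h4 : K.index * Nat.card ↥K = Nat.card ↥C := Subgroup.index_mul_card _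
      have hKpos : 0 < Nat.card ↥K := Nat.card_pos
      have : K.index * Nat.card ↥K = Nat.card ↥(PC : Subgroup ↥C) * Nat.card ↥K := by
        rw [h4, ← hcard, mul_comm]
      exact Nat.eq_of_mul_eq_mul_right hKpos this
    obtain ⟨n, hn⟩ := (IsPGroup.iff_card.1 PC.isPGroup')
    rw [h3, hn] at h2
    obtain ⟨m, -, hm⟩ := (Nat.dvd_prime_pow hp.out).1 h2
    exact ⟨m, hm⟩

omit [Finite G] in
theorem isPSolvable_quotient_centralizer (hA : AutSolv p G) (R : Subgroup G) [R.Normal]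
    (hR : IsPGroup p ↥R) : Cfsg.IsPSolvable p (G ⧸ centralizer (R : Set G)) := by
  set C := centralizer (R : Set G)
  set π := QuotientGroup.mk' C
  have hπ : Function.Surjective π := QuotientGroup.mk'_surjective C
  have h0 := hA R hR
  set N := normalizer (R : Set G)
  have hNtop : N = ⊤ := normalizer_eq_top_iff.2 inferInstance
  let φ : ↥N →* G ⧸ C := π.comp N.subtype
  have hle : C.subgroupOf N ≤ φ.ker := by
    intro x hx
    rw [mem_subgroupOf] at hx
    rw [MonoidHom.mem_ker]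
    show π (x : G) = 1
    rw [QuotientGroup.mk'_apply, QuotientGroup.eq_one_iff]
    exact hx
  let φ' := QuotientGroup.lift (C.subgroupOf N) φ hle
  have hφ' : Function.Surjective φ' := by
    intro z
    obtain ⟨g, rfl⟩ := hπ z
    have hg : g ∈ N := by rw [hNtop]; trivial
    exact ⟨QuotientGroup.mk ⟨g, hg⟩, rfl⟩
  exact Cfsg.Agent.Helper54.IsPSolvable.of_surjective h0 φ' hφ'

theorem MC.isPSolvable (h : MC p q G S) (hex : ∃ P : Subgroup G, IsPGroup p ↥P ∧ HasQ q P) :
    Cfsg.IsPSolvable p G := by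
  obtain ⟨O, hOn, hOC, hOcop, m, hm⟩ := h.exists_O hex
  set R := Cfsg.pCore p G with hRdef
  set C := centralizer (R : Set G) with hCdef
  haveI := hOn
  haveI hCn : C.Normal := inferInstance
  have hGC : Cfsg.IsPSolvable p (G ⧸ C) :=
    isPSolvable_quotient_centralizer h.aut R ZJ.isPGroup_pCore'
  set N := C.map (QuotientGroup.mk' O) with hNdef
  haveI hNn : N.Normal := hCn.map _ (QuotientGroup.mk'_surjective O)
  have hNp : IsPGroup p ↥N := by
    rintro ⟨x, c, hc, rfl⟩
    refine ⟨m, ?_⟩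
    apply Subtype.ext
    show ((QuotientGroup.mk' O) c) ^ (p ^ m) = 1
    rw [← map_pow, QuotientGroup.mk'_apply, QuotientGroup.eq_one_iff, ← hm]
    exact Subgroup.pow_relIndex_mem O hc
  have e := QuotientGroup.quotientQuotientEquivQuotient O C hOC
  have h1 : Cfsg.IsPSolvable p ((G ⧸ O) ⧸ N) :=
    Cfsg.Agent.Helper54.IsPSolvable.of_surjective hGC e.symm.toMonoidHom e.symm.surjective
  have h2 : Cfsg.IsPSolvable p (G ⧸ O) :=
    Cfsg.Agent.Helper76.IsPSolvable.of_quotient N (Or.inl (IsPGroup.iff_card.1 hNp)) h1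
  exact Cfsg.Agent.Helper76.IsPSolvable.of_quotient O (Or.inr hOcop) h2

theorem pPrimeCore_le_centralizer_pCore :
    Cfsg.pPrimeCore p G ≤ centralizer (Cfsg.pCore p G : Set G) := by
  set O := Cfsg.pPrimeCore p G
  set R := Cfsg.pCore p G
  have hOn : O.Normal := inferInstance
  have hRn : R.Normal := inferInstance
  have hcop : Nat.Coprime (Nat.card ↥O) (Nat.card ↥R) := by
    obtain ⟨n, hn⟩ := IsPGroup.iff_card.1 (ZJ.isPGroup_pCore' : IsPGroup p ↥R)
    rw [hn]
    exact Nat.Coprime.pow_right n (Cfsg.Agent.Helper54.pPrimeCore_coprime p)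
  have hbot : O ⊓ R = ⊥ := (Subgroup.disjoint_of_coprime_natCard hcop).eq_bot
  intro x hx
  rw [mem_centralizer_iff]
  intro r hr
  have h1 : x * r * x⁻¹ * r⁻¹ ∈ O ⊓ R := by
    constructor
    · have : x * r * x⁻¹ * r⁻¹ = x * (r * x⁻¹ * r⁻¹) := by group
      rw [this]
      exact O.mul_mem hx (hOn.conj_mem _ (O.inv_mem hx) r)
    · exact R.mul_mem (hRn.conj_mem r hr x) (R.inv_mem hr)
  rw [hbot, mem_bot] at h1
  have : x * r = r * x := by
    calc x * r = (x * r * x⁻¹ * r⁻¹) * (r * x) := by group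
      _ = r * x := by rw [h1, one_mul]
  exact this.symm

theorem MC.thompsonFactorizable (h : MC p q G S)
    (hex : ∃ P : Subgroup G, IsPGroup p ↥P ∧ HasQ q P)
    (h23 : ¬ ((p = 2 ∧ q = 3) ∨ (p = 3 ∧ q = 2))) : Cfsg.IsThompsonFactorizable p G := by
  rw [Cfsg.Agent.S0609.result]
  by_contra hnf
  have hsol := h.isPSolvable hex
  set Op := Cfsg.pPrimeCore p G with hOpdef
  have hsol' : Cfsg.IsPSolvable p (G ⧸ Op) := Cfsg.Agent.Helper54.IsPSolvable.quotient hsol Op
  have hbot : Cfsg.pPrimeCore p (G ⧸ Op) = ⊥ := Cfsg.Agent.Helper54.pPrimeCore_quotient_eq_bot p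
  obtain ⟨hp23, E, -, -, -, hn, ⟨e⟩⟩ := Cfsg.Agent.Helper1.FF.not_TF_structure hsol' hbot hnf
  -- a prime `r ∉ {p, q}` dividing `|SL(2,p)|`
  have hr : ∃ r : ℕ, r.Prime ∧ r ≠ p ∧ r ≠ q ∧
      r ∣ Nat.card (Matrix.SpecialLinearGroup (Fin 2) (ZMod p)) := by
    rw [Cfsg.Agent.Helper1.FF.card_SL2_zmod p]
    rcases hp23 with h2 | h3
    · refine ⟨3, Nat.prime_three, by omega, ?_, ?_⟩
      · intro h3q; exact h23 (Or.inl ⟨h2, h3q.symm⟩)
      · rw [h2]; decide
    · refine ⟨2, Nat.prime_two, by omega, ?_, ?_⟩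
      · intro h2q; exact h23 (Or.inr ⟨h3, h2q.symm⟩)
      · rw [h3]; decide
  obtain ⟨r, hrp, hrnp, hrnq, hrd⟩ := hr
  haveI : Fact r.Prime := ⟨hrp⟩
  have hd1 : r ∣ Nat.card (G ⧸ Op) := by
    have h1 : r ∣ Nat.card (↥E ⧸ (centralizer (Cfsg.Agent.Helper1.FF.VZ p (G ⧸ Op) : Set (G ⧸ Op))).subgroupOf E) := by
      rw [Nat.card_congr e.toEquiv]; exact hrd
    exact (h1.trans (Subgroup.card_quotient_dvd_card _)).trans (Subgroup.card_subgroup_dvd_card E)
  obtain ⟨xb, hxb⟩ := exists_prime_orderOf_dvd_card' r hd1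
  obtain ⟨g, rfl⟩ := QuotientGroup.mk'_surjective Op xb
  obtain ⟨g', -, hg'r, hmem⟩ := exists_qelt_lift r (QuotientGroup.mk' Op) g ⟨1, by rw [hxb, pow_one]⟩
  have hg'C := h.relt_mem_centralizer hex hrnp hrnq hg'r
  obtain ⟨O, hOn, hOC, hOcop, m, hm⟩ := h.exists_O hex
  haveI := hOn
  have hg'O : g' ∈ O := by
    have h1 : g' ^ (p ^ m) ∈ O := by rw [← hm]; exact Subgroup.pow_relIndex_mem O hg'C
    obtain ⟨k, hk⟩ := hg'r
    set x := (QuotientGroup.mk' O) g'
    have hx1 : x ^ (p ^ m) = 1 := by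
      show ((QuotientGroup.mk' O) g') ^ (p ^ m) = 1
      rw [← map_pow, QuotientGroup.mk'_apply, QuotientGroup.eq_one_iff]; exact h1
    have hx2 : x ^ (r ^ k) = 1 := by
      show ((QuotientGroup.mk' O) g') ^ (r ^ k) = 1
      rw [← map_pow, ← hk, pow_orderOf_eq_one, map_one]
    have hx : (QuotientGroup.mk' O) g' = 1 := eq_one_of_pq (p := p) (q := r) (Ne.symm hrnp) hx2 hx1
    rw [QuotientGroup.mk'_apply, QuotientGroup.eq_one_iff] at hx
    exact hx
  have hg'Op : g' ∈ Op := Cfsg.Agent.Helper54.le_pPrimeCore hOn hOcop hg'O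
  have h1 : (QuotientGroup.mk' Op) g' = 1 := by
    rw [QuotientGroup.mk'_apply, QuotientGroup.eq_one_iff]; exact hg'Op
  rw [h1, Subgroup.zpowers_one_eq_bot, mem_bot] at hmem
  rw [hmem, orderOf_one] at hxb
  exact hrp.one_lt.ne hxb

end Cfsg.Agent.Helper11.AZ
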