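import Mathlib
import Cfsg.Prelude.Def_Local
import Cfsg.Prelude.Def_PLocal
import Cfsg.Agent.Lib.Helper11.AZ8
import Cfsg.Agent.S0602

/-! The minimal counterexample does not exist: the main theorem. -/

set_option autoImplicit false
set_option linter.style.haveILetI false
open Subgroup

namespace Cfsg.Agent.Helper11.AZ

universe u

variable {p q : ℕ} [hp : Fact p.Prime] [hq : Fact q.Prime] {G : Type u} [Group G] [Finite G]
  {S : Sylow p G}

/-- proper subgroups containing `S` lie in `S C`. -/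
theorem MC.le_sup_of_ne_top (h : MC p q G S)
    (hex : ∃ P : Subgroup G, IsPGroup p ↥P ∧ HasQ q P) {L : Subgroup G} (hL : L ≠ ⊤)
    (hSL : (S : Subgroup G) ≤ L) :
    L ≤ (S : Subgroup G) ⊔ centralizer (Cfsg.pCore p G : Set G) := by
  set R := Cfsg.pCore p G with hRdef
  set C := centralizer (R : Set G) with hCdef
  haveI hCn : C.Normal := inferInstance
  set π := QuotientGroup.mk' C with hπdef
  have hπ : Function.Surjective π := QuotientGroup.mk'_surjective C
  have hkerπ : ∀ x : G, π x = 1 ↔ x ∈ C := fun x => by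
    rw [hπdef, QuotientGroup.mk'_apply, QuotientGroup.eq_one_iff]
  have hRp : IsPGroup p ↥R := ZJ.isPGroup_pCore'
  have hRL : R ≤ L := (ZJ.pCore_le_sylow' S).trans hSL
  set Lt := L.map π with hLtdef
  have hLtp : IsPGroup p ↥Lt := by
    apply IsPGroup.of_card (n := (Nat.card ↥Lt).primeFactorsList.length)
    apply Nat.eq_prime_pow_of_unique_prime_dvd Nat.card_pos.ne'
    intro d hd hdvd
    by_contra hdp
    haveI : Fact d.Prime := ⟨hd⟩
    obtain ⟨x, hx⟩ := exists_prime_orderOf_dvd_card' d hdvd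
    obtain ⟨l, hl, hlx⟩ := x.2
    have hord : orderOf (π l) = d := by
      rw [hlx, Subgroup.orderOf_coe]; exact hx
    obtain ⟨l', hl'z, hl'd, hmem⟩ := exists_qelt_lift d π l ⟨1, by rw [hord, pow_one]⟩
    have hl'L : l' ∈ L := (zpowers_le.2 hl) hl'z
    have hl'C : l' ∈ C := by
      by_cases hdq : d = q
      · have hl'q : ∃ k : ℕ, orderOf l' = q ^ k := hdq ▸ hl'd
        have hl'N : l' ∈ normalizer (R : Set G) := by
          rw [normalizer_eq_top_iff.2 (inferInstance : R.Normal)]; trivial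
        exact h.mp hL hSL hRp hRL hl'L hl'N hl'q
      · exact h.relt_mem_centralizer hex hdp hdq hl'd
    rw [(hkerπ l').2 hl'C, Subgroup.zpowers_one_eq_bot, mem_bot] at hmem
    rw [hmem, orderOf_one] at hord
    exact hd.one_lt.ne hord
  have hSt : (S : Subgroup G).map π ≤ Lt := Subgroup.map_mono hSL
  have hmax := (S.mapSurjective hπ).is_maximal' hLtp (by rw [Sylow.coe_mapSurjective]; exact hSt)
  rw [Sylow.coe_mapSurjective] at hmax
  intro g hg
  have h1 : π g ∈ (S : Subgroup G).map π := by rw [← hmax]; exact ⟨g, hg, rfl⟩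
  obtain ⟨s, hs, hsg⟩ := h1
  have h2 : s⁻¹ * g ∈ C := by
    rw [← hkerπ, map_mul, map_inv, hsg]; group
  have : g = s * (s⁻¹ * g) := by group
  rw [this]
  exact Subgroup.mul_mem_sup hs h2

omit [Finite G] in
theorem omegaOne_le (p : ℕ) (H : Subgroup G) : Cfsg.omegaOne p H ≤ H := by
  unfold Cfsg.omegaOne
  rw [closure_le]
  intro x hx
  exact hx.1

/-- a nontrivial characteristic subgroup of `S` which is normal in `G`. -/
theorem MC.exists_Z (h : MC p q G S)
    (hex : ∃ P : Subgroup G, IsPGroup p ↥P ∧ HasQ q P)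
    (h23 : ¬ ((p = 2 ∧ q = 3) ∨ (p = 3 ∧ q = 2))) :
    ∃ K : Subgroup ↥(S : Subgroup G), K.Characteristic ∧ K ≠ ⊥ ∧
      (K.map (S : Subgroup G).subtype).Normal := by
  obtain ⟨y₀, hy₀q, hy₀C⟩ := h.hasQ_pCore hex
  set R := Cfsg.pCore p G with hRdef
  set C := centralizer (R : Set G) with hCdef
  haveI hCn : C.Normal := inferInstance
  -- `S` is nontrivial
  have hRne : R ≠ ⊥ := by
    intro hR
    apply hy₀C
    have hCtop : C = ⊤ := by
      rw [hCdef, hR]
      ext x
      simp [mem_centralizer_iff]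
    rw [hCtop]; trivial
  have hSne : (S : Subgroup G) ≠ ⊥ := by
    intro hS
    apply hRne
    have := ZJ.pCore_le_sylow' (p := p) S
    rw [hS] at this
    exact le_bot_iff.1 this
  haveI hSnt : Nontrivial ↥(S : Subgroup G) := (Subgroup.nontrivial_iff_ne_bot _).2 hSne
  have hSp : IsPGroup p ↥(S : Subgroup G) := S.isPGroup'
  have hpS : p ∣ Nat.card ↥(S : Subgroup G) := by
    obtain ⟨n, hn⟩ := IsPGroup.iff_card.1 hSp
    have hn0 : n ≠ 0 := by
      rintro rfl
      rw [pow_zero] at hn
      have : 1 < Nat.card ↥(S : Subgroup G) := Finite.one_lt_card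
      omega
    rw [hn]; exact dvd_pow_self p hn0
  set Z₀ := Cfsg.omegaOne p ((S : Subgroup G) ⊓ centralizer ((S : Subgroup G) : Set G)) with hZ₀def
  set J := Cfsg.thompsonSubgroupOf p (S : Subgroup G) with hJdef
  have hSX : (S : Subgroup G) ≤ centralizer (Z₀ : Set G) := by
    intro s hs
    rw [mem_centralizer_iff]
    intro z hz
    have hz' : z ∈ centralizer ((S : Subgroup G) : Set G) := (omegaOne_le p _ hz).2
    rw [mem_centralizer_iff] at hz'
    exact (hz' s hs).symm
  have hJchar : (Cfsg.thompsonSubgroup p ↥(S : Subgroup G)).Characteristic :=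
    (Cfsg.Agent.S0602.result (G := ↥(S : Subgroup G)) (p := p)).1
  have hSY : (S : Subgroup G) ≤ normalizer (J : Set G) := by
    haveI := hJchar
    exact le_normalizer.trans
      (Cfsg.Agent.Helper24.normalizer_le_normalizer_map_subtype_of_characteristic
        (S : Subgroup G) (Cfsg.thompsonSubgroup p ↥(S : Subgroup G)))
  by_cases hX : centralizer (Z₀ : Set G) = ⊤
  · refine ⟨omegaZ p (S : Subgroup G), inferInstance, ?_, ?_⟩
    · -- nontrivial
      haveI hcn : Nontrivial ↥(center ↥(S : Subgroup G)) := hSp.center_nontrivial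
      have hcp : IsPGroup p ↥(center ↥(S : Subgroup G)) := hSp.to_subgroup _
      have hpc : p ∣ Nat.card ↥(center ↥(S : Subgroup G)) := by
        obtain ⟨n, hn⟩ := IsPGroup.iff_card.1 hcp
        have hn0 : n ≠ 0 := by
          rintro rfl
          rw [pow_zero] at hn
          have : 1 < Nat.card ↥(center ↥(S : Subgroup G)) := Finite.one_lt_card
          omega
        rw [hn]; exact dvd_pow_self p hn0
      obtain ⟨z, hz⟩ := exists_prime_orderOf_dvd_card' p hpc
      have hzmem : (z : ↥(S : Subgroup G)) ∈ omegaZ p (S : Subgroup G) := by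
        apply Subgroup.subset_closure
        refine ⟨z.2, ?_⟩
        have : z ^ p = 1 := by
          have h0 := pow_orderOf_eq_one z
          rwa [hz] at h0
        have := congrArg Subtype.val this
        simpa using this
      intro hbot
      rw [hbot, mem_bot] at hzmem
      have hz1 : z = 1 := Subtype.ext hzmem
      rw [hz1, orderOf_one] at hz
      exact hp.out.one_lt.ne hz
    · rw [omegaZ_map]
      constructor
      intro z hz g
      have hg : g ∈ centralizer (Z₀ : Set G) := by rw [hX]; trivial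
      rw [mem_centralizer_iff] at hg
      have : g * z * g⁻¹ = z := by
        rw [← hg z hz]; group
      rw [this]; exact hz
  · by_cases hY : normalizer (J : Set G) = ⊤
    · refine ⟨Cfsg.thompsonSubgroup p ↥(S : Subgroup G), hJchar, ?_, ?_⟩
      · exact (Cfsg.Agent.S0602.result (G := ↥(S : Subgroup G)) (p := p)).2 hpS
      · exact normalizer_eq_top_iff.1 hY
    · exfalso
      have hXle := h.le_sup_of_ne_top hex hX hSX
      have hYle := h.le_sup_of_ne_top hex hY hSY
      have hTF := h.thompsonFactorizable hex h23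
      obtain ⟨x, hx, c, hc, n, hn, hy⟩ := hTF S y₀
      have hxC : x ∈ (S : Subgroup G) ⊔ C :=
        (le_sup_right : C ≤ (S : Subgroup G) ⊔ C) (pPrimeCore_le_centralizer_pCore hx)
      have hy₀SC : y₀ ∈ (S : Subgroup G) ⊔ C := by
        rw [hy]
        exact Subgroup.mul_mem _ (Subgroup.mul_mem _ hxC (hXle hc)) (hYle hn)
      exact hy₀C (mem_of_relt_sup h.hpq S.isPGroup' hy₀SC hy₀q)

theorem MC.false (h : MC p q G S)
    (hex : ∃ P : Subgroup G, IsPGroup p ↥P ∧ HasQ q P)
    (h23 : ¬ ((p = 2 ∧ q = 3) ∨ (p = 3 ∧ q = 2))) : False := by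
  obtain ⟨K, hKc, hKne, hKn⟩ := h.exists_Z hex h23
  obtain ⟨y₀, hy₀q, hy₀C⟩ := h.hasQ_pCore hex
  set R := Cfsg.pCore p G with hRdef
  set Z := K.map (S : Subgroup G).subtype with hZdef
  haveI := hKn
  have hZS : Z ≤ (S : Subgroup G) := by rintro _ ⟨a, -, rfl⟩; exact a.2
  have hZp : IsPGroup p ↥Z := S.isPGroup'.to_le hZS
  have hZsub : Z.subgroupOf (S : Subgroup G) = K := by
    unfold Subgroup.subgroupOf
    exact Subgroup.comap_map_eq_self_of_injective (S : Subgroup G).subtype_injective K
  have hZc : (Z.subgroupOf (S : Subgroup G)).Characteristic := by rw [hZsub]; exact hKc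
  have hnoZ : ¬ HasQ q Z := fun hq' => h.hno ⟨K, hKc, hq'⟩
  have hcentZ : ∀ y : G, (∃ k : ℕ, orderOf y = q ^ k) → y ∈ centralizer (Z : Set G) := by
    intro y hy
    by_contra hyc
    apply hnoZ
    refine ⟨y, ?_, hy, hyc⟩
    rw [normalizer_eq_top_iff.2 hKn]; trivial
  have hZne : Z ≠ ⊥ := by
    intro hZ
    apply hKne
    rw [← hZsub, hZ]
    simp
  have hcard : Nat.card (G ⧸ Z) < Nat.card G := by
    have h1 : Nat.card (G ⧸ Z) * Nat.card ↥Z = Nat.card G := by
      rw [← Subgroup.index_eq_card]; exact Subgroup.index_mul_card Z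
    have h2 : 1 < Nat.card ↥Z := by
      haveI : Nontrivial ↥Z := (Subgroup.nontrivial_iff_ne_bot _).2 hZne
      exact Finite.one_lt_card
    have h3 : 0 < Nat.card (G ⧸ Z) := Nat.card_pos
    nlinarith
  set π := QuotientGroup.mk' Z with hπdef
  have hπ : Function.Surjective π := QuotientGroup.mk'_surjective Z
  have hRn : R.Normal := inferInstance
  have hexb : ∃ P : Subgroup (G ⧸ Z), IsPGroup p ↥P ∧ HasQ q P := by
    refine ⟨R.map π, (ZJ.isPGroup_pCore' : IsPGroup p ↥R).map π, π y₀, ?_, ?_, ?_⟩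
    · have hn : (R.map π).Normal := hRn.map π hπ
      rw [normalizer_eq_top_iff.2 hn]; trivial
    · obtain ⟨k, hk⟩ := hy₀q
      have hdvd : orderOf (π y₀) ∣ q ^ k := by rw [← hk]; exact orderOf_map_dvd π y₀
      obtain ⟨j, -, hj⟩ := (Nat.dvd_prime_pow hq.out).1 hdvd
      exact ⟨j, hj⟩
    · intro hc
      apply hy₀C
      rw [mem_centralizer_iff] at hc ⊢
      intro r hr
      have h1 := hc (π r) ⟨r, hr, rfl⟩
      have h2 : y₀ * r * y₀⁻¹ * r⁻¹ ∈ Z := by
        rw [← QuotientGroup.eq_one_iff, ← QuotientGroup.mk'_apply]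
        show π (y₀ * r * y₀⁻¹ * r⁻¹) = 1
        rw [map_mul, map_mul, map_mul, map_inv, map_inv, ← h1]; group
      have hyZ : ∀ z ∈ Z, z * y₀ = y₀ * z := by
        intro z hz
        have := hcentZ y₀ hy₀q
        rw [mem_centralizer_iff] at this
        exact this z hz
      exact centralizes_of_stable h.hpq hZp hy₀q hyZ h2
  have h1 := h.ih (G ⧸ Z) hcard (h.aut.quotient Z hZp) (S.mapSurjective hπ) hexb
  rw [Sylow.coe_mapSurjective] at h1
  exact h.hno (CharQ.of_quotient Z (S : Subgroup G) hZS hZc h1)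

/-- The main theorem (characteristic-subgroup version). -/
theorem main (p q : ℕ) [hp : Fact p.Prime] [hq : Fact q.Prime] (hpq : p ≠ q)
    (h23 : ¬ ((p = 2 ∧ q = 3) ∨ (p = 3 ∧ q = 2))) :
    ∀ (n : ℕ) (G : Type u) [Group G] [Finite G], Nat.card G = n → AutSolv p G →
      ∀ S : Sylow p G, (∃ P : Subgroup G, IsPGroup p ↥P ∧ HasQ q P) →
        CharQ q (S : Subgroup G) := by
  intro n
  induction n using Nat.strong_induction_on with
  | _ n ih =>
    intro G _ _ hn hA S hex
    by_contra hno
    have hMC : MC p q G S :=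
      { hpq := hpq
        aut := hA
        ih := fun G' _ _ hlt hA' S' hex' => ih (Nat.card G') (hn ▸ hlt) G' rfl hA' S' hex'
        hno := hno }
    exact hMC.false hex h23

end Cfsg.Agent.Helper11.AZ
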