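import Mathlib
import Cfsg.Prelude.Def_OddOrderLocal
import Cfsg.Prelude.Def_OddOrderChar
import Cfsg.Prelude.Def_OddOrder
import Cfsg.Agent.Lib.Helper11.BG1537Defs
import Cfsg.Agent.Lib.Helper90.BG1537P1
import Cfsg.Agent.Lib.Helper96.BG1537P2
import Cfsg.Agent.Lib.Helper25.BG1537P3
import Cfsg.Agent.Lib.Helper25.BG1537P4
import Cfsg.Agent.Lib.Helper86.BG1537P5
import Cfsg.Agent.Lib.Helper96.BG1537P6
import Cfsg.Agent.Lib.Helper86.BG1537P7
import Cfsg.Agent.Lib.Helper97.BG144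
import Cfsg.Agent.Lib.Helper55.BGFit
import Cfsg.Agent.Lib.Helper55.BGDecomp2

/-!
# S1537: assembly (helper11).  Dade hypothesis for M-invariant subsets of B-G's `A₀(M)#`.

Pieces (lemma server BG1537): (P1) helper90, (P2a,b,c) + (P6) helper96, (P3) + (P4) helper25,
(P5) + (P7) helper86.
-/

set_option autoImplicit false
set_option linter.unusedSectionVars false
set_option linter.unusedVariables false
set_option linter.style.haveILetI false

namespace Cfsg.Agent.Helper11.BG1537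

open Subgroup Cfsg
open Cfsg.Agent.Helper90.BG1537 (centralizer_le_of_not_mem)
open Cfsg.Agent.Helper96.BG1537 (fusion_sigmaCore mem_of_TI ti_sets_facts typeP_elt_mem)
open Cfsg.Agent.Helper25.BG1537 (coprime_support commutator_eq_sigmaCore_of_typeIII_IV)
open Cfsg.Agent.Helper86.BG1537 (K_eq_bot_of_typeI mem_sigmaA0_of_mem_commutator)

variable {G : Type*} [Group G] [Finite G]

/-! ### basic facts -/

theorem sigmaHat_le {M : Subgroup G} {a : G} (ha : a ∈ sigmaHat M) : a ∈ M := ha.1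

theorem sigmaA0_le {M K : Subgroup G} {a : G} (ha : a ∈ sigmaA0 M K) : a ∈ M := ha.1.1

theorem sigmaCore_le' (M : Subgroup G) : sigmaCore M ≤ M := by
  unfold sigmaCore
  exact Subgroup.map_subtype_le _

theorem le_normalizer_sigmaCore (M : Subgroup G) : M ≤ normalizer ((sigmaCore M : Subgroup G) : Set G) := by
  unfold sigmaCore
  exact Cfsg.Agent.Helper55.BGB.le_normalizer_map_subtype M (piCore (sigma M) ↥M)

theorem le_normalizer_fittingHallOf (M : Subgroup G) :
    M ≤ normalizer ((fittingHallOf M : Subgroup G) : Set G) := by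
  unfold fittingHallOf
  exact Cfsg.Agent.Helper55.BGB.le_normalizer_map_subtype M (fittingHall ↥M)

theorem conj_mem_of_le_normalizer {H N : Subgroup G} (h : H ≤ normalizer (N : Set G)) {m x : G}
    (hm : m ∈ H) (hx : x ∈ N) : m * x * m⁻¹ ∈ N :=
  (mem_normalizer_iff.mp (h hm) x).mp hx

/-- `sigmaHat M` is `M`-invariant. -/
theorem sigmaHat_conj {M : Subgroup G} {m a : G} (hm : m ∈ M) (ha : a ∈ sigmaHat M) :
    m * a * m⁻¹ ∈ sigmaHat M := by
  obtain ⟨haM, y, hy, hy1, hay⟩ := ha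
  refine ⟨M.mul_mem (M.mul_mem hm haM) (M.inv_mem hm), m * y * m⁻¹,
    conj_mem_of_le_normalizer (le_normalizer_sigmaCore M) hm hy, ?_, ?_⟩
  · intro h
    apply hy1
    have : y = m⁻¹ * (m * y * m⁻¹) * m := by group
    rw [this, h]; group
  · calc m * a * m⁻¹ * (m * y * m⁻¹) = m * (a * y) * m⁻¹ := by group
      _ = m * (y * a) * m⁻¹ := by rw [hay]
      _ = m * y * m⁻¹ * (m * a * m⁻¹) := by group

/-- `sigmaA0 M K` is `M`-invariant. -/
theorem sigmaA0_conj {M K : Subgroup G} {m a : G} (hm : m ∈ M) (ha : a ∈ sigmaA0 M K) :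
    m * a * m⁻¹ ∈ sigmaA0 M K := by
  refine ⟨sigmaHat_conj hm ha.1, ?_⟩
  rintro ⟨k, hk, hk1, m', hm', h⟩
  apply ha.2
  refine ⟨k, hk, hk1, m⁻¹ * m', M.mul_mem (M.inv_mem hm) hm', ?_⟩
  have : a = m⁻¹ * (m * a * m⁻¹) * m := by group
  rw [this, h]; group

theorem mem_sigmaHat_of_mem_sigmaCore {M : Subgroup G} {x : G} (hx : x ∈ sigmaCore M) (hx1 : x ≠ 1) :
    x ∈ sigmaHat M :=
  ⟨sigmaCore_le' M hx, x, hx, hx1, rfl⟩

theorem orderOf_conj' (g a : G) : orderOf (g * a * g⁻¹) = orderOf a := by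
  have : g * a * g⁻¹ = MulAut.conj g a := by simp [MulAut.conj_apply]
  rw [this]
  exact orderOf_injective (MulAut.conj g).toMonoidHom (MulAut.conj g).injective a

/-- primes of the order of an element of `M_σ` lie in `σ(M)`. -/
theorem prime_mem_sigma_of_mem_sigmaCore (rows : Rows G) {M : Subgroup G} (hM : IsCoatom M) {x : G}
    (hx : x ∈ sigmaCore M) : ∀ p : ℕ, p.Prime → p ∣ orderOf x → p ∈ sigma M := by
  intro p hp hpx
  have hH := (rows.r1350 M hM).1
  refine hH.2.1 p hp (hpx.trans ?_)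
  have : orderOf (⟨x, hx⟩ : ↥(sigmaCore M)) = orderOf x := by
    rw [← Subgroup.orderOf_coe]
  rw [← this]
  exact orderOf_dvd_natCard _

/-- membership in `M_σ` is invariant under `G`-conjugation inside `M`. -/
theorem mem_sigmaCore_of_conj (rows : Rows G) {M : Subgroup G} (hM : IsCoatom M) {a g : G}
    (ha : a ∈ sigmaCore M) (hg : g * a * g⁻¹ ∈ M) : g * a * g⁻¹ ∈ sigmaCore M := by
  refine Cfsg.Agent.Helper97.BG144.mem_sigmaCore_of_pi (rows.r1350 M hM).1 hg ?_
  intro p hp hpx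
  rw [orderOf_conj'] at hpx
  exact prime_mem_sigma_of_mem_sigmaCore rows hM ha p hp hpx

/-- For `K = ⊥` one has `M = U ⊔ M_σ`. -/
theorem le_sup_of_K_eq_bot {M K U : Subgroup G} (hKU : IsSigmaDecomposition M K U) (hK : K = ⊥) :
    M ≤ U ⊔ sigmaCore M := by
  intro m hm
  obtain ⟨u, hu, b, hb, rfl⟩ := hKU.compl.2.2.2 m hm
  rw [hK, bot_sup_eq] at hb
  exact Subgroup.mul_mem _ (mem_sup_left hu) (mem_sup_right hb)

/-! ### fusion -/

theorem fusion (hG : IsMinSimpleOddOrder G) (rows : Rows G)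
    {M K U : Subgroup G} (hM : IsCoatom M) (hKU : IsSigmaDecomposition M K U)
    {a : G} (ha : a ∈ sigmaA0 M K) (ha1 : a ≠ 1) (g : G) (hg : g * a * g⁻¹ ∈ sigmaA0 M K) :
    ∃ m ∈ M, m * a * m⁻¹ = g * a * g⁻¹ := by
  by_cases haσ : a ∈ sigmaCore M
  · exact fusion_sigmaCore hG rows hM haσ ha1 g (sigmaA0_le hg)
  · -- `b := g a g⁻¹ ∉ M_σ`
    have hbσ : g * a * g⁻¹ ∉ sigmaCore M := by
      intro hb
      apply haσ
      have h1 := mem_sigmaCore_of_conj rows hM (g := g⁻¹) hb (by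
        have : g⁻¹ * (g * a * g⁻¹) * g⁻¹⁻¹ = a := by group
        rw [this]; exact sigmaA0_le ha)
      have : g⁻¹ * (g * a * g⁻¹) * g⁻¹⁻¹ = a := by group
      rwa [this] at h1
    have hb1 : g * a * g⁻¹ ≠ 1 := by
      intro h
      apply ha1
      have : a = g⁻¹ * (g * a * g⁻¹) * g := by group
      rw [this, h]; group
    obtain ⟨hinv1, hinv2, hsep⟩ := ti_sets_facts hG rows hM hKU
    by_cases haA : a ∈ sigmaA M U
    · by_cases hbA : g * a * g⁻¹ ∈ sigmaA M U
      · refine ⟨g, ?_, rfl⟩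
        refine mem_of_TI hG hM (X := sigmaA M U \ (sigmaCore M : Set G)) ?_ hinv1
          (rows.r1362 M hM K U hKU) ⟨haA, haσ⟩ ha1 g ⟨hbA, hbσ⟩
        intro x hx
        exact sigmaHat_le hx.1.1
      · exfalso
        exact hsep a haA (g * a * g⁻¹) ⟨hg, hbA⟩ (orderOf_conj' g a).symm
    · by_cases hbA : g * a * g⁻¹ ∈ sigmaA M U
      · exfalso
        exact hsep (g * a * g⁻¹) hbA a ⟨ha, haA⟩ (orderOf_conj' g a)
      · have hK1 : K ≠ ⊥ := by
          intro hK
          apply haA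
          exact ⟨ha.1, le_sup_of_K_eq_bot hKU hK (sigmaA0_le ha)⟩
        refine ⟨g, ?_, rfl⟩
        refine mem_of_TI hG hM (X := sigmaA0 M K \ sigmaA M U) ?_ hinv2
          (rows.r1371 M hM K U hKU hK1).2 ⟨ha, haA⟩ ha1 g ⟨hg, hbA⟩
        intro x hx
        exact sigmaA0_le hx.1

/-! ### the function `supportR` -/

theorem supportR_le_centralizer (M : Subgroup G) (a : G) :
    supportR M a ≤ centralizer ({a} : Set G) := by
  unfold supportR
  split_ifs with h
  · exact inf_le_right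
  · exact bot_le

theorem supportR_eq_bot {M : Subgroup G} {a : G} (h : centralizer ({a} : Set G) ≤ M) :
    supportR M a = ⊥ := by
  unfold supportR
  rw [dif_neg]
  intro h'
  exact h'.1 h

theorem supportR_eq {M N : Subgroup G} {a : G} (h : ¬ centralizer ({a} : Set G) ≤ M)
    (hN : IsCoatom N) (haN : centralizer ({a} : Set G) ≤ N)
    (huniq : ∀ L : Subgroup G, IsCoatom L → centralizer ({a} : Set G) ≤ L → L = N) :
    supportR M a = fittingHallOf N ⊓ centralizer ({a} : Set G) := by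
  have hex : ∃! L : Subgroup G, IsCoatom L ∧ centralizer ({a} : Set G) ≤ L :=
    ⟨N, ⟨hN, haN⟩, fun L hL => huniq L hL.1 hL.2⟩
  have hcond : ¬ centralizer ({a} : Set G) ≤ M ∧
      ∃! L : Subgroup G, IsCoatom L ∧ centralizer ({a} : Set G) ≤ L := ⟨h, hex⟩
  unfold supportR
  rw [dif_pos hcond]
  have hspec := Classical.choose_spec hcond.2.exists
  rw [huniq _ hspec.1 hspec.2]

/-- In every case `supportR M a` is normalized by `C_G(a)`. -/
theorem supportR_conj_mem (M : Subgroup G) (a : G) {c u : G} (hc : c ∈ centralizer ({a} : Set G))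
    (hu : u ∈ supportR M a) : c * u * c⁻¹ ∈ supportR M a := by
  unfold supportR at hu ⊢
  split_ifs at hu ⊢ with h
  · have hspec := Classical.choose_spec h.2.exists
    refine Subgroup.mem_inf.mpr ⟨?_, ?_⟩
    · exact conj_mem_of_le_normalizer (le_normalizer_fittingHallOf _) (hspec.2 hc)
        (Subgroup.mem_inf.mp hu).1
    · exact Subgroup.mul_mem _ (Subgroup.mul_mem _ hc (Subgroup.mem_inf.mp hu).2)
        (Subgroup.inv_mem _ hc)
  · rw [Subgroup.mem_bot] at hu ⊢
    rw [hu]; group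

/-! ### the Dade hypothesis for `M`-invariant subsets of `A₀(M)#` -/

theorem dade_of_subset (hG : IsMinSimpleOddOrder G) (rows : Rows G)
    {M K U : Subgroup G} (hM : IsCoatom M) (hKU : IsSigmaDecomposition M K U)
    {A : Set G} (hAB : A ⊆ sigmaA0 M K \ {1})
    (hinv : ∀ m ∈ M, ∀ a ∈ A, m * a * m⁻¹ ∈ A) :
    DadeHypothesis A M (supportR M) := by
  -- the structure of `C_G(a)` for `a ∈ A` with `C_G(a) ≰ M`
  have key : ∀ a ∈ A, ¬ centralizer ({a} : Set G) ≤ M →
      ∃ N : Subgroup G, IsCoatom N ∧ centralizer ({a} : Set G) ≤ N ∧ a ∈ sigmaCore M ∧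
        supportR M a = sigmaCore N ⊓ centralizer ({a} : Set G) ∧
        IsComplIn (M ⊓ centralizer ({a} : Set G)) (sigmaCore N ⊓ centralizer ({a} : Set G))
          (centralizer ({a} : Set G)) := by
    intro a ha hna
    have ha0 := (hAB ha).1
    have ha1 : a ≠ 1 := (hAB ha).2
    have haσ : a ∈ sigmaCore M := by
      by_contra h
      exact hna (centralizer_le_of_not_mem hG rows hM hKU ha0 ha1 h)
    obtain ⟨N, ⟨hN, haN⟩, huniq, hNF, -, hcompl, -, -⟩ := rows.r1375 M hM a haσ ha1 hna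
    refine ⟨N, hN, haN, haσ, ?_, hcompl⟩
    rw [supportR_eq hna hN haN huniq, hNF]
  refine ⟨fun h => (hAB h).2 rfl, fun a ha => sigmaA0_le (hAB ha).1, hinv, ?_,
    fun a _ => supportR_le_centralizer M a, fun a _ c hc u hu => supportR_conj_mem M a hc hu,
    ?_, ?_, ?_⟩
  · intro a ha g hg
    exact fusion hG rows hM hKU (hAB ha).1 (hAB ha).2 g (hAB hg).1
  · intro a ha
    by_cases hna : centralizer ({a} : Set G) ≤ M
    · rw [supportR_eq_bot hna, bot_inf_eq]
    · obtain ⟨N, hN, haN, haσ, hR, hcompl⟩ := key a ha hna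
      rw [hR, inf_comm]
      exact hcompl.2.2.1
  · intro a ha
    by_cases hna : centralizer ({a} : Set G) ≤ M
    · rw [supportR_eq_bot hna, bot_sup_eq]
      exact inf_eq_right.mpr hna
    · obtain ⟨N, hN, haN, haσ, hR, hcompl⟩ := key a ha hna
      rw [hR]
      apply le_antisymm
      · exact sup_le inf_le_right inf_le_right
      · intro c hc
        obtain ⟨x, hx, y, hy, rfl⟩ := hcompl.2.2.2 c hc
        exact Subgroup.mul_mem _ (mem_sup_right hx) (mem_sup_left hy)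
  · intro a ha b hb
    by_cases hna : centralizer ({a} : Set G) ≤ M
    · rw [supportR_eq_bot hna]
      simp
    · obtain ⟨N, hN, haN, haσ, hR, hcompl⟩ := key a ha hna
      rw [hR]
      exact coprime_support hG rows hM hKU haσ (hAB ha).2 hna hN haN (hAB hb).1 (hAB hb).2

/-! ### the normalizer -/

theorem normalizer_eq_of_subset (hG : IsMinSimpleOddOrder G)
    {M : Subgroup G} (hM : IsCoatom M) {A : Set G} (hAM : A ⊆ (M : Set G)) (h1 : (1 : G) ∉ A)
    (hne : A.Nonempty) (hinv : ∀ m ∈ M, ∀ a ∈ A, m * a * m⁻¹ ∈ A) :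
    normalizer A = M := by
  haveI : IsSimpleGroup G := hG.2.1
  have hle : M ≤ normalizer A := by
    intro m hm
    rw [mem_set_normalizer_iff]
    intro x
    refine ⟨fun hx => hinv m hm x hx, fun hx => ?_⟩
    have := hinv m⁻¹ (M.inv_mem hm) _ hx
    have h2 : m⁻¹ * (m * x * m⁻¹) * m⁻¹⁻¹ = x := by group
    rwa [h2] at this
  have hnt : normalizer A ≠ ⊤ := by
    intro htop
    have hnorm : (Subgroup.closure A).Normal := by
      refine ⟨fun x hx g => ?_⟩
      have hg : g ∈ normalizer A := by rw [htop]; trivial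
      have hmap : (Subgroup.closure A).map (MulAut.conj g).toMonoidHom ≤ Subgroup.closure A := by
        rw [MonoidHom.map_closure, Subgroup.closure_le]
        rintro _ ⟨y, hy, rfl⟩
        apply Subgroup.subset_closure
        have := (mem_set_normalizer_iff.mp hg y).mp hy
        simpa [MulAut.conj_apply] using this
      have : (MulAut.conj g).toMonoidHom x ∈ Subgroup.closure A :=
        hmap (Subgroup.mem_map_of_mem _ hx)
      simpa [MulAut.conj_apply] using this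
    have hcl : Subgroup.closure A ≤ M := (Subgroup.closure_le M).mpr hAM
    rcases hnorm.eq_bot_or_eq_top with h | h
    · obtain ⟨a, ha⟩ := hne
      have : a ∈ Subgroup.closure A := Subgroup.subset_closure ha
      rw [h, Subgroup.mem_bot] at this
      exact h1 (this ▸ ha)
    · rw [h] at hcl
      exact hM.1 (top_le_iff.mp hcl)
  by_contra hneq
  exact hnt (hM.2 _ (lt_of_le_of_ne hle (Ne.symm hneq)))

/-! ### the sets `typeA1`, `typeA`, `typeA0` -/

theorem typeCore_facts (hG : IsMinSimpleOddOrder G) (rows : Rows G)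
    {M K U : Subgroup G} (hM : IsCoatom M) (hKU : IsSigmaDecomposition M K U) :
    typeCore M ≠ ⊥ ∧ typeCore M ≤ sigmaCore M ∧ typeCore M ≤ ⁅M, M⁆ ∧
      M ≤ normalizer ((typeCore M : Subgroup G) : Set G) := by
  obtain ⟨hF1, hFσ, hσD, -, -⟩ := rows.r1355 M hM
  unfold typeCore
  split_ifs with h
  · have heq := commutator_eq_sigmaCore_of_typeIII_IV hG rows hM hKU h
    refine ⟨?_, heq.le, le_rfl, Cfsg.Agent.Helper55.BGB.le_normalizer_commutator M⟩
    rw [heq]
    intro hbot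
    apply hF1
    rw [eq_bot_iff, ← hbot]
    exact hFσ
  · exact ⟨hF1, hFσ, hFσ.trans hσD, le_normalizer_fittingHallOf M⟩

theorem typeA1_subset (hG : IsMinSimpleOddOrder G) (rows : Rows G)
    {M K U : Subgroup G} (hM : IsCoatom M) (hKU : IsSigmaDecomposition M K U) :
    typeA1 M ⊆ sigmaA0 M K \ {1} := by
  obtain ⟨-, hTσ, hTD, -⟩ := typeCore_facts hG rows hM hKU
  rintro x ⟨hx, hx1⟩
  have hx1' : x ≠ 1 := hx1
  exact ⟨mem_sigmaA0_of_mem_commutator hG rows hM hKU (hTD hx)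
    (mem_sigmaHat_of_mem_sigmaCore (hTσ hx) hx1'), hx1⟩

theorem typeA_subset (hG : IsMinSimpleOddOrder G) (rows : Rows G)
    {M K U : Subgroup G} (hM : IsCoatom M) (hKU : IsSigmaDecomposition M K U) :
    typeA M ⊆ sigmaA0 M K \ {1} := by
  obtain ⟨-, hTσ, hTD, -⟩ := typeCore_facts hG rows hM hKU
  obtain ⟨-, hFσ, -, -, -⟩ := rows.r1355 M hM
  intro a ha
  unfold typeA at ha
  split_ifs at ha with hI
  · obtain ⟨haM, ha1, x, hx, hx1, hax⟩ := ha
    have hK : K = ⊥ := K_eq_bot_of_typeI hG rows hM hKU hI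
    refine ⟨⟨⟨haM, x, hFσ hx, hx1, hax⟩, ?_⟩, ha1⟩
    rintro ⟨k, hk, hk1, -⟩
    rw [hK, Subgroup.mem_bot] at hk
    exact hk1 hk
  · obtain ⟨haD, ha1, x, hx, hx1, hax⟩ := ha
    have haM : a ∈ M := Subgroup.commutator_le_self M haD
    exact ⟨mem_sigmaA0_of_mem_commutator hG rows hM hKU haD ⟨haM, x, hTσ hx, hx1, hax⟩, ha1⟩

theorem typeA0_subset (hG : IsMinSimpleOddOrder G) (rows : Rows G)
    {M K U : Subgroup G} (hM : IsCoatom M) (hKU : IsSigmaDecomposition M K U) :
    typeA0 M ⊆ sigmaA0 M K \ {1} := by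
  intro v hv
  rcases hv with hv | ⟨-, W₁, U', W₂, hP, m, hm, w, hw, hw1, hw2, rfl⟩
  · exact typeA_subset hG rows hM hKU hv
  · obtain ⟨h0, h1⟩ := typeP_elt_mem hG rows hM hKU hP hw hw1 hw2
    refine ⟨sigmaA0_conj hm h0, ?_⟩
    intro h
    apply h1
    have h' : m * w * m⁻¹ = 1 := h
    have : w = m⁻¹ * (m * w * m⁻¹) * m := by group
    rw [this, h']; group

theorem typeA1_inv (hG : IsMinSimpleOddOrder G) (rows : Rows G)
    {M K U : Subgroup G} (hM : IsCoatom M) (hKU : IsSigmaDecomposition M K U) :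
    ∀ m ∈ M, ∀ a ∈ typeA1 M, m * a * m⁻¹ ∈ typeA1 M := by
  obtain ⟨-, -, -, hTN⟩ := typeCore_facts hG rows hM hKU
  rintro m hm a ⟨ha, ha1⟩
  refine ⟨conj_mem_of_le_normalizer hTN hm ha, ?_⟩
  intro h
  apply ha1
  have h' : m * a * m⁻¹ = 1 := h
  have : a = m⁻¹ * (m * a * m⁻¹) * m := by group
  show a = 1
  rw [this, h']; group

theorem conj_comm_aux {m a x : G} (hax : a * x = x * a) :
    m * a * m⁻¹ * (m * x * m⁻¹) = m * x * m⁻¹ * (m * a * m⁻¹) := by
  calc m * a * m⁻¹ * (m * x * m⁻¹) = m * (a * x) * m⁻¹ := by group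
    _ = m * (x * a) * m⁻¹ := by rw [hax]
    _ = m * x * m⁻¹ * (m * a * m⁻¹) := by group

theorem conj_ne_one {m a : G} (ha1 : a ≠ 1) : m * a * m⁻¹ ≠ 1 := by
  intro h
  apply ha1
  have : a = m⁻¹ * (m * a * m⁻¹) * m := by group
  rw [this, h]; group

theorem typeA_inv (hG : IsMinSimpleOddOrder G) (rows : Rows G)
    {M K U : Subgroup G} (hM : IsCoatom M) (hKU : IsSigmaDecomposition M K U) :
    ∀ m ∈ M, ∀ a ∈ typeA M, m * a * m⁻¹ ∈ typeA M := by
  obtain ⟨-, -, -, hTN⟩ := typeCore_facts hG rows hM hKU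
  intro m hm a ha
  unfold typeA at ha ⊢
  split_ifs at ha ⊢ with hI
  · obtain ⟨haM, ha1, x, hx, hx1, hax⟩ := ha
    exact ⟨M.mul_mem (M.mul_mem hm haM) (M.inv_mem hm), conj_ne_one ha1, m * x * m⁻¹,
      conj_mem_of_le_normalizer (le_normalizer_fittingHallOf M) hm hx, conj_ne_one hx1,
      conj_comm_aux hax⟩
  · obtain ⟨haD, ha1, x, hx, hx1, hax⟩ := ha
    exact ⟨conj_mem_of_le_normalizer (Cfsg.Agent.Helper55.BGB.le_normalizer_commutator M) hm haD,
      conj_ne_one ha1, m * x * m⁻¹, conj_mem_of_le_normalizer hTN hm hx, conj_ne_one hx1,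
      conj_comm_aux hax⟩

theorem typeA0_inv (hG : IsMinSimpleOddOrder G) (rows : Rows G)
    {M K U : Subgroup G} (hM : IsCoatom M) (hKU : IsSigmaDecomposition M K U) :
    ∀ m ∈ M, ∀ a ∈ typeA0 M, m * a * m⁻¹ ∈ typeA0 M := by
  intro m hm a ha
  rcases ha with ha | ⟨hnI, W₁, U', W₂, hP, m', hm', w, hw, hw1, hw2, rfl⟩
  · exact Or.inl (typeA_inv hG rows hM hKU m hm a ha)
  · refine Or.inr ⟨hnI, W₁, U', W₂, hP, m * m', M.mul_mem hm hm', w, hw, hw1, hw2, ?_⟩
    group

theorem typeA1_nonempty (hG : IsMinSimpleOddOrder G) (rows : Rows G)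
    {M K U : Subgroup G} (hM : IsCoatom M) (hKU : IsSigmaDecomposition M K U) :
    (typeA1 M).Nonempty := by
  obtain ⟨hT1, -, -, -⟩ := typeCore_facts hG rows hM hKU
  obtain ⟨x, hx, hx1⟩ : ∃ x ∈ typeCore M, x ≠ 1 := by
    by_contra hcon
    push Not at hcon
    exact hT1 ((Subgroup.eq_bot_iff_forall _).2 hcon)
  exact ⟨x, hx, hx1⟩

theorem typeA_nonempty (hG : IsMinSimpleOddOrder G) (rows : Rows G)
    {M K U : Subgroup G} (hM : IsCoatom M) (hKU : IsSigmaDecomposition M K U) :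
    (typeA M).Nonempty := by
  obtain ⟨hT1, hTσ, hTD, -⟩ := typeCore_facts hG rows hM hKU
  obtain ⟨hF1, hFσ, -, -, -⟩ := rows.r1355 M hM
  unfold typeA
  split_ifs with hI
  · obtain ⟨x, hx, hx1⟩ : ∃ x ∈ fittingHallOf M, x ≠ 1 := by
      by_contra hcon
      push Not at hcon
      exact hF1 ((Subgroup.eq_bot_iff_forall _).2 hcon)
    exact ⟨x, sigmaCore_le' M (hFσ hx), hx1, x, hx, hx1, rfl⟩
  · obtain ⟨x, hx, hx1⟩ : ∃ x ∈ typeCore M, x ≠ 1 := by
      by_contra hcon
      push Not at hcon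
      exact hT1 ((Subgroup.eq_bot_iff_forall _).2 hcon)
    exact ⟨x, hTD hx, hx1, x, hx, hx1, rfl⟩

/-! ### the main theorem -/

theorem main (hG : IsMinSimpleOddOrder G) (rows : Rows G)
    {M K U : Subgroup G} (hM : IsCoatom M) (hKU : IsSigmaDecomposition M K U)
    (A : Set G) (hA : A = typeA1 M ∨ A = typeA M ∨ A = typeA0 M) :
    normalizer A = M ∧ DadeHypothesis A M (supportR M) := by
  have hall : A ⊆ sigmaA0 M K \ {1} ∧ (∀ m ∈ M, ∀ a ∈ A, m * a * m⁻¹ ∈ A) ∧ A.Nonempty := by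
    rcases hA with rfl | rfl | rfl
    · exact ⟨typeA1_subset hG rows hM hKU, typeA1_inv hG rows hM hKU,
        typeA1_nonempty hG rows hM hKU⟩
    · exact ⟨typeA_subset hG rows hM hKU, typeA_inv hG rows hM hKU,
        typeA_nonempty hG rows hM hKU⟩
    · refine ⟨typeA0_subset hG rows hM hKU, typeA0_inv hG rows hM hKU, ?_⟩
      obtain ⟨x, hx⟩ := typeA_nonempty hG rows hM hKU
      exact ⟨x, Or.inl hx⟩
  obtain ⟨hsub, hinv, hne⟩ := hall
  refine ⟨normalizer_eq_of_subset hG hM (fun a ha => sigmaA0_le (hsub ha).1)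
    (fun h => (hsub h).2 rfl) hne hinv, dade_of_subset hG rows hM hKU hsub hinv⟩

end Cfsg.Agent.Helper11.BG1537
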