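import Mathlib
import Cfsg.Prelude.Def_OddOrderLocal
import Cfsg.Agent.Lib.Helper95.BG15.FitSigma
import Cfsg.Agent.Lib.Helper23.FittingHall
import Cfsg.Agent.Lib.Helper35.BG159a

/-!
Piece (C) of helper35's lemma server "BG153" (for S1356 = B-G Corollary 15.3(b)):
`F(M) ≤ C_M(M_F) M_F` (pure group theory, no rows).
-/

set_option autoImplicit false
set_option linter.style.haveILetI false

namespace Cfsg.Agent.Helper11.BG153

open Subgroup Cfsg

variable {G : Type*} [Group G] [Finite G]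

theorem fittingOf_le_cent_sup (M : Subgroup G) :
    Cfsg.fittingOf M ≤ (M ⊓ centralizer (Cfsg.fittingHallOf M : Set G)) ⊔ Cfsg.fittingHallOf M := by
  rw [Cfsg.Agent.Helper95.BG15.FitSigma.fittingOf_eq_iSup]
  refine iSup_le ?_
  rintro ⟨p, hp⟩
  haveI : Fact p.Prime := ⟨hp⟩
  have hPG := Cfsg.Agent.Helper95.BG15.FitSigma.Op_isPGroup M p
  have hco := Cfsg.Agent.Helper23.fittingHall_coprime ↥M
  have hcard := Cfsg.Agent.Helper23.card_fittingHallOf M
  by_cases hpd : p ∣ Nat.card ↥(Cfsg.fittingHallOf M)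
  · refine le_trans ?_ le_sup_right
    intro x hx
    have hxM : x ∈ M := Cfsg.Agent.Helper95.BG15.FitSigma.Op_le M p hx
    obtain ⟨k, hk⟩ := hPG ⟨x, hx⟩
    have hk' : x ^ (p ^ k) = 1 := by
      have := congrArg Subtype.val hk
      simpa using this
    have h1 : x ^ (p ^ k) ∈ Cfsg.fittingHallOf M := by
      rw [hk']; exact Subgroup.one_mem _
    have h2 := Cfsg.Agent.Helper23.pow_index_mem_fittingHallOf M hxM
    have hcop : (p ^ k).Coprime (Cfsg.fittingHall ↥M).index := by
      apply Nat.Coprime.pow_left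
      rw [hcard] at hpd
      exact Nat.Coprime.coprime_dvd_left hpd hco
    have := Cfsg.Agent.Helper23.mem_sup_of_pow_mem_of_coprime _ _ hcop h1 h2
    simpa using this
  · refine le_trans ?_ le_sup_left
    have hMF : Cfsg.fittingHallOf M ≤ M := Cfsg.Agent.Helper23.fittingHallOf_le M
    have hOpM : Cfsg.Agent.Helper95.BG15.FitSigma.Op M p ≤ M :=
      Cfsg.Agent.Helper95.BG15.FitSigma.Op_le M p
    have hN1 : M ≤ normalizer ((Cfsg.Agent.Helper95.BG15.FitSigma.Op M p : Subgroup G) : Set G) :=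
      Cfsg.Agent.Helper95.BG15.FitSigma.Op_norm M p
    have hN2 : M ≤ normalizer ((Cfsg.fittingHallOf M : Subgroup G) : Set G) := by
      unfold Cfsg.fittingHallOf
      exact Cfsg.Agent.Helper55.BGB.le_normalizer_map_subtype M (Cfsg.fittingHall ↥M)
    have hd : Cfsg.Agent.Helper95.BG15.FitSigma.Op M p ⊓ Cfsg.fittingHallOf M = ⊥ := by
      have hPG' : IsPGroup p ↥(Cfsg.Agent.Helper95.BG15.FitSigma.Op M p ⊓ Cfsg.fittingHallOf M) :=
        hPG.to_le inf_le_left
      obtain ⟨n, hn⟩ := IsPGroup.iff_card.mp hPG'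
      have hdvd : Nat.card ↥(Cfsg.Agent.Helper95.BG15.FitSigma.Op M p ⊓ Cfsg.fittingHallOf M) ∣
          Nat.card ↥(Cfsg.fittingHallOf M) := Subgroup.card_dvd_of_le inf_le_right
      rcases Nat.eq_zero_or_pos n with h0 | hpos
      · rw [h0, pow_zero] at hn
        exact Subgroup.card_eq_one.mp hn
      · exfalso
        apply hpd
        rw [hn] at hdvd
        exact (dvd_pow_self p (Nat.pos_iff_ne_zero.mp hpos)).trans hdvd
    intro x hx
    refine Subgroup.mem_inf.mpr ⟨hOpM hx, ?_⟩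
    rw [Subgroup.mem_centralizer_iff]
    intro h hh
    exact (Cfsg.Agent.Helper35.BG159.commute_of_normalize_disjoint
      (hMF.trans hN1) (hOpM.trans hN2) hd hx hh).symm

end Cfsg.Agent.Helper11.BG153
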