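import Mathlib
import Cfsg.Prelude.Def_Local
import Cfsg.Agent.Lib.Helper63.PLen
import Cfsg.Agent.Lib.Helper20.BG106A
import Cfsg.Agent.Lib.Helper48.BG36Conf

/-! BG 3.6 main induction, lemma (C): reduction to `H` normal in the ambient group. -/

set_option autoImplicit false
set_option linter.style.haveILetI false

universe u

namespace Cfsg.Agent.Helper11.BG36

open Subgroup Cfsg Cfsg.Agent.Helper48.BG36

/-- (C) reduction to `H` normal in the ambient group -/
theorem normalize {p n : ℕ} [Fact p.Prime]
    (hstep : ∀ (G : Type u) [Group G] [Finite G] [Group.IsSolvable G], Odd (Nat.card G) →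
      ∀ (H R : Subgroup G) (a : G) (r : ℕ), H.Normal → Conf H R a r →
        Nat.card H * Nat.card R ≤ n → PLengthLE p 1 ↥⁅H, R⁆) : P2.{u} p n := by
  intro G _ _ _ hodd H R a r h hn
  set L : Subgroup G := H ⊔ R with hL
  have hHL : H ≤ L := le_sup_left
  have hRL : R ≤ L := le_sup_right
  have hLN : L ≤ normalizer (H : Set G) := sup_le le_normalizer h.norm
  have hoddL : Odd (Nat.card L) := Odd.of_dvd_nat hodd (Subgroup.card_subgroup_dvd_card L)
  have hnorm : (H.subgroupOf L).Normal := (Subgroup.normal_subgroupOf_iff_le_normalizer hHL).2 hLN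
  have hcH : Nat.card (H.subgroupOf L) = Nat.card H :=
    Nat.card_congr (Subgroup.subgroupOfEquivOfLe hHL).toEquiv
  have hcR : Nat.card (R.subgroupOf L) = Nat.card R :=
    Nat.card_congr (Subgroup.subgroupOfEquivOfLe hRL).toEquiv
  have hconf : Conf (H.subgroupOf L) (R.subgroupOf L) (⟨a, hRL h.mem⟩ : ↥L) r :=
    { norm := by
        rw [Subgroup.normalizer_eq_top]; exact le_top
      cop := by rw [hcH, hcR]; exact h.cop
      mem := by rw [Subgroup.mem_subgroupOf]; exact h.mem
      prime := h.prime
      pow := by
        apply Subtype.ext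
        simp [h.pow]
      ne := by
        intro hc
        apply h.ne
        have := congrArg Subtype.val hc
        simpa using this
      cyc := by
        intro q hq T hT hTq hTa
        have hT' : T.map L.subtype ≤ H := by
          rintro _ ⟨t, ht, rfl⟩
          exact Subgroup.mem_subgroupOf.1 (hT ht)
        have hcyc : IsCyclic (T.map L.subtype) := by
          apply h.cyc q hq (T.map L.subtype) hT' (hTq.map L.subtype)
          rintro _ ⟨t, ht, rfl⟩
          have := congrArg Subtype.val (hTa t ht)
          simpa using this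
        have e : ↥T ≃* ↥(T.map L.subtype) := Subgroup.equivMapOfInjective T L.subtype
          L.subtype_injective
        exact isCyclic_of_surjective e.symm e.symm.surjective }
  have hpl : PLengthLE p 1 ↥⁅H.subgroupOf L, R.subgroupOf L⁆ :=
    hstep ↥L hoddL (H.subgroupOf L) (R.subgroupOf L) ⟨a, hRL h.mem⟩ r hnorm hconf
      (by rw [hcH, hcR]; exact hn)
  have hmap : (⁅H.subgroupOf L, R.subgroupOf L⁆).map L.subtype = ⁅H, R⁆ := by
    rw [Subgroup.map_commutator, Subgroup.map_subgroupOf_eq_of_le hHL,
      Subgroup.map_subgroupOf_eq_of_le hRL]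
  let e : ↥⁅H.subgroupOf L, R.subgroupOf L⁆ ≃* ↥⁅H, R⁆ :=
    (Subgroup.equivMapOfInjective _ L.subtype L.subtype_injective).trans
      (MulEquiv.subgroupCongr hmap)
  exact Cfsg.Agent.Helper20.BG106.plen_of_injective e.symm.toMonoidHom e.symm.injective hpl

end Cfsg.Agent.Helper11.BG36
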