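import Mathlib
import Cfsg.Prelude.Def_Local
import Cfsg.Agent.Lib.Helper63.PLen
import Cfsg.Agent.Lib.Helper20.BG106A

/-! Configuration and inductive statement for BG Theorem 3.6 (verbatim from helper48's signatures). -/

set_option autoImplicit false

universe u

namespace Cfsg.Agent.Helper11.BG36

open Subgroup Cfsg

/-- configuration of BG 3.6 in subgroup form -/
structure Conf {G : Type*} [Group G] (H R : Subgroup G) (a : G) (r : ℕ) : Prop where
  norm : R ≤ Subgroup.normalizer (H : Set G)
  cop : (Nat.card H).Coprime (Nat.card R)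
  mem : a ∈ R
  prime : r.Prime
  pow : a ^ r = 1
  ne : a ≠ 1
  cyc : ∀ q : ℕ, q.Prime → ∀ T : Subgroup G, T ≤ H → IsPGroup q T →
    (∀ u ∈ T, a * u = u * a) → IsCyclic T

/-- the inductive statement -/
def P2 (p n : ℕ) : Prop :=
  ∀ (G : Type u) [Group G] [Finite G] [Group.IsSolvable G], Odd (Nat.card G) →
    ∀ (H R : Subgroup G) (a : G) (r : ℕ), Conf H R a r → Nat.card H * Nat.card R ≤ n →
      PLengthLE p 1 ↥⁅H, R⁆

end Cfsg.Agent.Helper11.BG36
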