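import Mathlib
import Cfsg.Prelude.Def_Local
import Cfsg.Agent.Lib.Helper63.PLen
import Cfsg.Agent.Lib.Helper20.BG106A
import Cfsg.Agent.Lib.Helper24.PLength
import Cfsg.Agent.Lib.Helper24.CharSub
import Cfsg.Agent.Lib.Helper55.Cores
import Cfsg.Agent.Lib.Helper48.BG36Conf

/-! BG 3.6 main induction, lemma (D): the inductive hypothesis pushed to `G ⧸ V`. -/

set_option autoImplicit false
set_option linter.style.haveILetI false

universe u

namespace Cfsg.Agent.Helper11.BG36

open Subgroup Cfsg Cfsg.Agent.Helper48.BG36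
open scoped commutatorElement

/-- a group of `p`-length one with trivial `O_{p'}` has a normal Sylow `p`-subgroup containing all
`p`-subgroups. -/
theorem normal_sylow_of_plen {K : Type*} [Group K] [Finite K] {p : ℕ} [Fact p.Prime]
    (hpl : PLengthLE p 1 K) (hO : pPrimeCore p K = ⊥) (S : Sylow p K) :
    (S : Subgroup K).Normal ∧ ∀ Q : Subgroup K, IsPGroup p Q → Q ≤ (S : Subgroup K) := by
  obtain ⟨-, hn, -, hall, -⟩ := Cfsg.Agent.Helper24.plength_one_structure p hpl S
  rw [hO, bot_sup_eq] at hn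
  refine ⟨hn, fun Q hQ => ?_⟩
  have := hall Q hQ
  rwa [hO, bot_sup_eq] at this

/-- `H` normalizes `⁅H, K⁆`. -/
theorem le_normalizer_commutator_left {G : Type*} [Group G] (H K : Subgroup G) :
    H ≤ normalizer ((⁅H, K⁆ : Subgroup G) : Set G) := by
  have key : ∀ x ∈ H, ∀ k ∈ ⁅H, K⁆, x * k * x⁻¹ ∈ ⁅H, K⁆ := by
    intro x hx
    have hle : ⁅H, K⁆ ≤ (⁅H, K⁆).comap (MulAut.conj x).toMonoidHom := by
      rw [Subgroup.commutator_le]
      intro y hy ρ hρ
      rw [Subgroup.mem_comap]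
      show x * ⁅y, ρ⁆ * x⁻¹ ∈ ⁅H, K⁆
      have : x * ⁅y, ρ⁆ * x⁻¹ = ⁅x * y, ρ⁆ * ⁅x, ρ⁆⁻¹ := by
        simp only [commutatorElement_def]; group
      rw [this]
      exact mul_mem (commutator_mem_commutator (H.mul_mem hx hy) hρ)
        (inv_mem (commutator_mem_commutator hx hρ))
    intro k hk
    exact hle hk
  intro x hx
  rw [mem_normalizer_iff]
  intro k
  constructor
  · exact key x hx k
  · intro hk
    have := key x⁻¹ (H.inv_mem hx) _ hk
    simpa [mul_assoc] using this

/-- (D) the inductive hypothesis pushed to the quotient `G ⧸ V`, `V` a normal `p`-subgroup of `G`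
inside `H` containing its centralizer in `H`. -/
theorem ihc {G : Type u} [Group G] [Finite G] [Group.IsSolvable G] (hodd : Odd (Nat.card G))
    {p n : ℕ} [Fact p.Prime] (IH : P2.{u} p n) {H R : Subgroup G} {a : G} {r : ℕ} [H.Normal]
    (h : Conf H R a r) (hn : Nat.card H * Nat.card R ≤ n + 1)
    (V : Subgroup G) [V.Normal] (hVH : V ≤ H) (hVp : IsPGroup p V)
    (hCV : ∀ u ∈ H, (∀ v ∈ V, u * v = v * u) → u ∈ V)
    (X R' : Subgroup (G ⧸ V)) (hX : X ≤ H.map (QuotientGroup.mk' V))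
    (hR' : R' ≤ R.map (QuotientGroup.mk' V)) (haR' : QuotientGroup.mk' V a ∈ R')
    (hinv : ∀ ρ ∈ R', ∀ u ∈ X, ρ * u * ρ⁻¹ ∈ X)
    (hne : X ≠ H.map (QuotientGroup.mk' V) ∨ R' ≠ R.map (QuotientGroup.mk' V))
    (P₁ : Subgroup (G ⧸ V)) (hP₁ : P₁ ≤ ⁅X, R'⁆) (hP₁p : IsPGroup p P₁) :
    ∃ N : Subgroup (G ⧸ V), N ≤ X ∧ IsPGroup p N ∧ (∀ u ∈ X, ∀ n ∈ N, u * n * u⁻¹ ∈ N) ∧
      P₁ ≤ N := by
  have hp : Fact p.Prime := inferInstance
  set π := QuotientGroup.mk' V with hπdef
  have hkerπ : ∀ x : G, π x = 1 ↔ x ∈ V := fun x => by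
    rw [hπdef, QuotientGroup.mk'_apply, QuotientGroup.eq_one_iff]
  set Xt := X.comap π ⊓ H with hXtdef
  set Rt := R'.comap π ⊓ R with hRtdef
  have hXtH : Xt ≤ H := inf_le_right
  have hRtR : Rt ≤ R := inf_le_right
  -- images
  have hmapX : Xt.map π = X := by
    apply le_antisymm
    · rintro _ ⟨x, hx, rfl⟩; exact hx.1
    · intro x hx
      obtain ⟨g, hg, rfl⟩ := hX hx
      exact ⟨g, ⟨hx, hg⟩, rfl⟩
  have hmapR : Rt.map π = R' := by
    apply le_antisymm
    · rintro _ ⟨x, hx, rfl⟩; exact hx.1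
    · intro x hx
      obtain ⟨g, hg, rfl⟩ := hR' hx
      exact ⟨g, ⟨hx, hg⟩, rfl⟩
  have hVXt : V ≤ Xt := by
    intro v hv
    refine ⟨?_, hVH hv⟩
    show π v ∈ X
    rw [(hkerπ v).2 hv]; exact X.one_mem
  -- `Rt` normalizes `Xt`
  have hnormt : ∀ ρ ∈ Rt, ∀ u ∈ Xt, ρ * u * ρ⁻¹ ∈ Xt := by
    intro ρ hρ u hu
    refine ⟨?_, ?_⟩
    · show π (ρ * u * ρ⁻¹) ∈ X
      rw [map_mul, map_mul, map_inv]
      exact hinv _ hρ.1 _ hu.1
    · exact (inferInstance : H.Normal).conj_mem u hu.2 ρ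
  have hRtN : Rt ≤ normalizer (Xt : Set G) := by
    intro ρ hρ
    rw [mem_normalizer_iff]
    intro u
    constructor
    · exact hnormt ρ hρ u
    · intro hu
      have := hnormt ρ⁻¹ (Rt.inv_mem hρ) _ hu
      simpa [mul_assoc] using this
  -- configuration
  have hconf : Conf Xt Rt a r :=
    { norm := hRtN
      cop := by
        have h1 : Nat.card Xt ∣ Nat.card H := Subgroup.card_dvd_of_le hXtH
        have h2 : Nat.card Rt ∣ Nat.card R := Subgroup.card_dvd_of_le hRtR
        exact Nat.Coprime.coprime_dvd_left h1 (Nat.Coprime.coprime_dvd_right h2 h.cop)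
      mem := ⟨haR', h.mem⟩
      prime := h.prime
      pow := h.pow
      ne := h.ne
      cyc := fun q hq T hT hTq hTa => h.cyc q hq T (hT.trans hXtH) hTq hTa }
  -- cardinalities
  have hcard : Nat.card Xt * Nat.card Rt ≤ n := by
    have h1 : Nat.card Xt ≤ Nat.card H := Subgroup.card_le_of_le hXtH
    have h2 : Nat.card Rt ≤ Nat.card R := Subgroup.card_le_of_le hRtR
    have hposX : 0 < Nat.card Xt := Nat.card_pos
    have hposR : 0 < Nat.card Rt := Nat.card_pos
    have hposH : 0 < Nat.card H := Nat.card_pos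
    have hposRR : 0 < Nat.card R := Nat.card_pos
    rcases hne with hne | hne
    · have hlt : Nat.card Xt < Nat.card H := by
        rcases lt_or_eq_of_le h1 with hlt | heq
        · exact hlt
        · exfalso
          apply hne
          have : Xt = H := Subgroup.eq_of_le_of_card_ge hXtH heq.ge
          rw [← hmapX, this]
      have : Nat.card Xt * Nat.card Rt < Nat.card H * Nat.card R :=
        Nat.mul_lt_mul_of_lt_of_le hlt h2 hposRR
      omega
    · have hlt : Nat.card Rt < Nat.card R := by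
        rcases lt_or_eq_of_le h2 with hlt | heq
        · exact hlt
        · exfalso
          apply hne
          have : Rt = R := Subgroup.eq_of_le_of_card_ge hRtR heq.ge
          rw [← hmapR, this]
      have : Nat.card Xt * Nat.card Rt < Nat.card H * Nat.card R :=
        Nat.mul_lt_mul_of_le_of_lt h1 hlt hposH
      omega
  have hpl : PLengthLE p 1 ↥⁅Xt, Rt⁆ := IH G hodd Xt Rt a r hconf hcard
  set K := ⁅Xt, Rt⁆ with hKdef
  have hKXt : K ≤ Xt := by
    rw [hKdef, Subgroup.commutator_le]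
    intro x hx ρ hρ
    rw [commutatorElement_def]
    have h1 : ρ * x⁻¹ * ρ⁻¹ ∈ Xt := hnormt ρ hρ _ (Xt.inv_mem hx)
    have : x * ρ * x⁻¹ * ρ⁻¹ = x * (ρ * x⁻¹ * ρ⁻¹) := by group
    rw [this]
    exact Xt.mul_mem hx h1
  -- `Xt` normalizes `K`
  have hXtK : Xt ≤ normalizer (K : Set G) := by
    rw [hKdef]; exact le_normalizer_commutator_left Xt Rt
  -- `O_{p'}(K)` is trivial
  set Osub : Subgroup G := (pPrimeCore p ↥K).map K.subtype with hOdef
  have hOK : Osub ≤ K := Subgroup.map_subtype_le _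
  have hOn : Xt ≤ normalizer (Osub : Set G) :=
    hXtK.trans (Cfsg.Agent.Helper24.normalizer_le_normalizer_map_subtype_of_characteristic K _)
  have hOcard : Nat.card Osub = Nat.card (pPrimeCore p ↥K) :=
    Subgroup.card_map_of_injective K.subtype_injective
  have hOcop : (Nat.card Osub).Coprime p := by
    rw [hOcard]; exact Cfsg.Agent.Helper55.pPrimeCore_coprime p
  have hOV : Osub ⊓ V = ⊥ := by
    apply disjoint_iff.1
    apply Subgroup.disjoint_of_coprime_natCard
    obtain ⟨k, hk⟩ := IsPGroup.iff_card.1 hVp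
    rw [hk]
    exact Nat.Coprime.pow_right k hOcop
  have hObot : Osub = ⊥ := by
    have hle : Osub ≤ V := by
      intro o ho
      apply hCV o (hXtH (hKXt (hOK ho)))
      intro v hv
      have h1 : o * v * o⁻¹ * v⁻¹ ∈ Osub ⊓ V := by
        constructor
        · have hvn := hOn (hVXt hv)
          have h2 : v * o⁻¹ * v⁻¹ ∈ Osub :=
            (mem_normalizer_iff.1 hvn o⁻¹).1 (Osub.inv_mem ho)
          have : o * v * o⁻¹ * v⁻¹ = o * (v * o⁻¹ * v⁻¹) := by group
          rw [this]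
          exact Osub.mul_mem ho h2
        · have h2 : o * v * o⁻¹ ∈ V := (inferInstance : V.Normal).conj_mem v hv o
          exact V.mul_mem h2 (V.inv_mem hv)
      rw [hOV, Subgroup.mem_bot] at h1
      have : o * v = (o * v * o⁻¹ * v⁻¹) * (v * o) := by group
      rw [this, h1, one_mul]
    rw [← hOV]
    exact le_antisymm (le_inf le_rfl hle) inf_le_left
  have hO : pPrimeCore p ↥K = ⊥ := by
    rw [hOdef] at hObot
    exact (Subgroup.map_eq_bot_iff_of_injective _ K.subtype_injective).1 hObot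
  -- the normal Sylow subgroup of `K`
  obtain ⟨S⟩ : Nonempty (Sylow p ↥K) := inferInstance
  obtain ⟨hSn, hSall⟩ := normal_sylow_of_plen hpl hO S
  have hSchar : (S : Subgroup ↥K).Characteristic := Sylow.characteristic_of_normal S hSn
  set Ssub : Subgroup G := (S : Subgroup ↥K).map K.subtype with hSdef
  have hSK : Ssub ≤ K := Subgroup.map_subtype_le _
  have hSnorm : Xt ≤ normalizer (Ssub : Set G) :=
    hXtK.trans (Cfsg.Agent.Helper24.normalizer_le_normalizer_map_subtype_of_characteristic K _)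
  have hSp : IsPGroup p Ssub := S.2.map K.subtype
  refine ⟨Ssub.map π, ?_, hSp.map π, ?_, ?_⟩
  · rw [← hmapX]
    exact Subgroup.map_mono (hSK.trans hKXt)
  · intro u hu m hm
    rw [← hmapX] at hu
    obtain ⟨x, hx, rfl⟩ := hu
    obtain ⟨s, hs, rfl⟩ := hm
    refine ⟨x * s * x⁻¹, (mem_normalizer_iff.1 (hSnorm hx) s).1 hs, ?_⟩
    rw [map_mul, map_mul, map_inv]
  · intro y hy
    have hy' : y ∈ K.map π := by
      have h1 := hP₁ hy
      rw [← hmapX, ← hmapR, ← Subgroup.map_commutator] at h1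
      exact h1
    obtain ⟨k, hk, rfl⟩ := hy'
    -- the preimage of `P₁` in `K` is a `p`-group
    have hker : IsPGroup p π.ker := by
      rw [hπdef, QuotientGroup.ker_mk']; exact hVp
    have hP₁t : IsPGroup p (P₁.comap π) := hP₁p.comap_of_ker_isPGroup π hker
    have hQ : IsPGroup p ((P₁.comap π).comap K.subtype) :=
      hP₁t.comap_of_injective K.subtype K.subtype_injective
    have hmem : (⟨k, hk⟩ : ↥K) ∈ (P₁.comap π).comap K.subtype := hy
    have := hSall _ hQ hmem
    exact ⟨k, ⟨⟨k, hk⟩, this, rfl⟩, rfl⟩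

end Cfsg.Agent.Helper11.BG36
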