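import Mathlib
import Cfsg.Agent.Lib.Helper48.BG36EndCtx
import Cfsg.Agent.Lib.Helper20.BG36MS
import Cfsg.Agent.Lib.Helper27.BG36W
import Cfsg.Agent.Lib.Helper48.FrobSum
import Cfsg.Agent.Lib.Helper48.WreathHHP
import Cfsg.Agent.Lib.Helper31.GTStable
import Cfsg.Agent.Lib.Helper52.Coprime
import Cfsg.Agent.Lib.Helper22.Radical

/-! BG 3.6 endgame, case (B): `R = ⟨a⟩`. -/

set_option autoImplicit false
set_option linter.style.haveILetI false

namespace Cfsg.Agent.Helper11.BG36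

open Subgroup Cfsg.Agent.Helper48.BG36
open scoped commutatorElement

section General

variable {Γ : Type*} [Group Γ]

theorem mem_normalizer_of_conj_mem [Finite Γ] (X : Subgroup Γ) (g : Γ)
    (h : ∀ u ∈ X, g * u * g⁻¹ ∈ X) : g ∈ normalizer (X : Set Γ) := by
  rw [Subgroup.mem_normalizer_iff_map_conj_eq]
  apply Subgroup.eq_of_le_of_card_ge
  · rintro _ ⟨u, hu, rfl⟩
    exact h u hu
  · rw [Subgroup.card_map_of_injective (MulAut.conj g).injective]

theorem zpowers_le_normalizer_of_conj_mem [Finite Γ] (X : Subgroup Γ) (g : Γ)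
    (h : ∀ u ∈ X, g * u * g⁻¹ ∈ X) : zpowers g ≤ normalizer (X : Set Γ) :=
  (Subgroup.zpowers_le).2 (mem_normalizer_of_conj_mem X g h)

theorem conj_mem_of_mem_normalizer {X : Subgroup Γ} {g u : Γ}
    (hg : g ∈ normalizer (X : Set Γ)) (hu : u ∈ X) : g * u * g⁻¹ ∈ X :=
  (mem_normalizer_iff.1 hg u).1 hu

/-- a `p`-group and a group of order prime to `p` meet trivially -/
theorem inf_eq_bot_of_pgroup_coprime [Finite Γ] {p : ℕ} [Fact p.Prime] {P Q : Subgroup Γ}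
    (hP : IsPGroup p P) (hQ : (Nat.card Q).Coprime p) : Q ⊓ P = ⊥ := by
  apply disjoint_iff.1
  apply Subgroup.disjoint_of_coprime_natCard
  obtain ⟨k, hk⟩ := IsPGroup.iff_card.1 hP
  rw [hk]
  exact Nat.Coprime.pow_right k hQ

/-- if `g` commutes with every element of `X` then so does every power of `g` -/
theorem zpowers_le_centralizer {X : Subgroup Γ} {g : Γ} (h : ∀ u ∈ X, g * u = u * g) :
    zpowers g ≤ centralizer (X : Set Γ) := by
  rw [Subgroup.zpowers_le]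
  intro u hu
  exact (h u hu).symm

end General

set_option linter.unusedSectionVars false

section Key

variable {Γ : Type*} [Group Γ] [Finite Γ] [Group.IsSolvable Γ]
  {p : ℕ} [Fact p.Prime] {W : Type*} [AddCommGroup W] [Module (ZMod p) W] [Finite W]

/-- application of `ihc` to `X = Q₀ ⊔ P₀`. -/
theorem key (φ : Γ →* Module.End (ZMod p) W) (L R : Subgroup Γ)
    [L.Normal] (a : Γ) {r : ℕ} (h : EndCtx φ L R a r)
    (hRa : R = Subgroup.zpowers a)
    (Q P : Subgroup Γ) (hQL : Q ≤ L) (hQp : (Nat.card Q).Coprime p)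
    (hPL : P ≤ L) (hPp : IsPGroup p P)
    (Q₀ P₀ : Subgroup Γ) (hQ₀ : Q₀ ≤ Q) (hP₀ : P₀ ≤ P)
    (hPQ : ∀ x ∈ P₀, ∀ u ∈ Q₀, x * u * x⁻¹ ∈ Q₀)
    (haQ : ∀ u ∈ Q₀, a * u * a⁻¹ ∈ Q₀) (haP : ∀ x ∈ P₀, a * x * a⁻¹ ∈ P₀)
    (hne : Q₀ ≠ Q ∨ P₀ ≠ P) :
    ∀ x ∈ ⁅P₀, R⁆, ∀ u ∈ Q₀, x * u = u * x := by
  have hQP : Q ⊓ P = ⊥ := inf_eq_bot_of_pgroup_coprime hPp hQp
  have hP₀N : P₀ ≤ normalizer (Q₀ : Set Γ) := fun x hx =>
    mem_normalizer_of_conj_mem Q₀ x (hPQ x hx)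
  set X := Q₀ ⊔ P₀ with hXdef
  have hXL : X ≤ L := sup_le (hQ₀.trans hQL) (hP₀.trans hPL)
  have hXN : X ≤ normalizer (Q₀ : Set Γ) := sup_le le_normalizer hP₀N
  -- `R` normalizes `X`
  have haX : ∀ u ∈ X, a * u * a⁻¹ ∈ X := by
    intro u hu
    have h1 : X.map (MulAut.conj a).toMonoidHom ≤ X := by
      rw [hXdef, Subgroup.map_sup]
      apply sup_le_sup
      · rintro _ ⟨u, hu, rfl⟩; exact haQ u hu
      · rintro _ ⟨u, hu, rfl⟩; exact haP u hu
    exact h1 ⟨u, hu, rfl⟩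
  have hRX : ∀ ρ ∈ R, ∀ u ∈ X, ρ * u * ρ⁻¹ ∈ X := by
    intro ρ hρ u hu
    rw [hRa] at hρ
    exact conj_mem_of_mem_normalizer (zpowers_le_normalizer_of_conj_mem X a haX hρ) hu
  have hRP₀ : R ≤ normalizer (P₀ : Set Γ) := by
    rw [hRa]; exact zpowers_le_normalizer_of_conj_mem P₀ a haP
  -- `X ≠ L`
  have hmemX : ∀ u ∈ X, ∃ q ∈ Q₀, ∃ x ∈ P₀, u = q * x := by
    intro u hu
    have h1 : (u : Γ) ∈ ((Q₀ ⊔ P₀ : Subgroup Γ) : Set Γ) := hu
    rw [Subgroup.coe_mul_of_right_le_normalizer_left Q₀ P₀ hP₀N] at h1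
    obtain ⟨q, hq, x, hx, rfl⟩ := Set.mem_mul.1 h1
    exact ⟨q, hq, x, hx, rfl⟩
  have hXne : X ≠ L := by
    intro hXL'
    rcases hne with hne | hne
    · apply hne
      apply le_antisymm hQ₀
      intro u hu
      obtain ⟨q, hq, x, hx, rfl⟩ := hmemX u (hXL' ▸ hQL hu)
      have hx1 : x ∈ Q ⊓ P := ⟨by
        have : x = q⁻¹ * (q * x) := by group
        rw [this]; exact Q.mul_mem (Q.inv_mem (hQ₀ hq)) hu, hP₀ hx⟩
      rw [hQP, Subgroup.mem_bot] at hx1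
      rw [hx1, mul_one]; exact hq
    · apply hne
      apply le_antisymm hP₀
      intro y hy
      obtain ⟨q, hq, x, hx, rfl⟩ := hmemX y (hXL' ▸ hPL hy)
      have hq1 : q ∈ Q ⊓ P := ⟨hQ₀ hq, by
        have : q = (q * x) * x⁻¹ := by group
        rw [this]; exact P.mul_mem hy (P.inv_mem (hP₀ hx))⟩
      rw [hQP, Subgroup.mem_bot] at hq1
      rw [hq1, one_mul]; exact hx
  -- the `p`-subgroup `⁅P₀, R⁆`
  have hcP₀ : ⁅P₀, R⁆ ≤ P₀ := by
    rw [Subgroup.commutator_le]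
    intro x hx ρ hρ
    have h1 : ρ * x⁻¹ * ρ⁻¹ ∈ P₀ := conj_mem_of_mem_normalizer (hRP₀ hρ) (P₀.inv_mem hx)
    have : ⁅x, ρ⁆ = x * (ρ * x⁻¹ * ρ⁻¹) := by rw [commutatorElement_def]; group
    rw [this]; exact P₀.mul_mem hx h1
  have hcX : ⁅P₀, R⁆ ≤ ⁅X, R⁆ := Subgroup.commutator_mono le_sup_right le_rfl
  have hcp : IsPGroup p ↥⁅P₀, R⁆ := hPp.to_le (hcP₀.trans hP₀)
  obtain ⟨N, hNX, hNp, hNinv, hcN⟩ :=
    h.ihc X R hXL le_rfl h.conf.mem hRX (Or.inl hXne) ⁅P₀, R⁆ hcX hcp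
  intro x hx u hu
  have hxN : x ∈ N := hcN hx
  have huX : u ∈ X := (le_sup_left : Q₀ ≤ X) hu
  have h1 : x * u * x⁻¹ * u⁻¹ ∈ Q ⊓ N := by
    constructor
    · have h2 : x * u * x⁻¹ ∈ Q₀ := conj_mem_of_mem_normalizer (hXN (hNX hxN)) hu
      exact hQ₀ (Q₀.mul_mem h2 (Q₀.inv_mem hu))
    · have h2 : u * x⁻¹ * u⁻¹ ∈ N := hNinv u huX _ (N.inv_mem hxN)
      have : x * u * x⁻¹ * u⁻¹ = x * (u * x⁻¹ * u⁻¹) := by group
      rw [this]; exact N.mul_mem hxN h2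
  rw [inf_eq_bot_of_pgroup_coprime hNp hQp, Subgroup.mem_bot] at h1
  have : x * u = (x * u * x⁻¹ * u⁻¹) * (u * x) := by group
  rw [this, h1, one_mul]

end Key


section Frob

open Cfsg.Agent.Helper31.GT Cfsg.Agent.Helper48.Wreath

theorem frob_mulaut_aux {Γ : Type*} [Group Γ] {U : Type*} [CommGroup U] {s : ℕ} [hs : Fact s.Prime]
    [Module (ZMod s) (Additive U)] (ψ : Γ →* MulAut U)
    (P : Subgroup Γ) [Finite P] (a : Γ) {r p : ℕ} [hp : Fact p.Prime]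
    (hr : r.Prime) (har : a ^ r = 1)
    (hPp : IsPGroup p P) (hsp : s ≠ p)
    (haP : ∀ x ∈ P, a * x * a⁻¹ ∈ P) (hPab : ∀ x ∈ P, ∀ y ∈ P, x * y = y * x)
    (hfix : ∀ w : U, ψ a w = w → w = 1) :
    ∀ c ∈ P, ψ (c * a * c⁻¹ * a⁻¹) = 1 := by
  have hAR : ((Nat.card P : ℕ) : ZMod s) ≠ 0 := by
    obtain ⟨k, hk⟩ := IsPGroup.iff_card.1 hPp
    rw [hk]
    intro h0
    rw [ZMod.natCast_eq_zero_iff] at h0
    exact hsp ((Nat.prime_dvd_prime_iff_eq hs.out hp.out).1 (hs.out.dvd_of_dvd_pow h0))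
  have hxW : ∀ w : Additive U, (linRep s ψ a) w = w → w = 0 := by
    intro w hw
    induction w using Additive.rec with
    | ofMul u =>
      have h1 : ψ a u = u := congrArg Additive.toMul hw
      rw [hfix u h1]; rfl
  have hfs := Cfsg.Agent.Helper48.FrobSum.frob_sum (linRep s ψ) P a hr har haP hPab hAR hxW
  intro c hc
  ext u
  have h2 := congrArg (fun f : Module.End (ZMod s) (Additive U) =>
    Additive.toMul (f (Additive.ofMul u))) (hfs c hc)
  exact h2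

theorem frob_mulaut {Γ : Type*} [Group Γ] {U : Type*} [CommGroup U] (ψ : Γ →* MulAut U)
    (P : Subgroup Γ) [Finite P] (a : Γ) {r s p : ℕ} [hs : Fact s.Prime] [hp : Fact p.Prime]
    (hr : r.Prime) (har : a ^ r = 1)
    (hUexp : ∀ w : U, w ^ s = 1) (hPp : IsPGroup p P) (hsp : s ≠ p)
    (haP : ∀ x ∈ P, a * x * a⁻¹ ∈ P) (hPab : ∀ x ∈ P, ∀ y ∈ P, x * y = y * x)
    (hfix : ∀ w : U, ψ a w = w → w = 1) :
    ∀ c ∈ P, ψ (c * a * c⁻¹ * a⁻¹) = 1 := by
  letI : Module (ZMod s) (Additive U) := AddCommGroup.zmodModule (n := s) (by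
    intro x
    induction x using Additive.rec with
    | ofMul w =>
      rw [← ofMul_pow, hUexp w]; rfl)
  exact frob_mulaut_aux ψ P a hr har hPp hsp haP hPab hfix

theorem section_trivial' {Γ : Type*} [Group Γ] [Finite Γ] (Q N P : Subgroup Γ) [hQn : Q.Normal]
    [hNn : N.Normal] (hQN : ⁅Q, Q⁆ ≤ N)
    (a : Γ) {r s p : ℕ} [hs : Fact s.Prime] [hp : Fact p.Prime] (hr : r.Prime) (har : a ^ r = 1)
    (hQexp : ∀ u ∈ Q, u ^ s = 1) (hPp : IsPGroup p P) (hsp : s ≠ p)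
    (haP : ∀ x ∈ P, a * x * a⁻¹ ∈ P) (hPab : ∀ x ∈ P, ∀ y ∈ P, x * y = y * x)
    (hPR : P ≤ ⁅P, zpowers a⁆)
    (hfpf : ∀ q ∈ Q, a * q * a⁻¹ * q⁻¹ ∈ N → q ∈ N) :
    ∀ x ∈ P, ∀ v ∈ Q, x * v * x⁻¹ * v⁻¹ ∈ N := by
  have hmk1 : ∀ g : Γ, QuotientGroup.mk' N g = 1 ↔ g ∈ N := fun g => QuotientGroup.eq_one_iff g
  have hAc : ∀ u ∈ Q.map (QuotientGroup.mk' N), ∀ v ∈ Q.map (QuotientGroup.mk' N),
      u * v = v * u := by
    rintro _ ⟨v, hv, rfl⟩ _ ⟨v', hv', rfl⟩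
    have h3 : QuotientGroup.mk' N (v * v' * v⁻¹ * v'⁻¹) = 1 := (hmk1 _).mpr (by
      have := Subgroup.commutator_mem_commutator hv hv'
      rw [commutatorElement_def] at this
      exact hQN this)
    rw [map_mul, map_mul, map_mul, map_inv, map_inv] at h3
    calc QuotientGroup.mk' N v * QuotientGroup.mk' N v'
        = (QuotientGroup.mk' N v * QuotientGroup.mk' N v' * (QuotientGroup.mk' N v)⁻¹ *
            (QuotientGroup.mk' N v')⁻¹) * (QuotientGroup.mk' N v' * QuotientGroup.mk' N v) := by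
          group
      _ = QuotientGroup.mk' N v' * QuotientGroup.mk' N v := by rw [h3, one_mul]
  have hUcomm : ∀ u u' : ↥(Q.map (QuotientGroup.mk' N)), u * u' = u' * u := by
    rintro ⟨a, ha⟩ ⟨b, hb⟩
    exact Subtype.ext (hAc a ha b hb)
  letI : CommGroup ↥(Q.map (QuotientGroup.mk' N)) :=
    { (inferInstance : Group ↥(Q.map (QuotientGroup.mk' N))) with mul_comm := hUcomm }
  have hWexp : ∀ w : ↥(Q.map (QuotientGroup.mk' N)), w ^ s = 1 := by
    rintro ⟨_, v, hv, rfl⟩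
    apply Subtype.ext
    show (QuotientGroup.mk' N v) ^ s = 1
    rw [← map_pow, hQexp v hv, map_one]
  have hfix : ∀ w : ↥(Q.map (QuotientGroup.mk' N)), secAct Q N a w = w → w = 1 := by
    rintro ⟨_, q, hq, rfl⟩ h1
    have h2 := congrArg Subtype.val h1
    rw [secAct_apply_coe] at h2
    have h3 : QuotientGroup.mk' N (a * q * a⁻¹ * q⁻¹) = 1 := by
      rw [map_mul, map_mul, map_mul, map_inv, map_inv]
      have h2' : QuotientGroup.mk' N a * QuotientGroup.mk' N q * (QuotientGroup.mk' N a)⁻¹ =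
        QuotientGroup.mk' N q := h2
      rw [h2', mul_inv_cancel]
    have h4 := hfpf q hq ((hmk1 _).1 h3)
    exact Subtype.ext ((hmk1 _).2 h4)
  have hker : ∀ c ∈ P, c * a * c⁻¹ * a⁻¹ ∈ (secAct Q N).ker := by
    intro c hc
    rw [MonoidHom.mem_ker]
    exact frob_mulaut (secAct Q N) P a hr har hWexp hPp hsp haP hPab hfix c hc
  have hcomm : ∀ c ∈ P, Commute (secAct Q N c) (secAct Q N a) := by
    intro c hc
    have h1 := hker c hc
    rw [MonoidHom.mem_ker, map_mul, map_mul, map_mul, map_inv, map_inv] at h1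
    show secAct Q N c * secAct Q N a = secAct Q N a * secAct Q N c
    calc secAct Q N c * secAct Q N a
        = (secAct Q N c * secAct Q N a * (secAct Q N c)⁻¹ * (secAct Q N a)⁻¹) *
            (secAct Q N a * secAct Q N c) := by group
      _ = secAct Q N a * secAct Q N c := by rw [h1, one_mul]
  have hPker : ⁅P, zpowers a⁆ ≤ (secAct Q N).ker := by
    rw [Subgroup.commutator_le]
    intro c hc ρ' hρ'
    obtain ⟨n, rfl⟩ := mem_zpowers_iff.1 hρ'
    rw [MonoidHom.mem_ker, commutatorElement_def, map_mul, map_mul, map_mul, map_inv, map_inv,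
      map_zpow]
    have h1 := (hcomm c hc).zpow_right n
    rw [h1.eq]; group
  intro x hx v hv
  exact (mem_ker_secAct Q N x).1 (hPker (hPR hx)) v hv

end Frob

section Main

variable {Γ : Type*} [Group Γ] [Finite Γ] [Group.IsSolvable Γ]
  {p : ℕ} [Fact p.Prime] {W : Type*} [AddCommGroup W] [Module (ZMod p) W] [Finite W]

/-- (caseB), the case `C_P(a) = 1`. -/
theorem caseB_free (hodd : Odd (Nat.card Γ)) (φ : Γ →* Module.End (ZMod p) W) (L R : Subgroup Γ)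
    [L.Normal] (a : Γ) {r : ℕ} (h : EndCtx φ L R a r)
    (hRa : R = Subgroup.zpowers a)
    (Q P : Subgroup Γ) (hQn : Q.Normal) (hQL : Q ≤ L) (hQp : (Nat.card Q).Coprime p)
    (hCQ : ∀ u ∈ L, (∀ q ∈ Q, u * q = q * u) → u ∈ Q)
    (hPL : P ≤ L) (hPp : IsPGroup p P) (hP1 : P ≠ ⊥)
    (hRP : ∀ ρ ∈ R, ∀ x ∈ P, ρ * x * ρ⁻¹ ∈ P) (hPR : P ≤ ⁅P, R⁆)
    (hS1 : ∀ P₁ : Subgroup Γ, P₁ ≤ P → (∀ x ∈ P₁, a * x * a⁻¹ ∈ P₁) → P₁ ≠ P →
      ∀ x ∈ P₁, a * x = x * a)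
    (hS2 : ∀ Q₁ : Subgroup Γ, Q₁ ≤ Q → (∀ x ∈ P, ∀ u ∈ Q₁, x * u * x⁻¹ ∈ Q₁) →
      (∀ u ∈ Q₁, a * u * a⁻¹ ∈ Q₁) → Q₁ ≠ Q → ∀ x ∈ P, ∀ u ∈ Q₁, x * u = u * x)
    (hPa : ∀ c ∈ ⁅P, P⁆, a * c = c * a)
    (hfrob : ∀ x ∈ P, a * x = x * a → x = 1) : False := by
  have hp : Fact p.Prime := inferInstance
  have hr : r.Prime := h.conf.prime
  haveI : Fact r.Prime := ⟨hr⟩
  have har : a ^ r = 1 := h.conf.pow
  have ha1 : a ≠ 1 := h.conf.ne
  have haR : a ∈ R := h.conf.mem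
  have hQP : Q ⊓ P = ⊥ := inf_eq_bot_of_pgroup_coprime hPp hQp
  have hordA : orderOf a = r := orderOf_eq_prime har ha1
  have hcardA : Nat.card (zpowers a) = r := by
    rw [Nat.card_zpowers]; exact hordA
  have hcopLr : (Nat.card L).Coprime r := by
    have := h.conf.cop
    rw [hRa, hcardA] at this
    exact this
  have hcopQr : (Nat.card Q).Coprime r :=
    Nat.Coprime.coprime_dvd_left (Subgroup.card_dvd_of_le hQL) hcopLr
  have hcopPr : (Nat.card P).Coprime r :=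
    Nat.Coprime.coprime_dvd_left (Subgroup.card_dvd_of_le hPL) hcopLr
  have hcopQP : (Nat.card Q).Coprime (Nat.card P) := by
    obtain ⟨k, hk⟩ := IsPGroup.iff_card.1 hPp
    rw [hk]; exact Nat.Coprime.pow_right k hQp
  have haP : ∀ x ∈ P, a * x * a⁻¹ ∈ P := fun x hx => hRP a haR x hx
  have haQ : ∀ u ∈ Q, a * u * a⁻¹ ∈ Q := fun u hu => hQn.conj_mem u hu a
  have hAP : zpowers a ≤ normalizer (P : Set Γ) := zpowers_le_normalizer_of_conj_mem P a haP
  have hAQ : zpowers a ≤ normalizer (Q : Set Γ) := zpowers_le_normalizer_of_conj_mem Q a haQ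
  have hoddQ : Odd (Nat.card Q) := Odd.of_dvd_nat hodd (Subgroup.card_subgroup_dvd_card Q)
  -- `P` is abelian
  have hPab : ∀ x ∈ P, ∀ y ∈ P, x * y = y * x := by
    intro x hx y hy
    have hc : ⁅x, y⁆ ∈ ⁅P, P⁆ := Subgroup.commutator_mem_commutator hx hy
    have hcP : ⁅x, y⁆ ∈ P := by
      rw [commutatorElement_def]
      exact P.mul_mem (P.mul_mem (P.mul_mem hx hy) (P.inv_mem hx)) (P.inv_mem hy)
    have h1 := hfrob _ hcP (hPa _ hc)
    exact commutatorElement_eq_one_iff_mul_comm.1 h1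
  -- the group `Y = P ⟨a⟩`
  set Y : Subgroup Γ := P ⊔ zpowers a with hYdef
  have hcopQY : (Nat.card Q).Coprime (Nat.card Y) := by
    have h1 : Nat.card Y ∣ Nat.card (zpowers a) * Nat.card P := by
      rw [hYdef, sup_comm]
      exact Cfsg.Agent.Helper22.card_sup_dvd_of_le_normalizer hAP
    apply Nat.Coprime.coprime_dvd_right h1
    rw [hcardA]
    exact Nat.Coprime.mul_right hcopQr hcopQP
  have hPY : P ≤ Y := le_sup_left
  have haY : a ∈ Y := (le_sup_right : zpowers a ≤ Y) (mem_zpowers a)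
  have hYP : Y ≤ normalizer (P : Set Γ) := sup_le le_normalizer hAP
  have hneQ : ∃ x ∈ P, ∃ u ∈ Q, x * u ≠ u * x := by
    by_contra hcon
    push Not at hcon
    apply hP1
    rw [eq_bot_iff, ← hQP]
    intro y hy
    exact ⟨hCQ y (hPL hy) (fun q hq => hcon y hy q hq), hy⟩
  obtain ⟨s, hs, hQs, hQgen, hQc, hQP', hQexp, -⟩ :=
    Cfsg.Agent.Helper20.BG36.MS Q P Y hPY
      (fun y hy x hx => conj_mem_of_mem_normalizer (hYP hy) hx)
      (fun y _ u hu => hQn.conj_mem u hu y)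
      hcopQY hoddQ inferInstance
      (fun Q₁ h1 h2 h3 x hx u hu => hS2 Q₁ h1 (fun y hy => h2 y (hPY hy))
        (fun v hv => h2 a haY v hv) h3 x hx u hu)
      hneQ
  haveI : Fact s.Prime := ⟨hs⟩
  -- the primes
  have hsQ : s ∣ Nat.card Q := by
    obtain ⟨x, hx, u, hu, hxu⟩ := hneQ
    have hu1 : u ≠ 1 := by
      rintro rfl
      apply hxu; rw [mul_one, one_mul]
    have h1 : orderOf u ∣ s := orderOf_dvd_of_pow_eq_one (hQexp u hu)
    have h2 : orderOf u = s := by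
      rcases (Nat.dvd_prime hs).1 h1 with h3 | h3
      · exact absurd (orderOf_eq_one_iff.1 h3) hu1
      · exact h3
    rw [← h2]
    exact Subgroup.orderOf_dvd_natCard Q hu
  have hpP : p ∣ Nat.card P := by
    obtain ⟨k, hk⟩ := IsPGroup.iff_card.1 hPp
    have hk0 : k ≠ 0 := by
      rintro rfl
      rw [pow_zero] at hk
      exact hP1 (Subgroup.card_eq_one.1 hk)
    rw [hk]
    exact dvd_pow_self p hk0
  have hsp : s ≠ p := by
    intro hsp
    rw [hsp] at hsQ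
    exact hp.out.one_lt.ne' (hQp.symm.eq_one_of_dvd hsQ)
  have hsr : s ≠ r := by
    intro hsr
    rw [hsr] at hsQ
    exact hr.one_lt.ne' (hcopQr.symm.eq_one_of_dvd hsQ)
  have hpr : p ≠ r := by
    intro hpr
    rw [hpr] at hpP
    exact hr.one_lt.ne' (hcopPr.symm.eq_one_of_dvd hpP)
  have hp2 : p ≠ 2 := by
    intro hp2
    have h1 : Odd p :=
      Odd.of_dvd_nat hodd (hpP.trans (Subgroup.card_subgroup_dvd_card P))
    rw [hp2] at h1
    exact absurd h1 (by decide)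
  have hr2 : r ≠ 2 := by
    intro hr2
    have h1 : Odd r := by
      rw [← hordA]
      exact Odd.of_dvd_nat hodd (orderOf_dvd_natCard a)
    rw [hr2] at h1
    exact absurd h1 (by decide)
  by_cases hQab : ∀ u ∈ Q, ∀ w ∈ Q, u * w = w * u
  · -- `Q` abelian: (W3)
    have hW3 := Cfsg.Agent.Helper27.BG36.W3 φ hs hr hsp.symm hpr hr2 Q P hQs hQab hPp hp2 a har
      (fun x _ u hu => hQn.conj_mem u hu x) haQ haP hS1 hfrob hP1 h.fix
    obtain ⟨x, hx, u, hu, hxu⟩ := hneQ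
    apply hxu
    have hmem : x * u * x⁻¹ * u⁻¹ ∈ L :=
      hQL (Q.mul_mem (hQn.conj_mem u hu x) (Q.inv_mem hu))
    have h1 := h.faith _ hmem (hW3 x hx u hu)
    calc x * u = (x * u * x⁻¹ * u⁻¹) * (u * x) := by group
      _ = u * x := by rw [h1, one_mul]
  · -- `Q` nonabelian
    apply hQab
    have hQ'n : (⁅Q, Q⁆ : Subgroup Γ).Normal := by
      haveI := hQn
      infer_instance
    have hQ'Q : ⁅Q, Q⁆ ≤ Q := by
      haveI := hQn
      exact Subgroup.commutator_le_right Q Q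
    have hQ'ne : (⁅Q, Q⁆ : Subgroup Γ) ≠ ⊥ := by
      intro hbot
      apply hQab
      rw [Subgroup.commutator_eq_bot_iff_le_centralizer] at hbot
      intro u hu w hw
      exact ((mem_centralizer_iff.1 (hbot hu)) w hw).symm
    -- `a` centralizes `Q'`
    have hW2 := Cfsg.Agent.Helper27.BG36.W2 φ hs hr hsp.symm hpr ⁅Q, Q⁆ Q (hQs.to_le hQ'Q)
      (fun u hu w hw => hQc u hu w (hQ'Q hw)) a har
      (fun u hu => hQ'n.conj_mem u hu a)
      (fun d hd u hu => (hQc u hu d hd).symm)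
      (fun u hu => (⁅Q, Q⁆ : Subgroup Γ).mul_mem (hQ'n.conj_mem u hu a)
        ((⁅Q, Q⁆ : Subgroup Γ).inv_mem hu))
      h.fix
    have haQ' : ∀ u ∈ ⁅Q, Q⁆, a * u = u * a := by
      intro u hu
      have hmem : a * u * a⁻¹ * u⁻¹ ∈ L :=
        hQL (Q.mul_mem (haQ u (hQ'Q hu)) (Q.inv_mem (hQ'Q hu)))
      have h1 := h.faith _ hmem (hW2 u hu)
      calc a * u = (a * u * a⁻¹ * u⁻¹) * (u * a) := by group
        _ = u * a := by rw [h1, one_mul]
    -- `C_Q(a) = Q'`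
    set CQ : Subgroup Γ := Q ⊓ centralizer ({a} : Set Γ) with hCQdef
    have hCQQ : CQ ≤ Q := inf_le_left
    have hCQa : ∀ u ∈ CQ, a * u = u * a := fun u hu =>
      (mem_centralizer_singleton_iff.1 hu.2).symm
    have hcycCQ : IsCyclic CQ := h.conf.cyc s hs CQ (hCQQ.trans hQL) (hQs.to_le hCQQ) hCQa
    have hcardCQ : Nat.card CQ ∣ s := by
      obtain ⟨g, hg⟩ := IsCyclic.exists_generator (α := ↥CQ)
      rw [← orderOf_eq_card_of_forall_mem_zpowers hg]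
      apply orderOf_dvd_of_pow_eq_one
      apply Subtype.ext
      rw [Subgroup.coe_pow, Subgroup.coe_one]
      exact hQexp g.1 (hCQQ g.2)
    have hQ'CQ : ⁅Q, Q⁆ ≤ CQ := fun u hu =>
      ⟨hQ'Q hu, mem_centralizer_singleton_iff.2 (haQ' u hu).symm⟩
    have hcardQ' : Nat.card (⁅Q, Q⁆ : Subgroup Γ) ≠ 1 := fun h1 =>
      hQ'ne (Subgroup.card_eq_one.1 h1)
    have hdvd1 : Nat.card (⁅Q, Q⁆ : Subgroup Γ) ∣ Nat.card CQ := Subgroup.card_dvd_of_le hQ'CQ
    have hcardQ's : Nat.card (⁅Q, Q⁆ : Subgroup Γ) = s := by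
      rcases (Nat.dvd_prime hs).1 (hdvd1.trans hcardCQ) with h3 | h3
      · exact absurd h3 hcardQ'
      · exact h3
    have hCQeq : (⁅Q, Q⁆ : Subgroup Γ) = CQ := by
      apply Subgroup.eq_of_le_of_card_ge hQ'CQ
      rw [hcardQ's]
      exact Nat.le_of_dvd hs.pos hcardCQ
    -- `a` acts freely on `Q / Q'`
    have hfpf : ∀ q ∈ Q, a * q * a⁻¹ * q⁻¹ ∈ ⁅Q, Q⁆ → q ∈ ⁅Q, Q⁆ := by
      intro q hq hmem
      have hcomm : ∀ y ∈ zpowers a, q * y * q⁻¹ * y⁻¹ ∈ ⁅Q, Q⁆ := by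
        intro y hy
        obtain ⟨n, rfl⟩ := mem_zpowers_iff.1 hy
        haveI := hQ'n
        rw [← QuotientGroup.eq_one_iff (N := ⁅Q, Q⁆)] at hmem ⊢
        rw [QuotientGroup.mk_mul, QuotientGroup.mk_mul, QuotientGroup.mk_mul,
          QuotientGroup.mk_inv, QuotientGroup.mk_inv] at hmem
        rw [QuotientGroup.mk_mul, QuotientGroup.mk_mul, QuotientGroup.mk_mul,
          QuotientGroup.mk_inv, QuotientGroup.mk_inv, QuotientGroup.mk_zpow]
        have hc : Commute ((a : Γ) : Γ ⧸ (⁅Q, Q⁆ : Subgroup Γ)) (q : Γ ⧸ (⁅Q, Q⁆ : Subgroup Γ)) := by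
          rw [mul_inv_eq_one, mul_inv_eq_iff_eq_mul] at hmem
          exact hmem
        have h2 := (hc.zpow_left n).eq
        rw [← h2]; group
      obtain ⟨n, hn, c, hc, rfl⟩ :=
        Cfsg.Agent.Helper52.exists_mul_centralizer_of_comm_mem Q ⁅Q, Q⁆ (zpowers a) hQ'Q hAQ
          (zpowers_le_normalizer_of_conj_mem _ a (fun u hu => hQ'n.conj_mem u hu a))
          (by rw [hcardA]; exact hcopQr.symm) (Or.inl inferInstance) q hq hcomm
      have hcCQ : c ∈ CQ := by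
        refine ⟨hc.1, mem_centralizer_singleton_iff.2 ?_⟩
        exact ((mem_centralizer_iff.1 hc.2) a (mem_zpowers a)).symm
      rw [← hCQeq] at hcCQ
      exact (⁅Q, Q⁆ : Subgroup Γ).mul_mem hn hcCQ
    have hsec : ∀ x ∈ P, ∀ v ∈ Q, x * v * x⁻¹ * v⁻¹ ∈ ⁅Q, Q⁆ := by
      haveI := hQn
      haveI := hQ'n
      exact section_trivial' Q ⁅Q, Q⁆ P le_rfl a hr har hQexp hPp hsp haP hPab (hRa ▸ hPR) hfpf
    have hQQ' : Q ≤ ⁅Q, Q⁆ := by
      apply hQgen.trans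
      rw [Subgroup.closure_le]
      rintro g ⟨x, hx, u, hu, rfl⟩
      exact hsec x hx u hu
    intro u hu w hw
    exact hQc u (hQQ' hu) w hw

/-- (caseB) `⟨a⟩ = R`. -/
theorem caseB (hodd : Odd (Nat.card Γ)) (φ : Γ →* Module.End (ZMod p) W) (L R : Subgroup Γ)
    [L.Normal] (a : Γ) {r : ℕ} (h : EndCtx φ L R a r) (hT : TailProp φ a r)
    (hRa : R = Subgroup.zpowers a)
    (Q P : Subgroup Γ) (hQn : Q.Normal) (hQL : Q ≤ L) (hQp : (Nat.card Q).Coprime p)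
    (hCQ : ∀ u ∈ L, (∀ q ∈ Q, u * q = q * u) → u ∈ Q)
    (hPL : P ≤ L) (hPp : IsPGroup p P) (hP1 : P ≠ ⊥)
    (hRP : ∀ ρ ∈ R, ∀ x ∈ P, ρ * x * ρ⁻¹ ∈ P) (hPR : P ≤ ⁅P, R⁆) : False := by
  have hp : Fact p.Prime := inferInstance
  have hr : r.Prime := h.conf.prime
  haveI : Fact r.Prime := ⟨hr⟩
  have har : a ^ r = 1 := h.conf.pow
  have ha1 : a ≠ 1 := h.conf.ne
  have haR : a ∈ R := h.conf.mem
  have hQP : Q ⊓ P = ⊥ := inf_eq_bot_of_pgroup_coprime hPp hQp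
  have hcardA : Nat.card (zpowers a) = r := by
    rw [Nat.card_zpowers]; exact orderOf_eq_prime har ha1
  have hcopLr : (Nat.card L).Coprime r := by
    have := h.conf.cop
    rw [hRa, hcardA] at this
    exact this
  have hcopQr : (Nat.card Q).Coprime r :=
    Nat.Coprime.coprime_dvd_left (Subgroup.card_dvd_of_le hQL) hcopLr
  have hcopPr : (Nat.card P).Coprime r :=
    Nat.Coprime.coprime_dvd_left (Subgroup.card_dvd_of_le hPL) hcopLr
  have hcopQP : (Nat.card Q).Coprime (Nat.card P) := by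
    obtain ⟨k, hk⟩ := IsPGroup.iff_card.1 hPp
    rw [hk]; exact Nat.Coprime.pow_right k hQp
  have haP : ∀ x ∈ P, a * x * a⁻¹ ∈ P := fun x hx => hRP a haR x hx
  have haQ : ∀ u ∈ Q, a * u * a⁻¹ ∈ Q := fun u hu => hQn.conj_mem u hu a
  have hAP : zpowers a ≤ normalizer (P : Set Γ) := zpowers_le_normalizer_of_conj_mem P a haP
  -- (S1)
  have hS1 : ∀ P₁ : Subgroup Γ, P₁ ≤ P → (∀ x ∈ P₁, a * x * a⁻¹ ∈ P₁) → P₁ ≠ P →
      ∀ x ∈ P₁, a * x = x * a := by
    intro P₁ hP₁ haP₁ hne x hx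
    have hk := key φ L R a h hRa Q P hQL hQp hPL hPp Q P₁ le_rfl hP₁
      (fun y _ u hu => hQn.conj_mem u hu y) haQ haP₁ (Or.inr hne)
    have hc : ⁅x, a⁆ ∈ ⁅P₁, R⁆ := Subgroup.commutator_mem_commutator hx haR
    have hcP : ⁅x, a⁆ ∈ P := by
      have h1 : a * x⁻¹ * a⁻¹ ∈ P₁ := haP₁ _ (P₁.inv_mem hx)
      have : ⁅x, a⁆ = x * (a * x⁻¹ * a⁻¹) := by rw [commutatorElement_def]; group
      rw [this]; exact hP₁ (P₁.mul_mem hx h1)
    have hcQ : ⁅x, a⁆ ∈ Q := hCQ _ (hPL hcP) (fun q hq => hk _ hc q hq)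
    have h2 : ⁅x, a⁆ ∈ Q ⊓ P := ⟨hcQ, hcP⟩
    rw [hQP, Subgroup.mem_bot, commutatorElement_eq_one_iff_mul_comm] at h2
    exact h2.symm
  -- (S2)
  have hS2 : ∀ Q₁ : Subgroup Γ, Q₁ ≤ Q → (∀ x ∈ P, ∀ u ∈ Q₁, x * u * x⁻¹ ∈ Q₁) →
      (∀ u ∈ Q₁, a * u * a⁻¹ ∈ Q₁) → Q₁ ≠ Q → ∀ x ∈ P, ∀ u ∈ Q₁, x * u = u * x := by
    intro Q₁ hQ₁ hPQ₁ haQ₁ hne x hx u hu
    exact key φ L R a h hRa Q P hQL hQp hPL hPp Q₁ P hQ₁ le_rfl hPQ₁ haQ₁ haP (Or.inl hne)
      x (hPR hx) u hu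
  -- Step 2: (MS) on `P`
  have hoddP : Odd (Nat.card P) := Odd.of_dvd_nat hodd (Subgroup.card_subgroup_dvd_card P)
  have hoddQ : Odd (Nat.card Q) := Odd.of_dvd_nat hodd (Subgroup.card_subgroup_dvd_card Q)
  have hcopPA : (Nat.card P).Coprime (Nat.card (zpowers a)) := by rw [hcardA]; exact hcopPr
  have hminP : ∀ P₁ : Subgroup Γ, P₁ ≤ P → (∀ y ∈ zpowers a, ∀ u ∈ P₁, y * u * y⁻¹ ∈ P₁) →
      P₁ ≠ P → ∀ x ∈ zpowers a, ∀ u ∈ P₁, x * u = u * x := by
    intro P₁ h1 h2 h3 x hx u hu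
    have hc := hS1 P₁ h1 (fun v hv => h2 a (mem_zpowers a) v hv) h3
    have h4 := zpowers_le_centralizer (X := P₁) (g := a) hc hx
    exact ((mem_centralizer_iff.1 h4) u hu).symm
  have hneP : ∃ x ∈ zpowers a, ∃ u ∈ P, x * u ≠ u * x := by
    by_contra hcon
    push Not at hcon
    have h1 : ⁅P, R⁆ = ⊥ := by
      rw [Subgroup.commutator_eq_bot_iff_le_centralizer]
      intro x hx
      rw [mem_centralizer_iff]
      intro ρ hρ
      rw [hRa] at hρ
      exact hcon ρ hρ x hx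
    apply hP1
    rw [eq_bot_iff]
    exact hPR.trans h1.le
  obtain ⟨s₁, hs₁, -, -, hPc, hPa, hPexp₁, hPcen⟩ :=
    Cfsg.Agent.Helper20.BG36.MS P (zpowers a) (zpowers a) le_rfl
      (fun y hy x hx => (zpowers a).mul_mem ((zpowers a).mul_mem hy hx) ((zpowers a).inv_mem hy))
      (fun y hy u hu => conj_mem_of_mem_normalizer (hAP hy) hu)
      hcopPA hoddP inferInstance hminP hneP
  -- `s₁ = p`
  have hs₁p : s₁ = p := by
    obtain ⟨⟨u, hu⟩, hu1⟩ := (Subgroup.ne_bot_iff_exists_ne_one).1 hP1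
    have hu1' : u ≠ 1 := fun hc => hu1 (Subtype.ext hc)
    have h1 : orderOf u ∣ s₁ := orderOf_dvd_of_pow_eq_one (hPexp₁ u hu)
    have h2 : orderOf u = s₁ := by
      rcases (Nat.dvd_prime hs₁).1 h1 with h3 | h3
      · exact absurd (orderOf_eq_one_iff.1 h3) hu1'
      · exact h3
    obtain ⟨k, hk⟩ := hPp ⟨u, hu⟩
    have h3 : u ^ p ^ k = 1 := by
      have := congrArg Subtype.val hk
      simpa using this
    have h4 : s₁ ∣ p ^ k := h2 ▸ orderOf_dvd_of_pow_eq_one h3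
    exact (Nat.prime_dvd_prime_iff_eq hs₁ hp.out).1 (hs₁.dvd_of_dvd_pow h4)
  have hPexp : ∀ u ∈ P, u ^ p = 1 := fun u hu => hs₁p ▸ hPexp₁ u hu
  -- `C = C_P(a)`
  set C : Subgroup Γ := P ⊓ centralizer ({a} : Set Γ) with hCdef
  set Y : Subgroup Γ := P ⊔ zpowers a with hYdef
  have hcopQY : (Nat.card Q).Coprime (Nat.card Y) := by
    have h1 : Nat.card Y ∣ Nat.card (zpowers a) * Nat.card P := by
      rw [hYdef, sup_comm]
      exact Cfsg.Agent.Helper22.card_sup_dvd_of_le_normalizer hAP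
    apply Nat.Coprime.coprime_dvd_right h1
    rw [hcardA]
    exact Nat.Coprime.mul_right hcopQr hcopQP
  have hPY : P ≤ Y := le_sup_left
  have haY : a ∈ Y := (le_sup_right : zpowers a ≤ Y) (mem_zpowers a)
  by_cases hC : C = ⊥
  · -- Step 3: `a` acts freely on `P`
    exact caseB_free hodd φ L R a h hRa Q P hQn hQL hQp hCQ hPL hPp hP1 hRP hPR hS1 hS2
      (fun c hc => hPa c hc a (mem_zpowers a))
      (fun x hx hax => by
        have h1 : x ∈ C := ⟨hx, mem_centralizer_singleton_iff.2 hax.symm⟩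
        rw [hC, Subgroup.mem_bot] at h1
        exact h1)
  · -- Step 4: `C_P(a) = ⟨x⟩ = P'`
    obtain ⟨⟨x, hxC⟩, hx1⟩ := (Subgroup.ne_bot_iff_exists_ne_one).1 hC
    have hx1' : x ≠ 1 := fun hc => hx1 (Subtype.ext hc)
    have hxP : x ∈ P := hxC.1
    have hax : a * x = x * a := (mem_centralizer_singleton_iff.1 hxC.2).symm
    have hxAc : ∀ y ∈ zpowers a, y * x = x * y := by
      intro y hy
      have h4 := zpowers_le_centralizer (X := zpowers x) (g := a)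
        (fun u hu => by
          have := zpowers_le_centralizer (X := zpowers a) (g := x)
            (fun v hv => by
              obtain ⟨n, rfl⟩ := mem_zpowers_iff.1 hv
              exact ((Commute.zpow_right (show Commute x a from hax.symm) n)).eq) hu
          exact ((mem_centralizer_iff.1 this) a (mem_zpowers a)))
      exact ((mem_centralizer_iff.1 (h4 hy)) x (mem_zpowers x)).symm
    have hxPP : x ∈ ⁅P, P⁆ := hPcen x hxP hxAc
    have hxZ : ∀ u ∈ P, x * u = u * x := hPc x hxPP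
    have hYc : Y ≤ centralizer ({x} : Set Γ) := by
      apply sup_le
      · intro u hu
        exact mem_centralizer_singleton_iff.2 (hxZ u hu).symm
      · rw [Subgroup.zpowers_le]
        exact mem_centralizer_singleton_iff.2 hax
    have hTres := hT Q hQn hQp hcopQr (fun u hu => h.faith u (hQL hu))
      (fun q hq T hTQ => h.conf.cyc q hq T (hTQ.trans hQL))
      x (hPexp x hxP) hax.symm Y (hPY hxP)
      (fun y hy => by
        have h1 : x * y = y * x := (mem_centralizer_singleton_iff.1 (hYc hy)).symm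
        have : y * x * y⁻¹ = x := by rw [← h1]; group
        rw [this]; exact mem_zpowers x)
      hcopQY
      (fun Q₁ h1 h2 h3 u hu => hS2 Q₁ h1 (fun y hy => h2 y (hPY hy))
        (fun v hv => h2 a haY v hv) h3 x hxP u hu)
      (by
        by_contra hcon
        push Not at hcon
        have h1 : x ∈ Q ⊓ P := ⟨hCQ x (hPL hxP) hcon, hxP⟩
        rw [hQP, Subgroup.mem_bot] at h1
        exact hx1' h1)
    obtain ⟨-, haQc⟩ := hTres
    -- `P = [P, a]` centralizes `Q`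
    have hRc : R ≤ centralizer (Q : Set Γ) := by
      rw [hRa]; exact zpowers_le_centralizer haQc
    have hcomm : ⁅P, R⁆ ≤ centralizer (Q : Set Γ) := by
      rw [Subgroup.commutator_le]
      intro y hy ρ hρ
      have hn : (centralizer (Q : Set Γ)).Normal := inferInstance
      have h1 : y * ρ * y⁻¹ ∈ centralizer (Q : Set Γ) := hn.conj_mem ρ (hRc hρ) y
      have : ⁅y, ρ⁆ = (y * ρ * y⁻¹) * ρ⁻¹ := by rw [commutatorElement_def]
      rw [this]
      exact (centralizer (Q : Set Γ)).mul_mem h1 ((centralizer (Q : Set Γ)).inv_mem (hRc hρ))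
    apply hP1
    rw [eq_bot_iff, ← hQP]
    intro y hy
    refine ⟨hCQ y (hPL hy) (fun q hq => ?_), hy⟩
    exact ((mem_centralizer_iff.1 (hcomm (hPR hy))) q hq).symm

end Main

end Cfsg.Agent.Helper11.BG36
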