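import Mathlib

/-!
# The abstract `τ₁`-asymmetry lemma (B–G 12.17 in the shape needed for 13.9): interface

`Side S P M A p q` packages what one maximal subgroup `M` (with `A = M_α`) contributes:
`N_G(S) ≤ M`, `A ⊴ M` a solvable normal Hall subgroup of order prime to `p q`, `M = A N_G(S)`,
`C_A(P)` has cyclic Sylow subgroups, `A ≰ C_G(S)`, and `N_G(X) ≤ M` for every subgroup `X` of prime
order of `[A, S]`.
-/

set_option autoImplicit false

namespace Cfsg.Agent.Helper11.BGAsym

open Subgroup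

structure Side {G : Type*} [Group G] (S P M A : Subgroup G) (p q : ℕ) : Prop where
  hNM : normalizer (S : Set G) ≤ M
  hAM : A ≤ M
  hAn : M ≤ normalizer (A : Set G)
  hfac : M ≤ A ⊔ normalizer (S : Set G)
  hhall : (Nat.card A).Coprime (A.relIndex M)
  hsol : Group.IsSolvable A
  hq : (Nat.card A).Coprime q
  hp : (Nat.card A).Coprime p
  hZ : ∀ (t : ℕ) (Y : Subgroup G), t.Prime → IsPGroup t Y → Y ≤ A ⊓ centralizer (P : Set G) →
    IsCyclic Y
  hne : ¬ A ≤ centralizer (S : Set G)
  hU : ∀ X : Subgroup G, X ≤ ⁅A, S⁆ → (Nat.card X).Prime → normalizer (X : Set G) ≤ M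

end Cfsg.Agent.Helper11.BGAsym
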