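import Mathlib

/-!
# The Frobenius-type fixed point lemma over a commutative ring (copy of `Helper48.FrobSum.frob_sum`
with `Field` weakened to `CommRing` and `|A|` a unit).
-/

set_option autoImplicit false

namespace Cfsg.Agent.Helper11.BGAsym

variable {R : Type*} [CommRing R] {W : Type*} [AddCommGroup W] [Module R W] {Γ : Type*} [Group Γ]

/-- the norm operator vanishes when there are no fixed vectors -/
lemma norm_eq_zero_ring (T : Module.End R W) {r : ℕ} (hT : T ^ r = 1) (hfix : ∀ w, T w = w → w = 0) :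
    ∑ i ∈ Finset.range r, T ^ i = 0 := by
  ext w
  apply hfix
  have h1 : (T - 1) * ∑ i ∈ Finset.range r, T ^ i = 0 := by rw [mul_geom_sum, hT, sub_self]
  have h2 := LinearMap.congr_fun h1 w
  rw [Module.End.mul_apply, LinearMap.sub_apply, Module.End.one_apply, LinearMap.zero_apply,
    sub_eq_zero] at h2
  exact h2

theorem frob_sum_ring (φ : Γ →* Module.End R W) (A : Subgroup Γ) [Finite A] (x : Γ) {r : ℕ}
    (hr : r.Prime) (hxr : x ^ r = 1) (hxA : ∀ u ∈ A, x * u * x⁻¹ ∈ A)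
    (hAc : ∀ u ∈ A, ∀ w ∈ A, u * w = w * u)
    (hAR : IsUnit ((Nat.card A : ℕ) : R)) (hxW : ∀ w : W, φ x w = w → w = 0) :
    ∀ a ∈ A, φ (a * x * a⁻¹ * x⁻¹) = 1 := by
  classical
  -- the subgroup B = [A, x]
  let B : Subgroup Γ :=
    { carrier := {u | ∃ a ∈ A, u = a * x * a⁻¹ * x⁻¹}
      one_mem' := ⟨1, A.one_mem, by simp⟩
      mul_mem' := by
        rintro _ _ ⟨a, ha, rfl⟩ ⟨b, hb, rfl⟩
        refine ⟨a * b, A.mul_mem ha hb, ?_⟩
        have ha' : x * a⁻¹ * x⁻¹ ∈ A := hxA _ (A.inv_mem ha)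
        have hb' : x * b⁻¹ * x⁻¹ ∈ A := hxA _ (A.inv_mem hb)
        have hc := hAc _ ha' _ (A.mul_mem hb hb')
        calc a * x * a⁻¹ * x⁻¹ * (b * x * b⁻¹ * x⁻¹)
            = a * ((x * a⁻¹ * x⁻¹) * (b * (x * b⁻¹ * x⁻¹))) := by group
          _ = a * ((b * (x * b⁻¹ * x⁻¹)) * (x * a⁻¹ * x⁻¹)) := by rw [hc]
          _ = a * b * x * (a * b)⁻¹ * x⁻¹ := by group
      inv_mem' := by
        rintro _ ⟨a, ha, rfl⟩
        refine ⟨a⁻¹, A.inv_mem ha, ?_⟩
        have ha' : x * a * x⁻¹ ∈ A := hxA _ ha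
        have hc := hAc _ ha' _ (A.inv_mem ha)
        calc (a * x * a⁻¹ * x⁻¹)⁻¹ = (x * a * x⁻¹) * a⁻¹ := by group
          _ = a⁻¹ * (x * a * x⁻¹) := hc
          _ = a⁻¹ * x * a⁻¹⁻¹ * x⁻¹ := by group }
  have hBmem : ∀ u, u ∈ B ↔ ∃ a ∈ A, u = a * x * a⁻¹ * x⁻¹ := fun u => Iff.rfl
  have hBA : B ≤ A := by
    rintro _ ⟨a, ha, rfl⟩
    have : a * x * a⁻¹ * x⁻¹ = a * (x * a⁻¹ * x⁻¹) := by group
    rw [this]
    exact A.mul_mem ha (hxA _ (A.inv_mem ha))
  have hBfin : Finite ↥B :=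
    Finite.of_injective (Subgroup.inclusion hBA) (Subgroup.inclusion_injective hBA)
  have : Fintype ↥B := Fintype.ofFinite _
  have hBx : ∀ u ∈ B, x * u * x⁻¹ ∈ B := by
    rintro _ ⟨a, ha, rfl⟩
    refine ⟨x * a * x⁻¹, hxA a ha, ?_⟩
    group
  have hord : ∀ u ∈ B, (u * x) ^ r = 1 := by
    rintro _ ⟨a, ha, rfl⟩
    have : a * x * a⁻¹ * x⁻¹ * x = a * x * a⁻¹ := by group
    rw [this, conj_pow, hxr, mul_one, mul_inv_cancel]
  have hfixu : ∀ u ∈ B, ∀ w, φ (u * x) w = w → w = 0 := by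
    rintro _ ⟨a, ha, rfl⟩ w hw
    have e1 : a * x * a⁻¹ * x⁻¹ * x = a * x * a⁻¹ := by group
    rw [e1, map_mul, map_mul] at hw
    have h1 : φ x (φ a⁻¹ w) = φ a⁻¹ w := by
      have h2 : φ a⁻¹ (φ a (φ x (φ a⁻¹ w))) = φ a⁻¹ w := congrArg (φ a⁻¹) hw
      have h3 : φ a⁻¹ * φ a = 1 := by rw [← map_mul, inv_mul_cancel, map_one]
      have h4 : φ a⁻¹ (φ a (φ x (φ a⁻¹ w))) = (φ a⁻¹ * φ a) (φ x (φ a⁻¹ w)) := rfl
      rw [h4, h3] at h2
      exact h2
    have h5 := hxW _ h1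
    have h6 : φ a (φ a⁻¹ w) = w := by
      have h3 : φ a * φ a⁻¹ = 1 := by rw [← map_mul, mul_inv_cancel, map_one]
      have h4 : φ a (φ a⁻¹ w) = (φ a * φ a⁻¹) w := rfl
      rw [h4, h3]
      rfl
    rw [← h6, h5, map_zero]
  have hN : ∀ u ∈ B, ∑ i ∈ Finset.range r, φ (u * x) ^ i = 0 := by
    intro u hu
    apply norm_eq_zero_ring
    · rw [← map_pow, hord u hu, map_one]
    · exact hfixu u hu
  -- the maps ν
  have hν_mem : ∀ (i : ℕ), ∀ u ∈ B, (u * x) ^ i * (x ^ i)⁻¹ ∈ B := by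
    intro i
    induction i with
    | zero => intro u _; simp
    | succ i ih =>
      intro u hu
      have e1 : (u * x) ^ (i + 1) * (x ^ (i + 1))⁻¹ =
          u * (x * ((u * x) ^ i * (x ^ i)⁻¹) * x⁻¹) := by
        rw [pow_succ' (u * x), pow_succ' x]
        group
      rw [e1]
      exact B.mul_mem hu (hBx _ (ih u hu))
  have hν_inj : ∀ i, 0 < i → i < r → ∀ u ∈ B, ∀ u' ∈ B,
      (u * x) ^ i * (x ^ i)⁻¹ = (u' * x) ^ i * (x ^ i)⁻¹ → u = u' := by
    intro i hi0 hir u hu u' hu' h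
    have h1 : (u * x) ^ i = (u' * x) ^ i := mul_right_cancel h
    have hcop : Nat.Coprime i r := by
      rw [Nat.coprime_comm]
      exact (Nat.Prime.coprime_iff_not_dvd hr).mpr (Nat.not_dvd_of_pos_of_lt hi0 hir)
    obtain ⟨j, -, hj⟩ := Nat.exists_mul_mod_eq_one_of_coprime hcop hr.one_lt
    have hpow : ∀ y : Γ, y ^ r = 1 → y ^ (i * j) = y := by
      intro y hy
      have h2 : i * j = r * (i * j / r) + 1 := by
        have := Nat.div_add_mod (i * j) r
        omega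
      rw [h2, pow_succ, pow_mul, hy, one_pow, one_mul]
    have h3 : u * x = u' * x := by
      rw [← hpow _ (hord u hu), ← hpow _ (hord u' hu'), pow_mul, pow_mul, h1]
    exact mul_right_cancel h3
  -- the sum of B
  let e : Module.End R W := ∑ u : B, φ u.1
  have hsum_ν : ∀ i, 0 < i → i < r → ∑ u : B, φ ((u.1 * x) ^ i * (x ^ i)⁻¹) = e := by
    intro i hi0 hir
    let f : B → B := fun u => ⟨(u.1 * x) ^ i * (x ^ i)⁻¹, hν_mem i u.1 u.2⟩
    have hf : Function.Injective f := by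
      intro u u' huu
      have : (u.1 * x) ^ i * (x ^ i)⁻¹ = (u'.1 * x) ^ i * (x ^ i)⁻¹ := congrArg Subtype.val huu
      exact Subtype.ext (hν_inj i hi0 hir u.1 u.2 u'.1 u'.2 this)
    have hfb : Function.Bijective f := Finite.injective_iff_bijective.mp hf
    exact Function.Bijective.sum_comp hfb (fun u : B => φ u.1)
  have hdouble : ∑ u : B, ∑ i ∈ Finset.range r, φ (u.1 * x) ^ i = 0 := by
    apply Finset.sum_eq_zero
    intro u _
    exact hN u.1 u.2
  rw [Finset.sum_comm] at hdouble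
  obtain ⟨r', rfl⟩ : ∃ r', r = r' + 1 := ⟨r - 1, by have := hr.pos; omega⟩
  rw [Finset.sum_range_succ'] at hdouble
  have hterm : ∀ i ∈ Finset.range r', ∑ u : B, φ (u.1 * x) ^ (i + 1) = e * φ x ^ (i + 1) := by
    intro i hi
    have hi' : i + 1 < r' + 1 := by
      have := Finset.mem_range.mp hi
      omega
    rw [← hsum_ν (i + 1) (Nat.succ_pos i) hi', Finset.sum_mul]
    refine Finset.sum_congr rfl ?_
    intro u _
    rw [← map_pow, ← map_pow, ← map_mul]
    congr 1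
    group
  rw [Finset.sum_congr rfl hterm, ← Finset.mul_sum] at hdouble
  have hNx : ∑ i ∈ Finset.range (r' + 1), φ x ^ i = 0 := by
    apply norm_eq_zero_ring
    · rw [← map_pow, hxr, map_one]
    · exact hxW
  rw [Finset.sum_range_succ'] at hNx
  have hNx' : ∑ i ∈ Finset.range r', φ x ^ (i + 1) = -1 := by
    rw [pow_zero] at hNx
    exact eq_neg_of_add_eq_zero_left hNx
  rw [hNx'] at hdouble
  simp only [pow_zero, Finset.sum_const, Finset.card_univ] at hdouble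
  have he : e = (Fintype.card B : R) • (1 : Module.End R W) := by
    rw [Nat.cast_smul_eq_nsmul]
    have : e * -1 + Fintype.card ↥B • (1 : Module.End R W) = 0 := hdouble
    rw [mul_neg, mul_one, neg_add_eq_zero] at this
    exact this
  have hBR : IsUnit ((Fintype.card B : ℕ) : R) := by
    obtain ⟨k, hk⟩ := Subgroup.card_dvd_of_le hBA
    rw [hk, Nat.cast_mul, Nat.card_eq_fintype_card] at hAR
    exact isUnit_of_mul_isUnit_left hAR
  -- B acts trivially
  have hmul : ∀ b ∈ B, φ b * e = e := by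
    intro b hb
    show φ b * ∑ u : B, φ u.1 = ∑ u : B, φ u.1
    rw [Finset.mul_sum]
    refine Fintype.sum_equiv (Equiv.mulLeft (⟨b, hb⟩ : B)) _ _ ?_
    intro u
    simp
  intro a ha
  have hb : a * x * a⁻¹ * x⁻¹ ∈ B := ⟨a, ha, rfl⟩
  have h1 := hmul _ hb
  rw [he, mul_smul_comm, mul_one] at h1
  obtain ⟨c, hc⟩ := hBR
  have h2 := congrArg (fun f : Module.End R W => ((c⁻¹ : Rˣ) : R) • f) h1
  simp only [← hc, smul_smul, Units.inv_mul, one_smul] at h2
  exact h2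


end Cfsg.Agent.Helper11.BGAsym
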