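import Mathlib
import Cfsg.Agent.Lib.Helper11.FrobSumRing
import Cfsg.Agent.Lib.Helper48.WreathHHP
import Cfsg.Agent.Lib.Helper31.GTStable
import Cfsg.Agent.Lib.Helper52.Coprime

/-! The refined Frobenius fact (FR) used for the `τ₁`-asymmetry / σ-partition argument. -/

set_option autoImplicit false
set_option linter.style.haveILetI false
set_option linter.unusedSectionVars false

namespace Cfsg.Agent.Helper11.BGAsym

open Subgroup
open scoped commutatorElement

section Frob

open Cfsg.Agent.Helper31.GT Cfsg.Agent.Helper48.Wreath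

theorem frob_mulaut_gen_aux {Γ : Type*} [Group Γ] {U : Type*} [CommGroup U] {n : ℕ}
    [Module (ZMod n) (Additive U)] (ψ : Γ →* MulAut U)
    (P : Subgroup Γ) [Finite P] (a : Γ) {r : ℕ}
    (hr : r.Prime) (har : a ^ r = 1)
    (hcop : (Nat.card P).Coprime n)
    (haP : ∀ x ∈ P, a * x * a⁻¹ ∈ P) (hPab : ∀ x ∈ P, ∀ y ∈ P, x * y = y * x)
    (hfix : ∀ w : U, ψ a w = w → w = 1) :
    ∀ c ∈ P, ψ (c * a * c⁻¹ * a⁻¹) = 1 := by
  have hAR : IsUnit (((Nat.card P : ℕ)) : ZMod n) := (ZMod.isUnit_iff_coprime _ _).2 hcop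
  have hxW : ∀ w : Additive U, (linRep n ψ a) w = w → w = 0 := by
    intro w hw
    induction w using Additive.rec with
    | ofMul u =>
      have h1 : ψ a u = u := congrArg Additive.toMul hw
      rw [hfix u h1]; rfl
  have hfs := frob_sum_ring (linRep n ψ) P a hr har haP hPab hAR hxW
  intro c hc
  ext u
  have h2 := congrArg (fun f : Module.End (ZMod n) (Additive U) =>
    Additive.toMul (f (Additive.ofMul u))) (hfs c hc)
  exact h2

theorem frob_mulaut_gen {Γ : Type*} [Group Γ] {U : Type*} [CommGroup U] [Finite U]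
    (ψ : Γ →* MulAut U)
    (P : Subgroup Γ) [Finite P] (a : Γ) {r : ℕ}
    (hr : r.Prime) (har : a ^ r = 1)
    (hcop : (Nat.card P).Coprime (Nat.card U))
    (haP : ∀ x ∈ P, a * x * a⁻¹ ∈ P) (hPab : ∀ x ∈ P, ∀ y ∈ P, x * y = y * x)
    (hfix : ∀ w : U, ψ a w = w → w = 1) :
    ∀ c ∈ P, ψ (c * a * c⁻¹ * a⁻¹) = 1 := by
  letI : Module (ZMod (Nat.card U)) (Additive U) := AddCommGroup.zmodModule (n := Nat.card U) (by
    intro x
    induction x using Additive.rec with
    | ofMul w =>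
      rw [← ofMul_pow, pow_card_eq_one']; rfl)
  exact frob_mulaut_gen_aux ψ P a hr har hcop haP hPab hfix

/-- `P` abelian, `a` of prime order normalizing `P` with `P = [P, a]`, acting on the abelian section
`Q / N` of order prime to `|P|`; if `a` is fixed-point-free on `Q / N` then `P` acts trivially. -/
theorem section_trivial_gen {Γ : Type*} [Group Γ] [Finite Γ] (Q N P : Subgroup Γ) [hQn : Q.Normal]
    [hNn : N.Normal] (hQN : ⁅Q, Q⁆ ≤ N)
    (a : Γ) {r : ℕ} (hr : r.Prime) (har : a ^ r = 1)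
    (hcop : (Nat.card P).Coprime (Nat.card Q))
    (haP : ∀ x ∈ P, a * x * a⁻¹ ∈ P) (hPab : ∀ x ∈ P, ∀ y ∈ P, x * y = y * x)
    (hPR : P ≤ ⁅P, zpowers a⁆)
    (hfpf : ∀ q ∈ Q, a * q * a⁻¹ * q⁻¹ ∈ N → q ∈ N) :
    ∀ x ∈ P, ∀ v ∈ Q, x * v * x⁻¹ * v⁻¹ ∈ N := by
  have hmk1 : ∀ g : Γ, QuotientGroup.mk' N g = 1 ↔ g ∈ N := fun g => QuotientGroup.eq_one_iff g
  have hAc : ∀ u ∈ Q.map (QuotientGroup.mk' N), ∀ v ∈ Q.map (QuotientGroup.mk' N),
      u * v = v * u := by
    rintro _ ⟨v, hv, rfl⟩ _ ⟨v', hv', rfl⟩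
    have h3 : QuotientGroup.mk' N (v * v' * v⁻¹ * v'⁻¹) = 1 := (hmk1 _).mpr (by
      have := Subgroup.commutator_mem_commutator hv hv'
      rw [commutatorElement_def] at this
      exact hQN this)
    rw [map_mul, map_mul, map_mul, map_inv, map_inv] at h3
    calc QuotientGroup.mk' N v * QuotientGroup.mk' N v'
        = (QuotientGroup.mk' N v * QuotientGroup.mk' N v' * (QuotientGroup.mk' N v)⁻¹ *
            (QuotientGroup.mk' N v')⁻¹) * (QuotientGroup.mk' N v' * QuotientGroup.mk' N v) := by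
          group
      _ = QuotientGroup.mk' N v' * QuotientGroup.mk' N v := by rw [h3, one_mul]
  have hUcomm : ∀ u u' : ↥(Q.map (QuotientGroup.mk' N)), u * u' = u' * u := by
    rintro ⟨a, ha⟩ ⟨b, hb⟩
    exact Subtype.ext (hAc a ha b hb)
  letI : CommGroup ↥(Q.map (QuotientGroup.mk' N)) :=
    { (inferInstance : Group ↥(Q.map (QuotientGroup.mk' N))) with mul_comm := hUcomm }
  have hcop' : (Nat.card P).Coprime (Nat.card ↥(Q.map (QuotientGroup.mk' N))) :=
    Nat.Coprime.coprime_dvd_right (Subgroup.card_map_dvd _ _) hcop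
  have hfix : ∀ w : ↥(Q.map (QuotientGroup.mk' N)), secAct Q N a w = w → w = 1 := by
    rintro ⟨_, q, hq, rfl⟩ h1
    have h2 := congrArg Subtype.val h1
    rw [secAct_apply_coe] at h2
    have h3 : QuotientGroup.mk' N (a * q * a⁻¹ * q⁻¹) = 1 := by
      rw [map_mul, map_mul, map_mul, map_inv, map_inv]
      have h2' : QuotientGroup.mk' N a * QuotientGroup.mk' N q * (QuotientGroup.mk' N a)⁻¹ =
        QuotientGroup.mk' N q := h2
      rw [h2', mul_inv_cancel]
    have h4 := hfpf q hq ((hmk1 _).1 h3)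
    exact Subtype.ext ((hmk1 _).2 h4)
  have hker : ∀ c ∈ P, c * a * c⁻¹ * a⁻¹ ∈ (secAct Q N).ker := by
    intro c hc
    rw [MonoidHom.mem_ker]
    exact frob_mulaut_gen (secAct Q N) P a hr har hcop' haP hPab hfix c hc
  have hcomm : ∀ c ∈ P, Commute (secAct Q N c) (secAct Q N a) := by
    intro c hc
    have h1 := hker c hc
    rw [MonoidHom.mem_ker, map_mul, map_mul, map_mul, map_inv, map_inv] at h1
    show secAct Q N c * secAct Q N a = secAct Q N a * secAct Q N c
    calc secAct Q N c * secAct Q N a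
        = (secAct Q N c * secAct Q N a * (secAct Q N c)⁻¹ * (secAct Q N a)⁻¹) *
            (secAct Q N a * secAct Q N c) := by group
      _ = secAct Q N a * secAct Q N c := by rw [h1, one_mul]
  have hPker : ⁅P, zpowers a⁆ ≤ (secAct Q N).ker := by
    rw [Subgroup.commutator_le]
    intro c hc ρ' hρ'
    obtain ⟨n, rfl⟩ := mem_zpowers_iff.1 hρ'
    rw [MonoidHom.mem_ker, commutatorElement_def, map_mul, map_mul, map_mul, map_inv, map_inv,
      map_zpow]
    have h1 := (hcomm c hc).zpow_right n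
    rw [h1.eq]; group
  intro x hx v hv
  exact (mem_ker_secAct Q N x).1 (hPker (hPR hx)) v hv

end Frob

section FR

/-- if `C_S(a) = 1` then every element of `S` is a commutator `[x, a]`, `x ∈ S`. -/
theorem le_commutator_zpowers {Γ : Type*} [Group Γ] [Finite Γ] (S : Subgroup Γ) (a : Γ)
    (haS : ∀ x ∈ S, a * x * a⁻¹ ∈ S) (hreg : ∀ x ∈ S, a * x = x * a → x = 1) :
    S ≤ ⁅S, zpowers a⁆ := by
  let f : S → S := fun x => ⟨x.1 * a * x.1⁻¹ * a⁻¹, by
    have h1 : x.1 * a * x.1⁻¹ * a⁻¹ = x.1 * (a * x.1⁻¹ * a⁻¹) := by group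
    rw [h1]
    exact S.mul_mem x.2 (haS _ (S.inv_mem x.2))⟩
  have hf : Function.Injective f := by
    intro x y hxy
    have h1 : x.1 * a * x.1⁻¹ * a⁻¹ = y.1 * a * y.1⁻¹ * a⁻¹ := congrArg Subtype.val hxy
    have h2 : x.1 * a * x.1⁻¹ = y.1 * a * y.1⁻¹ := mul_right_cancel h1
    have h3 : a * (y.1⁻¹ * x.1) = (y.1⁻¹ * x.1) * a := by
      calc a * (y.1⁻¹ * x.1) = y.1⁻¹ * (y.1 * a * y.1⁻¹) * x.1 := by group
        _ = y.1⁻¹ * (x.1 * a * x.1⁻¹) * x.1 := by rw [h2]
        _ = (y.1⁻¹ * x.1) * a := by group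
    have h4 := hreg _ (S.mul_mem (S.inv_mem y.2) x.2) h3
    apply Subtype.ext
    calc x.1 = y.1 * (y.1⁻¹ * x.1) := by group
      _ = y.1 := by rw [h4, mul_one]
  have hs : Function.Surjective f := Finite.injective_iff_surjective.mp hf
  intro u hu
  obtain ⟨x, hx⟩ := hs ⟨u, hu⟩
  have h1 : u = x.1 * a * x.1⁻¹ * a⁻¹ := (congrArg Subtype.val hx).symm
  rw [h1, ← commutatorElement_def]
  exact Subgroup.commutator_mem_commutator x.2 (mem_zpowers a)

/-- type-level core of (FR): `W, N ⊴ Γ`, `W / N` abelian, `C_W(a) ≤ N` ⇒ `[S, W] ≤ N`. -/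
theorem fr0 {Γ : Type*} [Group Γ] [Finite Γ] (W N S : Subgroup Γ) [hWn : W.Normal] [hNn : N.Normal]
    (hNW : N ≤ W) (hWN : ⁅W, W⁆ ≤ N) (a : Γ) {r : ℕ} (hr : r.Prime) (har : a ^ r = 1)
    (hcopS : (Nat.card S).Coprime (Nat.card W)) (hcopa : r.Coprime (Nat.card W))
    (haS : ∀ x ∈ S, a * x * a⁻¹ ∈ S) (hSab : ∀ x ∈ S, ∀ y ∈ S, x * y = y * x)
    (hreg : ∀ x ∈ S, a * x = x * a → x = 1)
    (hcentN : ∀ w ∈ W, a * w = w * a → w ∈ N) :
    ∀ x ∈ S, ∀ v ∈ W, x * v * x⁻¹ * v⁻¹ ∈ N := by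
  have hPR := le_commutator_zpowers S a haS hreg
  have hmk1 : ∀ g : Γ, QuotientGroup.mk' N g = 1 ↔ g ∈ N := fun g => QuotientGroup.eq_one_iff g
  have hfpf : ∀ q ∈ W, a * q * a⁻¹ * q⁻¹ ∈ N → q ∈ N := by
    intro q hq hqa
    have hcomm1 : Commute (QuotientGroup.mk' N q) (QuotientGroup.mk' N a) := by
      have h3 := (hmk1 _).2 hqa
      rw [map_mul, map_mul, map_mul, map_inv, map_inv] at h3
      show QuotientGroup.mk' N q * QuotientGroup.mk' N a = QuotientGroup.mk' N a * QuotientGroup.mk' N q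
      calc QuotientGroup.mk' N q * QuotientGroup.mk' N a
          = (QuotientGroup.mk' N a * QuotientGroup.mk' N q * (QuotientGroup.mk' N a)⁻¹ *
              (QuotientGroup.mk' N q)⁻¹)⁻¹ * (QuotientGroup.mk' N a * QuotientGroup.mk' N q) := by
            group
        _ = QuotientGroup.mk' N a * QuotientGroup.mk' N q := by rw [h3, inv_one, one_mul]
    have hcomm : ∀ a' ∈ zpowers a, q * a' * q⁻¹ * a'⁻¹ ∈ N := by
      intro a' ha'
      obtain ⟨n, rfl⟩ := mem_zpowers_iff.1 ha'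
      rw [← hmk1, map_mul, map_mul, map_mul, map_inv, map_inv, map_zpow]
      have h1 := hcomm1.zpow_right n
      rw [h1.eq]; group
    have hAH : zpowers a ≤ normalizer (W : Set Γ) := by
      rw [Subgroup.normalizer_eq_top]; exact le_top
    have hAN : zpowers a ≤ normalizer (N : Set Γ) := by
      rw [Subgroup.normalizer_eq_top]; exact le_top
    have hcop : (Nat.card (zpowers a)).Coprime (Nat.card W) := by
      rw [Nat.card_zpowers]
      exact Nat.Coprime.coprime_dvd_left (orderOf_dvd_of_pow_eq_one har) hcopa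
    have hsolv : Group.IsSolvable N ∨ Group.IsSolvable (zpowers a) := Or.inr inferInstance
    obtain ⟨n, hn, c, hc, rfl⟩ := Cfsg.Agent.Helper52.exists_mul_centralizer_of_comm_mem W N
      (zpowers a) hNW hAH hAN hcop hsolv q hq hcomm
    have hca : a * c = c * a := (Subgroup.mem_centralizer_iff.1 hc.2) a (mem_zpowers a)
    exact N.mul_mem hn (hcentN c hc.1 hca)
  exact section_trivial_gen W N S hWN a hr har hcopS haS hSab hPR hfpf

theorem mem_normalizer_of_conj_mem {Γ : Type*} [Group Γ] [Finite Γ] (X : Subgroup Γ) (g : Γ)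
    (h : ∀ u ∈ X, g * u * g⁻¹ ∈ X) : g ∈ normalizer (X : Set Γ) := by
  rw [Subgroup.mem_normalizer_iff_map_conj_eq]
  apply Subgroup.eq_of_le_of_card_ge
  · rintro _ ⟨u, hu, rfl⟩
    exact h u hu
  · rw [Subgroup.card_map_of_injective (MulAut.conj g).injective]

theorem conj_mem_of_mem_normalizer {Γ : Type*} [Group Γ] {X : Subgroup Γ} {g u : Γ}
    (hg : g ∈ normalizer (X : Set Γ)) (hu : u ∈ X) : g * u * g⁻¹ ∈ X :=
  (mem_normalizer_iff.1 hg u).1 hu

theorem commutator_self_lt {Γ : Type*} [Group Γ] [Finite Γ] {s : ℕ} [Fact s.Prime]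
    (W : Subgroup Γ) (hW : IsPGroup s W) (hW1 : W ≠ ⊥) : ⁅W, W⁆ < W := by
  haveI : Group.IsNilpotent ↥W := hW.isNilpotent
  haveI : Nontrivial ↥W := (Subgroup.nontrivial_iff_ne_bot W).2 hW1
  have h1 : commutator ↥W < ⊤ := Group.IsSolvable.commutator_lt_top_of_nontrivial ↥W
  have h2 : (commutator ↥W).map W.subtype = ⁅W, W⁆ := by
    rw [commutator_def, Subgroup.map_commutator, ← MonoidHom.range_eq_map, Subgroup.range_subtype]
  rw [← h2]
  have h3 : (⊤ : Subgroup ↥W).map W.subtype = W := by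
    rw [← MonoidHom.range_eq_map, Subgroup.range_subtype]
  calc (commutator ↥W).map W.subtype < (⊤ : Subgroup ↥W).map W.subtype :=
        (Subgroup.map_subtype_lt_map_subtype).2 h1
    _ = W := h3

/-- **(FR)** `S` abelian, `a` of prime order `r` normalizing `S` with `C_S(a) = 1`; both act on the
`s`-group `W` (`s ∤ |S|`, `s ≠ r`).  If `C_W(a)` is centralized by `S`, then `S` centralizes `W`. -/
theorem frob_fact {G : Type*} [Group G] [Finite G] {s r : ℕ} [hs : Fact s.Prime] (hr : r.Prime)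
    (S : Subgroup G) (a : G)
    (hSab : ∀ x ∈ S, ∀ y ∈ S, x * y = y * x)
    (hSs : (Nat.card S).Coprime s) (hsr : s ≠ r) (har : a ^ r = 1)
    (haS : a ∈ normalizer (S : Set G))
    (hreg : ∀ x ∈ S, a * x = x * a → x = 1) :
    ∀ (n : ℕ) (W : Subgroup G), Nat.card W = n → IsPGroup s W → S ≤ normalizer (W : Set G) →
      a ∈ normalizer (W : Set G) →
      (∀ w ∈ W, a * w = w * a → ∀ x ∈ S, x * w = w * x) → W ≤ centralizer (S : Set G) := by
  intro n
  induction n using Nat.strong_induction_on with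
  | _ n ih =>
  intro W hn hW hSW haW hcent
  by_cases hW1 : W = ⊥
  · rw [hW1]; exact bot_le
  obtain ⟨D, hD⟩ : ∃ D : Subgroup G, D = ⁅W, W⁆ := ⟨_, rfl⟩
  have hDlt : D < W := by rw [hD]; exact commutator_self_lt W hW hW1
  have hDW : D ≤ W := hDlt.le
  have hNWD : normalizer (W : Set G) ≤ normalizer (D : Set G) := by
    intro g hg
    rw [Subgroup.mem_normalizer_iff_map_conj_eq] at hg ⊢
    rw [hD, Subgroup.map_commutator, hg]
  -- induction hypothesis on D
  have hDcent : D ≤ centralizer (S : Set G) := by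
    refine ih (Nat.card D) ?_ D rfl (hW.to_le hDW) (hSW.trans hNWD) (hNWD haW) ?_
    · rw [← hn]
      by_contra hge
      exact hDlt.ne (Subgroup.eq_of_le_of_card_ge hDW (not_lt.1 hge))
    · intro w hw
      exact hcent w (hDW hw)
  obtain ⟨E, hE⟩ : ∃ E : Subgroup G, E = W ⊓ centralizer (S : Set G) := ⟨_, rfl⟩
  obtain ⟨N, hN⟩ : ∃ N : Subgroup G, N = D ⊔ E := ⟨_, rfl⟩
  have hEW : E ≤ W := by rw [hE]; exact inf_le_left
  have hEc : E ≤ centralizer (S : Set G) := by rw [hE]; exact inf_le_right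
  have hNW : N ≤ W := by rw [hN]; exact sup_le hDW hEW
  have hNc : N ≤ centralizer (S : Set G) := by rw [hN]; exact sup_le hDcent hEc
  have hDN : D ≤ N := by rw [hN]; exact le_sup_left
  have hEN : E ≤ N := by rw [hN]; exact le_sup_right
  -- normalizers
  have hsup : ∀ g : G, g ∈ normalizer (D : Set G) → g ∈ normalizer (E : Set G) →
      g ∈ normalizer (N : Set G) := by
    intro g h1 h2
    rw [Subgroup.mem_normalizer_iff_map_conj_eq] at h1 h2 ⊢
    rw [hN, Subgroup.map_sup, h1, h2]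
  have hSE : S ≤ normalizer (E : Set G) := by
    intro u hu
    apply mem_normalizer_of_conj_mem
    intro x hx
    have h1 : u * x = x * u := (Subgroup.mem_centralizer_iff.1 (hEc hx)) u hu
    have h2 : u * x * u⁻¹ = x := by rw [h1]; group
    rw [h2]; exact hx
  have haE : a ∈ normalizer (E : Set G) := by
    apply mem_normalizer_of_conj_mem
    intro x hx
    rw [hE]
    refine ⟨conj_mem_of_mem_normalizer haW (hEW hx), ?_⟩
    show a * x * a⁻¹ ∈ centralizer (S : Set G)
    rw [Subgroup.mem_centralizer_iff]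
    intro u hu
    have hu' : a⁻¹ * u * a⁻¹⁻¹ ∈ S :=
      conj_mem_of_mem_normalizer ((normalizer (S : Set G)).inv_mem haS) hu
    have h1 : (a⁻¹ * u * a⁻¹⁻¹) * x = x * (a⁻¹ * u * a⁻¹⁻¹) :=
      (Subgroup.mem_centralizer_iff.1 (hEc hx)) _ hu'
    calc u * (a * x * a⁻¹) = a * ((a⁻¹ * u * a⁻¹⁻¹) * x) * a⁻¹ := by group
      _ = a * (x * (a⁻¹ * u * a⁻¹⁻¹)) * a⁻¹ := by rw [h1]
      _ = a * x * a⁻¹ * u := by group
  have hSN : S ≤ normalizer (N : Set G) := fun u hu => hsup u (hNWD (hSW hu)) (hSE hu)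
  have haN : a ∈ normalizer (N : Set G) := hsup a (hNWD haW) haE
  have hWN : W ≤ normalizer (N : Set G) := by
    intro w hw
    apply mem_normalizer_of_conj_mem
    intro x hx
    have h1 : w * x * w⁻¹ = ⁅w, x⁆ * x := by rw [commutatorElement_def]; group
    rw [h1]
    refine N.mul_mem (hDN ?_) hx
    rw [hD]
    exact Subgroup.commutator_mem_commutator hw (hNW hx)
  -- the ambient group
  obtain ⟨K, hK⟩ : ∃ K : Subgroup G, K = normalizer (W : Set G) ⊓ normalizer (N : Set G) :=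
    ⟨_, rfl⟩
  have hSK : S ≤ K := by rw [hK]; exact le_inf hSW hSN
  have haK : a ∈ K := by rw [hK]; exact ⟨haW, haN⟩
  have hWK : W ≤ K := by rw [hK]; exact le_inf le_normalizer hWN
  have hNK : N ≤ K := hNW.trans hWK
  haveI hWn : (W.subgroupOf K).Normal :=
    Subgroup.normal_subgroupOf_of_le_normalizer (by rw [hK]; exact inf_le_left)
  haveI hNn : (N.subgroupOf K).Normal :=
    Subgroup.normal_subgroupOf_of_le_normalizer (by rw [hK]; exact inf_le_right)
  have hcardW : Nat.card (W.subgroupOf K) = Nat.card W :=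
    Nat.card_congr (Subgroup.subgroupOfEquivOfLe hWK).toEquiv
  have hcardS : Nat.card (S.subgroupOf K) = Nat.card S :=
    Nat.card_congr (Subgroup.subgroupOfEquivOfLe hSK).toEquiv
  obtain ⟨k, hk⟩ := IsPGroup.iff_card.1 hW
  have key := fr0 (W.subgroupOf K) (N.subgroupOf K) (S.subgroupOf K)
    (Subgroup.subgroupOf_mono K hNW)
    (by
      rw [Subgroup.commutator_le]
      intro x hx y hy
      rw [Subgroup.mem_subgroupOf]
      apply hDN
      rw [hD]
      have : ((⁅x, y⁆ : K) : G) = ⁅(x : G), (y : G)⁆ := by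
        rw [commutatorElement_def, commutatorElement_def]; simp
      rw [this]
      exact Subgroup.commutator_mem_commutator (Subgroup.mem_subgroupOf.1 hx)
        (Subgroup.mem_subgroupOf.1 hy))
    (⟨a, haK⟩ : K) hr (Subtype.ext (by simpa using har))
    (by rw [hcardW, hcardS, hk]; exact Nat.Coprime.pow_right k hSs)
    (by
      rw [hcardW, hk]
      exact Nat.Coprime.pow_right k ((Nat.coprime_primes hr hs.out).2 (Ne.symm hsr)))
    (by
      intro x hx
      rw [Subgroup.mem_subgroupOf] at hx ⊢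
      exact conj_mem_of_mem_normalizer haS hx)
    (by
      intro x hx y hy
      apply Subtype.ext
      exact hSab _ (Subgroup.mem_subgroupOf.1 hx) _ (Subgroup.mem_subgroupOf.1 hy))
    (by
      intro x hx hxa
      apply Subtype.ext
      exact hreg _ (Subgroup.mem_subgroupOf.1 hx) (congrArg Subtype.val hxa))
    (by
      intro w hw hwa
      rw [Subgroup.mem_subgroupOf] at hw ⊢
      apply hEN
      rw [hE]
      refine ⟨hw, ?_⟩
      show (w : G) ∈ centralizer (S : Set G)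
      rw [Subgroup.mem_centralizer_iff]
      intro u hu
      exact hcent _ hw (congrArg Subtype.val hwa) u hu)
  have key' : ∀ x ∈ S, ∀ v ∈ W, x * v * x⁻¹ * v⁻¹ ∈ N := by
    intro x hx v hv
    have := key ⟨x, hSK hx⟩ (Subgroup.mem_subgroupOf.2 hx) ⟨v, hWK hv⟩ (Subgroup.mem_subgroupOf.2 hv)
    rw [Subgroup.mem_subgroupOf] at this
    simpa using this
  -- conclude
  have hcomm : ⁅W, S⁆ ≤ centralizer (S : Set G) := by
    rw [Subgroup.commutator_le]
    intro w hw u hu
    have h1 : ⁅w, u⁆ = (u * w * u⁻¹ * w⁻¹)⁻¹ := by rw [commutatorElement_def]; group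
    rw [h1]
    exact (centralizer (S : Set G)).inv_mem (hNc (key' u hu w hw))
  have h2 : ⁅⁅W, S⁆, S⁆ = ⊥ := Subgroup.commutator_eq_bot_iff_le_centralizer.2 hcomm
  have hcop : (Nat.card S).Coprime (Nat.card W) := by
    rw [hk]; exact Nat.Coprime.pow_right k hSs
  haveI : Group.IsNilpotent ↥W := hW.isNilpotent
  have h3 := Cfsg.Agent.Helper52.commutator_commutator_eq W S hSW hcop (Or.inr inferInstance)
  rw [h2] at h3
  exact Subgroup.commutator_eq_bot_iff_le_centralizer.1 h3.symm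

end FR

end Cfsg.Agent.Helper11.BGAsym
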