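import Mathlib
import Cfsg.Agent.Lib.Helper11.BGAsymDefs
import Cfsg.Agent.Lib.Helper11.BGAsymFR
import Cfsg.Agent.Lib.Helper11.AZ4
import Cfsg.Agent.Lib.Helper52.CoprimeSylow
import Cfsg.Agent.Lib.Helper52.Coprime
import Cfsg.Agent.Lib.Helper22.Radical
import Cfsg.Agent.Lib.Helper29.BG12
import Cfsg.Agent.Lib.Helper76.EqOrd1
import Cfsg.Agent.Lib.Helper24.SZInternal

/-! The abstract `τ₁`-asymmetry lemma: what one side gives. -/

set_option autoImplicit false
set_option linter.style.haveILetI false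
set_option linter.unusedSectionVars false

namespace Cfsg.Agent.Helper11.BGAsym

open Subgroup Cfsg.Agent.Helper52
open scoped commutatorElement

variable {G : Type*} [Group G]

/-- a subgroup of `M` of order prime to `|M : A|` lies in the normal subgroup `A`. -/
theorem le_of_hall_normal [Finite G] {s : ℕ} [Fact s.Prime] (A M V : Subgroup G)
    (hAn : M ≤ normalizer (A : Set G)) (hhall : (Nat.card A).Coprime (A.relIndex M))
    (hsA : s ∣ Nat.card A) (hVM : V ≤ M) (hV : IsPGroup s V) : V ≤ A := by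
  haveI : (A.subgroupOf M).Normal := Subgroup.normal_subgroupOf_of_le_normalizer hAn
  have h1 : ¬ s ∣ (A.subgroupOf M).index := by
    intro h
    have h2 : s ∣ Nat.gcd (Nat.card A) (A.relIndex M) := Nat.dvd_gcd hsA h
    rw [hhall.gcd_eq_one] at h2
    exact (Fact.out : s.Prime).one_lt.ne' (Nat.dvd_one.1 h2)
  have h3 := Cfsg.Agent.Helper29.BG12.pgroup_le_of_normal_of_not_dvd_index (A.subgroupOf M) h1
    (V.subgroupOf M) hV.comap_subtype
  intro v hv
  have h4 : (⟨v, hVM hv⟩ : M) ∈ V.subgroupOf M := Subgroup.mem_subgroupOf.2 hv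
  exact Subgroup.mem_subgroupOf.1 (h3 h4)

/-- conjugating by `c⁻¹` (form used with `Helper52.mem_map_conj`). -/
theorem conj_inv_mem_of_le_map {H K : Subgroup G} {c x : G}
    (h : K ≤ H.map (MulAut.conj c).toMonoidHom) (hx : x ∈ K) : c⁻¹ * x * c ∈ H :=
  mem_map_conj.1 (h hx)

theorem normalizer_le_normalizer_commutator' (T S : Subgroup G) :
    normalizer (T : Set G) ⊓ normalizer (S : Set G) ≤ normalizer ((⁅T, S⁆ : Subgroup G) : Set G) := by
  intro g hg
  have h1 : g ∈ normalizer (T : Set G) := (Subgroup.mem_inf.1 hg).1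
  have h2 : g ∈ normalizer (S : Set G) := (Subgroup.mem_inf.1 hg).2
  rw [Subgroup.mem_normalizer_iff_map_conj_eq] at h1 h2 ⊢
  rw [Subgroup.map_commutator, h1, h2]

/-- the `s`-part of a group order is the order of an `s`-subgroup containing ... -/
theorem isPGroup_of_card_sylCard [Finite G] {s : ℕ} [Fact s.Prime] {T K : Subgroup G}
    (h : Nat.card T = sylCard s K) : IsPGroup s T :=
  IsPGroup.of_card h

theorem exists_gen_of_card_prime [Finite G] {p : ℕ} [hp : Fact p.Prime] (P : Subgroup G)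
    (hP : Nat.card P = p) : ∃ a ∈ P, a ^ p = 1 ∧ ∀ y ∈ P, y ∈ zpowers a := by
  haveI : IsCyclic P := isCyclic_of_prime_card hP
  obtain ⟨g, hg⟩ := IsCyclic.exists_generator (α := P)
  refine ⟨g.1, g.2, ?_, ?_⟩
  · have h1 : g ^ p = 1 := by rw [← hP]; exact pow_card_eq_one'
    simpa using congrArg Subtype.val h1
  · intro y hy
    obtain ⟨k, hk⟩ := mem_zpowers_iff.1 (hg ⟨y, hy⟩)
    rw [mem_zpowers_iff]
    exact ⟨k, by simpa using congrArg Subtype.val hk⟩

theorem mem_centralizer_of_gen {P : Subgroup G} {a w : G} (hgen : ∀ y ∈ P, y ∈ zpowers a)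
    (h : a * w = w * a) : w ∈ centralizer (P : Set G) := by
  rw [mem_centralizer_iff]
  intro y hy
  obtain ⟨k, rfl⟩ := mem_zpowers_iff.1 (hgen y hy)
  have h1 : Commute a w := h
  exact (h1.zpow_left k).eq

theorem exists_sylow_not_centralized [Finite G] (A SP S : Subgroup G)
    (hSPA : SP ≤ normalizer (A : Set G))
    (hcop : (Nat.card SP).Coprime (Nat.card A)) (hsol : Group.IsSolvable A)
    (hne : ¬ A ≤ centralizer (S : Set G)) :
    ∃ (s : ℕ) (T : Subgroup G), s.Prime ∧ T ≤ A ∧ Nat.card T = sylCard s A ∧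
      SP ≤ normalizer (T : Set G) ∧ ¬ T ≤ centralizer (S : Set G) := by
  by_contra hcon
  push Not at hcon
  apply hne
  have hD : Nat.card A ∣ Nat.card ↥(A ⊓ centralizer (S : Set G)) := by
    rw [← Nat.factorization_prime_le_iff_dvd Nat.card_pos.ne' Nat.card_pos.ne']
    intro s hs
    haveI : Fact s.Prime := ⟨hs⟩
    obtain ⟨T, hTA, hTc, hTn⟩ := exists_invariant_sylow SP A hSPA hcop (Or.inr hsol) s
    have hTC := hcon s T hs hTA hTc hTn
    have h1 : Nat.card T ∣ Nat.card ↥(A ⊓ centralizer (S : Set G)) :=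
      Subgroup.card_dvd_of_le (le_inf hTA hTC)
    rw [hTc, sylCard] at h1
    exact (hs.pow_dvd_iff_le_factorization Nat.card_pos.ne').1 h1
  have h2 : A ⊓ centralizer (S : Set G) = A :=
    Subgroup.eq_of_le_of_card_ge inf_le_left (Nat.le_of_dvd Nat.card_pos hD)
  rw [← h2]; exact inf_le_right

end Cfsg.Agent.Helper11.BGAsym
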