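import Mathlib
import Cfsg.Agent.Lib.Helper11.BGAsymSide
import Cfsg.Agent.Lib.Helper24.Coprime

/-! The abstract `τ₁`-asymmetry lemma: the data one side gives. -/

set_option autoImplicit false
set_option linter.style.haveILetI false
set_option linter.unusedSectionVars false
set_option maxHeartbeats 800000

namespace Cfsg.Agent.Helper11.BGAsym

open Subgroup Cfsg.Agent.Helper52
open scoped commutatorElement

variable {G : Type*} [Group G]

/-- what one side contributes to the asymmetry argument -/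
structure SideData (S P M A : Subgroup G) (s : ℕ) (U : Subgroup G) : Prop where
  hs : s.Prime
  hsA : s ∣ Nat.card A
  hUA : U ≤ A ⊓ centralizer (P : Set G)
  hUc : IsCyclic U
  hU1 : U ≠ ⊥
  hUsyl : Nat.card U = sylCard s (centralizer (P : Set G))
  hX : ∀ X : Subgroup G, X ≤ U → Nat.card X = s → normalizer (X : Set G) ≤ M
  hend : ∀ Y : Subgroup G, Y ≤ A ⊓ centralizer (P : Set G) ⊓ centralizer (S : Set G) →
    Nat.card Y = Nat.card U → False

theorem exists_sideData [Finite G] {p q : ℕ} [hp : Fact p.Prime] [hq : Fact q.Prime]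
    (S P M A : Subgroup G) (hSq : IsPGroup q S)
    (hSab : ∀ x ∈ S, ∀ y ∈ S, x * y = y * x)
    (hP : Nat.card P = p) (hPN : P ≤ normalizer (S : Set G))
    (hreg : ∀ x ∈ S, (∀ y ∈ P, y * x = x * y) → x = 1)
    (h : Side S P M A p q) : ∃ (s : ℕ) (U : Subgroup G), SideData S P M A s U := by
  obtain ⟨a, haP, hap, hgen⟩ := exists_gen_of_card_prime P hP
  have haS : a ∈ normalizer (S : Set G) := hPN haP
  have hreg' : ∀ x ∈ S, a * x = x * a → x = 1 := by
    intro x hx hax
    apply hreg x hx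
    intro y hy
    exact (mem_centralizer_iff.1 (mem_centralizer_of_gen hgen hax)) y hy
  have hSM : S ≤ M := le_normalizer.trans h.hNM
  have hPM : P ≤ M := hPN.trans h.hNM
  obtain ⟨SP, hSP⟩ : ∃ SP : Subgroup G, SP = S ⊔ P := ⟨_, rfl⟩
  have hS_SP : S ≤ SP := by rw [hSP]; exact le_sup_left
  have hP_SP : P ≤ SP := by rw [hSP]; exact le_sup_right
  have hSPA : SP ≤ normalizer (A : Set G) := by
    rw [hSP]; exact sup_le (hSM.trans h.hAn) (hPM.trans h.hAn)
  obtain ⟨k, hk⟩ := IsPGroup.iff_card.1 hSq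
  have hcopS : (Nat.card S).Coprime (Nat.card A) := by
    rw [hk]; exact (Nat.Coprime.pow_right k h.hq).symm
  have hcopP : (Nat.card P).Coprime (Nat.card A) := by rw [hP]; exact h.hp.symm
  have hcop : (Nat.card SP).Coprime (Nat.card A) := by
    rw [hSP, sup_comm]
    exact Nat.Coprime.coprime_dvd_left
      (Cfsg.Agent.Helper22.card_sup_dvd_of_le_normalizer hPN) (Nat.Coprime.mul_left hcopP hcopS)
  -- Step 1: the Sylow subgroup `T`
  obtain ⟨s, T, hs, hTA, hTc, hTn, hTS⟩ :=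
    exists_sylow_not_centralized A SP S hSPA hcop h.hsol h.hne
  haveI : Fact s.Prime := ⟨hs⟩
  have hTs : IsPGroup s T := IsPGroup.of_card hTc
  have hST : S ≤ normalizer (T : Set G) := hS_SP.trans hTn
  have hPT : P ≤ normalizer (T : Set G) := hP_SP.trans hTn
  have haT : a ∈ normalizer (T : Set G) := hPT haP
  have hsA : s ∣ Nat.card A := by
    by_contra hsA
    have h0 : (Nat.card A).factorization s = 0 := Nat.factorization_eq_zero_of_not_dvd hsA
    have h1 : Nat.card T = 1 := by rw [hTc, sylCard, h0, pow_zero]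
    apply hTS
    rw [Subgroup.card_eq_one.1 h1]; exact bot_le
  have hcopST : (Nat.card S).Coprime (Nat.card T) :=
    Nat.Coprime.coprime_dvd_right (Subgroup.card_dvd_of_le hTA) hcopS
  have hsq : (Nat.card S).Coprime s := by
    have h1 : s ∣ Nat.card A := hsA
    exact Nat.Coprime.coprime_dvd_right h1 hcopS
  have hsp : s ≠ p := by
    intro hsp
    have h1 : p ∣ Nat.card A := hsp ▸ hsA
    have h2 : p ∣ Nat.gcd (Nat.card A) p := Nat.dvd_gcd h1 dvd_rfl
    rw [h.hp.gcd_eq_one] at h2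
    exact hp.out.one_lt.ne' (Nat.dvd_one.1 h2)
  -- Step 2: `W = [T, S]`
  obtain ⟨W, hW⟩ : ∃ W : Subgroup G, W = ⁅T, S⁆ := ⟨_, rfl⟩
  have hWT : W ≤ T := by
    rw [hW]; exact Cfsg.Agent.Helper24.commutator_le_of_le_normalizer T S hST
  have hWs : IsPGroup s W := hTs.to_le hWT
  have hSW : S ≤ normalizer (W : Set G) := by
    rw [hW]; exact Subgroup.normalizer_commutator_ge_right T S
  have haW : a ∈ normalizer (W : Set G) := by
    rw [hW]; exact normalizer_le_normalizer_commutator' T S ⟨haT, haS⟩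
  have hWA : W ≤ ⁅A, S⁆ := by rw [hW]; exact Subgroup.commutator_mono hTA le_rfl
  -- the key non-centralized element
  have hex : ∃ w ∈ W, a * w = w * a ∧ ∃ x ∈ S, x * w ≠ w * x := by
    by_contra hcon
    push Not at hcon
    have hWc : W ≤ centralizer (S : Set G) :=
      frob_fact hp.out S a hSab hsq hsp hap haS hreg' (Nat.card W) W rfl hWs hSW haW hcon
    have h2 : ⁅⁅T, S⁆, S⁆ = ⊥ := by
      rw [← hW]; exact Subgroup.commutator_eq_bot_iff_le_centralizer.2 hWc
    have h3 := Cfsg.Agent.Helper24.commutator_eq_bot_of_coprime T S hST hcopST h2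
    exact hTS (Subgroup.commutator_eq_bot_iff_le_centralizer.1 h3)
  obtain ⟨w₀, hw₀W, hw₀a, x₀, hx₀S, hx₀w⟩ := hex
  have hw₀P : w₀ ∈ centralizer (P : Set G) := mem_centralizer_of_gen hgen hw₀a
  have hw₀1 : w₀ ≠ 1 := by
    intro h1; apply hx₀w; rw [h1]; simp
  obtain ⟨U, hU⟩ : ∃ U : Subgroup G, U = T ⊓ centralizer (P : Set G) := ⟨_, rfl⟩
  have hUT : U ≤ T := by rw [hU]; exact inf_le_left
  have hUP : U ≤ centralizer (P : Set G) := by rw [hU]; exact inf_le_right
  have hUA : U ≤ A ⊓ centralizer (P : Set G) := le_inf (hUT.trans hTA) hUP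
  have hUs : IsPGroup s U := hTs.to_le hUT
  have hUc : IsCyclic U := h.hZ s U hs hUs hUA
  have hw₀U : w₀ ∈ U := by rw [hU]; exact ⟨hWT hw₀W, hw₀P⟩
  have hU1 : U ≠ ⊥ := by
    intro h1; rw [h1, Subgroup.mem_bot] at hw₀U; exact hw₀1 hw₀U
  have hUnotS : ¬ U ≤ centralizer (S : Set G) := by
    intro h1
    exact hx₀w ((mem_centralizer_iff.1 (h1 hw₀U)) x₀ hx₀S)
  -- subgroups of order `s` of `U` lie in `W`
  have hXW : ∀ X : Subgroup G, X ≤ U → Nat.card X = s → X ≤ W := by
    intro X hXU hXc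
    have hWU1 : W ⊓ U ≠ ⊥ := by
      intro h1
      have : w₀ ∈ W ⊓ U := ⟨hw₀W, hw₀U⟩
      rw [h1, Subgroup.mem_bot] at this; exact hw₀1 this
    have hWUs : IsPGroup s ↥(W ⊓ U) := hWs.to_le inf_le_left
    have hdvd : s ∣ Nat.card ↥(W ⊓ U) := by
      obtain ⟨m, hm⟩ := IsPGroup.iff_card.1 hWUs
      rw [hm]
      have hm0 : m ≠ 0 := by
        intro h0; rw [h0, pow_zero] at hm
        exact hWU1 (Subgroup.card_eq_one.1 hm)
      exact dvd_pow_self s hm0
    obtain ⟨y, hy⟩ := exists_prime_orderOf_dvd_card' s hdvd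
    obtain ⟨X₀, hX₀⟩ : ∃ X₀ : Subgroup G, X₀ = zpowers (y : G) := ⟨_, rfl⟩
    have hX₀c : Nat.card X₀ = s := by
      rw [hX₀, Nat.card_zpowers, Subgroup.orderOf_coe, hy]
    have hX₀le : X₀ ≤ W ⊓ U := by
      rw [hX₀, Subgroup.zpowers_le]; exact y.2
    haveI : IsCyclic U := hUc
    have heq : X = X₀ := Cfsg.Agent.Helper76.EqOrd.eq_of_card_eq_of_le_isCyclic U X X₀ hXU
      (hX₀le.trans inf_le_right) (by rw [hXc, hX₀c])
    rw [heq]; exact hX₀le.trans inf_le_left
  have hX : ∀ X : Subgroup G, X ≤ U → Nat.card X = s → normalizer (X : Set G) ≤ M := by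
    intro X hXU hXc
    exact h.hU X ((hXW X hXU hXc).trans hWA) (by rw [hXc]; exact hs)
  have hPA : P ≤ normalizer (A : Set G) := hP_SP.trans hSPA
  have hconjU : ∀ (c x : G), c ∈ centralizer (P : Set G) → x ∈ centralizer (P : Set G) →
      c⁻¹ * x * c ∈ T → (MulAut.conj c⁻¹).toMonoidHom x ∈ U := by
    intro c x hc hx h1
    have h2 : (MulAut.conj c⁻¹).toMonoidHom x = c⁻¹ * x * c := by simp
    rw [h2, hU]
    exact ⟨h1, (centralizer (P : Set G)).mul_mem
      ((centralizer (P : Set G)).mul_mem ((centralizer (P : Set G)).inv_mem hc) hx) hc⟩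
  refine ⟨s, U, hs, hsA, hUA, hUc, hU1, ?_, hX, ?_⟩
  · -- Step 3: `U` is a Sylow subgroup of `C_G(P)`
    obtain ⟨C, hC⟩ : ∃ C : Subgroup G, C = centralizer (P : Set G) := ⟨_, rfl⟩
    rw [← hC]
    have hUC : U ≤ C := by rw [hC]; exact hUP
    have hUs' : IsPGroup s (U.subgroupOf C) := hUs.comap_subtype
    obtain ⟨Sy, hSy⟩ := hUs'.exists_le_sylow
    obtain ⟨Uh, hUh⟩ : ∃ Uh : Subgroup G, Uh = (Sy : Subgroup C).map C.subtype := ⟨_, rfl⟩
    have hUhc : Nat.card Uh = sylCard s C := by rw [hUh]; exact card_sylow_map s C Sy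
    have hUhC : Uh ≤ C := by
      rw [hUh]; rintro x ⟨y, _, rfl⟩; exact y.2
    have hUUh : U ≤ Uh := by
      intro u hu
      rw [hUh]
      exact ⟨⟨u, hUC hu⟩, hSy (Subgroup.mem_subgroupOf.2 hu), rfl⟩
    have hUhs : IsPGroup s Uh := IsPGroup.of_card hUhc
    by_contra hne
    have hlt : U < Uh := lt_of_le_of_ne hUUh (fun h1 => hne (by rw [h1]; exact hUhc))
    obtain ⟨v, hvUh, hvN, hvU⟩ := Cfsg.Agent.Helper11.AZ.exists_normalizer_not_mem hUhs hlt
    obtain ⟨V, hV⟩ : ∃ V : Subgroup G, V = Uh ⊓ normalizer (U : Set G) := ⟨_, rfl⟩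
    have hUV : U ≤ V := by rw [hV]; exact le_inf hUUh le_normalizer
    have hvV : v ∈ V := by rw [hV]; exact ⟨hvUh, hvN⟩
    have hVUh : V ≤ Uh := by rw [hV]; exact inf_le_left
    have hVN : V ≤ normalizer (U : Set G) := by rw [hV]; exact inf_le_right
    have hVs : IsPGroup s V := hUhs.to_le hVUh
    have hVC : V ≤ centralizer (P : Set G) := by rw [← hC]; exact hVUh.trans hUhC
    -- the subgroup of order `s` of `U`
    have hdvdU : s ∣ Nat.card U := by
      obtain ⟨m, hm⟩ := IsPGroup.iff_card.1 hUs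
      rw [hm]
      have hm0 : m ≠ 0 := by
        intro h0; rw [h0, pow_zero] at hm
        exact hU1 (Subgroup.card_eq_one.1 hm)
      exact dvd_pow_self s hm0
    obtain ⟨y, hy⟩ := exists_prime_orderOf_dvd_card' s hdvdU
    obtain ⟨X₁, hX₁⟩ : ∃ X₁ : Subgroup G, X₁ = zpowers (y : G) := ⟨_, rfl⟩
    have hX₁c : Nat.card X₁ = s := by
      rw [hX₁, Nat.card_zpowers, Subgroup.orderOf_coe, hy]
    have hX₁U : X₁ ≤ U := by
      rw [hX₁, Subgroup.zpowers_le]; exact y.2
    have hNU : normalizer (U : Set G) ≤ normalizer (X₁ : Set G) := by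
      intro g hg
      apply mem_normalizer_of_map_conj_eq
      have h1 : X₁.map (MulAut.conj g).toMonoidHom ≤ U := by
        rw [← map_conj_eq_of_mem_normalizer hg]; exact Subgroup.map_mono hX₁U
      haveI : IsCyclic U := hUc
      exact Cfsg.Agent.Helper76.EqOrd.eq_of_card_eq_of_le_isCyclic U _ X₁ h1 hX₁U
        (by rw [card_map_conj])
    have hVM : V ≤ M := hVN.trans (hNU.trans (hX X₁ hX₁U hX₁c))
    have hVA : V ≤ A := le_of_hall_normal A M V h.hAn h.hhall hsA hVM hVs
    have hPV : P ≤ normalizer (V : Set G) :=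
      (Subgroup.le_centralizer_iff.1 hVC).trans (Subgroup.centralizer_le_normalizer _)
    obtain ⟨T', hT'A, hT'c, hVT', hPT'⟩ := exists_invariant_sylow_ge P A hPA hcopP
      (Or.inr h.hsol) s V hVA hVs hPV
    obtain ⟨c, hc, hT'eq⟩ := exists_centralizer_conj_of_invariant P A hPA hcopP
      (Or.inr h.hsol) s T T' hTA hT'A hTc hT'c hPT hPT'
    have hle : V.map (MulAut.conj c⁻¹).toMonoidHom ≤ U := by
      rintro _ ⟨x, hx, rfl⟩
      apply hconjU c x hc.2 (hVC hx)
      exact conj_inv_mem_of_le_map (hT'eq ▸ hVT') hx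
    have hcard : Nat.card V ≤ Nat.card U := by
      rw [← card_map_conj c⁻¹ V]; exact Subgroup.card_le_of_le hle
    have hUVeq : U = V := Subgroup.eq_of_le_of_card_ge hUV hcard
    exact hvU (hUVeq ▸ hvV)
  · -- Step 4: the end game
    intro Y hY hYc
    have hYA : Y ≤ A := hY.trans (inf_le_left.trans inf_le_left)
    have hYP : Y ≤ centralizer (P : Set G) := hY.trans (inf_le_left.trans inf_le_right)
    have hYS : Y ≤ centralizer (S : Set G) := hY.trans inf_le_right
    have hYs : IsPGroup s Y := by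
      obtain ⟨m, hm⟩ := IsPGroup.iff_card.1 hUs
      exact IsPGroup.of_card (hYc.trans hm)
    have hSPY : SP ≤ normalizer (Y : Set G) := by
      rw [hSP]
      exact sup_le
        ((Subgroup.le_centralizer_iff.1 hYS).trans (Subgroup.centralizer_le_normalizer _))
        ((Subgroup.le_centralizer_iff.1 hYP).trans (Subgroup.centralizer_le_normalizer _))
    obtain ⟨T', hT'A, hT'c, hYT', hSPT'⟩ := exists_invariant_sylow_ge SP A hSPA hcop
      (Or.inr h.hsol) s Y hYA hYs hSPY
    obtain ⟨c, hc, hT'eq⟩ := exists_centralizer_conj_of_invariant SP A hSPA hcop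
      (Or.inr h.hsol) s T T' hTA hT'A hTc hT'c hTn hSPT'
    have hcP : c ∈ centralizer (P : Set G) :=
      Subgroup.centralizer_le (SetLike.coe_subset_coe.2 hP_SP) hc.2
    have hcS : c ∈ centralizer (S : Set G) :=
      Subgroup.centralizer_le (SetLike.coe_subset_coe.2 hS_SP) hc.2
    have hle : Y.map (MulAut.conj c⁻¹).toMonoidHom ≤ U := by
      rintro _ ⟨x, hx, rfl⟩
      apply hconjU c x hcP (hYP hx)
      exact conj_inv_mem_of_le_map (hT'eq ▸ hYT') hx
    have heq : Y.map (MulAut.conj c⁻¹).toMonoidHom = U :=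
      Subgroup.eq_of_le_of_card_ge hle (by rw [card_map_conj, hYc])
    apply hUnotS
    rw [← heq]
    rintro _ ⟨y, hy, rfl⟩
    have h2 : (MulAut.conj c⁻¹).toMonoidHom y = c⁻¹ * y * c := by simp
    rw [h2]
    exact (centralizer (S : Set G)).mul_mem
      ((centralizer (S : Set G)).mul_mem ((centralizer (S : Set G)).inv_mem hcS) (hYS hy)) hcS

end Cfsg.Agent.Helper11.BGAsym
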