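import Mathlib
import Cfsg.Agent.Lib.Helper11.BGAsymSide2
import Cfsg.Agent.Lib.Helper41.BGAsymZ
import Cfsg.Agent.Lib.Helper24.SZConj

/-!
# The abstract `τ₁`-asymmetry lemma (B–G 12.17 in the shape needed for the σ-partition 13.9)
-/

set_option autoImplicit false
set_option linter.style.haveILetI false
set_option linter.unusedSectionVars false
set_option maxHeartbeats 800000

namespace Cfsg.Agent.Helper11.BGAsym

open Subgroup Cfsg.Agent.Helper52
open scoped commutatorElement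

variable {G : Type*} [Group G]

theorem normalizer_inf_le_normalizer_sup (D E : Subgroup G) :
    normalizer (D : Set G) ⊓ normalizer (E : Set G) ≤ normalizer ((D ⊔ E : Subgroup G) : Set G) := by
  intro g hg
  have h1 : g ∈ normalizer (D : Set G) := (Subgroup.mem_inf.1 hg).1
  have h2 : g ∈ normalizer (E : Set G) := (Subgroup.mem_inf.1 hg).2
  rw [Subgroup.mem_normalizer_iff_map_conj_eq] at h1 h2 ⊢
  rw [Subgroup.map_sup, h1, h2]

theorem conj_inv_mem_normalizer {H : Subgroup G} {c g : G}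
    (h : g ∈ normalizer ((H.map (MulAut.conj c).toMonoidHom : Subgroup G) : Set G)) :
    c⁻¹ * g * c ∈ normalizer (H : Set G) := by
  rw [mem_normalizer_iff] at h ⊢
  intro x
  have h1 := h (c * x * c⁻¹)
  rw [mem_map_conj, mem_map_conj] at h1
  have e1 : c⁻¹ * (c * x * c⁻¹) * c = x := by group
  have e2 : c⁻¹ * (g * (c * x * c⁻¹) * g⁻¹) * c = c⁻¹ * g * c * x * (c⁻¹ * g * c)⁻¹ := by group
  rw [e1, e2] at h1
  exact h1

theorem sylCard_eq_of_sylow_le [Finite G] {q : ℕ} [Fact q.Prime] (S : Sylow q G) (K : Subgroup G)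
    (h : (S : Subgroup G) ≤ K) : sylCard q K = Nat.card (S : Subgroup G) := by
  have hq : q.Prime := Fact.out
  have h1 : Nat.card (S : Subgroup G) = q ^ (Nat.card G).factorization q := S.card_eq_multiplicity
  rw [sylCard, h1]
  congr 1
  apply le_antisymm
  · have h2 : Nat.card K ∣ Nat.card G := Subgroup.card_subgroup_dvd_card K
    exact (Nat.factorization_le_iff_dvd Nat.card_pos.ne' Nat.card_pos.ne').2 h2 q
  · have h3 : q ^ (Nat.card G).factorization q ∣ Nat.card K := by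
      rw [← h1]; exact Subgroup.card_dvd_of_le h
    exact (hq.pow_dvd_iff_le_factorization Nat.card_pos.ne').1 h3

/-- the receiving step (K3)–(K5) -/
theorem recv [Finite G] {p q : ℕ} [hp : Fact p.Prime] [hq : Fact q.Prime]
    (S : Sylow q G) (P M L A B : Subgroup G)
    (hP : Nat.card P = p) (hPN : P ≤ normalizer ((S : Subgroup G) : Set G)) (hpq : p ≠ q)
    (hC : Group.IsSolvable ↥(centralizer (P : Set G)))
    (hM : Side (S : Subgroup G) P M A p q) (hL : Side (S : Subgroup G) P L B p q)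
    (hAB : (Nat.card A).Coprime (Nat.card B))
    {s t : ℕ} {U Ut : Subgroup G}
    (dM : SideData (S : Subgroup G) P M A s U) (dL : SideData (S : Subgroup G) P L B t Ut)
    (X : Subgroup G) (hXU : X ≤ U) (hXc : Nat.card X = s) (c : G)
    (hc : c ∈ centralizer (P : Set G))
    (hconj : Ut.map (MulAut.conj c).toMonoidHom ≤ normalizer (X : Set G)) : False := by
  obtain ⟨Sg, hSg⟩ : ∃ Sg : Subgroup G, Sg = (S : Subgroup G) := ⟨_, rfl⟩
  rw [← hSg] at hPN hM hL dM dL
  have hSq : IsPGroup q Sg := by rw [hSg]; exact S.isPGroup'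
  haveI : Fact t.Prime := ⟨dL.hs⟩
  have ht : t.Prime := dL.hs
  obtain ⟨a, haP, hap, hgen⟩ := exists_gen_of_card_prime P hP
  have hPC : P ≤ centralizer (P : Set G) := by
    intro w hw
    obtain ⟨k, rfl⟩ := mem_zpowers_iff.1 (hgen w hw)
    exact mem_centralizer_of_gen hgen ((Commute.refl a).zpow_right k).eq
  -- `Y`
  obtain ⟨Y, hY⟩ : ∃ Y : Subgroup G, Y = Ut.map (MulAut.conj c).toMonoidHom := ⟨_, rfl⟩
  have hUtP : Ut ≤ centralizer (P : Set G) := dL.hUA.trans inf_le_right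
  have hYM : Y ≤ M := by rw [hY]; exact hconj.trans (dM.hX X hXU hXc)
  have hYP : Y ≤ centralizer (P : Set G) := by
    rw [hY]
    rintro _ ⟨u, hu, rfl⟩
    have h2 : (MulAut.conj c).toMonoidHom u = c * u * c⁻¹ := by simp
    rw [h2]
    exact (centralizer (P : Set G)).mul_mem ((centralizer (P : Set G)).mul_mem hc (hUtP hu))
      ((centralizer (P : Set G)).inv_mem hc)
  have hYc : Nat.card Y = Nat.card Ut := by rw [hY]; exact card_map_conj c Ut
  have hUtt : IsPGroup t Ut := IsPGroup.of_card dL.hUsyl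
  obtain ⟨m, hm⟩ := IsPGroup.iff_card.1 hUtt
  -- arithmetic
  have htA : (Nat.card A).Coprime t := Nat.Coprime.coprime_dvd_right dL.hsA hAB
  have htq : t ≠ q := by
    intro h1
    have h2 : q ∣ Nat.card B := h1 ▸ dL.hsA
    have h3 : q ∣ Nat.gcd (Nat.card B) q := Nat.dvd_gcd h2 dvd_rfl
    rw [hL.hq.gcd_eq_one] at h3
    exact hq.out.one_lt.ne' (Nat.dvd_one.1 h3)
  obtain ⟨k, hk⟩ := IsPGroup.iff_card.1 hSq
  have hSM : Sg ≤ M := le_normalizer.trans hM.hNM
  have hPM : P ≤ M := hPN.trans hM.hNM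
  -- `AS`
  obtain ⟨AS, hAS⟩ : ∃ AS : Subgroup G, AS = A ⊔ Sg := ⟨_, rfl⟩
  have hA_AS : A ≤ AS := by rw [hAS]; exact le_sup_left
  have hS_AS : Sg ≤ AS := by rw [hAS]; exact le_sup_right
  have hMAS : M ≤ normalizer (AS : Set G) := by
    refine hM.hfac.trans (sup_le (hA_AS.trans le_normalizer) ?_)
    intro n hn
    rw [hAS]
    exact normalizer_inf_le_normalizer_sup A Sg ⟨hM.hAn (hM.hNM hn), hn⟩
  have hcardAS : Nat.card AS ∣ Nat.card A * Nat.card Sg := by
    rw [hAS, sup_comm, mul_comm]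
    exact Cfsg.Agent.Helper22.card_sup_dvd_of_le_normalizer (hSM.trans hM.hAn)
  obtain ⟨YP, hYPdef⟩ : ∃ YP : Subgroup G, YP = Y ⊔ P := ⟨_, rfl⟩
  have hY_YP : Y ≤ YP := by rw [hYPdef]; exact le_sup_left
  have hP_YP : P ≤ YP := by rw [hYPdef]; exact le_sup_right
  have hYPC : YP ≤ centralizer (P : Set G) := by rw [hYPdef]; exact sup_le hYP hPC
  have hYPAS : YP ≤ normalizer (AS : Set G) := by
    rw [hYPdef]; exact sup_le (hYM.trans hMAS) (hPM.trans hMAS)
  have hcardYP : Nat.card YP ∣ Nat.card Y * Nat.card P := by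
    rw [hYPdef]
    exact Cfsg.Agent.Helper22.card_sup_dvd_of_le_normalizer
      (hYP.trans (Subgroup.centralizer_le_normalizer _))
  have hpA : (Nat.card A).Coprime p := hM.hp
  have hcopPAS : (Nat.card P).Coprime (Nat.card AS) := by
    rw [hP]
    refine Nat.Coprime.coprime_dvd_right hcardAS (Nat.Coprime.mul_right hpA.symm ?_)
    rw [hk]
    exact Nat.Coprime.pow_right k ((Nat.coprime_primes hp.out hq.out).2 hpq)
  have hcopYAS : (Nat.card Y).Coprime (Nat.card AS) := by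
    rw [hYc, hm]
    refine Nat.Coprime.pow_left m
      (Nat.Coprime.coprime_dvd_right hcardAS (Nat.Coprime.mul_right htA.symm ?_))
    rw [hk]
    exact Nat.Coprime.pow_right k ((Nat.coprime_primes ht hq.out).2 htq)
  have hcopYPAS : (Nat.card YP).Coprime (Nat.card AS) :=
    Nat.Coprime.coprime_dvd_left hcardYP (Nat.Coprime.mul_left hcopYAS hcopPAS)
  have hsolYP : Group.IsSolvable YP :=
    Cfsg.Agent.Helper24.isSolvable_of_le YP _ hYPC hC
  have hsolP : Group.IsSolvable P := Cfsg.Agent.Helper24.isSolvable_of_le P _ hPC hC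
  obtain ⟨S₁, hS₁AS, hS₁c, hS₁n⟩ :=
    exists_invariant_sylow YP AS hYPAS hcopYPAS (Or.inl hsolYP) q
  have hSgc : Nat.card Sg = sylCard q AS := by
    rw [hSg]; rw [hSg] at hS_AS; exact (sylCard_eq_of_sylow_le S AS hS_AS).symm
  obtain ⟨c', hc', hS₁eq⟩ := exists_centralizer_conj_of_invariant P AS (hPM.trans hMAS) hcopPAS
    (Or.inl hsolP) q Sg S₁ hS_AS hS₁AS hSgc hS₁c hPN (hP_YP.trans hS₁n)
  -- `Y'`
  obtain ⟨Y', hY'⟩ : ∃ Y' : Subgroup G, Y' = Y.map (MulAut.conj c'⁻¹).toMonoidHom := ⟨_, rfl⟩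
  have hY'c : Nat.card Y' = Nat.card Ut := by rw [hY', card_map_conj, hYc]
  have hY't : IsPGroup t Y' := IsPGroup.of_card (hY'c.trans hm)
  have hY'N : Y' ≤ normalizer (Sg : Set G) := by
    rw [hY']
    rintro _ ⟨y, hy, rfl⟩
    have h2 : (MulAut.conj c'⁻¹).toMonoidHom y = c'⁻¹ * y * c' := by simp
    rw [h2]
    apply conj_inv_mem_normalizer
    rw [← hS₁eq]
    exact hS₁n (hY_YP hy)
  have hY'P : Y' ≤ centralizer (P : Set G) := by
    rw [hY']
    rintro _ ⟨y, hy, rfl⟩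
    have h2 : (MulAut.conj c'⁻¹).toMonoidHom y = c'⁻¹ * y * c' := by simp
    rw [h2]
    exact (centralizer (P : Set G)).mul_mem ((centralizer (P : Set G)).mul_mem
      ((centralizer (P : Set G)).inv_mem hc'.2) (hYP hy)) hc'.2
  have hY'L : Y' ≤ L := hY'N.trans hL.hNM
  have hY'B : Y' ≤ B := le_of_hall_normal B L Y' hL.hAn hL.hhall dL.hsA hY'L hY't
  have hSL : Sg ≤ L := le_normalizer.trans hL.hNM
  have hcopSB : (Nat.card Sg).Coprime (Nat.card B) := by
    rw [hk]; exact (Nat.Coprime.pow_right k hL.hq).symm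
  have hY'S : Y' ≤ centralizer (Sg : Set G) := by
    intro y hy
    refine mem_centralizer_of_normalizes B Sg (hSL.trans hL.hAn) hcopSB y (hY'B hy) ?_
    intro x hx
    exact (mem_normalizer_iff.1 (hY'N hy) x).1 hx
  exact dL.hend Y' (le_inf (le_inf hY'B hY'P) hY'S) hY'c

/-- **The abstract `τ₁`-asymmetry lemma.** -/
theorem asym {G : Type*} [Group G] [Finite G] {p q : ℕ} [Fact p.Prime] [Fact q.Prime]
    (S : Sylow q G) (P M L A B : Subgroup G)
    (hSab : ∀ x ∈ (S : Subgroup G), ∀ y ∈ (S : Subgroup G), x * y = y * x)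
    (hP : Nat.card P = p) (hPN : P ≤ normalizer ((S : Subgroup G) : Set G))
    (hreg : ∀ x ∈ (S : Subgroup G), (∀ y ∈ P, y * x = x * y) → x = 1)
    (hpq : p ≠ q)
    (hC : Group.IsSolvable ↥(centralizer (P : Set G)))
    (hM : Side (S : Subgroup G) P M A p q) (hL : Side (S : Subgroup G) P L B p q)
    (hAB : (Nat.card A).Coprime (Nat.card B)) : False := by
  obtain ⟨s, U, dM⟩ := exists_sideData (S : Subgroup G) P M A S.isPGroup' hSab hP hPN hreg hM
  obtain ⟨t, Ut, dL⟩ := exists_sideData (S : Subgroup G) P L B S.isPGroup' hSab hP hPN hreg hL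
  haveI : Fact s.Prime := ⟨dM.hs⟩
  haveI : Fact t.Prime := ⟨dL.hs⟩
  have hst : s ≠ t := by
    intro h1
    have h2 : s ∣ Nat.card B := h1 ▸ dL.hsA
    have h3 : s ∣ Nat.gcd (Nat.card A) (Nat.card B) := Nat.dvd_gcd dM.hsA h2
    rw [hAB.gcd_eq_one] at h3
    exact dM.hs.one_lt.ne' (Nat.dvd_one.1 h3)
  rcases Cfsg.Agent.Helper41.BGAsym.z_asym (centralizer (P : Set G)) hC hst U Ut
      (dM.hUA.trans inf_le_right) (dL.hUA.trans inf_le_right) dM.hUsyl dL.hUsyl dM.hU1 dL.hU1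
      dM.hUc dL.hUc with ⟨X, hXU, hXc, c, hc, hconj⟩ | ⟨X, hXU, hXc, c, hc, hconj⟩
  · exact recv S P M L A B hP hPN hpq hC hM hL hAB dM dL X hXU hXc c hc hconj
  · exact recv S P L M B A hP hPN hpq hC hL hM hAB.symm dL dM X hXU hXc c hc hconj

end Cfsg.Agent.Helper11.BGAsym
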