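import Mathlib
import Cfsg.Prelude.Def_Characters
import Cfsg.Agent.Lib.Helper54.CHMDefs

/-!
CHM server (helper54, S4756): piece (GT1) `commutator_isPGroup`.
-/

set_option autoImplicit false
set_option linter.unusedSectionVars false
set_option linter.style.haveILetI false

namespace Cfsg.Agent.Helper11.CHM

open Cfsg Cfsg.Agent.Helper54.CHM
open scoped ComplexConjugate commutatorElement

variable {G : Type*} [Group G] [Finite G]

/-- (GT1) `G'` is a `p`-group. -/
theorem commutator_isPGroup (hK : ConjK G) (hne : commutator G ≠ ⊥) :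
    ∃ p : ℕ, p.Prime ∧ IsPGroup p (commutator G) := by
  have hcard1 : Nat.card (commutator G) ≠ 1 := fun h => hne (Subgroup.card_eq_one.mp h)
  have hp : (Nat.card (commutator G)).minFac.Prime := Nat.minFac_prime hcard1
  refine ⟨_, hp, ?_⟩
  obtain ⟨p, hpdef⟩ : ∃ p, p = (Nat.card (commutator G)).minFac := ⟨_, rfl⟩
  rw [← hpdef] at hp ⊢
  have hpd : p ∣ Nat.card (commutator G) := hpdef ▸ Nat.minFac_dvd _
  haveI : Fact p.Prime := ⟨hp⟩
  by_contra hnot
  -- some prime `q ≠ p` divides `|G'|`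
  have hq : ∃ q : ℕ, q.Prime ∧ q ∣ Nat.card (commutator G) ∧ q ≠ p := by
    by_contra hcon
    push Not at hcon
    apply hnot
    have h1 : Nat.card (commutator G) = p ^ (Nat.card (commutator G)).primeFactorsList.length :=
      Nat.eq_prime_pow_of_unique_prime_dvd Nat.card_pos.ne' (fun {d} hd hdd => hcon d hd hdd)
    exact IsPGroup.of_card h1
  obtain ⟨q, hq, hqd, hqp⟩ := hq
  haveI : Fact q.Prime := ⟨hq⟩
  obtain ⟨x, hx⟩ := exists_prime_orderOf_dvd_card' p hpd
  obtain ⟨y, hy⟩ := exists_prime_orderOf_dvd_card' q hqd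
  have hx' : orderOf (x : G) = p := by rw [Subgroup.orderOf_coe]; exact hx
  have hy' : orderOf (y : G) = q := by rw [Subgroup.orderOf_coe]; exact hy
  have hx1 : (x : G) ≠ 1 := by
    intro h
    rw [h, orderOf_one] at hx'
    exact hp.one_lt.ne hx'
  have hy1 : (y : G) ≠ 1 := by
    intro h
    rw [h, orderOf_one] at hy'
    exact hq.one_lt.ne hy'
  have hpair : PPair (x : G) (y : G) :=
    ⟨hx1, hy1, p, q, 1, 1, hp, hq, hqp.symm, by rw [pow_one]; exact hx', by rw [pow_one]; exact hy'⟩
  have hc : ((x : G) * (y : G))⁻¹ ∈ commutator G :=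
    (commutator G).inv_mem ((commutator G).mul_mem x.2 y.2)
  have h1 := hK _ _ hpair _ hc
  rw [mul_inv_cancel, isConj_one_left] at h1
  have h2 : (y : G) = (x : G)⁻¹ := (eq_inv_of_mul_eq_one_right h1)
  have h3 : orderOf (y : G) = orderOf (x : G) := by rw [h2, orderOf_inv]
  rw [hx', hy'] at h3
  exact hqp h3

end Cfsg.Agent.Helper11.CHM
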