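import Mathlib
import Cfsg.Prelude.Def_Characters
import Cfsg.Agent.Lib.Helper54.CHMDefs

/-!
CHM server (helper54, S4756): piece (RV1) `commutator_le_of_struct`.
-/

set_option autoImplicit false
set_option linter.unusedSectionVars false

namespace Cfsg.Agent.Helper11.CHM

open Cfsg Cfsg.Agent.Helper54.CHM
open scoped ComplexConjugate commutatorElement

variable {G : Type*} [Group G] [Finite G]

/-- (RV1) In the structure, `G' ≤ D = [A,P]`. -/
theorem commutator_le_of_struct {p : ℕ} [Fact p.Prime] (P : Sylow p G) (A : Subgroup G)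
    (hcyc : IsCyclic ↥A) (htop : A ⊔ (P : Subgroup G) = ⊤)
    (hCc : IsMulCommutative ↥((P : Subgroup G) ⊓ Subgroup.centralizer (A : Set G)))
    (hDn : (⁅A, (P : Subgroup G)⁆).Normal)
    (hsup : ((P : Subgroup G) ⊓ Subgroup.centralizer (A : Set G)) ⊔ ⁅A, (P : Subgroup G)⁆ = (P : Subgroup G)) :
    commutator G ≤ ⁅A, (P : Subgroup G)⁆ := by
  obtain ⟨C, hC⟩ : ∃ C : Subgroup G, C = (P : Subgroup G) ⊓ Subgroup.centralizer (A : Set G) := ⟨_, rfl⟩
  rw [← hC] at hCc hsup
  obtain ⟨D, hD⟩ : ∃ D : Subgroup G, D = ⁅A, (P : Subgroup G)⁆ := ⟨_, rfl⟩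
  rw [← hD] at hDn hsup ⊢
  have hAA : ∀ a ∈ A, ∀ b ∈ A, a * b = b * a := by
    intro a ha b hb
    have := (IsCyclic.isMulCommutative (α := A)).is_comm.comm ⟨a, ha⟩ ⟨b, hb⟩
    exact congrArg Subtype.val this
  have hCC : ∀ a ∈ C, ∀ b ∈ C, a * b = b * a := by
    intro a ha b hb
    have := hCc.is_comm.comm ⟨a, ha⟩ ⟨b, hb⟩
    exact congrArg Subtype.val this
  have hAC : ∀ a ∈ A, ∀ c ∈ C, a * c = c * a := by
    intro a ha c hc
    rw [hC] at hc
    exact (Subgroup.mem_centralizer_iff.mp hc.2) a ha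
  have hcomm : ∀ x ∈ ((A : Set G) ∪ (C : Set G)), ∀ y ∈ ((A : Set G) ∪ (C : Set G)),
      x * y = y * x := by
    intro x hx y hy
    rcases hx with hx | hx <;> rcases hy with hy | hy
    · exact hAA x hx y hy
    · exact hAC x hx y hy
    · exact (hAC y hy x hx).symm
    · exact hCC x hx y hy
  have hHc : IsMulCommutative ↥(Subgroup.closure ((A : Set G) ∪ (C : Set G))) :=
    Subgroup.isMulCommutative_closure hcomm
  have hHeq : Subgroup.closure ((A : Set G) ∪ (C : Set G)) = A ⊔ C := by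
    rw [Subgroup.closure_union, Subgroup.closure_eq, Subgroup.closure_eq]
  rw [hHeq] at hHc
  have htop' : D ⊔ (A ⊔ C) = ⊤ := by
    rw [eq_top_iff]
    calc (⊤ : Subgroup G) = A ⊔ (P : Subgroup G) := htop.symm
      _ = A ⊔ (C ⊔ D) := by rw [hsup]
      _ ≤ D ⊔ (A ⊔ C) :=
        sup_le (le_sup_of_le_right le_sup_left)
          (sup_le (le_sup_of_le_right le_sup_right) le_sup_left)
  have := hDn
  exact Subgroup.Normal.commutator_le_of_self_sup_commutative_eq_top htop' hHc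

end Cfsg.Agent.Helper11.CHM
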