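import Mathlib
import Cfsg.Prelude.Def_Characters
import Cfsg.Agent.Lib.Helper54.CHMDefs

/-!
CHM server (helper54, S4756): piece (RV3) `ppair_not_mem`.
-/

set_option autoImplicit false
set_option linter.unusedSectionVars false
set_option linter.style.haveILetI false

namespace Cfsg.Agent.Helper11.CHM

open Cfsg Cfsg.Agent.Helper54.CHM
open scoped ComplexConjugate commutatorElement

variable {G : Type*} [Group G] [Finite G]

/-- a non-identity element of order `r ^ a` in a `p`-subgroup has `r = p` -/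
theorem h11_prime_eq_of_mem {p : ℕ} [hp : Fact p.Prime] (P : Sylow p G) {x : G}
    (hx : x ∈ (P : Subgroup G)) (hx1 : x ≠ 1) {r a : ℕ} (hr : r.Prime) (ho : orderOf x = r ^ a) :
    r = p := by
  obtain ⟨k, hk⟩ := P.isPGroup' ⟨x, hx⟩
  have hk' : x ^ p ^ k = 1 := by
    have := congrArg Subtype.val hk
    simpa using this
  have hd : r ^ a ∣ p ^ k := ho ▸ orderOf_dvd_of_pow_eq_one hk'
  have ha : a ≠ 0 := by
    intro h
    rw [h, pow_zero, orderOf_eq_one_iff] at ho
    exact hx1 ho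
  have hrd : r ∣ p ^ k := (dvd_pow_self r ha).trans hd
  exact (Nat.prime_dvd_prime_iff_eq hr hp.out).mp (hr.dvd_of_dvd_pow hrd)

/-- (RV3) For a `PPair x y` and a normal Sylow `p`-subgroup `P`: one of `x, y` is outside `P`, and so is `x * y`. -/
theorem ppair_not_mem {p : ℕ} [Fact p.Prime] (P : Sylow p G) (hPn : (P : Subgroup G).Normal)
    {x y : G} (hxy : PPair x y) :
    (x ∉ (P : Subgroup G) ∨ y ∉ (P : Subgroup G)) ∧ x * y ∉ (P : Subgroup G) := by
  obtain ⟨hx1, hy1, p₁, q₁, a, b, hp₁, hq₁, hne, hox, hoy⟩ := hxy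
  have hfirst : x ∉ (P : Subgroup G) ∨ y ∉ (P : Subgroup G) := by
    by_contra hcon
    push Not at hcon
    have h1 := h11_prime_eq_of_mem P hcon.1 hx1 hp₁ hox
    have h2 := h11_prime_eq_of_mem P hcon.2 hy1 hq₁ hoy
    exact hne (h1.trans h2.symm)
  refine ⟨hfirst, ?_⟩
  intro hmem
  haveI := hPn
  have hcop : Nat.Coprime (p₁ ^ a) (q₁ ^ b) :=
    Nat.Coprime.pow _ _ ((Nat.coprime_primes hp₁ hq₁).mpr hne)
  have hq : (QuotientGroup.mk' (P : Subgroup G)) x * (QuotientGroup.mk' (P : Subgroup G)) y = 1 := by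
    rw [← map_mul, QuotientGroup.mk'_apply, QuotientGroup.eq_one_iff]
    exact hmem
  have hinv : (QuotientGroup.mk' (P : Subgroup G)) x = ((QuotientGroup.mk' (P : Subgroup G)) y)⁻¹ :=
    eq_inv_of_mul_eq_one_left hq
  have hdx : orderOf ((QuotientGroup.mk' (P : Subgroup G)) x) ∣ p₁ ^ a :=
    hox ▸ orderOf_map_dvd _ x
  have hdy : orderOf ((QuotientGroup.mk' (P : Subgroup G)) x) ∣ q₁ ^ b := by
    rw [hinv, orderOf_inv]
    exact hoy ▸ orderOf_map_dvd _ y
  have hone : orderOf ((QuotientGroup.mk' (P : Subgroup G)) x) = 1 :=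
    Nat.eq_one_of_dvd_coprimes hcop hdx hdy
  rw [orderOf_eq_one_iff, QuotientGroup.mk'_apply, QuotientGroup.eq_one_iff] at hone
  have hyP : y ∈ (P : Subgroup G) := by
    have := (P : Subgroup G).mul_mem ((P : Subgroup G).inv_mem hone) hmem
    simpa using this
  rcases hfirst with h | h
  · exact h hone
  · exact h hyP

end Cfsg.Agent.Helper11.CHM
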