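import Cfsg.Agent.Lib.Helper11.Replacement6

set_option autoImplicit false
set_option linter.unusedSectionVars false

/-!
# Replacement theorem: comparison of `Ω₁`
-/

namespace Cfsg.Agent.Helper11.Repl

open scoped commutatorElement

theorem mul_pow_of_central_comm' {G : Type*} [Group G] (x y z : G) (hz : y * x = x * y * z)
    (hzx : Commute z x) (hzy : Commute z y) (m : ℕ) : y * x ^ m = x ^ m * y * z ^ m := by
  induction m with
  | zero => simp
  | succ m ih =>
    calc y * x ^ (m + 1) = (y * x ^ m) * x := by rw [pow_succ]; group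
      _ = (x ^ m * y * z ^ m) * x := by rw [ih]
      _ = x ^ m * y * (z ^ m * x) := by group
      _ = x ^ m * y * (x * z ^ m) := by rw [(hzx.pow_left m).eq]
      _ = x ^ m * (y * x) * z ^ m := by group
      _ = x ^ m * (x * y * z) * z ^ m := by rw [hz]
      _ = x ^ (m + 1) * y * z ^ (m + 1) := by rw [pow_succ, pow_succ']; group

/-- For a subgroup with commuting elements, `Ω₁` is the set of elements of order dividing `p`. -/
theorem mem_omegaOne_iff_of_comm {G : Type*} [Group G] (p : ℕ) (X : Subgroup G)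
    (hX : ∀ x ∈ X, ∀ y ∈ X, x * y = y * x) (g : G) :
    g ∈ Cfsg.omegaOne p X ↔ g ∈ X ∧ g ^ p = 1 := by
  constructor
  · intro hg
    unfold Cfsg.omegaOne at hg
    induction hg using Subgroup.closure_induction with
    | mem x hx => exact hx
    | one => exact ⟨X.one_mem, one_pow _⟩
    | mul x y _ _ hx hy =>
      refine ⟨X.mul_mem hx.1 hy.1, ?_⟩
      have hc : Commute x y := hX x hx.1 y hy.1
      rw [hc.mul_pow, hx.2, hy.2, one_mul]
    | inv x _ hx => exact ⟨X.inv_mem hx.1, by rw [inv_pow, hx.2, inv_one]⟩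
  · intro hg
    exact Subgroup.subset_closure hg

section
variable {S : Type*} [Group S] [Finite S] {p : ℕ} [hp : Fact p.Prime] (hS : IsPGroup p S)
  {A B : Subgroup S} [hBn : B.Normal] {b : S}
  (hB2 : p = 2 → IsMulCommutative B)
  (hA : IsMulCommutative A) (hBA : ⁅B, B⁆ ≤ A) (hb : b ∈ B)
  (hbN : b ∈ Subgroup.normalizer ((Subgroup.normalizer (A : Set S)) : Set S))

include hA hbN in
theorem t_pow_of_pow_eq_one {a : S} (ha : a ∈ A) {e : ℕ} (hodd : Odd e) (hae : a ^ e = 1) :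
    (a * b⁻¹ * a⁻¹ * b) ^ e = 1 := by
  set y := (b⁻¹ * a * b)⁻¹ with hy
  have hyAb : y ∈ Ab A b := (Ab A b).inv_mem (conj_mem_Ab ha)
  set w := a⁻¹ * y * a⁻¹⁻¹ * y⁻¹ with hw
  have hwD : w ∈ DD A b := comm_mem_D hbN (A.inv_mem ha) hyAb
  set z := y⁻¹ * a⁻¹ * y * a with hz
  have hzw : z = w := by
    have h1 : z = y⁻¹ * w * y := by rw [hz, hw]; group
    have h2 : w * y = y * w := D_comm_Ab hA hwD hyAb
    rw [h1, mul_assoc, h2]; group
  have hzD : z ∈ DD A b := hzw ▸ hwD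
  have hzx : Commute z a := D_comm_A hA hzD ha
  have hzy : Commute z y := D_comm_Ab hA hzD hyAb
  have hyx : y * a = a * y * z := by rw [hz]; group
  have hpow := pow_mul_of_central_comm a y z hyx hzx hzy e
  have hye : y ^ e = 1 := by
    have : y = b⁻¹ * a⁻¹ * b⁻¹⁻¹ := by rw [hy]; group
    rw [this, conj_pow, inv_pow, hae]; group
  have hze : z ^ e = 1 := by
    have h1 := mul_pow_of_central_comm' a y z hyx hzx hzy e
    rw [hae, one_mul, mul_one] at h1
    exact (mul_eq_left.mp h1.symm)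
  have hch : z ^ (e.choose 2) = 1 := by
    obtain ⟨m, hm⟩ := hodd
    have : e.choose 2 = e * m := by
      rw [Nat.choose_two_right, hm]
      have : (2 * m + 1) * (2 * m + 1 - 1) = 2 * ((2 * m + 1) * m) := by
        rw [Nat.add_sub_cancel]; ring
      rw [this, Nat.mul_div_cancel_left _ (by norm_num : 0 < 2)]
    rw [this, pow_mul, hze, one_pow]
  rw [t_eq, hpow, hae, hye, hch]
  simp

include hS hB2 hA hBA hb hbN in
/-- The rank does not drop: `|Ω₁(A)| ≤ |Ω₁(A*)|` for odd `p`. -/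
theorem card_omegaOne_le (hp2 : p ≠ 2) :
    Nat.card (Cfsg.omegaOne p A) ≤ Nat.card (Cfsg.omegaOne p (Astar A b)) := by
  classical
  have hpodd : Odd p := hp.out.eq_two_or_odd'.resolve_left hp2
  have hcomm := @Astar_comm S _ _ p hp hS A B hBn b hB2 hA hBA hb hbN
  have hAc : ∀ x ∈ A, ∀ y ∈ A, x * y = y * x := fun x hx y hy => A_comm hA hx hy
  have hDc : ∀ x ∈ DD A b, ∀ y ∈ DD A b, x * y = y * x := fun x hx y hy =>
    A_comm hA (Subgroup.mem_inf.mp hx).1 (Subgroup.mem_inf.mp hy).1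
  have hSc : ∀ x ∈ Astar A b, ∀ y ∈ Astar A b, x * y = y * x := fun x hx y hy => hcomm hx hy
  have memA := mem_omegaOne_iff_of_comm p A hAc
  have memD := mem_omegaOne_iff_of_comm p (DD A b) hDc
  have memS := mem_omegaOne_iff_of_comm p (Astar A b) hSc
  set OA := Cfsg.omegaOne p A with hOA
  set OS := Cfsg.omegaOne p (Astar A b) with hOS
  set OD := Cfsg.omegaOne p (DD A b) with hOD
  have hOD_le_OA : OD ≤ OA := fun x hx =>
    (memA x).mpr ⟨(Subgroup.mem_inf.mp ((memD x).mp hx).1).1, ((memD x).mp hx).2⟩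
  have hOD_le_OS : OD ≤ OS := fun x hx =>
    (memS x).mpr ⟨Subgroup.mem_sup_left ((memD x).mp hx).1, ((memD x).mp hx).2⟩
  set D' : Subgroup OS := OD.subgroupOf OS with hD'
  have hD'n : D'.Normal := by
    refine ⟨fun n hn g => ?_⟩
    have : g * n * g⁻¹ = n := by
      apply Subtype.ext
      show (g : S) * n * (g : S)⁻¹ = n
      rw [hcomm ((memS _).mp g.2).1 ((memS _).mp n.2).1]; group
    rw [this]; exact hn
  have htmem : ∀ a : OA, (a : S) * b⁻¹ * (a : S)⁻¹ * b ∈ OS := fun a =>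
    (memS _).mpr ⟨Subgroup.mem_sup_right (t_mem_TT ((memA _).mp a.2).1),
      t_pow_of_pow_eq_one hA hbN ((memA _).mp a.2).1 hpodd ((memA _).mp a.2).2⟩
  let f : OA → OS ⧸ D' := fun a => QuotientGroup.mk ⟨_, htmem a⟩
  have hf_mul : ∀ a a' : OA, f (a * a') = f a * f a' := by
    intro a a'
    show (QuotientGroup.mk _ : OS ⧸ D') = QuotientGroup.mk _ * QuotientGroup.mk _
    rw [← QuotientGroup.mk_mul, QuotientGroup.eq]
    rw [hD', Subgroup.mem_subgroupOf]
    show (((a : S) * (a' : S)) * b⁻¹ * ((a : S) * (a' : S))⁻¹ * b)⁻¹ *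
      ((a : S) * b⁻¹ * (a : S)⁻¹ * b * ((a' : S) * b⁻¹ * (a' : S)⁻¹ * b)) ∈ OD
    have haA := ((memA _).mp a.2).1
    have ha'A := ((memA _).mp a'.2).1
    set ta := (a : S) * b⁻¹ * (a : S)⁻¹ * b with hta
    set ta' := (a' : S) * b⁻¹ * (a' : S)⁻¹ * b with hta'
    set w := (a : S) * ta' * (a : S)⁻¹ * ta'⁻¹ with hw
    have hwD : w ∈ DD A b := comm_A_t_mem_D hA hbN haA ha'A
    have htaT : ta ∈ TT A b := t_mem_TT haA
    have hta'T : ta' ∈ TT A b := t_mem_TT ha'A
    have h1 : ((a : S) * (a' : S)) * b⁻¹ * ((a : S) * (a' : S))⁻¹ * b = w * ta' * ta := by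
      rw [hw, hta, hta']; group
    have h2 : ta' * ta = ta * ta' := TT_comm hS hB2 hA hBA hb hbN hta'T htaT
    have h3 : w * (ta * ta') = (ta * ta') * w :=
      D_comm_TT hA hbN hwD ((TT A b).mul_mem htaT hta'T)
    have h4 : (w * ta' * ta)⁻¹ * (ta * ta') = w⁻¹ := by
      rw [mul_assoc w, h2, h3]; group
    -- the whole expression lies in `OS`, hence has `p`-th power one
    have hOSmem : (w * ta' * ta)⁻¹ * (ta * ta') ∈ OS := by
      rw [← h1]
      exact OS.mul_mem (OS.inv_mem (htmem (a * a'))) (OS.mul_mem (htmem a) (htmem a'))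
    rw [h1]
    refine (memD _).mpr ⟨?_, ((memS _).mp hOSmem).2⟩
    rw [h4]; exact (DD A b).inv_mem hwD
  let ψ : OA →* OS ⧸ D' := MonoidHom.mk' f hf_mul
  have hψ : ∀ a : OA, ψ a = QuotientGroup.mk ⟨_, htmem a⟩ := fun a => rfl
  -- kernel
  have hker : ψ.ker = OD.subgroupOf OA := by
    ext a
    rw [MonoidHom.mem_ker, hψ, QuotientGroup.eq_one_iff, hD', Subgroup.mem_subgroupOf,
      Subgroup.mem_subgroupOf]
    show (a : S) * b⁻¹ * (a : S)⁻¹ * b ∈ OD ↔ (a : S) ∈ OD
    have haA := (memA _).mp a.2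
    rw [memD, memD]
    constructor
    · rintro ⟨h1, _⟩
      exact ⟨(t_mem_D_iff hBA hb haA.1).mp h1, haA.2⟩
    · rintro ⟨h1, _⟩
      exact ⟨(t_mem_D_iff hBA hb haA.1).mpr h1, ((memS _).mp (htmem a)).2⟩
  have c1 : Nat.card ψ.ker * Nat.card ψ.range = Nat.card OA := by
    rw [← Subgroup.index_ker]; exact Subgroup.card_mul_index _
  have c2 : Nat.card ψ.range ≤ Nat.card (OS ⧸ D') := Subgroup.card_le_card_group _
  have c3 : Nat.card ψ.ker = Nat.card OD := by
    rw [hker]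
    exact Nat.card_congr (Subgroup.subgroupOfEquivOfLe hOD_le_OA).toEquiv
  have c4 : Nat.card D' = Nat.card OD := by
    rw [hD']
    exact Nat.card_congr (Subgroup.subgroupOfEquivOfLe hOD_le_OS).toEquiv
  have c5 : Nat.card OS = Nat.card (OS ⧸ D') * Nat.card D' :=
    Subgroup.card_eq_card_quotient_mul_card_subgroup D'
  rw [c5, c4, ← c1, c3, mul_comm]
  exact Nat.mul_le_mul_right _ c2

end

end Cfsg.Agent.Helper11.Repl

namespace Cfsg.Agent.Helper11.Repl

theorem omegaOne_map_of_injective {H G : Type*} [Group H] [Group G] (p : ℕ) (f : H →* G)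
    (hf : Function.Injective f) (K : Subgroup H) :
    Cfsg.omegaOne p (K.map f) = (Cfsg.omegaOne p K).map f := by
  unfold Cfsg.omegaOne
  rw [MonoidHom.map_closure]
  congr 1
  ext y
  constructor
  · rintro ⟨⟨x, hx, rfl⟩, hy⟩
    refine ⟨x, ⟨hx, ?_⟩, rfl⟩
    apply hf
    rw [map_pow, hy, map_one]
  · rintro ⟨x, ⟨hx, hx1⟩, rfl⟩
    exact ⟨⟨x, hx, rfl⟩, by rw [← map_pow, hx1, map_one]⟩

end Cfsg.Agent.Helper11.Repl
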