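import Mathlib.GroupTheory.Sylow
import Mathlib.Data.Set.Finite.Lemmas
import Cfsg.Prelude.Def_Transfer

set_option autoImplicit false

namespace Cfsg.Agent.Helper11

theorem isElementaryAbelian_bot {P : Type*} [Group P] (p : ℕ) :
    Cfsg.IsElementaryAbelian p (⊥ : Subgroup P) := by
  refine ⟨⟨⟨fun a b => ?_⟩⟩, fun a ha => ?_⟩
  · apply Subsingleton.elim
  · rw [Subgroup.mem_bot] at ha
    rw [ha, one_pow]

/-- Adjoining a centralizing element of order dividing `p` to an elementary abelian subgroup. -/
theorem isElementaryAbelian_sup_zpowers {P : Type*} [Group P] {p : ℕ} {A : Subgroup P}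
    (hA : Cfsg.IsElementaryAbelian p A) {x : P} (hx : ∀ a ∈ A, a * x = x * a) (hxp : x ^ p = 1) :
    Cfsg.IsElementaryAbelian p (A ⊔ Subgroup.zpowers x) := by
  have hcomm : ∀ a ∈ ((A : Set P) ∪ {x}), ∀ b ∈ ((A : Set P) ∪ {x}), a * b = b * a := by
    intro a ha b hb
    rcases ha with ha | ha <;> rcases hb with hb | hb
    · have := hA.1.is_comm.comm (⟨a, ha⟩ : A) ⟨b, hb⟩
      exact congrArg Subtype.val this
    · rw [Set.mem_singleton_iff] at hb
      subst hb
      exact hx a ha
    · rw [Set.mem_singleton_iff] at ha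
      subst ha
      exact (hx b hb).symm
    · rw [Set.mem_singleton_iff] at ha hb
      subst ha; subst hb; rfl
  have heq : A ⊔ Subgroup.zpowers x = Subgroup.closure ((A : Set P) ∪ {x}) := by
    rw [Subgroup.closure_union, Subgroup.closure_eq, Subgroup.zpowers_eq_closure]
  rw [heq]
  have hc : IsMulCommutative (Subgroup.closure ((A : Set P) ∪ {x})) :=
    Subgroup.isMulCommutative_closure hcomm
  refine ⟨hc, ?_⟩
  intro y hy
  induction hy using Subgroup.closure_induction with
  | mem y hy =>
    rcases hy with hy | hy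
    · exact hA.2 y hy
    · rw [Set.mem_singleton_iff] at hy
      rw [hy]; exact hxp
  | one => exact one_pow _
  | mul y z hy hz ihy ihz =>
    have hyz : y * z = z * y := by
      have := hc.is_comm.comm (⟨y, hy⟩ : Subgroup.closure ((A : Set P) ∪ {x})) ⟨z, hz⟩
      exact congrArg Subtype.val this
    rw [(show Commute y z from hyz).mul_pow, ihy, ihz, one_mul]
  | inv y hy ihy => rw [inv_pow, ihy, inv_one]

/-- In a finite group there is an elementary abelian `p`-subgroup of largest order. -/
theorem maxElementaryAbelianSubgroups_nonempty (p : ℕ) (P : Type*) [Group P] [Finite P] :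
    (Cfsg.maxElementaryAbelianSubgroups p P).Nonempty := by
  classical
  have hfin : (Set.univ : Set (Subgroup P)).Finite := Set.finite_univ
  have hsfin : {A : Subgroup P | Cfsg.IsElementaryAbelian p A}.Finite := hfin.subset (Set.subset_univ _)
  have hne : {A : Subgroup P | Cfsg.IsElementaryAbelian p A}.Nonempty := ⟨⊥, isElementaryAbelian_bot p⟩
  obtain ⟨A, hA, hmax⟩ := Set.exists_max_image _ (fun A : Subgroup P => Nat.card A) hsfin hne
  exact ⟨A, hA, fun B hB => hmax B hB⟩

/-- A maximal-order elementary abelian subgroup contains every centralizing element of order dividing `p`. -/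
theorem mem_of_mem_maxElementaryAbelianSubgroups {P : Type*} [Group P] [Finite P] {p : ℕ}
    {A : Subgroup P} (hA : A ∈ Cfsg.maxElementaryAbelianSubgroups p P) {x : P}
    (hx : ∀ a ∈ A, a * x = x * a) (hxp : x ^ p = 1) : x ∈ A := by
  have hB := isElementaryAbelian_sup_zpowers hA.1 hx hxp
  have hle : A ≤ A ⊔ Subgroup.zpowers x := le_sup_left
  have hcard := hA.2 _ hB
  have := Subgroup.eq_of_le_of_card_ge hle hcard
  rw [this]
  exact Subgroup.mem_sup_right (Subgroup.mem_zpowers x)

end Cfsg.Agent.Helper11
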