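import Cfsg.Agent.Lib.Helper11.ZJ8
import Cfsg.Prelude.Def_TwoFusion
import Cfsg.Prelude.Def_LocalEven
import Cfsg.Agent.Lib.Helper11.Replacement7
import Cfsg.Agent.S0652
import Cfsg.Agent.S0655

/-!
# The ZJ theorem for strongly closed subgroups of a Sylow subgroup
-/

set_option autoImplicit false
set_option linter.style.haveILetI false
set_option linter.unusedSectionVars false

namespace Cfsg.Agent.Helper11.ZJ

open Cfsg
open scoped commutatorElement

variable {G : Type*} [Group G] {Good : Subgroup G → Prop}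

section sc

variable [Finite G] {p : ℕ} [Fact p.Prime] {S : Sylow p G} {D : Subgroup G}

theorem sc_inf_normal (hD : IsStronglyClosed D (S : Subgroup G)) {B : Subgroup G} (hBn : B.Normal)
    (hBp : IsPGroup p B) : (B ⊓ D).Normal := by
  have hBS : B ≤ (S : Subgroup G) := hBp.le_sylow_of_normal S
  refine ⟨fun x hx g => ?_⟩
  have h1 : g * x * g⁻¹ ∈ B := hBn.conj_mem x hx.1 g
  exact ⟨h1, hD.2 x hx.2 g (hBS h1)⟩

theorem sc_le_normalizer (hD : IsStronglyClosed D (S : Subgroup G)) :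
    (S : Subgroup G) ≤ Subgroup.normalizer (D : Set G) := by
  intro s hs
  apply Subgroup.mem_normalizer_fintype
  intro x hx
  exact hD.2 x hx s (Subgroup.mul_mem _ (Subgroup.mul_mem _ hs (hD.1 hx)) (Subgroup.inv_mem _ hs))

theorem sc_normalizer_inf_le (hD : IsStronglyClosed D (S : Subgroup G)) (L : Subgroup G) :
    Subgroup.normalizer (((S : Subgroup G) ⊓ L : Subgroup G) : Set G) ≤
      Subgroup.normalizer ((D ⊓ L : Subgroup G) : Set G) := by
  intro g hg
  apply Subgroup.mem_normalizer_fintype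
  intro x hx
  have hx' : x ∈ (D ⊓ L : Subgroup G) := hx
  have h1 : x ∈ (S : Subgroup G) ⊓ L := ⟨hD.1 hx'.1, hx'.2⟩
  have h2 : g * x * g⁻¹ ∈ (S : Subgroup G) ⊓ L := (Subgroup.mem_normalizer_iff.mp hg x).mp h1
  exact ⟨hD.2 x hx'.1 g h2.1, h2.2⟩

/-- Main induction: `W(D) ∩ B` is normal in `G` for every normal `p`-subgroup `B ≤ D`. -/
theorem W_inf_normal_sc (hG : GoodAx Good) (hp : p ≠ 2)
    (hD : IsStronglyClosed D (S : Subgroup G))
    (hst : ∀ (V : Subgroup G) [V.Normal], IsPGroup p V → ∀ A : Subgroup G, A ≤ (S : Subgroup G) →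
      ⁅⁅V, A⁆, A⁆ = ⊥ → A ≤ stabL p V) :
    ∀ n : ℕ, ∀ B : Subgroup G, B.Normal → IsPGroup p B → B ≤ D → Nat.card B = n →
      (W Good D ⊓ B).Normal := by
  intro n
  induction n using Nat.strong_induction_on with
  | _ n ih =>
  intro B hBn hBp hBP hcard
  by_contra hnot
  haveI := hBn
  have hDp : IsPGroup p D := S.isPGroup'.to_le hD.1
  -- `B` is the normal closure of `Z₁ = W ∩ B`
  have hB0 : Subgroup.normalClosure ((W Good D ⊓ B : Subgroup G) : Set G) = B := by
    by_contra hne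
    have hle : Subgroup.normalClosure ((W Good D ⊓ B : Subgroup G) : Set G) ≤ B :=
      Subgroup.normalClosure_le_normal inf_le_right
    have hlt := card_lt_of_lt' (lt_of_le_of_ne hle hne)
    have h1 := ih _ (hcard ▸ hlt) _ Subgroup.normalClosure_normal (hBp.to_le hle)
      (hle.trans hBP) rfl
    have heq : W Good D ⊓
        Subgroup.normalClosure ((W Good D ⊓ B : Subgroup G) : Set G) =
        W Good D ⊓ B :=
      le_antisymm (inf_le_inf_left _ hle) (le_inf inf_le_left Subgroup.subset_normalClosure)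
    rw [heq] at h1
    exact hnot h1
  -- `B` is nontrivial
  have hBne : B ≠ ⊥ := by
    intro h
    apply hnot
    rw [h, inf_bot_eq]
    infer_instance
  -- the derived subgroup
  have hB'lt : ⁅B, B⁆ < B :=
    lt_of_le_of_ne (Subgroup.commutator_le_right B B) (commutator_ne_self hBp hBne)
  have hYn : (W Good D ⊓ ⁅B, B⁆).Normal :=
    ih _ (hcard ▸ card_lt_of_lt' hB'lt) _ inferInstance (hBp.to_le (le_of_lt hB'lt))
      ((le_of_lt hB'lt).trans hBP) rfl
  haveI := hYn
  have h1 : ⁅W Good D ⊓ B, B⁆ ≤ W Good D ⊓ ⁅B, B⁆ :=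
    commutator_W_inf_le hG hBP
  have h2 := commutator_normalClosure_le h1
  rw [hB0] at h2
  have hB'W : ⁅B, B⁆ ≤ W Good D := h2.trans inf_le_left
  -- `B` is not inside `W`
  have hBW : ¬ B ≤ W Good D := by
    intro h
    apply hnot
    rw [inf_eq_right.mpr h]
    exact hBn
  obtain ⟨U, hU, hnU⟩ : ∃ U ∈ Fam Good D, ¬ B ≤ U := by
    by_contra hcon
    push Not at hcon
    exact hBW (le_sInf hcon)
  obtain ⟨A, hA, hBA, hnBA, hBNA⟩ :=
    exists_normalized hG hp hDp B hBP hU (hB'W.trans (W_le_of_mem hU)) hnU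
  -- `A` acts quadratically on `B`
  have hquad : ⁅⁅B, A⁆, A⁆ = ⊥ := by
    have h3 : ⁅B, A⁆ ≤ A := by
      rw [Subgroup.commutator_le]
      intro b hb a ha
      have h4 : b * a * b⁻¹ ∈ A := (Subgroup.mem_normalizer_iff.mp (hBNA hb) a).mp ha
      have : ⁅b, a⁆ = b * a * b⁻¹ * a⁻¹ := commutatorElement_def b a
      rw [this]
      exact A.mul_mem h4 (A.inv_mem ha)
    rw [eq_bot_iff]
    refine (Subgroup.commutator_mono h3 le_rfl).trans ?_
    rw [Subgroup.commutator_le]
    intro x hx y hy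
    have hc := (Repl.isMulCommutative_iff_forall A).mp (hG.comm A hA.2.1) x hx y hy
    rw [Subgroup.mem_bot, commutatorElement_def, hc]
    group
  have hAL : A ≤ stabL p B := hst B hBp A (hA.1.trans hD.1) hquad
  have hAP1 : A ≤ D ⊓ stabL p B := le_inf hA.1 hAL
  have hW1 : W Good D ≤ W Good (D ⊓ stabL p B) :=
    W_mono hA hAP1 inf_le_left
  have hA1 : A ∈ Fam Good (D ⊓ stabL p B) := Fam_mono hA hAP1 inf_le_left
  haveI := stabL_normal p B
  have htop : Subgroup.normalizer ((D ⊓ stabL p B : Subgroup G) : Set G) ⊔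
      Subgroup.centralizer (B : Set G) = ⊤ := by
    rw [eq_top_iff, ← normalizer_sup_centralizer_eq_top S B]
    exact sup_le_sup_right (sc_normalizer_inf_le hD (stabL p B)) _
  have hXn : (W Good (D ⊓ stabL p B) ⊓ B).Normal :=
    W_inf_normal_of hG htop
  have hXlt : W Good (D ⊓ stabL p B) ⊓ B < B := by
    refine lt_of_le_of_ne inf_le_right ?_
    intro heq
    apply hnBA
    have : B ≤ W Good (D ⊓ stabL p B) := inf_eq_right.mp heq
    exact this.trans (W_le_of_mem hA1)
  have h5 := ih _ (hcard ▸ card_lt_of_lt' hXlt) _ hXn (hBp.to_le (le_of_lt hXlt))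
    ((le_of_lt hXlt).trans hBP) rfl
  have heq : W Good D ⊓ (W Good (D ⊓ stabL p B) ⊓ B) =
      W Good D ⊓ B := by
    rw [← inf_assoc, inf_eq_left.mpr hW1]
  rw [heq] at h5
  exact hnot h5

/-- `W(D)` is normal in `G`. -/
theorem W_normal_sc (hG : GoodAx Good) (hp : p ≠ 2)
    (hc : Subgroup.centralizer (pCore p G : Set G) ≤ pCore p G)
    (hD : IsStronglyClosed D (S : Subgroup G))
    (hst : ∀ (V : Subgroup G) [V.Normal], IsPGroup p V → ∀ A : Subgroup G, A ≤ (S : Subgroup G) →
      ⁅⁅V, A⁆, A⁆ = ⊥ → A ≤ stabL p V) :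
    (W Good D).Normal := by
  haveI hQn := pCore_normal' p G
  have hQp : IsPGroup p (pCore p G) := isPGroup_pCore'
  have hQS : pCore p G ≤ (S : Subgroup G) := pCore_le_sylow' S
  have hquad : ⁅⁅pCore p G, W Good D⁆, W Good D⁆ = ⊥ := by
    have h3 : ⁅pCore p G, W Good D⁆ ≤ W Good D := by
      rw [Subgroup.commutator_le]
      intro b hb a ha
      have hbN := normalizer_le_normalizer_W hG D (sc_le_normalizer hD (hQS hb))
      have h4 : b * a * b⁻¹ ∈ W Good D :=
        (Subgroup.mem_normalizer_iff.mp hbN a).mp ha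
      have : ⁅b, a⁆ = b * a * b⁻¹ * a⁻¹ := commutatorElement_def b a
      rw [this]
      exact Subgroup.mul_mem _ h4 (Subgroup.inv_mem _ ha)
    rw [eq_bot_iff]
    refine (Subgroup.commutator_mono h3 le_rfl).trans ?_
    rw [Subgroup.commutator_le]
    intro x hx y hy
    have hc' := W_comm hG D hx hy
    rw [Subgroup.mem_bot, commutatorElement_def, hc']
    group
  have hWL := hst (pCore p G) hQp _ ((W_le hG _).trans hD.1) hquad
  have hLp : IsPGroup p (stabL p (pCore p G)) := isPGroup_stabL (pCore p G) (hQp.to_le hc)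
  have hLQ : stabL p (pCore p G) ≤ pCore p G := le_pCore' (stabL_normal p (pCore p G)) hLp
  have hBn : (pCore p G ⊓ D).Normal := sc_inf_normal hD hQn hQp
  have h5 := W_inf_normal_sc hG hp hD hst _ (pCore p G ⊓ D) hBn (hQp.to_le inf_le_left)
    inf_le_right rfl
  rw [inf_eq_left.mpr (le_inf (hWL.trans hLQ) (W_le hG _))] at h5
  exact h5

end sc

/-- `Z(J_e(P))`, computed in `G`, is the image of `Z(J_e(P))` computed in `P`. -/
theorem centerThompsonOf_eq' (p : ℕ) (P : Subgroup G) :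
    Cfsg.centerThompsonOf p P =
      (Cfsg.thompsonSubgroup p ↥P ⊓
        Subgroup.centralizer (Cfsg.thompsonSubgroup p ↥P : Set ↥P)).map P.subtype := by
  ext x
  unfold Cfsg.centerThompsonOf Cfsg.thompsonSubgroupOf
  rw [Subgroup.mem_inf, Subgroup.mem_map]
  constructor
  · rintro ⟨⟨x', hx', rfl⟩, hx2⟩
    have hx3 : x' ∈ Subgroup.centralizer (Cfsg.thompsonSubgroup p ↥P : Set ↥P) := by
      rw [Subgroup.mem_centralizer_iff] at hx2 ⊢
      intro y hy
      apply Subtype.ext
      exact hx2 (P.subtype y) ⟨y, hy, rfl⟩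
    exact ⟨x', ⟨hx', hx3⟩, rfl⟩
  · rintro ⟨x', hx12, rfl⟩
    have hx12' : x' ∈ Cfsg.thompsonSubgroup p ↥P ⊓
        Subgroup.centralizer (Cfsg.thompsonSubgroup p ↥P : Set ↥P) := hx12
    rw [Subgroup.mem_inf] at hx12'
    obtain ⟨hx', hx2⟩ := hx12'
    refine ⟨⟨x', hx', rfl⟩, ?_⟩
    rw [Subgroup.mem_centralizer_iff] at hx2 ⊢
    rintro _ ⟨y, hy, rfl⟩
    exact congrArg Subtype.val (hx2 y hy)

/-- `Ω₁(Z(J_e(P)))` is the intersection of the elementary abelian subgroups of `P` of largest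
order. -/
theorem omegaOne_centerThompsonOf_eq_W [Finite G] {p : ℕ} [Fact p.Prime] (P : Subgroup G)
    (hP : IsPGroup p P) :
    Cfsg.omegaOne p (Cfsg.centerThompsonOf p P) =
      W (fun A : Subgroup G => IsElementaryAbelian p A) P := by
  rw [centerThompsonOf_eq', Repl.omegaOne_map_of_injective p _ (Subgroup.subtype_injective P)]
  have h1 := (Cfsg.Agent.S0655.result hP).1
  have hne := maxElementaryAbelianSubgroups_nonempty p ↥P
  have h2 := map_sInf_subtype P _ hne
  have h3 : Set.image (fun A : Subgroup ↥P => A.map P.subtype)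
      (Cfsg.maxElementaryAbelianSubgroups p ↥P) =
      Fam (fun A : Subgroup G => IsElementaryAbelian p A) P := by
    ext X
    exact Cfsg.Agent.S0652.mem_image_maxElemAb_iff P X
  show (Cfsg.omegaCenterThompson p ↥P).map P.subtype = _
  rw [← h1, h2, h3]
  rfl

/-- From the normalizer form of `p`-stability to the form used in the ZJ theorem. -/
theorem hst_of_isNormalizerPStable {p : ℕ} (hst : Cfsg.IsNormalizerPStable p G)
    (V : Subgroup G) [V.Normal] (hVp : IsPGroup p V) (A : Subgroup G)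
    (hq : ⁅⁅V, A⁆, A⁆ = ⊥) : A ≤ stabL p V := by
  apply le_stabL_of_concl V A
  rintro _ ⟨a, ha, rfl⟩
  have haA : (a : G) ∈ A := ha
  have hz : Subgroup.zpowers (a : G) ≤ A := Subgroup.zpowers_le.mpr haA
  have hq' : ⁅⁅V, Subgroup.zpowers (a : G)⁆, Subgroup.zpowers (a : G)⁆ = ⊥ := by
    rw [eq_bot_iff, ← hq]
    exact Subgroup.commutator_mono (Subgroup.commutator_mono le_rfl hz) hz
  exact hst V hVp a.1 a.2 hq'

end Cfsg.Agent.Helper11.ZJ
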