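import Cfsg.Agent.Lib.Helper11.QP7
import Cfsg.Agent.Lib.Helper11.ZJ10

/-!
# Quadratic pairs, VIII: the consequences of Glauberman's lemma, modulo `DLHyp p`
-/

set_option autoImplicit false
set_option linter.style.haveILetI false
set_option linter.unusedSectionVars false
set_option linter.unusedVariables false

namespace Cfsg.Agent.Helper11.QP

universe u w

open Cfsg Cfsg.Agent.Helper10 Cfsg.Agent.Helper46

variable {p : ℕ} [hp : Fact p.Prime]

/-- `Qd(p)`-free groups are `p`-stable in the normalizer form. -/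
theorem isNormalizerPStable_of_qdFree (hDL : DLHyp p) (hp2 : p ≠ 2) {G : Type u} [Group G]
    [Finite G] (hfree : ¬ Involves ↥(qd p) G) : Cfsg.IsNormalizerPStable p G := by
  by_contra hns
  exact hfree (involves_of_not_isNormalizerPStable hDL
    (fun Z _ _ v w x y h => involves_qd_of_isQdPair hp2 v w x y h) hns)

/-- Glauberman's ZJ-theorem for `Qd(p)`-free groups. -/
theorem zj_of_qdFree (hDL : DLHyp p) (hp2 : p ≠ 2) {G : Type u} [Group G] [Finite G]
    (hfree : ¬ Involves ↥(qd p) G)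
    (hc : Subgroup.centralizer (Cfsg.pCore p G : Set G) ≤ Cfsg.pCore p G) (S : Sylow p G) :
    (Cfsg.centerThompsonAOf ((S : Subgroup G))).Normal := by
  have hst := isNormalizerPStable_of_qdFree hDL hp2 hfree
  have hst' : ∀ (V : Subgroup G) [V.Normal], IsPGroup p V → ∀ A : Subgroup G,
      A ≤ (S : Subgroup G) → ⁅⁅V, A⁆, A⁆ = ⊥ → A ≤ Cfsg.Agent.Helper11.ZJ.stabL p V :=
    fun V _ hVp A _ hq => Cfsg.Agent.Helper11.ZJ.hst_of_isNormalizerPStable hst V hVp A hq
  rw [Cfsg.Agent.Helper11.ZJ.centerThompsonAOf_eq_W]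
  exact Cfsg.Agent.Helper11.ZJ.W_normal' Cfsg.Agent.Helper11.ZJ.goodAx_comm hp2 hc S hst'

/-- quadratic action is preserved by conjugation with an element normalizing `V`. -/
theorem quad_conj_of_mem_normalizer {G : Type*} [Group G] {V : Subgroup G} {b : G} (n : G)
    (hn : n ∈ Subgroup.normalizer (V : Set G))
    (hb : ⁅⁅V, Subgroup.zpowers b⁆, Subgroup.zpowers b⁆ = ⊥) :
    ⁅⁅V, Subgroup.zpowers (n * b * n⁻¹)⁆, Subgroup.zpowers (n * b * n⁻¹)⁆ = ⊥ := by
  have hmap : V.map (MulAut.conj n).toMonoidHom = V := by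
    apply le_antisymm
    · rintro _ ⟨v, hv, rfl⟩
      exact (Subgroup.mem_normalizer_iff.mp hn v).mp hv
    · intro v hv
      refine ⟨n⁻¹ * v * n, ?_, ?_⟩
      · have := (Subgroup.mem_normalizer_iff.mp (Subgroup.inv_mem _ hn) v).mp hv
        simpa using this
      · show n * (n⁻¹ * v * n) * n⁻¹ = v
        group
  have h1 := congrArg (Subgroup.map (MulAut.conj n).toMonoidHom) hb
  rw [Subgroup.map_commutator, Subgroup.map_commutator, hmap,
    MonoidHom.map_zpowers, Subgroup.map_bot] at h1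
  exact h1

/-- Baer–Suzuki, pair form: an element outside `O_p` has two conjugates generating a non-`p`-group. -/
theorem exists_conj_pair_of_not_mem_pCore {Y : Type*} [Group Y] [Finite Y] (g : Y)
    (hg : g ∉ Cfsg.pCore p Y) :
    ∃ a b : Y, ¬ IsPGroup p ↥(Subgroup.closure ({a * g * a⁻¹, b * g * b⁻¹} : Set Y)) := by
  by_contra hall
  push Not at hall
  apply hg
  obtain ⟨Q⟩ : Nonempty (Sylow p Y) := inferInstance
  have hconj : ∀ b : Y, b * g * b⁻¹ ∈ (Q : Subgroup Y) := by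
    intro b
    apply Cfsg.Agent.Helper67.baer_suzuki_elt
    intro a
    rw [zpowers_sup_zpowers]
    have h1 : a * (b * g * b⁻¹) * a⁻¹ = (a * b) * g * (a * b)⁻¹ := by group
    rw [h1]
    exact hall b (a * b)
  have hgc : g ∈ (Q : Subgroup Y).normalCore := hconj
  have hn : ((Q : Subgroup Y).normalCore).Normal := inferInstance
  exact Cfsg.Agent.Helper10.le_pCore hn (Q.2.to_le (Subgroup.normalCore_le _)) hgc

/-- S0656 modulo `DLHyp`. -/
theorem sl2_section_of_quadratic (hDL : DLHyp p) {G : Type u} [Group G] [Finite G]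
    (V H : Subgroup G) (hV : Cfsg.IsElementaryAbelian p V)
    (hHV : H ≤ Subgroup.normalizer (V : Set G))
    (hf : H ⊓ Subgroup.centralizer (V : Set G) = ⊥) (hO : Cfsg.pCore p ↥H = ⊥) (x : G)
    (hxH : x ∈ H) (hx1 : x ≠ 1)
    (hq : ⁅⁅V, Subgroup.zpowers x⁆, Subgroup.zpowers x⁆ = ⊥) :
    ∃ (K L : Subgroup G) (hL : (L.subgroupOf K).Normal), K ≤ H ∧
      Nonempty ((K ⧸ L.subgroupOf K) ≃* Matrix.SpecialLinearGroup (Fin 2) (ZMod p)) := by
  have hx' : (⟨x, hxH⟩ : ↥H) ∉ Cfsg.pCore p ↥H := by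
    rw [hO, Subgroup.mem_bot]
    intro h
    exact hx1 (congrArg Subtype.val h)
  obtain ⟨a, b, hab⟩ := exists_conj_pair_of_not_mem_pCore (p := p) (⟨x, hxH⟩ : ↥H) hx'
  set g₁ : G := (a : G) * x * (a : G)⁻¹ with hg₁
  set h₁ : G := (b : G) * x * (b : G)⁻¹ with hh₁
  have hg₁H : g₁ ∈ H := H.mul_mem (H.mul_mem a.2 hxH) (H.inv_mem a.2)
  have hh₁H : h₁ ∈ H := H.mul_mem (H.mul_mem b.2 hxH) (H.inv_mem b.2)
  have hclH : Subgroup.closure ({g₁, h₁} : Set G) ≤ H := by
    rw [Subgroup.closure_le]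
    rintro _ (rfl | rfl)
    · exact hg₁H
    · exact hh₁H
  have hcl2 := closure_pair_eq_map H g₁ h₁ hg₁H hh₁H
  have hnp : ¬ ∀ k ∈ Subgroup.closure ({g₁, h₁} : Set G),
      ∃ m : ℕ, k ^ p ^ m ∈ Subgroup.centralizer (V : Set G) := by
    intro hall
    apply hab
    rintro ⟨k, hk⟩
    have hk' : (k : G) ∈ Subgroup.closure ({g₁, h₁} : Set G) := by
      rw [hcl2]
      exact ⟨k, hk, rfl⟩
    obtain ⟨m, hm⟩ := hall _ hk'
    refine ⟨m, ?_⟩
    have h1 : ((k : G)) ^ p ^ m ∈ H ⊓ Subgroup.centralizer (V : Set G) :=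
      Subgroup.mem_inf.mpr ⟨H.pow_mem k.2 _, hm⟩
    rw [hf, Subgroup.mem_bot] at h1
    apply Subtype.ext
    apply Subtype.ext
    simpa using h1
  obtain ⟨x₁, hx₁, y₁, hy₁, v, _, w, _, hpair⟩ := exists_pair_of_quadratic hDL V hV g₁ h₁
    (hHV hg₁H) (hHV hh₁H) (quad_conj_of_mem_normalizer _ (hHV a.2) hq)
    (quad_conj_of_mem_normalizer _ (hHV b.2) hq) hnp
  obtain ⟨K, L, hL, hK, hiso⟩ := sl2_section_of_pair v w x₁ y₁ hpair
  refine ⟨K, L, hL, hK.trans ?_, hiso⟩
  rw [Subgroup.closure_le]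
  rintro _ (rfl | rfl)
  · exact hclH hx₁
  · exact hclH hy₁

/-- S0657 modulo `DLHyp`. -/
theorem involves_sl2_of_not_isPStable (hDL : DLHyp p) (hp2 : p ≠ 2) {G : Type u} [Group G]
    [Finite G] (hO : Cfsg.pPrimeCore p G < Cfsg.pPrimePCore p G)
    (hns : ¬ Cfsg.IsPStable p (G ⧸ Cfsg.pPrimeCore p G)) :
    Involves (Matrix.SpecialLinearGroup (Fin 2) (ZMod p)) G := by
  have hns' : ¬ Cfsg.IsNormalizerPStable p (G ⧸ Cfsg.pPrimeCore p G) := by
    intro hst
    apply hns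
    refine ⟨hp.out.odd_of_ne_two hp2, ?_, ?_⟩
    · intro hbot
      apply ne_of_lt hO
      unfold Cfsg.pPrimePCore
      rw [hbot, MonoidHom.comap_bot, QuotientGroup.ker_mk']
    · intro A P hAp hPp hAP hPle hn hq
      rintro _ ⟨a, ha, rfl⟩
      have hq' : ⁅⁅P, Subgroup.zpowers (a : G ⧸ Cfsg.pPrimeCore p G)⁆,
          Subgroup.zpowers (a : G ⧸ Cfsg.pPrimeCore p G)⁆ = ⊥ := by
        have hz : Subgroup.zpowers (a : G ⧸ Cfsg.pPrimeCore p G) ≤ A :=
          Subgroup.zpowers_le.mpr ha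
        rw [eq_bot_iff, ← hq]
        exact Subgroup.commutator_mono (Subgroup.commutator_mono le_rfl hz) hz
      exact hst P hPp a.1 a.2 hq'
  have h1 := involves_of_not_isNormalizerPStable hDL
    (H := Matrix.SpecialLinearGroup (Fin 2) (ZMod p))
    (fun Z _ _ v w x y h => involves_sl2_of_isQdPair v w x y h) hns'
  exact involves_of_involves_quotient (QuotientGroup.mk' (Cfsg.pPrimeCore p G))
    (QuotientGroup.mk'_surjective _) h1

end Cfsg.Agent.Helper11.QP
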