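import Cfsg.Agent.Lib.Helper11.ZJ13

/-!
# Control of strong fusion by `N_G(W(D))`: from the local subgroups to `G`
-/

set_option autoImplicit false
set_option linter.style.haveILetI false
set_option linter.unusedSectionVars false

namespace Cfsg.Agent.Helper11.ZJ

open Cfsg Cfsg.Agent.Helper54
open scoped commutatorElement

universe u

variable {p : ℕ} [Fact p.Prime] (𝒢 : GoodSys.{u} p) {G : Type u} [Group G] [Finite G]

/-- A nontrivial strongly closed subgroup meets `N_S(T)` nontrivially (it meets the centre of `S`). -/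
theorem sc_inf_normalizer_ne_bot {S : Sylow p G} {D : Subgroup G}
    (hD : IsStronglyClosed D (S : Subgroup G)) (hDne : D ≠ ⊥) (T : Subgroup G)
    (hTS : T ≤ (S : Subgroup G)) :
    D ⊓ ((S : Subgroup G) ⊓ Subgroup.normalizer (T : Set G)) ≠ ⊥ := by
  haveI : Group.IsNilpotent ↥(S : Subgroup G) := S.isPGroup'.isNilpotent
  haveI hDn : (D.subgroupOf (S : Subgroup G)).Normal :=
    (Subgroup.normal_subgroupOf_iff_le_normalizer hD.1).mpr (sc_le_normalizer hD)
  have hne : D.subgroupOf (S : Subgroup G) ≠ ⊥ := by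
    intro h
    apply hDne
    rw [Subgroup.subgroupOf_eq_bot, disjoint_iff, inf_eq_left.mpr hD.1] at h
    exact h
  have h1 := normal_inf_center_ne_bot (D.subgroupOf (S : Subgroup G)) hne
  obtain ⟨⟨z, hz⟩, hz1⟩ := (Subgroup.ne_bot_iff_exists_ne_one).mp h1
  intro hbot
  apply hz1
  have hzD : ((z : ↥(S : Subgroup G)) : G) ∈ D := Subgroup.mem_subgroupOf.mp hz.1
  have hzc : ∀ s ∈ (S : Subgroup G), s * ((z : ↥(S : Subgroup G)) : G) =
      ((z : ↥(S : Subgroup G)) : G) * s := by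
    intro s hs
    have := (Subgroup.mem_center_iff.mp hz.2) ⟨s, hs⟩
    exact congrArg Subtype.val this
  have hzN : ((z : ↥(S : Subgroup G)) : G) ∈ Subgroup.normalizer (T : Set G) := by
    apply Subgroup.mem_normalizer_fintype
    intro t ht
    have e1 : ((z : ↥(S : Subgroup G)) : G) * t * ((z : ↥(S : Subgroup G)) : G)⁻¹ = t := by
      rw [← hzc t (hTS ht)]; group
    rw [e1]; exact ht
  have hmem : ((z : ↥(S : Subgroup G)) : G) ∈
      D ⊓ ((S : Subgroup G) ⊓ Subgroup.normalizer (T : Set G)) :=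
    ⟨hzD, (z : ↥(S : Subgroup G)).2, hzN⟩
  rw [hbot, Subgroup.mem_bot] at hmem
  apply Subtype.ext
  apply Subtype.ext
  exact hmem

/-- Local control in the normalizer of a fully normalized subgroup. -/
theorem controlsStrongFusionIn_normalizer (hp : p ≠ 2) (S : Sylow p G) (D : Subgroup G)
    (hD : IsStronglyClosed D (S : Subgroup G)) (hDne : D ≠ ⊥) (hst : IsNormalizerPStable p G)
    (T : Subgroup G) (hTS : T ≤ (S : Subgroup G))
    (hc : IsPConstrained p ↥(Subgroup.normalizer (T : Set G)))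
    (hsyl : ¬ p ∣ ((S : Subgroup G) ⊓ Subgroup.normalizer (T : Set G)).relIndex
      (Subgroup.normalizer (T : Set G))) :
    ControlsStrongFusionIn p (scFunctor (𝒢.Good G) D) (Subgroup.normalizer (T : Set G)) := by
  set M : Subgroup G := Subgroup.normalizer (T : Set G) with hM
  set RG : Subgroup G := (S : Subgroup G) ⊓ M with hRG
  have hRGp : IsPGroup p RG := S.isPGroup'.to_le inf_le_left
  refine ⟨RG, inf_le_right, hRGp, hsyl, ?_⟩
  intro A h hhM hA hAh
  -- the Sylow subgroup of `M`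
  have hRXp : IsPGroup p (RG.subgroupOf M) := hRGp.comap_subtype
  have hidx : ¬ p ∣ (RG.subgroupOf M).index := hsyl
  set R : Sylow p ↥M := hRXp.toSylow hidx with hR
  have hRcoe : (R : Subgroup ↥M) = RG.subgroupOf M := IsPGroup.toSylow_coe hRXp hidx
  -- the strongly closed subgroup of `M`
  have hDX : IsStronglyClosed ((D ⊓ RG).subgroupOf M) (R : Subgroup ↥M) := by
    rw [hRcoe]
    refine ⟨fun x hx => ?_, fun x hx g hg => ?_⟩
    · rw [Subgroup.mem_subgroupOf] at hx ⊢
      exact hx.2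
    · rw [Subgroup.mem_subgroupOf] at hx hg ⊢
      have h1 : ((g * x * g⁻¹ : ↥M) : G) = (g : G) * (x : G) * (g : G)⁻¹ := by simp
      rw [h1] at hg ⊢
      exact ⟨hD.2 _ hx.1 _ hg.1, hg⟩
  have hstX : IsNormalizerPStable p ↥M := Cfsg.Agent.S3836.result hst M
  -- apply the local theorem
  have hA' : {a : ↥M | (a : G) ∈ A} ⊆ ((R : Subgroup ↥M) : Set ↥M) := by
    intro a ha
    rw [hRcoe]
    exact Subgroup.mem_subgroupOf.mpr (hA ha)
  have hAh' : ∀ a ∈ {a : ↥M | (a : G) ∈ A},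
      (⟨h, hhM⟩ : ↥M) * a * (⟨h, hhM⟩ : ↥M)⁻¹ ∈ (R : Subgroup ↥M) := by
    intro a ha
    rw [hRcoe, Subgroup.mem_subgroupOf]
    have h1 : (((⟨h, hhM⟩ : ↥M) * a * (⟨h, hhM⟩ : ↥M)⁻¹ : ↥M) : G) = h * (a : G) * h⁻¹ := by simp
    rw [h1]
    exact hAh ⟨(a : G), ha, rfl⟩
  obtain ⟨x, hx, hxa⟩ := local_control 𝒢 hp hc hstX R _ hDX _ (⟨h, hhM⟩ : ↥M) hA' hAh'
  -- `W` of the subgroup of `M` and of its image
  have hker : M.subtype.ker ⊓ (D ⊓ RG).subgroupOf M = ⊥ := by
    rw [Subgroup.ker_subtype, bot_inf_eq]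
  have hWmap := W_map_of_injOn (𝒢.ax ↥M) M.subtype ((D ⊓ RG).subgroupOf M) hker
    (Good' := 𝒢.Good G)
    (fun Y _ hY => 𝒢.push _ Y hY) (fun Y' _ hY' => 𝒢.pull _ _ hker Y' hY')
  have hmapD : ((D ⊓ RG).subgroupOf M).map M.subtype = D ⊓ RG := by
    rw [Subgroup.subgroupOf_map_subtype]
    exact inf_eq_left.mpr (inf_le_right.trans inf_le_right)
  rw [hmapD] at hWmap
  have hgen : Dgen D RG = D ⊓ RG := Dgen_eq_inf hD inf_le_left
  have hne : Dgen D RG ≠ ⊥ := by
    rw [hgen]; exact sc_inf_normalizer_ne_bot hD hDne T hTS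
  refine ⟨(x : G), ⟨x.2, ?_⟩, ?_⟩
  · rw [scFunctor_of_ne hne, hgen, hWmap]
    exact Subgroup.le_normalizer_map M.subtype ⟨x, hx, rfl⟩
  · intro a ha
    have haM : a ∈ M := (hA ha).2
    have h1 := hxa ⟨a, haM⟩ ha
    have h2 := congrArg (fun y : ↥M => (y : G)) h1
    simpa using h2

/-- `N_G(W(D))` controls strong fusion in `P`. -/
theorem controlsStrongFusionOf_sc (hp : p ≠ 2) (P : Sylow p G) (D : Subgroup G)
    (hD : IsStronglyClosed D (P : Subgroup G)) (hst : IsNormalizerPStable p G)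
    (hc : ∀ U : Subgroup G, U ≤ (P : Subgroup G) → U ≠ ⊥ →
      IsPConstrained p ↥(Subgroup.normalizer (U : Set G)))
    (A : Set G) (hA : A ⊆ (P : Subgroup G)) :
    ControlsStrongFusionOf (Subgroup.normalizer ((W (𝒢.Good G) D : Subgroup G) : Set G))
      (P : Subgroup G) A := by
  by_cases hDne : D = ⊥
  · refine ⟨hA, fun g _ => ⟨g, ?_, fun a _ => rfl⟩⟩
    have hW : W (𝒢.Good G) D = ⊥ := by
      rw [eq_bot_iff, ← hDne]; exact W_le (𝒢.ax G) D
    rw [hW, Subgroup.mem_normalizer_iff]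
    intro y
    rw [Subgroup.mem_bot, Subgroup.mem_bot]
    constructor
    · intro hy; rw [hy]; group
    · intro hy
      have : y = g⁻¹ * (g * y * g⁻¹) * g := by group
      rw [this, hy]; group
  · have hW := isConjugacyFunctor_scFunctor (p := p) (𝒢.ax G) (𝒢.ne_bot G) D
    have hloc : ∀ T : Subgroup G, T ≠ ⊥ → IsWellPlaced p (scFunctor (𝒢.Good G) D) (P : Subgroup G) T →
        ControlsStrongFusionIn p (scFunctor (𝒢.Good G) D) (Subgroup.normalizer (T : Set G)) := by
      intro T hTne hwp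
      have h0 := hwp.2 0
      rw [Cfsg.Agent.Helper33.functorTower_zero] at h0
      exact controlsStrongFusionIn_normalizer 𝒢 hp P D hD hDne hst T hwp.1 (hc T hwp.1 hTne) h0
    have htop := Cfsg.Agent.S1961.result P _ hW hloc
    have hall := (Cfsg.Agent.S1967.result P _ hW).mp htop
    refine ⟨hA, fun g hg => ?_⟩
    have hT : Subgroup.closure A ≤ (P : Subgroup G) := (Subgroup.closure_le _).mpr hA
    have hTg : (Subgroup.closure A).map (MulAut.conj g).toMonoidHom ≤ (P : Subgroup G) := by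
      rw [MonoidHom.map_closure, Subgroup.closure_le]
      rintro _ ⟨a, ha, rfl⟩
      exact hg ⟨a, ha, rfl⟩
    obtain ⟨n, hn, c, hc', rfl⟩ := hall _ g hT hTg
    have hgen : Dgen D (P : Subgroup G) = D := by
      rw [Dgen_eq_inf hD le_rfl]; exact inf_eq_left.mpr hD.1
    rw [scFunctor_of_ne (by rw [hgen]; exact hDne), hgen] at hn
    refine ⟨n, hn, fun a ha => ?_⟩
    have h1 := (Subgroup.mem_centralizer_iff.mp hc') a (Subgroup.subset_closure ha)
    have e1 : n * c * a * (n * c)⁻¹ = n * (c * a * c⁻¹) * n⁻¹ := by group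
    rw [e1, ← h1]
    group

end Cfsg.Agent.Helper11.ZJ
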