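import Mathlib
import Cfsg.Prelude.Def_LocalEven
import Cfsg.Agent.Lib.Helper46.FusInd8

/-!
# The fusion induction of `Helper46.general_control` for an abstract class of groups

`general_control_of`: a class `PP` of finite groups closed under subgroups and under quotients by normal
`p'`-subgroups and normal `p`-subgroups, whose members of characteristic `p` are `p`-stable (normalizer form),
consists of groups with `LocalControl`.
-/

set_option autoImplicit false
set_option linter.unusedSectionVars false

namespace Cfsg.Agent.Helper11.CR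

open Cfsg Cfsg.Agent.Helper11.ZJ Cfsg.Agent.Helper46

universe u

variable {p : ℕ} [Fact p.Prime] (𝒢 : GoodSys.{u} p)

theorem general_control_of (PP : ∀ (X : Type u) [Group X], Prop) (hp : p ≠ 2)
    (hsub : ∀ (X : Type u) [Group X] [Finite X] (Y : Subgroup X), PP X → PP ↥Y)
    (hquot' : ∀ (X : Type u) [Group X] [Finite X] (N : Subgroup X) [N.Normal],
      (Nat.card N).Coprime p → PP X → PP (X ⧸ N))
    (hquot : ∀ (X : Type u) [Group X] [Finite X] (N : Subgroup X) [N.Normal],
      IsPGroup p N → PP X → PP (X ⧸ N))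
    (hbase : ∀ (X : Type u) [Group X] [Finite X], PP X → pPrimeCore p X = ⊥ → IsPConstrained p X →
      IsNormalizerPStable p X) :
    ∀ (n : ℕ) (X : Type u) [Group X] [Finite X], Nat.card X = n → PP X → LocalControl 𝒢 X := by
  intro n
  induction n using Nat.strong_induction_on with
  | _ n ih =>
    intro X _ _ hcard hfree
    have IH : ∀ (Y : Type u) [Group Y] [Finite Y], Nat.card Y < Nat.card X → PP Y → LocalControl 𝒢 Y :=
      fun Y _ _ hlt hY => ih (Nat.card Y) (hcard ▸ hlt) Y rfl hY
    have IHsub : ∀ Y : Subgroup X, Y ≠ ⊤ → LocalControl 𝒢 ↥Y := fun Y hY =>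
      IH ↥Y (card_subgroup_lt_of_ne_top hY) (hsub X Y hfree)
    intro R D hD A h hA hAh
    by_cases hK : pPrimeCore p X = ⊥
    swap
    · have : (pPrimeCore p X).Normal := Cfsg.Agent.Helper54.pPrimeCore_normal' p
      exact control_of_pPrimeQuotient 𝒢 (pPrimeCore p X) (Cfsg.Agent.Helper54.pPrimeCore_coprime p)
        (IH _ (card_quotient_lt_of_ne_bot hK)
          (hquot' X _ (Cfsg.Agent.Helper54.pPrimeCore_coprime p) hfree)) R D hD A h hA hAh
    by_cases hc : IsPConstrained p X
    · exact local_control 𝒢 hp hc (hbase X hfree hK hc) R D hD A h hA hAh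
    by_cases hQ : pCore p X = ⊥
    · apply control_of_locals 𝒢 R D hD _ A h hA hAh
      intro T hTR hTne _
      apply IHsub
      intro htop
      apply hTne
      have hTn : T.Normal := Subgroup.normalizer_eq_top_iff.mp htop
      rw [eq_bot_iff, ← hQ]
      exact le_pCore' hTn (R.isPGroup'.to_le hTR)
    set Q := pCore p X with hQdef
    have hQn : Q.Normal := pCore_normal' p X
    have IHquot : LocalControl 𝒢 (X ⧸ Q) :=
      IH (X ⧸ Q) (card_quotient_lt_of_ne_bot hQ) (hquot X Q isPGroup_pCore' hfree)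
    set C := Subgroup.centralizer (Q : Set X) with hCdef
    have hQR : Q ≤ (R : Subgroup X) := pCore_le_sylow' R
    by_cases hRC : (R : Subgroup X) ⊔ C = ⊤
    · exact control_of_RC_eq_top 𝒢 Q rfl R D hD hRC IHquot (fun Y _ hY => IHsub Y hY) A h hA hAh
    · obtain ⟨m, hm, n', hn', rfl, hmA⟩ := fusion_frattini R (Q ⊔ C) A hA h hAh
      have hN₁ne : Subgroup.normalizer ((((R : Subgroup X) ⊓ (Q ⊔ C) : Subgroup X)) : Set X) ≠ ⊤ := by
        intro htop
        apply hc
        exact Cfsg.Agent.Helper54.IsCharP.isPConstrained (centralizer_le_pCore_of_normalizer_eq_top R hK htop)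
      have hmY : m ∈ (R : Subgroup X) ⊔ C := (sup_le (hQR.trans le_sup_left) le_sup_right) hm
      obtain ⟨y, hy, hya⟩ := control_of_subgroup 𝒢 R D hD ((R : Subgroup X) ⊔ C) le_sup_left
        (IHsub _ hRC) A m hmY hA hmA
      have hRN₁ : (R : Subgroup X) ≤
          Subgroup.normalizer ((((R : Subgroup X) ⊓ (Q ⊔ C) : Subgroup X)) : Set X) := by
        intro r hr
        apply Subgroup.mem_normalizer_fintype
        rintro x ⟨hx1, hx2⟩
        exact ⟨Subgroup.mul_mem _ (Subgroup.mul_mem _ hr hx1) (Subgroup.inv_mem _ hr),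
          (inferInstance : (Q ⊔ C).Normal).conj_mem x hx2 r⟩
      obtain ⟨z, hz, hza⟩ := control_of_subgroup 𝒢 R D hD _ hRN₁ (IHsub _ hN₁ne)
        ((fun a => m * a * m⁻¹) '' A) n' hn'
        (by
          rintro _ ⟨a, ha, rfl⟩
          exact hmA a ha)
        (by
          rintro _ ⟨a, ha, rfl⟩
          have := hAh a ha
          have e : n' * (m * a * m⁻¹) * n'⁻¹ = n' * m * a * (n' * m)⁻¹ := by group
          rw [e]
          exact this)
      refine ⟨z * y, Subgroup.mul_mem _ hz hy, fun a ha => ?_⟩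
      have h1 := hya a ha
      have h2 := hza (m * a * m⁻¹) ⟨a, ha, rfl⟩
      have e : z * y * a * (z * y)⁻¹ = z * (y * a * y⁻¹) * z⁻¹ := by group
      rw [e, h1, h2]
      group

end Cfsg.Agent.Helper11.CR
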