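import Cfsg.Agent.Lib.Helper11.DLA1
import Cfsg.Agent.Lib.Helper51.CTCount11
import Cfsg.Agent.Lib.Helper59.SL2Sub
import Cfsg.Agent.Lib.Helper41.DicksonB2

/-!
# Dickson-lite assembly, II: `DLHyp p` for odd `p`

Pieces: helper51 (`CT.Hyp.main`, abstract class-equation counting), helper59 (`SL2Sub.subgroup_H1..H6`),
helper41 (`rootSets_eq_of_card_sylow`, the subfield step), and the exceptional case of `DLA1`.
-/

set_option autoImplicit false
set_option linter.style.haveILetI false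
set_option linter.unusedSectionVars false
set_option linter.unusedVariables false

namespace Cfsg.Agent.Helper11.QP

open Matrix

section

variable {F : Type*} [Field F] [Fintype F] (p : ℕ) [Fact p.Prime] [CharP F p]
variable (L : Subgroup (Matrix.SpecialLinearGroup (Fin 2) F))

theorem hyp_of_subgroup (hp : p ≠ 2) :
    Cfsg.Agent.Helper51.CT.Hyp p (Cfsg.Agent.Helper59.SL2Sub.ZL L) where
  central := Cfsg.Agent.Helper59.SL2Sub.ZL_le_center L
  coprimeZ := by
    have h := Cfsg.Agent.Helper59.SL2Sub.not_dvd_card_ZL p L hp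
    exact ((Nat.Prime.coprime_iff_not_dvd (Fact.out)).mpr h).symm
  comm := fun x hx y w hy hw => Cfsg.Agent.Helper59.SL2Sub.subgroup_H1 L x hx y w hy hw
  normIdx := fun x hx h => Cfsg.Agent.Helper59.SL2Sub.subgroup_H2 p L hp x hx h
  pcent := fun x hx h => Cfsg.Agent.Helper59.SL2Sub.subgroup_H3 p L hp x hx h

theorem hypB_of_subgroup (hp : p ≠ 2) (U : Sylow p L) (hne : (U : Subgroup L) ≠ ⊥) :
    Cfsg.Agent.Helper51.CT.HypB p (Cfsg.Agent.Helper59.SL2Sub.ZL L) (U : Subgroup L) where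
  centLe := fun c hc hc' => Cfsg.Agent.Helper59.SL2Sub.subgroup_H5 p L hp U c hc hc'
  commMem := fun a b ha hb => Cfsg.Agent.Helper59.SL2Sub.subgroup_H6 p L U hne a b ha hb

theorem uSL_eq_upperSL (t : F) : uSL t = Cfsg.Agent.Helper41.upperSL t := rfl

theorem lSL_eq_lowerSL (t : F) : lSL t = Cfsg.Agent.Helper41.lowerSL t := rfl

theorem lSL_pow (t : F) (n : ℕ) : lSL t ^ n = lSL (n • t) := by
  induction n with
  | zero =>
    rw [pow_zero, zero_smul, lSL_eq_lowerSL, Cfsg.Agent.Helper41.lowerSL_zero]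
  | succ n ih =>
    rw [pow_succ, ih, lSL_eq_lowerSL, lSL_eq_lowerSL, Cfsg.Agent.Helper41.lowerSL_mul,
      lSL_eq_lowerSL, succ_nsmul]

/-- a subgroup containing `u(lam)` and `l(1)` has more than one Sylow `p`-subgroup. -/
theorem one_lt_card_sylow (lam : F) (hlam : lam ≠ 0) (hu : uSL lam ∈ L) (hl : lSL (1 : F) ∈ L) :
    1 < Nat.card (Sylow p L) := by
  by_contra hle
  push Not at hle
  have hpos : 0 < Nat.card (Sylow p L) := Nat.card_pos
  have h1 : Nat.card (Sylow p L) = 1 := by omega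
  obtain ⟨hss, _⟩ := Nat.card_eq_one_iff_unique.mp h1
  have hpow : ∀ (z : L), z ^ p = 1 → ∀ U : Sylow p L, z ∈ (U : Subgroup L) := by
    intro z hz U
    have hpg : IsPGroup p (Subgroup.zpowers z) := by
      rintro ⟨h, hh⟩
      obtain ⟨n, rfl⟩ := Subgroup.mem_zpowers_iff.mp hh
      refine ⟨1, ?_⟩
      apply Subtype.ext
      simp only [Subgroup.coe_pow, Subgroup.coe_one, pow_one]
      rw [← zpow_natCast, ← _root_.zpow_mul, mul_comm, _root_.zpow_mul, zpow_natCast, hz,
        _root_.one_zpow]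
    obtain ⟨Q, hQ⟩ := hpg.exists_le_sylow
    have : Q = U := Subsingleton.elim _ _
    rw [← this]
    exact hQ (Subgroup.mem_zpowers _)
  obtain ⟨U⟩ : Nonempty (Sylow p L) := inferInstance
  have hup : (⟨uSL lam, hu⟩ : L) ^ p = 1 := by
    apply Subtype.ext
    rw [Subgroup.coe_pow, Subgroup.coe_one]
    show uSL lam ^ p = 1
    rw [uSL_eq_upperSL, Cfsg.Agent.Helper41.upperSL_pow, nsmul_eq_mul, CharP.cast_eq_zero, zero_mul,
      Cfsg.Agent.Helper41.upperSL_zero]
  have hlp : (⟨lSL 1, hl⟩ : L) ^ p = 1 := by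
    apply Subtype.ext
    rw [Subgroup.coe_pow, Subgroup.coe_one]
    show lSL (1 : F) ^ p = 1
    rw [lSL_pow, nsmul_eq_mul, CharP.cast_eq_zero, zero_mul, lSL_eq_lowerSL,
      Cfsg.Agent.Helper41.lowerSL_zero]
  have huU := hpow _ hup U
  have hlU := hpow _ hlp U
  set Q : Subgroup (Matrix.SpecialLinearGroup (Fin 2) F) := (U : Subgroup L).map L.subtype with hQ
  have hQp : IsPGroup p Q := U.2.map _
  have hmem : (1 : Matrix.SpecialLinearGroup (Fin 2) F) * Cfsg.Agent.Helper41.upperSL lam *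
      (1 : Matrix.SpecialLinearGroup (Fin 2) F)⁻¹ ∈ Q := by
    rw [one_mul, inv_one, mul_one]
    exact ⟨_, huU, rfl⟩
  have hle' := Cfsg.Agent.Helper41.le_rootConj_of_isPGroup p Q hQp 1 lam hlam hmem
  have hl2 : lSL (1 : F) ∈ Q := ⟨_, hlU, rfl⟩
  have hl3 := hle' hl2
  rw [Cfsg.Agent.Helper41.mem_rootConj_one, Cfsg.Agent.Helper41.mem_upperUni] at hl3
  have h10 : ((lSL (1 : F) : Matrix.SpecialLinearGroup (Fin 2) F) :
      Matrix (Fin 2) (Fin 2) F) 1 0 = 1 := by
    rw [lSL_coe]; simp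
  rw [h10] at hl3
  exact one_ne_zero hl3.2.1

/-- **Dickson-lite** for a finite field with a `Fintype` instance. -/
theorem hasRationalPair_of_mem (hp : p ≠ 2) (lam : F) (hlam : lam ≠ 0) (hu : uSL lam ∈ L)
    (hl : lSL (1 : F) ∈ L) : HasRationalPair L := by
  have hN := one_lt_card_sylow p L lam hlam hu hl
  obtain ⟨U⟩ : Nonempty (Sylow p L) := inferInstance
  have hne : (U : Subgroup L) ≠ ⊥ := by
    intro hbot
    -- all Sylow subgroups are trivial, hence equal
    have : Subsingleton (Sylow p L) := by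
      constructor
      intro P Q
      obtain ⟨g, rfl⟩ := MulAction.exists_smul_eq L U P
      obtain ⟨g', rfl⟩ := MulAction.exists_smul_eq L U Q
      apply Sylow.ext
      rw [Sylow.coe_subgroup_smul, Sylow.coe_subgroup_smul, hbot]
      simp
    have h1 : Nat.card (Sylow p L) ≤ 1 := Finite.card_le_one_iff_subsingleton.mpr this
    omega
  rcases (hyp_of_subgroup p L hp).main hp U hN (hypB_of_subgroup p L hp U hne) with hmain | hexc
  · obtain ⟨K, a, ha0, hA, hB⟩ := Cfsg.Agent.Helper41.rootSets_eq_of_card_sylow p L lam 1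
      (show Cfsg.Agent.Helper41.upperSL lam ∈ L from hu) hlam
      (show Cfsg.Agent.Helper41.lowerSL (1 : F) ∈ L from hl) one_ne_zero U hmain
    have h1B : (1 : F) ∈ Cfsg.Agent.Helper41.rootSetL L :=
      (show Cfsg.Agent.Helper41.lowerSL (1 : F) ∈ L from hl)
    obtain ⟨k, hk, hk1⟩ := (hB 1).mp h1B
    have hak : a = k := by
      have : a * 1 = a * (a⁻¹ * k) := by rw [← hk1]
      rw [mul_one, ← mul_assoc, mul_inv_cancel₀ ha0, one_mul] at this
      exact this
    have h1K : (1 : F) ∈ K := K.one_mem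
    have haA : a ∈ Cfsg.Agent.Helper41.rootSetU L := (hA a).mpr ⟨1, h1K, (mul_one a).symm⟩
    have haB : a⁻¹ ∈ Cfsg.Agent.Helper41.rootSetL L := (hB a⁻¹).mpr ⟨1, h1K, (mul_one _).symm⟩
    exact hasRationalPair_of_recip L a ha0 (show Cfsg.Agent.Helper41.upperSL a ∈ L from haA)
      (show Cfsg.Agent.Helper41.lowerSL a⁻¹ ∈ L from haB)
  · obtain ⟨hp3, hexc⟩ := hexc
    subst hp3
    have h3 : (3 : F) = 0 := by
      have := CharP.cast_eq_zero F 3
      exact_mod_cast this
    apply hasRationalPair_of_exceptional h3 lam hlam L hu hl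
    intro y hy
    have key : ∀ k : ℕ, (⟨y, hy⟩ : L) ^ k ∈ Cfsg.Agent.Helper59.SL2Sub.ZL L →
        (y ^ k).1 1 0 = 0 := by
      intro k hk
      rw [Cfsg.Agent.Helper59.SL2Sub.mem_ZL_iff,
        Cfsg.Agent.Helper59.SL2Sub.mem_center_iff_isSc] at hk
      exact hk.2.1
    rcases hexc ⟨y, hy⟩ with h | h | h
    · exact Or.inl (key 2 h)
    · exact Or.inr (Or.inl (key 3 h))
    · exact Or.inr (Or.inr (key 5 h))

end

/-- **Dickson-lite**: `DLHyp p` holds for every odd prime `p`. -/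
theorem dlHyp (p : ℕ) [Fact p.Prime] (hp : p ≠ 2) : DLHyp p := by
  intro F _ _ _ lam hlam L hu hl
  haveI : Fintype F := Fintype.ofFinite F
  exact hasRationalPair_of_mem p L hp lam hlam hu hl

end Cfsg.Agent.Helper11.QP
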