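import Mathlib
import Cfsg.Prelude.Def_LocalEven
import Cfsg.Agent.Lib.Helper33.CentricFusion
import Cfsg.Agent.Lib.Helper46.FusInd8
import Cfsg.Agent.Lib.Helper11.DLA2

/-!
# Control of fusion by `N(Z(J(S)))` when the normalizers of the subgroups between `Z(S)` and `S` are `SL₂(p)`-free

`NReal N A g`: the conjugation by `g` on the set `A` is realized by an element of `N`.
-/

set_option autoImplicit false
set_option linter.unusedSectionVars false

namespace Cfsg.Agent.Helper11.SLF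

open Cfsg Cfsg.Agent.Helper11.ZJ Cfsg.Agent.Helper33 Cfsg.Agent.Helper46
open scoped Pointwise

universe u

section basic

variable {G : Type*} [Group G]

/-- the (right) conjugation by `g` on `A` is realized by an element of `N` -/
def NReal (N : Subgroup G) (A : Set G) (g : G) : Prop :=
  ∃ n ∈ N, ∀ a ∈ A, n⁻¹ * a * n = g⁻¹ * a * g

theorem NReal.mono {N : Subgroup G} {A B : Set G} {g : G} (hBA : B ⊆ A) (h : NReal N A g) : NReal N B g := by
  obtain ⟨n, hn, h1⟩ := h
  exact ⟨n, hn, fun a ha => h1 a (hBA ha)⟩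

theorem NReal.trans {N : Subgroup G} {A : Set G} {g h : G} (h1 : NReal N A g) (h2 : NReal N (rc g A) h) :
    NReal N A (g * h) := by
  obtain ⟨n, hn, hn1⟩ := h1
  obtain ⟨m, hm, hm1⟩ := h2
  refine ⟨n * m, N.mul_mem hn hm, fun a ha => ?_⟩
  have e1 := hn1 a ha
  have e2 := hm1 (g⁻¹ * a * g) ⟨a, ha, rfl⟩
  calc (n * m)⁻¹ * a * (n * m) = m⁻¹ * (n⁻¹ * a * n) * m := by group
    _ = m⁻¹ * (g⁻¹ * a * g) * m := by rw [e1]
    _ = h⁻¹ * (g⁻¹ * a * g) * h := e2
    _ = (g * h)⁻¹ * a * (g * h) := by group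

theorem NReal.symm {N : Subgroup G} {A : Set G} {g : G} (h : NReal N A g) : NReal N (rc g A) g⁻¹ := by
  obtain ⟨n, hn, hn1⟩ := h
  refine ⟨n⁻¹, N.inv_mem hn, ?_⟩
  rintro _ ⟨a, ha, rfl⟩
  have e1 := hn1 a ha
  calc n⁻¹⁻¹ * (g⁻¹ * a * g) * n⁻¹ = n * (n⁻¹ * a * n) * n⁻¹ := by rw [e1, inv_inv]
    _ = g⁻¹⁻¹ * (g⁻¹ * a * g) * g⁻¹ := by group

theorem NReal.of_agree {N : Subgroup G} {A : Set G} {g g₁ : G} (h : NReal N A g)
    (hg : ∀ a ∈ A, g₁⁻¹ * a * g₁ = g⁻¹ * a * g) : NReal N A g₁ := by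
  obtain ⟨n, hn, hn1⟩ := h
  exact ⟨n, hn, fun a ha => (hn1 a ha).trans (hg a ha).symm⟩

theorem NReal.one (N : Subgroup G) (A : Set G) : NReal N A 1 := ⟨1, N.one_mem, fun _ _ => rfl⟩

theorem ncard_rc (g : G) (A : Set G) : (rc g A).ncard = A.ncard := by
  unfold rc
  apply Set.ncard_image_of_injective
  intro a b hab
  have h1 : g⁻¹ * a * g = g⁻¹ * b * g := hab
  have h2 : g * (g⁻¹ * a * g) * g⁻¹ = g * (g⁻¹ * b * g) * g⁻¹ := by rw [h1]
  simpa [mul_assoc] using h2

/-- a chain through members of `𝓕`, each step of which (on a member of order at least `c`) is realized in `N`, is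
realized in `N` on sets of at least `c` elements -/
theorem nreal_of_chain [Finite G] {N : Subgroup G} {𝓕 : Set (Subgroup G)} (c : ℕ)
    (hstep : ∀ V ∈ 𝓕, c ≤ Nat.card V → ∀ m ∈ Subgroup.normalizer (V : Set G), NReal N (V : Set G) m) :
    ∀ (l : List (Subgroup G × G)) (A : Set G), IsChainR 𝓕 A l → c ≤ A.ncard →
      NReal N A (l.map Prod.snd).prod := by
  intro l
  induction l with
  | nil =>
    intro A _ _
    simpa using NReal.one N A
  | cons hd tl ih =>
    intro A hA hc
    obtain ⟨V, x⟩ := hd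
    obtain ⟨hV, hx, hAV, htl⟩ := hA
    simp only [List.map_cons, List.prod_cons]
    have hcV : c ≤ Nat.card V := by
      show c ≤ (V : Set G).ncard
      exact hc.trans (Set.ncard_le_ncard hAV (Set.toFinite _))
    apply NReal.trans ((hstep V hV hcV x hx).mono hAV)
    apply ih _ htl
    rw [ncard_rc]
    exact hc

theorem nreal_of_reachA [Finite G] {N : Subgroup G} {𝓕 : Set (Subgroup G)} (c : ℕ)
    (hstep : ∀ V ∈ 𝓕, c ≤ Nat.card V → ∀ m ∈ Subgroup.normalizer (V : Set G), NReal N (V : Set G) m)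
    {A : Set G} {g : G} (h : ReachA 𝓕 A g) (hc : c ≤ A.ncard) : NReal N A g := by
  obtain ⟨g', hg1, l, hl, rfl⟩ := h
  exact (nreal_of_chain c hstep l A hl hc).of_agree (fun a ha => (hg1 a ha).symm)

end basic

section control

variable {p : ℕ} [Fact p.Prime] (𝒢 : GoodSys.{u} p) {X : Type u} [Group X] [Finite X]

/-- Local control in the normalizer `M` of `T`, with respect to its Sylow subgroup `S ∩ M`. -/
theorem step_control (S : Sylow p X) (T : Subgroup X)
    (hloc : LocalControl 𝒢 ↥(Subgroup.normalizer (T : Set X)))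
    (hsyl : ¬ p ∣ ((S : Subgroup X) ⊓ Subgroup.normalizer (T : Set X)).relIndex
      (Subgroup.normalizer (T : Set X)))
    (A : Set X) (h : X) (hhM : h ∈ Subgroup.normalizer (T : Set X))
    (hA : A ⊆ ((S : Subgroup X) ⊓ Subgroup.normalizer (T : Set X) : Subgroup X))
    (hAh : ∀ a ∈ A, h * a * h⁻¹ ∈ ((S : Subgroup X) ⊓ Subgroup.normalizer (T : Set X) : Subgroup X)) :
    ∃ x ∈ Subgroup.normalizer ((W (𝒢.Good X) ((S : Subgroup X) ⊓ Subgroup.normalizer (T : Set X)) :
      Subgroup X) : Set X), ∀ a ∈ A, x * a * x⁻¹ = h * a * h⁻¹ := by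
  set M : Subgroup X := Subgroup.normalizer (T : Set X) with hM
  set RG : Subgroup X := (S : Subgroup X) ⊓ M with hRG
  have hRGp : IsPGroup p RG := S.isPGroup'.to_le inf_le_left
  have hRXp : IsPGroup p (RG.subgroupOf M) := hRGp.comap_subtype
  have hidx : ¬ p ∣ (RG.subgroupOf M).index := hsyl
  set R : Sylow p ↥M := hRXp.toSylow hidx with hR
  have hRcoe : (R : Subgroup ↥M) = RG.subgroupOf M := IsPGroup.toSylow_coe hRXp hidx
  have hDX : IsStronglyClosed (RG.subgroupOf M) (R : Subgroup ↥M) := by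
    rw [hRcoe]
    exact ⟨le_rfl, fun _ _ _ h => h⟩
  have hA' : {a : ↥M | (a : X) ∈ A} ⊆ ((R : Subgroup ↥M) : Set ↥M) := by
    intro a ha
    rw [hRcoe]
    exact Subgroup.mem_subgroupOf.mpr (hA ha)
  have hAh' : ∀ a ∈ {a : ↥M | (a : X) ∈ A},
      (⟨h, hhM⟩ : ↥M) * a * (⟨h, hhM⟩ : ↥M)⁻¹ ∈ (R : Subgroup ↥M) := by
    intro a ha
    rw [hRcoe, Subgroup.mem_subgroupOf]
    have h1 : (((⟨h, hhM⟩ : ↥M) * a * (⟨h, hhM⟩ : ↥M)⁻¹ : ↥M) : X) = h * (a : X) * h⁻¹ := by simp
    rw [h1]
    exact hAh _ ha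
  obtain ⟨x, hx, hxa⟩ := hloc R _ hDX _ (⟨h, hhM⟩ : ↥M) hA' hAh'
  have hWmap := W_subgroupOf_map 𝒢 M RG inf_le_right
  refine ⟨(x : X), ?_, ?_⟩
  · rw [← hWmap]
    exact Subgroup.le_normalizer_map M.subtype ⟨x, hx, rfl⟩
  · intro a ha
    have haM : a ∈ M := (hA ha).2
    have h1 := hxa ⟨a, haM⟩ ha
    have h2 := congrArg (fun y : ↥M => (y : X)) h1
    simpa using h2

end control

section nice

variable {G : Type u} [Group G]

/-- `SL₂(p)` is a quotient of `Qd(p)`. -/
theorem involves_sl2_qd (p : ℕ) [Fact p.Prime] :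
    Involves (Matrix.SpecialLinearGroup (Fin 2) (ZMod p)) ↥(Cfsg.qd p) :=
  involves_of_surjective_top (G := ↥(Cfsg.qdOver (ZMod p))) (qdπ (ZMod p)) qdπ_surjective

theorem qdFree_of_sl2Free {p : ℕ} [Fact p.Prime] {Y : Type*} [Group Y]
    (h : ¬ Involves (Matrix.SpecialLinearGroup (Fin 2) (ZMod p)) Y) : ¬ Involves ↥(Cfsg.qd p) Y :=
  fun hq => h (involves_trans (involves_sl2_qd p) hq)

/-- being `SL₂(p)`-free is invariant under conjugation, for normalizers -/
theorem sl2Free_normalizer_conj {Q : Type*} [Group Q] (k : G) (U : Subgroup G)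
    (h : ¬ Involves Q ↥(Subgroup.normalizer (U : Set G))) :
    ¬ Involves Q ↥(Subgroup.normalizer ((MulAut.conj k • U : Subgroup G) : Set G)) := by
  intro hinv
  apply h
  rw [normalizer_conj_smul] at hinv
  exact involves_of_injective
    (Subgroup.equivSMul (MulAut.conj k) (Subgroup.normalizer (U : Set G))).symm.toMonoidHom
    (Subgroup.equivSMul (MulAut.conj k) (Subgroup.normalizer (U : Set G))).symm.injective hinv

/-- the form of the hypothesis in the statement gives `SL₂(p)`-freeness of the normalizer -/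
theorem sl2Free_of_form {Q : Type*} [Group Q] (P : Subgroup G)
    (h : ¬ ∃ (H K : Subgroup G) (_hK : (K.subgroupOf H).Normal), H ≤ Subgroup.normalizer (P : Set G) ∧
        Nonempty ((H ⧸ K.subgroupOf H) ≃* Q)) :
    ¬ Involves Q ↥(Subgroup.normalizer (P : Set G)) := by
  intro hinv
  apply h
  set M := Subgroup.normalizer (P : Set G) with hM
  obtain ⟨K', f, hf⟩ := exists_surjective_of_involves hinv
  set H : Subgroup G := K'.map M.subtype with hH
  let e : ↥K' ≃* ↥H := K'.equivMapOfInjective M.subtype M.subtype_injective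
  let f' : ↥H →* Q := f.comp e.symm.toMonoidHom
  have hf' : Function.Surjective f' := hf.comp e.symm.surjective
  have hR : (f'.ker.map H.subtype).subgroupOf H = f'.ker :=
    Subgroup.comap_map_eq_self_of_injective H.subtype_injective _
  have hN : ((f'.ker.map H.subtype).subgroupOf H).Normal := by
    rw [hR]; infer_instance
  refine ⟨H, f'.ker.map H.subtype, hN, Subgroup.map_subtype_le _, ⟨?_⟩⟩
  exact (QuotientGroup.quotientMulEquivOfEq hR).trans (QuotientGroup.quotientKerEquivOfSurjective f' hf')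

end nice

section main

variable {G : Type u} [Group G] [Finite G] {p : ℕ} [Fact p.Prime]

/-- `U` is nice: its normalizer is `SL₂(p)`-free -/
def Nice (p : ℕ) (U : Subgroup G) : Prop :=
  ¬ Involves (Matrix.SpecialLinearGroup (Fin 2) (ZMod p)) ↥(Subgroup.normalizer (U : Set G))

/-- the center of `S` lies in `Z(J(N_S(U)))` for `U ≤ S` -/
theorem center_le_ZJ_inf_normalizer (S U : Subgroup G) (hUS : U ≤ S) :
    S ⊓ Subgroup.centralizer (S : Set G) ≤ ZJ (S ⊓ Subgroup.normalizer (U : Set G)) := by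
  intro z hz
  apply center_le_ZJ
  have hzN : z ∈ Subgroup.normalizer (U : Set G) :=
    Subgroup.centralizer_le_normalizer _ (Subgroup.centralizer_le (by exact_mod_cast hUS) hz.2)
  refine ⟨⟨hz.1, hzN⟩, ?_⟩
  refine Subgroup.centralizer_le ?_ hz.2
  intro a ha
  exact ha.1

theorem key (hp : p ≠ 2) (S : Sylow p G)
    (hnice : ∀ P : Subgroup G,
      (S : Subgroup G) ⊓ Subgroup.centralizer ((S : Subgroup G) : Set G) ≤ P → P ≤ S → Nice p P) :
    ∀ (n : ℕ) (U : Subgroup G), U ∈ fullyNormalized S → Nice p U →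
      Nat.card (S : Subgroup G) -
        Nat.card ((S : Subgroup G) ⊓ Subgroup.normalizer (U : Set G) : Subgroup G) = n →
      ∀ y ∈ Subgroup.normalizer (U : Set G), ∀ B : Set G,
        B ⊆ ((S : Subgroup G) ⊓ Subgroup.normalizer (U : Set G) : Subgroup G) →
        rc y B ⊆ ((S : Subgroup G) ⊓ Subgroup.normalizer (U : Set G) : Subgroup G) →
        NReal (Subgroup.normalizer ((ZJ (S : Subgroup G) : Subgroup G) : Set G)) B y := by
  intro n
  induction n using Nat.strong_induction_on with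
  | _ n ih =>
    intro U hU hUnice hn y hy B hB hBy
    set T₀ : Subgroup G := (S : Subgroup G) ⊓ Subgroup.normalizer (U : Set G) with hT₀
    set N := Subgroup.normalizer ((ZJ (S : Subgroup G) : Subgroup G) : Set G) with hN
    have hloc : LocalControl (commSys.{u} p) ↥(Subgroup.normalizer (U : Set G)) :=
      localControl_of_qdFree (commSys p) (Cfsg.Agent.Helper11.QP.dlHyp p hp) hp
        (qdFree_of_sl2Free hUnice)
    obtain ⟨x, hx, hxa⟩ := step_control (commSys p) S U hloc hU.2.2.2 B y⁻¹ (inv_mem hy) hB (by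
      intro a ha
      have h0 : y⁻¹ * a * y ∈ T₀ := hBy ⟨a, ha, rfl⟩
      rw [inv_inv]
      exact h0)
    have hx' : x⁻¹ ∈ Subgroup.normalizer ((ZJ T₀ : Subgroup G) : Set G) := inv_mem hx
    have hagree : ∀ a ∈ B, y⁻¹ * a * y = (x⁻¹)⁻¹ * a * x⁻¹ := by
      intro a ha
      rw [inv_inv, hxa a ha, inv_inv]
    by_cases hTS : T₀ = S
    · refine ⟨x⁻¹, ?_, fun a ha => (hagree a ha).symm⟩
      rw [hTS] at hx'
      exact hx'
    · have hlt : T₀ < (S : Subgroup G) := lt_of_le_of_ne inf_le_left hTS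
      set U' : Subgroup G := ZJ T₀ with hU'
      have hU'T : U' ≤ T₀ := W_le goodAx_comm T₀
      have hU'S : U' ≤ (S : Subgroup G) := hU'T.trans inf_le_left
      have hZU' : (S : Subgroup G) ⊓ Subgroup.centralizer ((S : Subgroup G) : Set G) ≤ U' :=
        center_le_ZJ_inf_normalizer _ U hU.1
      have hU'nice : Nice p U' := hnice U' hZU' hU'S
      set T₁ : Subgroup G := (S : Subgroup G) ⊓ Subgroup.normalizer (U' : Set G) with hT₁
      have hT₀T₁ : T₀ < T₁ := by
        have h1 := lt_inf_normalizer S.isPGroup' hlt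
        exact lt_of_lt_of_le h1 (inf_le_inf_left _ (normalizer_le_normalizer_W goodAx_comm T₀))
      obtain ⟨k, hk1, hk2, hk3⟩ := exists_conj_fully_normalized S hU'S
      set U'' : Subgroup G := MulAut.conj k • U' with hU''
      have hU''fn : U'' ∈ fullyNormalized S := ⟨hk2, hk3⟩
      have hU''nice : Nice p U'' := sl2Free_normalizer_conj k U' hU'nice
      set T₂ : Subgroup G := (S : Subgroup G) ⊓ Subgroup.normalizer (U'' : Set G) with hT₂
      have hkT₁ : MulAut.conj k • T₁ ≤ T₂ := by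
        apply le_inf hk1
        rw [hU'', normalizer_conj_smul]
        exact conj_smul_le_conj_smul inf_le_right
      have hcard01 : Nat.card T₀ < Nat.card T₁ := card_lt_of_lt hT₀T₁
      have hcard12 : Nat.card T₁ ≤ Nat.card T₂ := by
        rw [← card_conj_smul k T₁]; exact Subgroup.card_le_of_le hkT₁
      have IH : ∀ V : Subgroup G, V ∈ fullyNormalized S → Nice p V →
          Nat.card T₀ < Nat.card ((S : Subgroup G) ⊓ Subgroup.normalizer (V : Set G) : Subgroup G) →
          ∀ m ∈ Subgroup.normalizer (V : Set G), ∀ B' : Set G,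
            B' ⊆ ((S : Subgroup G) ⊓ Subgroup.normalizer (V : Set G) : Subgroup G) →
            rc m B' ⊆ ((S : Subgroup G) ⊓ Subgroup.normalizer (V : Set G) : Subgroup G) →
            NReal N B' m := by
        intro V hV hVnice hcard
        have hle : Nat.card ((S : Subgroup G) ⊓ Subgroup.normalizer (V : Set G) : Subgroup G) ≤
            Nat.card (S : Subgroup G) := Subgroup.card_le_of_le inf_le_left
        exact ih _ (by omega) V hV hVnice rfl
      -- Claim A: conjugation by `k` on `T₁` is realized in `N`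
      have hA : NReal N (T₁ : Set G) k⁻¹ := by
        have hreach := reachA_centric S T₁ inf_le_left k⁻¹ (by rw [inv_inv]; exact hk1)
        refine nreal_of_reachA (Nat.card T₁) ?_ hreach (by
          show Nat.card T₁ ≤ (T₁ : Set G).ncard
          exact le_rfl)
        intro V hV hcV m hm
        have hVS : V ≤ (S : Subgroup G) := hV.1.1
        have hZV : (S : Subgroup G) ⊓ Subgroup.centralizer ((S : Subgroup G) : Set G) ≤ V :=
          (hV.2.center_le hVS S.isPGroup').trans inf_le_left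
        have hVle : V ≤ (S : Subgroup G) ⊓ Subgroup.normalizer (V : Set G) :=
          le_inf hVS Subgroup.le_normalizer
        have hc3 : Nat.card V ≤
            Nat.card ((S : Subgroup G) ⊓ Subgroup.normalizer (V : Set G) : Subgroup G) :=
          Subgroup.card_le_of_le hVle
        apply IH V hV.1 (hnice V hZV hVS) (by omega) m hm V hVle
        rw [rc_normalizer hm]; exact hVle
      -- Claim B
      have hkx : k * x⁻¹ * k⁻¹ ∈ Subgroup.normalizer (U'' : Set G) := by
        rw [hU'', normalizer_conj_smul]; exact conj_mem_conj_smul hx'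
      have hBT₁ : B ⊆ (T₁ : Set G) := fun b hb => hT₀T₁.le (hB hb)
      have hxB : rc x⁻¹ B ⊆ (T₁ : Set G) := by
        rintro _ ⟨a, ha, rfl⟩
        show x⁻¹⁻¹ * a * x⁻¹ ∈ T₁
        rw [← hagree a ha]
        exact hT₀T₁.le (hBy ⟨a, ha, rfl⟩)
      have hkB : rc k⁻¹ B ⊆ (T₂ : Set G) := by
        rintro _ ⟨a, ha, rfl⟩
        apply hkT₁
        have := conj_mem_conj_smul (g := k) (hBT₁ ha)
        simpa using this
      have e : k⁻¹ * (k * x⁻¹ * k⁻¹) = x⁻¹ * k⁻¹ := by group
      have hkxB : rc (k * x⁻¹ * k⁻¹) (rc k⁻¹ B) ⊆ (T₂ : Set G) := by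
        rw [← rc_mul, e, rc_mul]
        rintro _ ⟨a, ha, rfl⟩
        apply hkT₁
        have := conj_mem_conj_smul (g := k) (hxB ha)
        simpa using this
      have hBclaim : NReal N (rc k⁻¹ B) (k * x⁻¹ * k⁻¹) :=
        IH U'' hU''fn hU''nice (lt_of_lt_of_le hcard01 hcard12) _ hkx _ hkB hkxB
      -- combine
      have h1 : NReal N B k⁻¹ := hA.mono hBT₁
      have h2 : NReal N B (k⁻¹ * (k * x⁻¹ * k⁻¹)) := h1.trans hBclaim
      have h3 : NReal N (rc k⁻¹ (rc x⁻¹ B)) k⁻¹⁻¹ := (hA.mono hxB).symm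
      rw [e] at h2
      have h4 : NReal N B (x⁻¹ * k⁻¹ * k⁻¹⁻¹) := h2.trans (by rw [rc_mul]; exact h3)
      have e2 : x⁻¹ * k⁻¹ * k⁻¹⁻¹ = x⁻¹ := by group
      rw [e2] at h4
      exact h4.of_agree hagree

/-- If the normalizers of the subgroups between `Z(S)` and `S` are `SL₂(p)`-free, `N(Z(J(S)))` controls fusion of
elements of `S`. -/
theorem main (hp : p ≠ 2) (S : Sylow p G)
    (hnice : ∀ P : Subgroup G,
      (S : Subgroup G) ⊓ Subgroup.centralizer ((S : Subgroup G) : Set G) ≤ P → P ≤ S → Nice p P)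
    (x : G) (hx : x ∈ S) (y : G) (hy : y ∈ S) (g : G) (hg : g * x * g⁻¹ = y) :
    ∃ n ∈ Subgroup.normalizer ((ZJ (S : Subgroup G) : Subgroup G) : Set G), n * x * n⁻¹ = y := by
  have hA : Subgroup.zpowers x ≤ (S : Subgroup G) := (Subgroup.zpowers_le).mpr hx
  have hgA : MulAut.conj g⁻¹⁻¹ • Subgroup.zpowers x ≤ (S : Subgroup G) := by
    rw [inv_inv, conj_smul_le_iff]
    intro a ha
    obtain ⟨i, rfl⟩ := Subgroup.mem_zpowers_iff.mp ha
    have h1 : g * x ^ i * g⁻¹ = (g * x * g⁻¹) ^ i := by simp [conj_zpow]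
    rw [h1, hg]
    exact Subgroup.zpow_mem _ hy i
  have hreach := reachA_centric S _ hA g⁻¹ hgA
  have hreal : NReal (Subgroup.normalizer ((ZJ (S : Subgroup G) : Subgroup G) : Set G))
      (Subgroup.zpowers x : Set G) g⁻¹ := by
    refine nreal_of_reachA 0 ?_ hreach (Nat.zero_le _)
    intro V hV _ m hm
    have hVS : V ≤ (S : Subgroup G) := hV.1.1
    have hZV : (S : Subgroup G) ⊓ Subgroup.centralizer ((S : Subgroup G) : Set G) ≤ V :=
      (hV.2.center_le hVS S.isPGroup').trans inf_le_left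
    have hVle : V ≤ (S : Subgroup G) ⊓ Subgroup.normalizer (V : Set G) :=
      le_inf hVS Subgroup.le_normalizer
    exact key hp S hnice _ V hV.1 (hnice V hZV hVS) rfl m hm V hVle (by
      rw [rc_normalizer hm]; exact hVle)
  obtain ⟨n, hn, hn1⟩ := hreal
  refine ⟨n⁻¹, inv_mem hn, ?_⟩
  have h2 := hn1 x (Subgroup.mem_zpowers x)
  rw [inv_inv] at h2 ⊢
  rw [h2, hg]

end main

end Cfsg.Agent.Helper11.SLF
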