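import Mathlib
import Cfsg.Prelude.Def_LocalEven
import Cfsg.Agent.Lib.Helper11.CR1
import Cfsg.Agent.Lib.Helper11.SLF1

/-!
# Groups in which no automizer of a `p`-subgroup involves `SL₂(p)`

`AutInv p X`: for some `p`-subgroup `Q` of `X`, the automizer `N_X(Q)/C_X(Q)` involves `SL₂(p)`.
`localControl_of_not_autInv`: if not, `N(W(D))` controls strong fusion for all strongly closed `D` (`p` odd).
-/

set_option autoImplicit false
set_option linter.unusedSectionVars false

namespace Cfsg.Agent.Helper11.CR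

open Cfsg Cfsg.Agent.Helper11.ZJ Cfsg.Agent.Helper33 Cfsg.Agent.Helper46
open scoped Pointwise

universe u

/-- `SL₂(p)` is involved in the automizer of some `p`-subgroup: there are a `p`-subgroup `Q`, a subgroup
`H ≤ N(Q)` and a homomorphism of `H` onto `SL₂(p)` which is trivial on `H ∩ C(Q)`. -/
def AutInv (p : ℕ) (X : Type*) [Group X] : Prop :=
  ∃ (Q H : Subgroup X) (f : ↥H →* Matrix.SpecialLinearGroup (Fin 2) (ZMod p)), IsPGroup p Q ∧
    H ≤ Subgroup.normalizer (Q : Set X) ∧ Function.Surjective f ∧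
    ∀ h : ↥H, (h : X) ∈ Subgroup.centralizer (Q : Set X) → f h = 1

section inherit

variable {p : ℕ} [Fact p.Prime] {X : Type*} [Group X]

theorem autInv_of_subgroup (Y : Subgroup X) (h : AutInv p ↥Y) : AutInv p X := by
  obtain ⟨Q, H, f, hQ, hHN, hf, hker⟩ := h
  let e : ↥H ≃* ↥(H.map Y.subtype) := H.equivMapOfInjective Y.subtype Y.subtype_injective
  refine ⟨Q.map Y.subtype, H.map Y.subtype, f.comp e.symm.toMonoidHom, hQ.map _, ?_,
    hf.comp e.symm.surjective, ?_⟩
  · rintro _ ⟨y, hy, rfl⟩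
    exact Subgroup.le_normalizer_map Y.subtype ⟨y, hHN hy, rfl⟩
  · intro h' hh'
    obtain ⟨y, rfl⟩ := e.surjective h'
    have hy : ((y : ↥Y) : X) = ((e y : ↥(H.map Y.subtype)) : X) :=
      (Subgroup.coe_equivMapOfInjective_apply H Y.subtype Y.subtype_injective y).symm
    show f (e.symm (e y)) = 1
    rw [MulEquiv.symm_apply_apply]
    apply hker
    rw [Subgroup.mem_centralizer_iff]
    intro q hq
    apply Subtype.ext
    have := Subgroup.mem_centralizer_iff.mp hh' (q : X) ⟨q, hq, rfl⟩
    rw [← hy] at this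
    simpa using this

variable [Finite X]

theorem autInv_of_surjective {X' : Type*} [Group X'] (π : X →* X') (hπ : Function.Surjective π)
    (h : AutInv p X') : AutInv p X := by
  obtain ⟨Qb, Hb, fb, hQb, hHbN, hfb, hkerb⟩ := h
  set M : Subgroup X := Qb.comap π with hM
  obtain ⟨Q₀⟩ : Nonempty (Sylow p ↥M) := inferInstance
  set Q : Subgroup X := (Q₀ : Subgroup ↥M).map M.subtype with hQ
  have hQmap : Q.map π = Qb := Cfsg.Agent.Helper54.map_sylow_comap π hπ Qb hQb Q₀
  have hQsyl : IsSylIn p Q M := isSylIn_of_sylow M Q₀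
  set H : Subgroup X := Hb.comap π ⊓ Subgroup.normalizer (Q : Set X) with hH
  let g : ↥H →* ↥Hb := (π.subgroupComap Hb).comp (Subgroup.inclusion inf_le_left)
  have hg : ∀ x : ↥H, ((g x : ↥Hb) : X') = π (x : X) := fun x => rfl
  refine ⟨Q, H, fb.comp g, hQsyl.isPGroup, inf_le_right, ?_, ?_⟩
  · apply hfb.comp
    rintro ⟨hb, hhb⟩
    obtain ⟨x, rfl⟩ := hπ hb
    -- `x` normalizes `M`
    have hxM : x ∈ Subgroup.normalizer (M : Set X) := by
      rw [Subgroup.mem_normalizer_iff]
      intro y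
      have h1 := Subgroup.mem_normalizer_iff.mp (hHbN hhb) (π y)
      simp only [hM, Subgroup.mem_comap, map_mul, map_inv]
      exact h1
    have hsyl2 : IsSylIn p (MulAut.conj x • Q) M := by
      have := hQsyl.conj x
      rwa [smul_eq_of_mem_normalizer hxM] at this
    obtain ⟨m, hm, hmQ⟩ := hQsyl.exists_conj_eq hsyl2
    -- `m = q' n` with `n ∈ ker π`
    have hm' : π m ∈ Qb := hm
    rw [← hQmap] at hm'
    obtain ⟨q', hq', hq'm⟩ := hm'
    set n := q'⁻¹ * m with hn
    have hnker : π n = 1 := by rw [hn, map_mul, map_inv, hq'm, inv_mul_cancel]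
    have hq'Q : MulAut.conj q'⁻¹ • Q = Q := conj_smul_eq_self_of_mem (Q.inv_mem hq')
    have hyN : n * x ∈ Subgroup.normalizer (Q : Set X) := by
      rw [mem_normalizer_iff_smul_eq, hn, conj_mul_smul, conj_mul_smul, hmQ, hq'Q]
    have hyH : n * x ∈ H := by
      refine ⟨?_, hyN⟩
      show π (n * x) ∈ Hb
      rw [map_mul, hnker, one_mul]
      exact hhb
    refine ⟨⟨n * x, hyH⟩, ?_⟩
    apply Subtype.ext
    rw [hg]
    show π (n * x) = π x
    rw [map_mul, hnker, one_mul]
  · intro h hh
    show fb (g h) = 1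
    apply hkerb
    rw [hg, Subgroup.mem_centralizer_iff]
    intro qb hqb
    have hqb' : qb ∈ Q.map π := by rw [hQmap]; exact hqb
    obtain ⟨q, hq, rfl⟩ := hqb'
    have := Subgroup.mem_centralizer_iff.mp hh q hq
    rw [← map_mul, ← map_mul, this]

theorem autInv_of_quotient (N : Subgroup X) [N.Normal] (h : AutInv p (X ⧸ N)) : AutInv p X :=
  autInv_of_surjective (QuotientGroup.mk' N) (QuotientGroup.mk'_surjective N) h

end inherit

section base

variable (p : ℕ) [Fact p.Prime]

/-- a normal `p`-subgroup of `SL₂(p)` is trivial -/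
theorem sl2_normal_pgroup_eq_bot (N : Subgroup (Matrix.SpecialLinearGroup (Fin 2) (ZMod p)))
    [hN : N.Normal] (hNp : IsPGroup p N) : N = ⊥ := by
  have hle : N ≤ Cfsg.Agent.Helper5.slU (ZMod p) :=
    normal_pgroup_le_sylow (Cfsg.Agent.Helper5.slUSylow (F := ZMod p) p) N hNp
  rw [eq_bot_iff]
  intro n hn
  rw [Subgroup.mem_bot]
  obtain ⟨h00, h10, h11⟩ := (Cfsg.Agent.Helper59.SL2Sub.mem_slU_iff' n).mp (hle hn)
  let w : Matrix.SpecialLinearGroup (Fin 2) (ZMod p) := ⟨!![0, 1; -1, 0], by simp [Matrix.det_fin_two]⟩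
  have hm := hle (hN.conj_mem n hn w)
  obtain ⟨-, m10, -⟩ := (Cfsg.Agent.Helper59.SL2Sub.mem_slU_iff' _).mp hm
  have h01 : n.1 0 1 = 0 := by
    have e : (w * n * w⁻¹).1 1 0 = - n.1 0 1 := by
      rw [Matrix.SpecialLinearGroup.coe_mul, Matrix.SpecialLinearGroup.coe_mul,
        Matrix.SpecialLinearGroup.coe_inv, Matrix.adjugate_fin_two]
      simp [w, Matrix.mul_apply, Fin.sum_univ_two, Matrix.vecMul, dotProduct]
    rw [e] at m10
    exact neg_eq_zero.mp m10
  apply Subtype.ext
  ext i j
  fin_cases i <;> fin_cases j <;> simp [h00, h10, h11, h01]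

variable {p}

/-- In a group of characteristic `p` without `SL₂(p)` in the automizers, `SL₂(p)` is not involved at all. -/
theorem not_involves_sl2_of_charP {X : Type*} [Group X] [Finite X] (hX : ¬ AutInv p X)
    (hchar : Subgroup.centralizer (pCore p X : Set X) ≤ pCore p X) :
    ¬ Involves (Matrix.SpecialLinearGroup (Fin 2) (ZMod p)) X := by
  intro hinv
  apply hX
  obtain ⟨K₀, f, hf⟩ := exists_surjective_of_involves hinv
  have hQn : (pCore p X).Normal := pCore_normal' p X
  refine ⟨pCore p X, K₀, f, isPGroup_pCore', ?_, hf, ?_⟩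
  · rw [Subgroup.normalizer_eq_top]
    exact le_top
  · intro k hk
    set B : Subgroup ↥K₀ := (Subgroup.centralizer (pCore p X : Set X)).subgroupOf K₀ with hB
    have hBn : B.Normal := by
      have : (Subgroup.centralizer (pCore p X : Set X)).Normal := inferInstance
      exact Subgroup.Normal.subgroupOf this K₀
    have hBp : IsPGroup p B := by
      have h1 : IsPGroup p (Subgroup.centralizer (pCore p X : Set X)) := isPGroup_pCore'.to_le hchar
      exact h1.comap_subtype
    have hmapn : (B.map f).Normal := Subgroup.Normal.map hBn f hf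
    have hbot := sl2_normal_pgroup_eq_bot p (B.map f) (hBp.map f)
    have hk' : f k ∈ B.map f := ⟨k, hk, rfl⟩
    rw [hbot, Subgroup.mem_bot] at hk'
    exact hk'

end base

section control

variable {p : ℕ} [Fact p.Prime] (𝒢 : GoodSys.{u} p)

/-- If no automizer of a `p`-subgroup of `X` involves `SL₂(p)` (`p` odd), then `N(W(D))` controls strong fusion
for every strongly closed `D`. -/
theorem localControl_of_not_autInv (hp : p ≠ 2) {X : Type u} [Group X] [Finite X] (hX : ¬ AutInv p X) :
    LocalControl 𝒢 X := by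
  refine general_control_of 𝒢 (fun Y _ => ¬ AutInv p Y) hp ?_ ?_ ?_ ?_ (Nat.card X) X rfl hX
  · intro Y _ _ Z hY hZ
    exact hY (autInv_of_subgroup Z hZ)
  · intro Y _ _ N _ _ hY hq
    exact hY (autInv_of_quotient N hq)
  · intro Y _ _ N _ _ hY hq
    exact hY (autInv_of_quotient N hq)
  · intro Y _ _ hY hK hc
    have hchar : Cfsg.Agent.Helper54.IsCharP p Y := by
      have h1 := Cfsg.Agent.Helper54.isPConstrained_iff_isCharP_quotient.mp hc
      have hbot : (pPrimeCore p Y) = ⊥ := hK
      have e : (Y ⧸ pPrimeCore p Y) ≃* Y :=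
        (QuotientGroup.quotientMulEquivOfEq hbot).trans QuotientGroup.quotientBot
      exact Cfsg.Agent.Helper54.IsCharP.of_mulEquiv e h1
    apply Cfsg.Agent.Helper11.QP.isNormalizerPStable_of_qdFree (Cfsg.Agent.Helper11.QP.dlHyp p hp) hp
    exact Cfsg.Agent.Helper11.SLF.qdFree_of_sl2Free (not_involves_sl2_of_charP hY hchar)

end control

end Cfsg.Agent.Helper11.CR
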