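import Mathlib
import Cfsg.Prelude.Def_LocalEven
import Cfsg.Agent.Lib.Helper11.CR2

/-!
# Lifting normal subgroups of the fusion system through a normal `p`-subgroup `Q` when `X = R C_X(Q)`
-/

set_option autoImplicit false
set_option linter.unusedSectionVars false

namespace Cfsg.Agent.Helper11.CR

open Cfsg Cfsg.Agent.Helper11.ZJ Cfsg.Agent.Helper33 Cfsg.Agent.Helper46
open scoped Pointwise

universe u

variable {p : ℕ} [Fact p.Prime] (𝒢 : GoodSys.{u} p)

variable {X : Type u} [Group X] [Finite X]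

/-- If `X = R C_X(Q)` for a normal `p`-subgroup `Q`, and `D` is strongly closed in the Sylow subgroup `R`, then the
normalizer of the preimage of `W(DQ/Q)` controls strong fusion in `R`, provided `X/Q` has local control. -/
theorem lift_control (Q : Subgroup X) [hQn : Q.Normal] (R : Sylow p X) (hQR : Q ≤ (R : Subgroup X))
    (D : Subgroup X) (hD : IsStronglyClosed D (R : Subgroup X))
    (hRC : (R : Subgroup X) ⊔ Subgroup.centralizer (Q : Set X) = ⊤)
    (hquot : LocalControl 𝒢 (X ⧸ Q))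
    (A : Set X) (h : X) (hA : A ⊆ (R : Subgroup X)) (hAh : ∀ a ∈ A, h * a * h⁻¹ ∈ (R : Subgroup X)) :
    ∃ x ∈ Subgroup.normalizer ((((W (𝒢.Good (X ⧸ Q)) (D.map (QuotientGroup.mk' Q))).comap
      (QuotientGroup.mk' Q) : Subgroup X)) : Set X), ∀ a ∈ A, x * a * x⁻¹ = h * a * h⁻¹ := by
  have hQp : IsPGroup p Q := R.isPGroup'.to_le hQR
  set π := QuotientGroup.mk' Q with hπ
  have hsurj := QuotientGroup.mk'_surjective Q
  have hRcoe : ((R.mapSurjective hsurj : Sylow p (X ⧸ Q)) : Subgroup (X ⧸ Q)) = (R : Subgroup X).map π :=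
    Sylow.coe_mapSurjective hsurj R
  have hDq : IsStronglyClosed (D.map π) ((R.mapSurjective hsurj : Sylow p (X ⧸ Q)) : Subgroup (X ⧸ Q)) := by
    rw [hRcoe]
    exact sc_quotient_p Q _ D hQR hD
  set V := W (𝒢.Good (X ⧸ Q)) (D.map π) with hV
  set T := V.comap π with hT
  have hRbarN : ((R.mapSurjective hsurj : Sylow p (X ⧸ Q)) : Subgroup (X ⧸ Q)) ≤
      Subgroup.normalizer (V : Set (X ⧸ Q)) :=
    (sc_le_normalizer hDq).trans (normalizer_le_normalizer_W (𝒢.ax _) _)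
  have hRT : (R : Subgroup X) ≤ Subgroup.normalizer (T : Set X) := by
    intro r hr
    rw [hT, mem_normalizer_comap_mk]
    apply hRbarN
    rw [hRcoe]
    exact Subgroup.mem_map_of_mem _ hr
  set Y := Subgroup.normalizer (T : Set X) with hY
  have hXC : ∀ x : X, ∃ r ∈ (R : Subgroup X), ∃ c ∈ Subgroup.centralizer (Q : Set X), x = r * c := by
    intro x
    have hx : x ∈ (((R : Subgroup X) ⊔ Subgroup.centralizer (Q : Set X) : Subgroup X) : Set X) := by
      rw [hRC]; trivial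
    rw [Subgroup.mul_normal] at hx
    obtain ⟨r, hr, c, hc, rfl⟩ := hx
    exact ⟨r, hr, c, hc, rfl⟩
  -- the conjugation family
  have hW' := isConjugacyFunctor_scFunctor (p := p) (𝒢.ax X) (𝒢.ne_bot X) D
  have hfam := Cfsg.Agent.S1966.result R _ (Cfsg.Agent.S1964.result R _ hW')
  -- the step
  have hstep : ∀ B ∈ {T' : Subgroup X | T' ∈ {T' : Subgroup X |
      IsWellPlaced p (scFunctor (𝒢.Good X) D) (R : Subgroup X) T'} ∧ pCore p X ≤ T'},
      ∀ x ∈ Subgroup.normalizer (B : Set X),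
      ∃ w ∈ Y, ∀ b ∈ B, w * b * w⁻¹ = x⁻¹ * b * x := by
    rintro B ⟨hwp, hQB'⟩ x hx
    have hQB : Q ≤ B := (le_pCore' hQn hQp).trans hQB'
    have hBR : B ≤ (R : Subgroup X) := hwp.1
    have hfn := hwp.2 0
    rw [Cfsg.Agent.Helper33.functorTower_zero] at hfn
    have hx' : x⁻¹ ∈ Subgroup.normalizer (B : Set X) := Subgroup.inv_mem _ hx
    have hconjB : ∀ b ∈ B, x⁻¹ * b * x⁻¹⁻¹ ∈ B := fun b hb =>
      (Subgroup.mem_normalizer_iff.mp hx' b).mp hb
    -- control in the quotient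
    have hA' : π '' (B : Set X) ⊆
        (((R.mapSurjective hsurj : Sylow p (X ⧸ Q)) : Subgroup (X ⧸ Q)) : Set (X ⧸ Q)) := by
      rintro _ ⟨b, hb, rfl⟩
      rw [hRcoe]
      exact Subgroup.mem_map_of_mem _ (hBR hb)
    have hAh' : ∀ a' ∈ π '' (B : Set X), π x⁻¹ * a' * (π x⁻¹)⁻¹ ∈
        ((R.mapSurjective hsurj : Sylow p (X ⧸ Q)) : Subgroup (X ⧸ Q)) := by
      rintro _ ⟨b, hb, rfl⟩
      rw [hRcoe]
      refine ⟨x⁻¹ * b * x⁻¹⁻¹, hBR (hconjB b hb), ?_⟩
      simp only [map_mul, map_inv]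
    obtain ⟨n', hn', hn'a⟩ := hquot (R.mapSurjective hsurj) (D.map π) hDq (π '' (B : Set X)) (π x⁻¹) hA' hAh'
    obtain ⟨n₀, rfl⟩ := hsurj n'
    have hn₀Y : n₀ ∈ Y := by
      rw [hY, hT, mem_normalizer_comap_mk]
      exact hn'
    set y := n₀⁻¹ * x⁻¹ with hy
    have hyQ : ∀ b ∈ B, y * b * y⁻¹ * b⁻¹ ∈ Q := by
      intro b hb
      have h1 := hn'a (π b) ⟨b, hb, rfl⟩
      rw [← QuotientGroup.eq_one_iff, ← QuotientGroup.mk'_apply, ← hπ]
      have e : y * b * y⁻¹ * b⁻¹ = n₀⁻¹ * (x⁻¹ * b * x⁻¹⁻¹) * n₀ * b⁻¹ := by rw [hy]; group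
      rw [e]
      simp only [map_mul, map_inv]
      have h2 : π x⁻¹ * π b * (π x⁻¹)⁻¹ = π n₀ * π b * (π n₀)⁻¹ := h1.symm
      simp only [map_inv] at h2
      rw [h2]
      group
    have hyB : y ∈ Subgroup.normalizer (B : Set X) := by
      apply Subgroup.mem_normalizer_fintype
      intro b hb
      have e : y * b * y⁻¹ = (y * b * y⁻¹ * b⁻¹) * b := by group
      rw [e]
      exact B.mul_mem (hQB (hyQ b hb)) hb
    obtain ⟨c, hc, s, hs, hycs⟩ := exists_mul_of_quotient_trivial R Q hXC B hQB hBR hfn y hyB hyQ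
    -- `x⁻¹ = n₀ c s`
    have hx'eq : x⁻¹ = n₀ * (c * s) := by rw [← hycs, hy]; group
    set m := n₀ * s with hm
    have hmY : m ∈ Y := Subgroup.mul_mem _ hn₀Y (hRT hs.1)
    refine ⟨m, hmY, ?_⟩
    intro b hb
    have hsb : s * b * s⁻¹ ∈ B := (Subgroup.mem_normalizer_iff.mp hs.2 b).mp hb
    have hcb := Subgroup.mem_centralizer_iff.mp hc _ hsb
    have e1 : x⁻¹ * b * x = x⁻¹ * b * x⁻¹⁻¹ := by rw [inv_inv]
    rw [e1, hx'eq, hm]
    have e2 : n₀ * (c * s) * b * (n₀ * (c * s))⁻¹ = n₀ * (c * (s * b * s⁻¹) * c⁻¹) * n₀⁻¹ := by group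
    rw [e2, ← hcb]
    group
  obtain ⟨w, hw, hwa⟩ := control_of_conjugationFamily hfam hstep A h⁻¹ hA (by
    intro a ha
    rw [inv_inv]
    exact hAh a ha)
  refine ⟨w, hw, fun a ha => ?_⟩
  rw [hwa a ha, inv_inv]

end Cfsg.Agent.Helper11.CR
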