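import Mathlib
import Cfsg.Prelude.Def_LocalEven
import Cfsg.Agent.Lib.Helper11.CR3

/-!
# Normal subgroups of the fusion system; a non-centric normal subgroup is not the largest one
-/

set_option autoImplicit false
set_option linter.unusedSectionVars false

namespace Cfsg.Agent.Helper11.CR

open Cfsg Cfsg.Agent.Helper11.ZJ Cfsg.Agent.Helper33 Cfsg.Agent.Helper46
open scoped Pointwise

universe u

section defs

variable {G : Type*} [Group G]

/-- `N` controls strong fusion in `P` -/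
def Controls (N P : Subgroup G) : Prop :=
  ∀ (A : Set G) (g : G), A ⊆ P → (∀ a ∈ A, g * a * g⁻¹ ∈ P) →
    ∃ x ∈ N, ∀ a ∈ A, x * a * x⁻¹ = g * a * g⁻¹

/-- `R` is normal in the fusion system of `G` on `P`: `R ⊴ P` and `N_G(R)` controls strong fusion in `P` -/
def FNormal (P R : Subgroup G) : Prop :=
  R ≤ P ∧ P ≤ Subgroup.normalizer (R : Set G) ∧ Controls (Subgroup.normalizer (R : Set G)) P

end defs

variable {p : ℕ} [Fact p.Prime] (𝒢 : GoodSys.{u} p)

variable {X : Type u} [Group X] [Finite X]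

/-- the preimage of `W(T/Q)` computed in a subgroup `Y ⊇ T ⊇ Q` agrees with the one computed in `X` -/
theorem comap_W_subgroup (Q : Subgroup X) [hQn : Q.Normal] (Y T : Subgroup X) (hQY : Q ≤ Y) (hTY : T ≤ Y) :
    ((W (𝒢.Good (↥Y ⧸ Q.subgroupOf Y)) ((T.subgroupOf Y).map (QuotientGroup.mk' (Q.subgroupOf Y)))).comap
      (QuotientGroup.mk' (Q.subgroupOf Y))).map Y.subtype =
    (W (𝒢.Good (X ⧸ Q)) (T.map (QuotientGroup.mk' Q))).comap (QuotientGroup.mk' Q) := by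
  set πY := QuotientGroup.mk' (Q.subgroupOf Y) with hπY
  set π := QuotientGroup.mk' Q with hπ
  let ι : (↥Y ⧸ Q.subgroupOf Y) →* (X ⧸ Q) :=
    QuotientGroup.map (Q.subgroupOf Y) Q Y.subtype (fun y hy => hy)
  have hι : ∀ y : ↥Y, ι (πY y) = π (y : X) := fun y => rfl
  have hιker : ι.ker = ⊥ := by
    rw [eq_bot_iff]
    intro v hv
    obtain ⟨y, rfl⟩ := QuotientGroup.mk'_surjective (Q.subgroupOf Y) v
    rw [MonoidHom.mem_ker, hι, hπ, QuotientGroup.mk'_apply, QuotientGroup.eq_one_iff] at hv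
    rw [Subgroup.mem_bot, QuotientGroup.mk'_apply, QuotientGroup.eq_one_iff]
    exact hv
  have hker : ι.ker ⊓ ((T.subgroupOf Y).map πY) = ⊥ := by rw [hιker, bot_inf_eq]
  have hmapD : ((T.subgroupOf Y).map πY).map ι = T.map π := by
    ext v
    constructor
    · rintro ⟨_, ⟨y, hy, rfl⟩, rfl⟩
      exact ⟨(y : X), hy, (hι y).symm⟩
    · rintro ⟨t, ht, rfl⟩
      exact ⟨πY ⟨t, hTY ht⟩, ⟨⟨t, hTY ht⟩, ht, rfl⟩, hι _⟩
  have hW := W_map_of_injOn (𝒢.ax (↥Y ⧸ Q.subgroupOf Y)) ι ((T.subgroupOf Y).map πY) hker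
    (Good' := 𝒢.Good (X ⧸ Q))
    (fun Y' _ hY' => 𝒢.push _ Y' hY') (fun Y' _ hY' => 𝒢.pull _ _ hker Y' hY')
  rw [hmapD] at hW
  rw [hW]
  ext x
  constructor
  · rintro ⟨y, hy, rfl⟩
    exact ⟨πY y, hy, hι y⟩
  · rintro ⟨v, hv, hvx⟩
    obtain ⟨y, rfl⟩ := QuotientGroup.mk'_surjective (Q.subgroupOf Y) v
    rw [hι] at hvx
    have hq : (y : X)⁻¹ * x ∈ Q := by
      rw [← QuotientGroup.eq_one_iff, ← QuotientGroup.mk'_apply, ← hπ, map_mul, map_inv, hvx,
        inv_mul_cancel]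
    have hxY : x ∈ Y := by
      have e : x = (y : X) * ((y : X)⁻¹ * x) := by group
      rw [e]
      exact Y.mul_mem y.2 (hQY hq)
    refine ⟨⟨x, hxY⟩, ?_, rfl⟩
    show πY ⟨x, hxY⟩ ∈ W (𝒢.Good (↥Y ⧸ Q.subgroupOf Y)) (Subgroup.map πY (T.subgroupOf Y))
    have e2 : πY ⟨x, hxY⟩ = πY y := by
      rw [hπY, QuotientGroup.mk'_apply, QuotientGroup.mk'_apply]
      symm
      rw [QuotientGroup.eq]
      exact hq
    rw [e2]
    exact hv

/-- control of the fusion by elements of `Q C_X(Q)`, through the subgroup `R C_X(Q)` -/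
theorem control_in_RK (hp : p ≠ 2) (hX : ¬ AutInv p X) (R : Sylow p X)
    (Q : Subgroup X) [hQn : Q.Normal] (hQR : Q ≤ (R : Subgroup X))
    (A : Set X) (m : X) (hm : m ∈ Q ⊔ Subgroup.centralizer (Q : Set X))
    (hA : A ⊆ (R : Subgroup X)) (hmA : ∀ a ∈ A, m * a * m⁻¹ ∈ (R : Subgroup X)) :
    ∃ x ∈ Subgroup.normalizer ((((W (𝒢.Good (X ⧸ Q))
      (((R : Subgroup X) ⊓ (Q ⊔ Subgroup.centralizer (Q : Set X))).map (QuotientGroup.mk' Q))).comap
        (QuotientGroup.mk' Q) : Subgroup X)) : Set X), ∀ a ∈ A, x * a * x⁻¹ = m * a * m⁻¹ := by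
  set K := Subgroup.centralizer (Q : Set X) with hK
  have hKn : K.Normal := inferInstance
  have hQKn : (Q ⊔ K).Normal := inferInstance
  set Y : Subgroup X := (R : Subgroup X) ⊔ K with hY
  have hRY : (R : Subgroup X) ≤ Y := le_sup_left
  have hQY : Q ≤ Y := hQR.trans hRY
  have hmY : m ∈ Y := (sup_le hQY le_sup_right) hm
  set T : Subgroup X := (R : Subgroup X) ⊓ (Q ⊔ K) with hT
  have hTY : T ≤ Y := inf_le_left.trans hRY
  set RY : Sylow p ↥Y := R.subtype hRY with hRYdef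
  have hRYcoe : (RY : Subgroup ↥Y) = (R : Subgroup X).subgroupOf Y := Sylow.coe_subtype _ _
  have hQRY : Q.subgroupOf Y ≤ (RY : Subgroup ↥Y) := by
    rw [hRYcoe]
    intro y hy
    exact hQR hy
  have hDY : IsStronglyClosed (T.subgroupOf Y) (RY : Subgroup ↥Y) := by
    rw [hRYcoe]
    refine ⟨fun x hx => ?_, fun x hx g hg => ?_⟩
    · rw [Subgroup.mem_subgroupOf] at hx ⊢
      exact hx.1
    · rw [Subgroup.mem_subgroupOf] at hx hg ⊢
      have h1 : ((g * x * g⁻¹ : ↥Y) : X) = (g : X) * (x : X) * (g : X)⁻¹ := by simp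
      rw [h1] at hg ⊢
      exact ⟨hg, hQKn.conj_mem _ hx.2 _⟩
  have hRCY : (RY : Subgroup ↥Y) ⊔ Subgroup.centralizer ((Q.subgroupOf Y : Subgroup ↥Y) : Set ↥Y) = ⊤ := by
    rw [eq_top_iff]
    intro y _
    have hy : (y : X) ∈ (((R : Subgroup X) ⊔ K : Subgroup X) : Set X) := y.2
    rw [Subgroup.mul_normal] at hy
    obtain ⟨r, hr, k, hk, hrk⟩ := hy
    have hrY : r ∈ Y := hRY hr
    have hkY : k ∈ Y := (le_sup_right : K ≤ Y) hk
    have e : y = (⟨r, hrY⟩ : ↥Y) * ⟨k, hkY⟩ := Subtype.ext hrk.symm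
    rw [e]
    apply Subgroup.mul_mem
    · apply Subgroup.mem_sup_left
      rw [hRYcoe]
      exact hr
    · apply Subgroup.mem_sup_right
      rw [Subgroup.mem_centralizer_iff]
      intro q hq
      apply Subtype.ext
      have := Subgroup.mem_centralizer_iff.mp hk (q : X) hq
      simpa using this
  have hquotY : LocalControl 𝒢 (↥Y ⧸ Q.subgroupOf Y) :=
    localControl_of_not_autInv 𝒢 hp
      (fun h => hX (autInv_of_subgroup Y (autInv_of_quotient (Q.subgroupOf Y) h)))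
  have hA' : {a : ↥Y | (a : X) ∈ A} ⊆ ((RY : Subgroup ↥Y) : Set ↥Y) := by
    intro a ha
    rw [hRYcoe]
    exact Subgroup.mem_subgroupOf.mpr (hA ha)
  have hAm' : ∀ a ∈ {a : ↥Y | (a : X) ∈ A},
      (⟨m, hmY⟩ : ↥Y) * a * (⟨m, hmY⟩ : ↥Y)⁻¹ ∈ (RY : Subgroup ↥Y) := by
    intro a ha
    rw [hRYcoe, Subgroup.mem_subgroupOf]
    have h1 : (((⟨m, hmY⟩ : ↥Y) * a * (⟨m, hmY⟩ : ↥Y)⁻¹ : ↥Y) : X) = m * (a : X) * m⁻¹ := by simp
    rw [h1]
    exact hmA _ ha
  obtain ⟨x, hx, hxa⟩ := lift_control 𝒢 (Q.subgroupOf Y) RY hQRY (T.subgroupOf Y) hDY hRCY hquotY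
    _ (⟨m, hmY⟩ : ↥Y) hA' hAm'
  refine ⟨(x : X), ?_, ?_⟩
  · rw [← comap_W_subgroup 𝒢 Q Y T hQY hTY]
    exact Subgroup.le_normalizer_map Y.subtype ⟨x, hx, rfl⟩
  · intro a ha
    have haY : a ∈ Y := hRY (hA ha)
    have h1 := hxa ⟨a, haY⟩ ha
    have h2 := congrArg (fun y : ↥Y => (y : X)) h1
    simpa using h2

/-- If `Q ⊴ X` is a `p`-subgroup with `C_R(Q) ≰ Q`, there is a normal subgroup of the fusion system not contained in
`Q` (no automizer involving `SL₂(p)`, `p` odd). -/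
theorem exists_fnormal_of_not_centric (hp : p ≠ 2) (hX : ¬ AutInv p X) (R : Sylow p X)
    (Q : Subgroup X) [hQn : Q.Normal] (hQR : Q ≤ (R : Subgroup X))
    (hnc : ¬ ((R : Subgroup X) ⊓ Subgroup.centralizer (Q : Set X) ≤ Q)) :
    ∃ R₁ : Subgroup X, FNormal (R : Subgroup X) R₁ ∧ ¬ R₁ ≤ Q := by
  set K := Subgroup.centralizer (Q : Set X) with hK
  have hKn : K.Normal := inferInstance
  have hQKn : (Q ⊔ K).Normal := inferInstance
  set T : Subgroup X := (R : Subgroup X) ⊓ (Q ⊔ K) with hT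
  set π := QuotientGroup.mk' Q with hπ
  have hsurj := QuotientGroup.mk'_surjective Q
  set V := W ((commSys.{u} p).Good (X ⧸ Q)) (T.map π) with hV
  have hQT : Q ≤ T := le_inf hQR le_sup_left
  have hTp : IsPGroup p T := R.isPGroup'.to_le inf_le_left
  have hR₁T : V.comap π ≤ T := by
    intro t ht
    have h1 : π t ∈ T.map π := W_le ((commSys.{u} p).ax _) _ ht
    obtain ⟨t', ht', he⟩ := h1
    have h2 : t'⁻¹ * t ∈ Q := by
      rw [← QuotientGroup.eq_one_iff, ← QuotientGroup.mk'_apply, ← hπ, map_mul, map_inv, he,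
        inv_mul_cancel]
    have e : t = t' * (t'⁻¹ * t) := by group
    rw [e]
    exact T.mul_mem ht' (hQT h2)
  have hNT : Subgroup.normalizer (T : Set X) ≤ Subgroup.normalizer ((V.comap π : Subgroup X) : Set X) := by
    intro n hn
    rw [mem_normalizer_comap_mk]
    apply normalizer_le_normalizer_W ((commSys.{u} p).ax _) (T.map π)
    exact Subgroup.le_normalizer_map π ⟨n, hn, rfl⟩
  have hRN : (R : Subgroup X) ≤ Subgroup.normalizer (T : Set X) := by
    intro r hr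
    apply Subgroup.mem_normalizer_fintype
    rintro x ⟨hx1, hx2⟩
    exact ⟨Subgroup.mul_mem _ (Subgroup.mul_mem _ hr hx1) (Subgroup.inv_mem _ hr),
      hQKn.conj_mem x hx2 r⟩
  refine ⟨V.comap π, ⟨hR₁T.trans inf_le_left, hRN.trans hNT, ?_⟩, ?_⟩
  · intro A h hA hAh
    obtain ⟨m, hm, n, hn, rfl, hmA⟩ := fusion_frattini R (Q ⊔ K) A hA h hAh
    obtain ⟨x, hx, hxa⟩ := control_in_RK (commSys.{u} p) hp hX R Q hQR A m hm hA hmA
    refine ⟨n * x, Subgroup.mul_mem _ (hNT hn) hx, fun a ha => ?_⟩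
    have e : n * x * a * (n * x)⁻¹ = n * (x * a * x⁻¹) * n⁻¹ := by group
    rw [e, hxa a ha]
    group
  · intro hle
    apply hnc
    intro c hc
    have hcT : c ∈ T := ⟨hc.1, Subgroup.mem_sup_right hc.2⟩
    by_contra hcQ
    have hne : T.map π ≠ ⊥ := by
      intro h0
      have : π c ∈ T.map π := Subgroup.mem_map_of_mem _ hcT
      rw [h0, Subgroup.mem_bot, hπ, QuotientGroup.mk'_apply, QuotientGroup.eq_one_iff] at this
      exact hcQ this
    have hVne : V ≠ ⊥ := (commSys.{u} p).ne_bot _ _ (hTp.map π) hne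
    apply hVne
    rw [eq_bot_iff]
    intro v hv
    obtain ⟨t, rfl⟩ := hsurj v
    have htQ : t ∈ Q := hle hv
    rw [Subgroup.mem_bot, QuotientGroup.mk'_apply, QuotientGroup.eq_one_iff]
    exact htQ

end Cfsg.Agent.Helper11.CR
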