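import Mathlib
import Cfsg.Prelude.Def_LocalEven
import Cfsg.Agent.Lib.Helper11.CR4

/-!
# The largest normal subgroup of the fusion system is centric
-/

set_option autoImplicit false
set_option linter.unusedSectionVars false

namespace Cfsg.Agent.Helper11.CR

open Cfsg Cfsg.Agent.Helper11.ZJ Cfsg.Agent.Helper33 Cfsg.Agent.Helper46
open scoped Pointwise

universe u

section general

variable {G : Type*} [Group G]

theorem fnormal_bot (P : Subgroup G) : FNormal P ⊥ := by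
  have h : Subgroup.normalizer (((⊥ : Subgroup G) : Subgroup G) : Set G) = ⊤ :=
    Subgroup.normalizer_eq_top_iff.mpr inferInstance
  refine ⟨bot_le, ?_, ?_⟩
  · rw [h]; exact le_top
  · intro A g _ _
    exact ⟨g, by rw [h]; trivial, fun _ _ => rfl⟩

theorem FNormal.sup [Finite G] {P R₁ R₂ : Subgroup G} (h₁ : FNormal P R₁) (h₂ : FNormal P R₂) :
    FNormal P (R₁ ⊔ R₂) := by
  have hN : Subgroup.normalizer (R₁ : Set G) ⊓ Subgroup.normalizer (R₂ : Set G) ≤
      Subgroup.normalizer ((R₁ ⊔ R₂ : Subgroup G) : Set G) := by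
    intro x hx
    rw [mem_normalizer_iff_smul_eq, Subgroup.smul_sup, smul_eq_of_mem_normalizer hx.1,
      smul_eq_of_mem_normalizer hx.2]
  refine ⟨sup_le h₁.1 h₂.1, fun x hx => hN ⟨h₁.2.1 hx, h₂.2.1 hx⟩, ?_⟩
  intro A g hA hAg
  obtain ⟨x₁, hx₁, hx₁a⟩ := h₁.2.2 A g hA hAg
  have hA₂ : A ∪ (R₁ : Set G) ⊆ P := Set.union_subset hA h₁.1
  have hA₂g : ∀ a ∈ A ∪ (R₁ : Set G), x₁ * a * x₁⁻¹ ∈ P := by
    rintro a (ha | ha)
    · rw [hx₁a a ha]; exact hAg a ha
    · exact h₁.1 ((Subgroup.mem_normalizer_iff.mp hx₁ a).mp ha)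
  obtain ⟨x₂, hx₂, hx₂a⟩ := h₂.2.2 _ x₁ hA₂ hA₂g
  have hx₂R₁ : x₂ ∈ Subgroup.normalizer (R₁ : Set G) := by
    apply Subgroup.mem_normalizer_fintype
    intro r hr
    rw [hx₂a r (Or.inr hr)]
    exact (Subgroup.mem_normalizer_iff.mp hx₁ r).mp hr
  exact ⟨x₂, hN ⟨hx₂R₁, hx₂⟩, fun a ha => by rw [hx₂a a (Or.inl ha), hx₁a a ha]⟩

theorem exists_largest_fnormal [Finite G] (P : Subgroup G) :
    ∃ Q, FNormal P Q ∧ ∀ R, FNormal P R → R ≤ Q :=
  ⟨sSup {N | FNormal P N},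
    sSup_mem_of_sup_closed' (FNormal P) (fnormal_bot P) (fun _ _ hA hB => hA.sup hB),
    fun _ hR => le_sSup hR⟩

/-- a normal subgroup of the fusion system of a subgroup `H` controlling fusion is normal in the fusion
system of `G` -/
theorem fnormal_of_subgroup {P : Subgroup G} (H : Subgroup G) (hPH : P ≤ H) (hctl : Controls H P)
    (R' : Subgroup ↥H) (hR' : FNormal (P.subgroupOf H) R') : FNormal P (R'.map H.subtype) := by
  refine ⟨?_, ?_, ?_⟩
  · rintro _ ⟨r, hr, rfl⟩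
    exact hR'.1 hr
  · intro x hx
    have h1 : (⟨x, hPH hx⟩ : ↥H) ∈ Subgroup.normalizer (R' : Set ↥H) :=
      hR'.2.1 (show (⟨x, hPH hx⟩ : ↥H) ∈ P.subgroupOf H from hx)
    exact Subgroup.le_normalizer_map H.subtype ⟨_, h1, rfl⟩
  · intro A g hA hAg
    obtain ⟨x, hxH, hxa⟩ := hctl A g hA hAg
    obtain ⟨y, hy, hya⟩ := hR'.2.2 {a : ↥H | (a : G) ∈ A} ⟨x, hxH⟩ (fun a ha => hA ha) (by
      intro a ha
      show (((⟨x, hxH⟩ : ↥H) * a * (⟨x, hxH⟩ : ↥H)⁻¹ : ↥H) : G) ∈ P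
      have e : (((⟨x, hxH⟩ : ↥H) * a * (⟨x, hxH⟩ : ↥H)⁻¹ : ↥H) : G) = x * (a : G) * x⁻¹ := by simp
      rw [e, hxa _ ha]
      exact hAg _ ha)
    refine ⟨(y : G), Subgroup.le_normalizer_map H.subtype ⟨y, hy, rfl⟩, fun a ha => ?_⟩
    have haH : a ∈ H := hPH (hA ha)
    have h1 := hya ⟨a, haH⟩ ha
    have h2 := congrArg (fun z : ↥H => (z : G)) h1
    have h3 : (y : G) * a * (y : G)⁻¹ = x * a * x⁻¹ := by simpa using h2
    rw [h3, hxa a ha]

end general

section centric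

variable {p : ℕ} [Fact p.Prime] {G : Type u} [Group G] [Finite G]

/-- The largest normal subgroup of the fusion system is centric, if no automizer involves `SL₂(p)` (`p` odd). -/
theorem centric_of_largest (hp : p ≠ 2) (hG : ¬ AutInv p G) (P : Sylow p G) (Q : Subgroup G)
    (hQ : FNormal (P : Subgroup G) Q) (hmax : ∀ R, FNormal (P : Subgroup G) R → R ≤ Q) :
    (P : Subgroup G) ⊓ Subgroup.centralizer (Q : Set G) ≤ Q := by
  by_contra hnc
  set H := Subgroup.normalizer (Q : Set G) with hH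
  have hPH : (P : Subgroup G) ≤ H := hQ.2.1
  set PH : Sylow p ↥H := P.subtype hPH with hPHdef
  have hPHcoe : (PH : Subgroup ↥H) = (P : Subgroup G).subgroupOf H := Sylow.coe_subtype _ _
  have hQHn : (Q.subgroupOf H).Normal := Subgroup.normal_in_normalizer
  have hHfree : ¬ AutInv p ↥H := fun h => hG (autInv_of_subgroup H h)
  have hQPH : Q.subgroupOf H ≤ (PH : Subgroup ↥H) := by
    rw [hPHcoe]
    intro y hy
    exact hQ.1 hy
  have hncH : ¬ ((PH : Subgroup ↥H) ⊓ Subgroup.centralizer ((Q.subgroupOf H : Subgroup ↥H) : Set ↥H) ≤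
      Q.subgroupOf H) := by
    intro hle
    apply hnc
    intro c hc
    have hcH : c ∈ H := hPH hc.1
    have h1 : (⟨c, hcH⟩ : ↥H) ∈ (PH : Subgroup ↥H) ⊓
        Subgroup.centralizer ((Q.subgroupOf H : Subgroup ↥H) : Set ↥H) := by
      refine Subgroup.mem_inf.mpr ⟨?_, ?_⟩
      · rw [hPHcoe]; exact hc.1
      · rw [Subgroup.mem_centralizer_iff]
        intro q hq
        apply Subtype.ext
        have := Subgroup.mem_centralizer_iff.mp hc.2 (q : G) hq
        simpa using this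
    exact hle h1
  obtain ⟨R₁, hR₁, hR₁Q⟩ := exists_fnormal_of_not_centric hp hHfree PH (Q.subgroupOf H) hQPH hncH
  rw [hPHcoe] at hR₁
  have h2 := fnormal_of_subgroup H hPH hQ.2.2 R₁ hR₁
  have h3 := hmax _ h2
  apply hR₁Q
  intro r hr
  exact h3 ⟨r, hr, rfl⟩

end centric

end Cfsg.Agent.Helper11.CR
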