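import Mathlib
import Cfsg.Prelude.Def_LocalEven
import Cfsg.Agent.Lib.Helper11.CR5

/-!
# A normal subgroup of the fusion system lies in every centric radical subgroup
-/

set_option autoImplicit false
set_option linter.unusedSectionVars false

namespace Cfsg.Agent.Helper11.CR

open Cfsg Cfsg.Agent.Helper11.ZJ Cfsg.Agent.Helper33 Cfsg.Agent.Helper46
open scoped Pointwise

variable {p : ℕ} [Fact p.Prime] {G : Type*} [Group G] [Finite G]

/-- the normalizer of `R` normalizes the centralizer of `R` -/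
theorem conj_mem_centralizer_of_mem_normalizer {R : Subgroup G} {n c : G}
    (hn : n ∈ Subgroup.normalizer (R : Set G)) (hc : c ∈ Subgroup.centralizer (R : Set G)) :
    n * c * n⁻¹ ∈ Subgroup.centralizer (R : Set G) := by
  rw [Subgroup.mem_centralizer_iff] at hc ⊢
  intro r hr
  have hr' : n⁻¹ * r * n ∈ R := by
    have := (Subgroup.mem_normalizer_iff.mp (Subgroup.inv_mem _ hn) r).mp hr
    simpa using this
  have h := hc _ hr'
  calc r * (n * c * n⁻¹) = n * ((n⁻¹ * r * n) * c) * n⁻¹ := by group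
    _ = n * (c * (n⁻¹ * r * n)) * n⁻¹ := by rw [h]
    _ = n * c * n⁻¹ * r := by group

/-- A normal subgroup of the fusion system lies in every centric radical subgroup. -/
theorem fnormal_le_of_centric_radical (P : Subgroup G) (hP : IsPGroup p P) (Q : Subgroup G)
    (hQ : FNormal P Q) (R : Subgroup G) (hRP : R ≤ P)
    (hcen : P ⊓ Subgroup.centralizer (R : Set G) ≤ R)
    (hrad : ∀ X : Subgroup G, X ≤ Subgroup.normalizer (R : Set G) →
        (∀ n ∈ Subgroup.normalizer (R : Set G), X.map (MulAut.conj n).toMonoidHom = X) →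
        R ⊔ Subgroup.centralizer (R : Set G) ≤ X →
        (∃ k : ℕ, (R ⊔ Subgroup.centralizer (R : Set G)).relIndex X = p ^ k) →
        X = R ⊔ Subgroup.centralizer (R : Set G)) : Q ≤ R := by
  set N := Subgroup.normalizer (R : Set G) with hN
  set C := Subgroup.centralizer (R : Set G) with hC
  have hCN : C ≤ N := Subgroup.centralizer_le_normalizer _
  have hRN : R ≤ N := Subgroup.le_normalizer
  have hconjC : ∀ n ∈ N, ∀ c ∈ C, n * c * n⁻¹ ∈ C := fun n hn c hc =>
    conj_mem_centralizer_of_mem_normalizer hn hc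
  -- Step 1
  have hdecomp : ∀ n ∈ N, ∃ x ∈ N ⊓ Subgroup.normalizer (Q : Set G), ∃ c ∈ C, n = x * c := by
    intro n hn
    obtain ⟨x, hx, hxa⟩ := hQ.2.2 (R : Set G) n hRP
      (fun a ha => hRP ((Subgroup.mem_normalizer_iff.mp hn a).mp ha))
    have hxN : x ∈ N := by
      apply Subgroup.mem_normalizer_fintype
      intro r hr
      rw [hxa r hr]
      exact (Subgroup.mem_normalizer_iff.mp hn r).mp hr
    refine ⟨x, ⟨hxN, hx⟩, x⁻¹ * n, ?_, by group⟩
    rw [Subgroup.mem_centralizer_iff]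
    intro r hr
    have h := hxa r hr
    calc r * (x⁻¹ * n) = x⁻¹ * (x * r * x⁻¹) * n := by group
      _ = x⁻¹ * (n * r * n⁻¹) * n := by rw [h]
      _ = x⁻¹ * n * r := by group
  -- Step 2
  set NQ := Q ⊓ N with hNQ
  set RC := R ⊔ C with hRC
  set X := RC ⊔ NQ with hX
  have hRCN : RC ≤ N := sup_le hRN hCN
  have hXN : X ≤ N := sup_le hRCN inf_le_right
  have hRCinv_le : ∀ n ∈ N, RC.map (MulAut.conj n).toMonoidHom ≤ RC := by
    intro n hn
    rw [hRC, Subgroup.map_sup]
    refine sup_le ?_ ?_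
    · rintro _ ⟨r, hr, rfl⟩
      apply Subgroup.mem_sup_left
      exact (Subgroup.mem_normalizer_iff.mp hn r).mp hr
    · rintro _ ⟨c, hc, rfl⟩
      apply Subgroup.mem_sup_right
      exact hconjC n hn c hc
  have hXinv_le : ∀ n ∈ N, X.map (MulAut.conj n).toMonoidHom ≤ X := by
    intro n hn
    rw [hX, Subgroup.map_sup]
    refine sup_le ((hRCinv_le n hn).trans le_sup_left) ?_
    rintro _ ⟨q, hq, rfl⟩
    obtain ⟨x, hx, c, hc, rfl⟩ := hdecomp n hn
    have h1 : q⁻¹ * c * q ∈ C := by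
      have := hconjC q⁻¹ (N.inv_mem hq.2) c hc
      simpa using this
    have h2 : q⁻¹ * c * q * c⁻¹ ∈ C := C.mul_mem h1 (C.inv_mem hc)
    have h3 : x * (q⁻¹ * c * q * c⁻¹) * x⁻¹ ∈ C := hconjC x hx.1 _ h2
    have h4 : x * q * x⁻¹ ∈ NQ :=
      ⟨(Subgroup.mem_normalizer_iff.mp hx.2 q).mp hq.1,
        N.mul_mem (N.mul_mem hx.1 hq.2) (N.inv_mem hx.1)⟩
    have e : (MulAut.conj (x * c)).toMonoidHom q =
        (x * q * x⁻¹) * (x * (q⁻¹ * c * q * c⁻¹) * x⁻¹) := by
      show x * c * q * (x * c)⁻¹ = _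
      group
    rw [e]
    exact Subgroup.mul_mem _ (Subgroup.mem_sup_right h4)
      (Subgroup.mem_sup_left (Subgroup.mem_sup_right h3))
  have hXinv : ∀ n ∈ N, X.map (MulAut.conj n).toMonoidHom = X := by
    intro n hn
    apply le_antisymm (hXinv_le n hn)
    intro y hy
    refine ⟨n⁻¹ * y * n, ?_, ?_⟩
    · have := hXinv_le n⁻¹ (N.inv_mem hn) ⟨y, hy, rfl⟩
      simpa [MulAut.conj_apply] using this
    · show n * (n⁻¹ * y * n) * n⁻¹ = y
      group
  -- Step 3
  have hidx : ∃ k : ℕ, RC.relIndex X = p ^ k := by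
    have hRCn : (RC.subgroupOf N).Normal := by
      rw [Subgroup.normal_subgroupOf_iff_le_normalizer hRCN]
      intro n hn
      apply Subgroup.mem_normalizer_fintype
      intro y hy
      exact hRCinv_le n hn ⟨y, hy, rfl⟩
    have h1 : RC.relIndex X = (RC.subgroupOf N).relIndex (X.subgroupOf N) :=
      (Subgroup.relIndex_subgroupOf hXN).symm
    have h2 : X.subgroupOf N = NQ.subgroupOf N ⊔ RC.subgroupOf N := by
      rw [← Subgroup.subgroupOf_sup inf_le_right hRCN, sup_comm]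
    rw [h1, h2, Subgroup.relIndex_sup_right, Subgroup.relIndex_subgroupOf inf_le_right]
    have hNQp : IsPGroup p NQ := hP.to_le (inf_le_left.trans hQ.1)
    obtain ⟨n, hn⟩ := IsPGroup.iff_card.mp hNQp
    have h3 := Subgroup.relIndex_dvd_card RC NQ
    rw [hn] at h3
    obtain ⟨k, _, hk⟩ := (Nat.dvd_prime_pow Fact.out).mp h3
    exact ⟨k, hk⟩
  -- Step 4
  have hXeq : X = RC := hrad X hXN hXinv le_sup_left hidx
  have hNQRC : NQ ≤ RC := by rw [← hXeq]; exact le_sup_right
  -- Step 5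
  by_contra hQR
  have hQRP : Q ⊔ R ≤ P := sup_le hQ.1 hRP
  have hlt : R < Q ⊔ R :=
    lt_of_le_of_ne le_sup_right (fun h => hQR (by rw [h]; exact le_sup_left))
  have h5 := lt_inf_normalizer (hP.to_le hQRP) hlt
  obtain ⟨y, hy, hyR⟩ := SetLike.exists_of_lt h5
  have hy1 : y ∈ ((Q ⊔ R : Subgroup G) : Set G) := hy.1
  rw [Subgroup.coe_mul_of_right_le_normalizer_left Q R (hRP.trans hQ.2.1)] at hy1
  obtain ⟨q, hq, r, hr, rfl⟩ := hy1
  have hqN : q ∈ N := by
    have : q = q * r * r⁻¹ := by group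
    rw [this]
    exact N.mul_mem hy.2 (N.inv_mem (hRN hr))
  have hqRC : q ∈ ((R ⊔ C : Subgroup G) : Set G) := hNQRC ⟨hq, hqN⟩
  have hRnC : R ≤ Subgroup.normalizer (C : Set G) := by
    intro r' hr'
    apply Subgroup.mem_normalizer_fintype
    intro c hc
    exact hconjC r' (hRN hr') c hc
  rw [Subgroup.coe_mul_of_left_le_normalizer_right R C hRnC] at hqRC
  obtain ⟨r', hr', c, hc, rfl⟩ := hqRC
  have hcP : c ∈ P := by
    have : c = r'⁻¹ * (r' * c) := by group
    rw [this]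
    exact P.mul_mem (P.inv_mem (hRP hr')) (hQ.1 hq)
  have hcR : c ∈ R := hcen ⟨hcP, hc⟩
  exact hyR (R.mul_mem (R.mul_mem hr' hcR) hr)

end Cfsg.Agent.Helper11.CR
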