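import Mathlib
import Cfsg.Prelude.Def_LocalEven
import Cfsg.Agent.Lib.Helper11.CR6
import Cfsg.Agent.Lib.Helper33.PComp

/-!
# The largest normal subgroup of the fusion system is radical
-/

set_option autoImplicit false
set_option linter.unusedSectionVars false

namespace Cfsg.Agent.Helper11.CR

open Cfsg Cfsg.Agent.Helper11.ZJ Cfsg.Agent.Helper33 Cfsg.Agent.Helper46
open scoped Pointwise

variable {p : ℕ} [Fact p.Prime] {G : Type*} [Group G] [Finite G]

/-- If `Z(Q)` is a Sylow `p`-subgroup of `C(Q)`, then `C(Q) = Z(Q) × D` with a `p'`-group `D` normalized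
by `N(Q)`. -/
theorem exists_pprime_complement_centralizer (Q : Subgroup G)
    (hsyl : IsSylIn p (Q ⊓ Subgroup.centralizer (Q : Set G)) (Subgroup.centralizer (Q : Set G))) :
    ∃ D : Subgroup G, D ≤ Subgroup.centralizer (Q : Set G) ∧ (Nat.card D).Coprime p ∧
      Subgroup.normalizer (Q : Set G) ≤ Subgroup.normalizer (D : Set G) ∧
      Subgroup.centralizer (Q : Set G) ≤ (Q ⊓ Subgroup.centralizer (Q : Set G)) ⊔ D := by
  set C := Subgroup.centralizer (Q : Set G) with hC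
  set PC : Sylow p ↥C := hsyl.toSylow with hPC
  have hPCcoe : (PC : Subgroup ↥C) = (Q ⊓ C).subgroupOf C := hsyl.coe_toSylow
  have hcentral : (PC : Subgroup ↥C) ≤ Subgroup.center ↥C := by
    intro y hy
    rw [hPCcoe, Subgroup.mem_subgroupOf] at hy
    rw [Subgroup.mem_center_iff]
    intro c
    apply Subtype.ext
    have := Subgroup.mem_centralizer_iff.mp c.2 (y : G) hy.1
    simpa using this.symm
  obtain ⟨H, hHn, hHc, hHcop, hHall⟩ := exists_normal_pcomplement_of_central_sylow PC hcentral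
  refine ⟨H.map C.subtype, Subgroup.map_subtype_le _, ?_, ?_, ?_⟩
  · rw [Subgroup.card_map_of_injective (Subgroup.subtype_injective _)]
    exact hHcop
  · intro n hn
    apply Subgroup.mem_normalizer_fintype
    rintro _ ⟨k', hk', rfl⟩
    have hmem : n * (C.subtype k') * n⁻¹ ∈ C := conj_mem_centralizer_of_mem_normalizer hn k'.2
    refine ⟨⟨_, hmem⟩, hHall _ ?_, rfl⟩
    rw [Subgroup.orderOf_mk, orderOf_conj_eq]
    have h1 : orderOf (C.subtype k') = orderOf (⟨k', hk'⟩ : H) := by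
      rw [Subgroup.coe_subtype, Subgroup.orderOf_coe]
      exact (Subgroup.orderOf_mk k' hk').symm
    rw [h1]
    exact Nat.Coprime.coprime_dvd_left (orderOf_dvd_natCard _) hHcop
  · intro c hc
    have h1 : (⟨c, hc⟩ : ↥C) ∈ H ⊔ (PC : Subgroup ↥C) := by
      rw [hHc.sup_eq_top]; trivial
    have h2 : c ∈ (H ⊔ (PC : Subgroup ↥C)).map C.subtype := ⟨⟨c, hc⟩, h1, rfl⟩
    rw [Subgroup.map_sup, hPCcoe, Subgroup.subgroupOf_map_subtype, sup_comm] at h2
    have h3 : (Q ⊓ C) ⊓ C = Q ⊓ C := inf_eq_left.mpr inf_le_right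
    rw [h3] at h2
    exact h2

/-- The largest normal subgroup of the fusion system is radical. -/
theorem radical_of_largest (P : Sylow p G) (Q : Subgroup G)
    (hQ : FNormal (P : Subgroup G) Q) (hmax : ∀ R, FNormal (P : Subgroup G) R → R ≤ Q)
    (hcen : (P : Subgroup G) ⊓ Subgroup.centralizer (Q : Set G) ≤ Q)
    (X : Subgroup G) (hXN : X ≤ Subgroup.normalizer (Q : Set G))
    (hXinv : ∀ n ∈ Subgroup.normalizer (Q : Set G), X.map (MulAut.conj n).toMonoidHom = X)
    (hQCX : Q ⊔ Subgroup.centralizer (Q : Set G) ≤ X)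
    (hidx : ∃ k : ℕ, (Q ⊔ Subgroup.centralizer (Q : Set G)).relIndex X = p ^ k) :
    X = Q ⊔ Subgroup.centralizer (Q : Set G) := by
  have hpp : p.Prime := Fact.out
  set H := Subgroup.normalizer (Q : Set G) with hH
  set C := Subgroup.centralizer (Q : Set G) with hC
  have hCH : C ≤ H := Subgroup.centralizer_le_normalizer _
  have hPH : (P : Subgroup G) ≤ H := hQ.2.1
  have hQP : Q ≤ (P : Subgroup G) := hQ.1
  have hPp : IsPGroup p (P : Subgroup G) := P.isPGroup'
  have hsylPH : IsSylIn p (P : Subgroup G) H := (isSylIn_top P).of_le hPH le_top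
  have hHnC : H ≤ Subgroup.normalizer (C : Set G) := by
    intro n hn
    apply Subgroup.mem_normalizer_fintype
    intro c hc
    exact conj_mem_centralizer_of_mem_normalizer hn hc
  have hPCeq : (P : Subgroup G) ⊓ C = Q ⊓ C :=
    le_antisymm (le_inf hcen inf_le_right) (inf_le_inf_right _ hQP)
  have hsylC : IsSylIn p (Q ⊓ C) C := by
    rw [← hPCeq]
    exact hsylPH.inf_normal hCH hHnC
  obtain ⟨D, hDC, hDcop, hHnD, hCD⟩ := exists_pprime_complement_centralizer Q hsylC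
  have hDH : D ≤ H := hDC.trans hCH
  have hHnX : H ≤ Subgroup.normalizer (X : Set G) := by
    intro n hn
    rw [Subgroup.mem_normalizer_iff_map_conj_eq]
    exact hXinv n hn
  set Q₁ : Subgroup G := (P : Subgroup G) ⊓ X with hQ₁
  have hsylX : IsSylIn p Q₁ X := hsylPH.inf_normal hXN hHnX
  have hQQ₁ : Q ≤ Q₁ := le_inf hQP (le_sup_left.trans hQCX)
  have hQ₁P : Q₁ ≤ (P : Subgroup G) := inf_le_left
  have hQ₁H : Q₁ ≤ H := hQ₁P.trans hPH
  have hDX : D ≤ X := hDC.trans (le_sup_right.trans hQCX)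
  have hDP : D ⊓ (P : Subgroup G) = ⊥ := by
    apply (Subgroup.disjoint_of_coprime_natCard ?_).eq_bot
    obtain ⟨n, hn⟩ := IsPGroup.iff_card.mp hPp
    rw [hn]
    exact Nat.Coprime.pow_right n hDcop
  -- Claim 1: `X = D Q₁`
  have hXle : X ≤ Q₁ ⊔ D := by
    set Y := Q₁ ⊔ D with hY
    have hYX : Y ≤ X := sup_le inf_le_right hDX
    have hQCY : Q ⊔ C ≤ Y := by
      refine sup_le (hQQ₁.trans le_sup_left) (hCD.trans (sup_le ?_ le_sup_right))
      exact (inf_le_left.trans hQQ₁).trans le_sup_left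
    obtain ⟨k, hk⟩ := hidx
    have h1 : Y.relIndex X ∣ p ^ k := by
      rw [← hk, ← Subgroup.relIndex_mul_relIndex (Q ⊔ C) Y X hQCY hYX]
      exact dvd_mul_left _ _
    have h2 : Y.relIndex X ∣ Q₁.relIndex X := by
      rw [← Subgroup.relIndex_mul_relIndex Q₁ Y X le_sup_left hYX]
      exact dvd_mul_left _ _
    obtain ⟨j, _, hj⟩ := (Nat.dvd_prime_pow hpp).mp h1
    have hj0 : j = 0 := by
      by_contra hne
      apply hsylX.2.2
      refine dvd_trans ?_ h2
      rw [hj]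
      exact dvd_pow_self p hne
    rw [hj0, pow_zero] at hj
    exact Subgroup.relIndex_eq_one.mp hj
  -- Claim 3: `Q₁` is normal in the fusion system
  have hPnQ₁ : (P : Subgroup G) ≤ Subgroup.normalizer (Q₁ : Set G) := by
    intro x hx
    apply Subgroup.mem_normalizer_fintype
    intro y hy
    refine ⟨Subgroup.mul_mem _ (Subgroup.mul_mem _ hx hy.1) (Subgroup.inv_mem _ hx), ?_⟩
    exact (Subgroup.mem_normalizer_iff.mp (hHnX (hPH hx)) y).mp hy.2
  have hfn : FNormal (P : Subgroup G) Q₁ := by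
    refine ⟨hQ₁P, hPnQ₁, ?_⟩
    intro A g hA hAg
    obtain ⟨h, hhH, hha⟩ := hQ.2.2 A g hA hAg
    -- Frattini
    have hs1 : IsSylIn p (MulAut.conj h • Q₁) X := by
      have := hsylX.conj h
      rwa [smul_eq_of_mem_normalizer (hHnX hhH)] at this
    obtain ⟨x, hxX, hxe⟩ := hsylX.exists_conj_eq hs1
    have hxh : x * h ∈ Subgroup.normalizer (Q₁ : Set G) := by
      rw [mem_normalizer_iff_smul_eq, conj_mul_smul]
      exact hxe
    have hx' : x ∈ ((Q₁ ⊔ D : Subgroup G) : Set G) := hXle hxX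
    rw [Subgroup.coe_mul_of_left_le_normalizer_right Q₁ D (hQ₁H.trans hHnD)] at hx'
    obtain ⟨y, hy, d, hd, rfl⟩ := hx'
    set n := d * h with hn
    have hnN : n ∈ Subgroup.normalizer (Q₁ : Set G) := by
      have e : n = y⁻¹ * (y * d * h) := by rw [hn]; group
      rw [e]
      exact Subgroup.mul_mem _ (Subgroup.inv_mem _ (Subgroup.le_normalizer hy)) hxh
    have hnH : n ∈ H := H.mul_mem (hDH hd) hhH
    -- the closure of `A`
    set A' := Subgroup.closure A with hA'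
    have hA'P : A' ≤ (P : Subgroup G) := (Subgroup.closure_le _).mpr hA
    have hA'h : ∀ a ∈ A', h * a * h⁻¹ ∈ (P : Subgroup G) := by
      have : A' ≤ (P : Subgroup G).comap (MulAut.conj h).toMonoidHom := by
        rw [hA', Subgroup.closure_le]
        intro a ha
        show h * a * h⁻¹ ∈ (P : Subgroup G)
        rw [hha a ha]
        exact hAg a ha
      intro a ha
      exact this ha
    set M : Subgroup G := ((P : Subgroup G) ⊔ D) ⊓ Subgroup.normalizer (Q₁ : Set G) with hM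
    have hPM : (P : Subgroup G) ≤ M := le_inf le_sup_left hPnQ₁
    have hsylM : IsSylIn p (P : Subgroup G) M := (isSylIn_top P).of_le hPM le_top
    have hBM : MulAut.conj n • A' ≤ M := by
      rw [conj_smul_le_iff]
      intro a ha
      refine ⟨?_, ?_⟩
      · have e : n * a * n⁻¹ = d * (h * a * h⁻¹) * d⁻¹ := by rw [hn]; group
        rw [e]
        exact Subgroup.mul_mem _ (Subgroup.mul_mem _ (Subgroup.mem_sup_right hd)
          (Subgroup.mem_sup_left (hA'h a ha))) (Subgroup.inv_mem _ (Subgroup.mem_sup_right hd))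
      · exact Subgroup.mul_mem _ (Subgroup.mul_mem _ hnN (hPnQ₁ (hA'P ha))) (Subgroup.inv_mem _ hnN)
    have hBp : IsPGroup p (MulAut.conj n • A' : Subgroup G) := isPGroup_conj_smul (hPp.to_le hA'P)
    obtain ⟨m, hmM, hmle⟩ := hsylM.exists_conj_le hBp hBM
    have hm' : m ∈ (((P : Subgroup G) ⊔ D : Subgroup G) : Set G) := hmM.1
    rw [Subgroup.coe_mul_of_left_le_normalizer_right (P : Subgroup G) D (hPH.trans hHnD)] at hm'
    obtain ⟨y₁, hy₁, d₁, hd₁, rfl⟩ := hm'
    have hd₁N : d₁ ∈ Subgroup.normalizer (Q₁ : Set G) := by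
      have e : d₁ = y₁⁻¹ * (y₁ * d₁) := by group
      rw [e]
      exact Subgroup.mul_mem _ (Subgroup.inv_mem _ (hPnQ₁ hy₁)) hmM.2
    have hd₁le : ∀ a ∈ A', d₁ * (n * a * n⁻¹) * d₁⁻¹ ∈ (P : Subgroup G) := by
      intro a ha
      have h1 : (y₁ * d₁) * (n * a * n⁻¹) * (y₁ * d₁)⁻¹ ∈ (P : Subgroup G) :=
        (conj_smul_le_iff.mp hmle) _ (conj_mem_conj_smul ha)
      have e : d₁ * (n * a * n⁻¹) * d₁⁻¹ =
          y₁⁻¹ * ((y₁ * d₁) * (n * a * n⁻¹) * (y₁ * d₁)⁻¹) * y₁ := by group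
      rw [e]
      exact Subgroup.mul_mem _ (Subgroup.mul_mem _ (Subgroup.inv_mem _ hy₁) h1) hy₁
    refine ⟨d₁ * n, Subgroup.mul_mem _ hd₁N hnN, fun a ha => ?_⟩
    have haA' : a ∈ A' := Subgroup.subset_closure ha
    set b := d₁ * n * a * (d₁ * n)⁻¹ with hb
    have hbP : b ∈ (P : Subgroup G) := by
      have e : b = d₁ * (n * a * n⁻¹) * d₁⁻¹ := by rw [hb]; group
      rw [e]
      exact hd₁le a haA'
    set d₂ := d⁻¹ * d₁⁻¹ with hd₂
    have hd₂D : d₂ ∈ D := D.mul_mem (D.inv_mem hd) (D.inv_mem hd₁)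
    have hconj : h * a * h⁻¹ = d₂ * b * d₂⁻¹ := by rw [hd₂, hb, hn]; group
    have hcP : d₂ * b * d₂⁻¹ * b⁻¹ ∈ (P : Subgroup G) := by
      rw [← hconj]
      exact Subgroup.mul_mem _ (hA'h a haA') (Subgroup.inv_mem _ hbP)
    have hcD : d₂ * b * d₂⁻¹ * b⁻¹ ∈ D := by
      have e : d₂ * b * d₂⁻¹ * b⁻¹ = d₂ * (b * d₂⁻¹ * b⁻¹) := by group
      rw [e]
      apply D.mul_mem hd₂D
      exact (Subgroup.mem_normalizer_iff.mp (hHnD (hPH hbP)) _).mp (D.inv_mem hd₂D)
    have hc1 : d₂ * b * d₂⁻¹ * b⁻¹ = 1 := by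
      have : d₂ * b * d₂⁻¹ * b⁻¹ ∈ D ⊓ (P : Subgroup G) := ⟨hcD, hcP⟩
      rw [hDP, Subgroup.mem_bot] at this
      exact this
    have hbe : d₂ * b * d₂⁻¹ = b := by
      have := mul_inv_eq_one.mp hc1
      exact this
    rw [← hha a ha, hconj, hbe]
  have hQ₁Q : Q₁ ≤ Q := hmax _ hfn
  apply le_antisymm _ hQCX
  exact hXle.trans (sup_le (hQ₁Q.trans le_sup_left) (hDC.trans le_sup_right))

end Cfsg.Agent.Helper11.CR
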