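import Mathlib
import Cfsg.Prelude.Def_LocalEven
import Cfsg.Agent.Lib.Helper11.CR7

/-!
# Conversions between the encodings of the statement and the working definitions
-/

set_option autoImplicit false
set_option linter.unusedSectionVars false

namespace Cfsg.Agent.Helper11.CR

open Cfsg Cfsg.Agent.Helper11.ZJ Cfsg.Agent.Helper33 Cfsg.Agent.Helper46
open scoped Pointwise

section ext

variable {G M : Type*} [Group G] [Group M]

/-- a homomorphism of `H` trivial on `H ∩ C`, where `H` normalizes `C`, extends to `H C`, trivially on `C` -/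
theorem exists_extension_trivial (H C : Subgroup G) (hHC : H ≤ Subgroup.normalizer (C : Set G))
    (f : ↥H →* M) (hf : ∀ h : ↥H, (h : G) ∈ C → f h = 1) :
    ∃ f' : ↥(H ⊔ C) →* M,
      (∀ (h : G) (hh : h ∈ H), f' ⟨h, Subgroup.mem_sup_left hh⟩ = f ⟨h, hh⟩) ∧
      ∀ x : ↥(H ⊔ C), (x : G) ∈ C → f' x = 1 := by
  have hdec : ∀ x : ↥(H ⊔ C), ∃ h : ↥H, (h : G)⁻¹ * (x : G) ∈ C := by
    intro x
    have hx : (x : G) ∈ ((H ⊔ C : Subgroup G) : Set G) := x.2
    rw [Subgroup.coe_mul_of_left_le_normalizer_right H C hHC] at hx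
    obtain ⟨h, hh, c, hc, e⟩ := hx
    refine ⟨⟨h, hh⟩, ?_⟩
    rw [← e]
    simpa using hc
  choose φ hφ using hdec
  have huniq : ∀ (x : ↥(H ⊔ C)) (h : ↥H), (h : G)⁻¹ * (x : G) ∈ C → f (φ x) = f h := by
    intro x h hh
    have hmem : (((φ x)⁻¹ * h : ↥H) : G) ∈ C := by
      have e : (((φ x)⁻¹ * h : ↥H) : G) = ((φ x : G)⁻¹ * x) * ((h : G)⁻¹ * x)⁻¹ := by
        simp only [Subgroup.coe_mul, Subgroup.coe_inv]
        group
      rw [e]
      exact C.mul_mem (hφ x) (C.inv_mem hh)
    have h1 := hf _ hmem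
    rw [map_mul, map_inv] at h1
    exact inv_mul_eq_one.mp h1
  refine ⟨MonoidHom.mk' (fun x => f (φ x)) ?_, ?_, ?_⟩
  · intro x y
    show f (φ (x * y)) = f (φ x) * f (φ y)
    rw [← map_mul]
    apply huniq
    have e : (((φ x * φ y : ↥H) : G))⁻¹ * ((x * y : ↥(H ⊔ C)) : G) =
        ((φ y : G)⁻¹ * ((φ x : G)⁻¹ * x) * (φ y : G)⁻¹⁻¹) * ((φ y : G)⁻¹ * y) := by
      simp only [Subgroup.coe_mul]
      group
    rw [e]
    apply C.mul_mem _ (hφ y)
    exact (Subgroup.mem_normalizer_iff.mp (hHC (H.inv_mem (φ y).2)) _).mp (hφ x)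
  · intro h hh
    show f (φ _) = _
    apply huniq
    simp
  · intro x hx
    show f (φ x) = 1
    rw [huniq x 1 (by simpa using hx), map_one]

end ext

variable {p : ℕ} [Fact p.Prime] {G : Type*} [Group G] [Finite G]

/-- the hypothesis of the statement excludes `SL₂(p)` from the automizers -/
theorem not_autInv_of_form
    (hfree : ∀ Q : Subgroup G, IsPGroup p ↥Q → ¬ ∃ (H K : Subgroup G) (_ : (K.subgroupOf H).Normal),
      Subgroup.centralizer (Q : Set G) ≤ K ∧ K ≤ H ∧ H ≤ Subgroup.normalizer (Q : Set G) ∧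
      Nonempty ((↥H ⧸ K.subgroupOf H) ≃* Matrix.SpecialLinearGroup (Fin 2) (ZMod p))) :
    ¬ AutInv p G := by
  rintro ⟨Q, H, f, hQ, hHN, hfs, hker⟩
  apply hfree Q hQ
  set C := Subgroup.centralizer (Q : Set G) with hC
  have hNC : Subgroup.normalizer (Q : Set G) ≤ Subgroup.normalizer (C : Set G) := by
    intro n hn
    apply Subgroup.mem_normalizer_fintype
    intro c hc
    exact conj_mem_centralizer_of_mem_normalizer hn hc
  set H' : Subgroup G := H ⊔ C with hH'
  obtain ⟨f', hf'ext, hf'C⟩ := exists_extension_trivial H C (hHN.trans hNC) f hker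
  have hf's : Function.Surjective f' := by
    intro y
    obtain ⟨h, rfl⟩ := hfs y
    exact ⟨⟨(h : G), Subgroup.mem_sup_left h.2⟩, hf'ext _ h.2⟩
  have hR : (f'.ker.map H'.subtype).subgroupOf H' = f'.ker :=
    Subgroup.comap_map_eq_self_of_injective H'.subtype_injective _
  have hN : ((f'.ker.map H'.subtype).subgroupOf H').Normal := by
    rw [hR]; infer_instance
  refine ⟨H', f'.ker.map H'.subtype, hN, ?_, Subgroup.map_subtype_le _, ?_, ⟨?_⟩⟩
  · intro c hc
    exact ⟨⟨c, Subgroup.mem_sup_right hc⟩, hf'C _ hc, rfl⟩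
  · exact sup_le hHN (Subgroup.centralizer_le_normalizer _)
  · exact (QuotientGroup.quotientMulEquivOfEq hR).trans
      (QuotientGroup.quotientKerEquivOfSurjective f' hf's)

/-- the Sylow condition of the statement, from the working one -/
theorem exists_sylow_of_isSylIn (Q : Subgroup G)
    (hsyl : IsSylIn p (Q ⊓ Subgroup.centralizer (Q : Set G)) (Subgroup.centralizer (Q : Set G))) :
    ∃ R : Sylow p ↥(Subgroup.centralizer (Q : Set G)),
      (R : Subgroup ↥(Subgroup.centralizer (Q : Set G))).map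
        (Subgroup.centralizer (Q : Set G)).subtype = Q ⊓ Subgroup.centralizer (Q : Set G) := by
  refine ⟨hsyl.toSylow, ?_⟩
  rw [hsyl.coe_toSylow, Subgroup.subgroupOf_map_subtype]
  exact inf_eq_left.mpr inf_le_right

/-- the Sylow condition of the statement makes every `p`-subgroup of the centralizer lie in `Q` -/
theorem centric_of_sylow (Q S : Subgroup G) (hS : IsPGroup p S)
    (h : ∃ R : Sylow p ↥(Subgroup.centralizer (Q : Set G)),
      (R : Subgroup ↥(Subgroup.centralizer (Q : Set G))).map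
        (Subgroup.centralizer (Q : Set G)).subtype = Q ⊓ Subgroup.centralizer (Q : Set G)) :
    S ⊓ Subgroup.centralizer (Q : Set G) ≤ Q := by
  set C := Subgroup.centralizer (Q : Set G) with hC
  obtain ⟨R, hR⟩ := h
  have hcentral : (R : Subgroup ↥C) ≤ Subgroup.center ↥C := by
    intro y hy
    have hy' : (y : G) ∈ Q ⊓ C := by
      rw [← hR]
      exact ⟨y, hy, rfl⟩
    rw [Subgroup.mem_center_iff]
    intro c
    apply Subtype.ext
    have := Subgroup.mem_centralizer_iff.mp c.2 (y : G) hy'.1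
    simpa using this.symm
  have hRn : (R : Subgroup ↥C).Normal := by
    refine ⟨fun y hy c => ?_⟩
    have h1 := Subgroup.mem_center_iff.mp (hcentral hy) c
    have e : c * y * c⁻¹ = y := by rw [h1]; group
    rw [e]
    exact hy
  have hSp : IsPGroup p ((S ⊓ C).subgroupOf C) := (hS.to_le inf_le_left).comap_subtype
  obtain ⟨R', hR'⟩ := hSp.exists_le_sylow
  obtain ⟨g, rfl⟩ := MulAction.exists_smul_eq ↥C R R'
  rw [Sylow.smul_eq_of_normal] at hR'
  intro x hx
  have h1 : (⟨x, hx.2⟩ : ↥C) ∈ (R : Subgroup ↥C) := hR' (Subgroup.mem_subgroupOf.mpr hx)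
  have h2 : x ∈ Q ⊓ C := by
    rw [← hR]
    exact ⟨⟨x, hx.2⟩, h1, rfl⟩
  exact h2.1

end Cfsg.Agent.Helper11.CR
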