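import Mathlib
import Cfsg.Prelude.Def_Transfer
import Cfsg.Agent.Lib.Helper24.CYCDefs

/-!
CYC server (helper24, S4016): piece (GR0) `caseII_j` (second seat).
-/

set_option autoImplicit false
set_option linter.unusedSectionVars false
set_option linter.unusedVariables false
set_option linter.style.haveILetI false

namespace Cfsg.Agent.Helper11.CYC

open Subgroup Cfsg.Agent.Helper24.CYC

universe u

variable {G : Type u} [Group G] [Finite G] {p : ℕ} [Fact p.Prime]

/-- (GR0) `j = 2`. -/
theorem caseII_j (hC : Core p G)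
    (hII1 : ∀ P : Sylow p G, Nat.card (CP P) = 2 * Nat.card P ∧ Nat.card (NP P) = 4 * Nat.card P ∧ (Ivs P).Nonempty)
    (j : ℕ) (h6 : ∀ P : Sylow p G, Nat.card (Ivs P) = Nat.card P * j ∧
      ∀ s ∈ Ivs P, Nat.card {t : G // t ∈ Ivs P ∧ s * t = t * s} = j) : j = 2 := by
  obtain ⟨P⟩ : Nonempty (Sylow p G) := inferInstance
  obtain ⟨hcC, hcN, hne⟩ := hII1 P
  obtain ⟨hI, hcomm⟩ := h6 P
  have hPpos : 0 < Nat.card P := Nat.card_pos
  have hCN : CP P ≤ NP P := Subgroup.centralizer_le_normalizer _
  -- upper bound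
  have hle : j ≤ 2 := by
    have hsub : Ivs P ⊆ ((NP P : Subgroup G) : Set G) \ ((CP P : Subgroup G) : Set G) :=
      fun s hs => ⟨hs.2.1, hs.2.2⟩
    have h1 : (Ivs P).ncard ≤ (((NP P : Subgroup G) : Set G) \ ((CP P : Subgroup G) : Set G)).ncard :=
      Set.ncard_le_ncard hsub (Set.toFinite _)
    have h2 : (((NP P : Subgroup G) : Set G) \ ((CP P : Subgroup G) : Set G)).ncard =
        ((NP P : Subgroup G) : Set G).ncard - ((CP P : Subgroup G) : Set G).ncard :=
      Set.ncard_sdiff (fun x hx => hCN hx) (Set.toFinite _)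
    have h3 : ((NP P : Subgroup G) : Set G).ncard = Nat.card (NP P) :=
      (Nat.card_coe_set_eq _).symm
    have h4 : ((CP P : Subgroup G) : Set G).ncard = Nat.card (CP P) :=
      (Nat.card_coe_set_eq _).symm
    have h5 : (Ivs P).ncard = Nat.card (Ivs P) := (Nat.card_coe_set_eq _).symm
    rw [h2, h3, h4, hcN, hcC, h5, hI] at h1
    have h7 : Nat.card P * j ≤ Nat.card P * 2 := by omega
    exact Nat.le_of_mul_le_mul_left h7 hPpos
  -- lower bound
  have hge : 2 ≤ j := by
    obtain ⟨s, hs⟩ := hne
    obtain ⟨hs2, hsN, hsC⟩ := hs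
    -- the involution of `C_G(P)`
    have h2dvd : 2 ∣ Nat.card (CP P) := ⟨Nat.card P, hcC⟩
    haveI : Fact (Nat.Prime 2) := ⟨Nat.prime_two⟩
    obtain ⟨z, hz⟩ := exists_prime_orderOf_dvd_card' 2 h2dvd
    have hz' : orderOf (z : G) = 2 := by rw [Subgroup.orderOf_coe]; exact hz
    have hz1 : (z : G) ≠ 1 := by
      intro h
      rw [h, orderOf_one] at hz'
      omega
    have hzz : (z : G) * (z : G) = 1 := by
      rw [← pow_two, ← hz', pow_orderOf_eq_one]
    -- a nontrivial element of `P`
    have hpd : p ∣ Nat.card P := by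
      have h1 := hC.c1.min.pdvd
      have h2 := P.card_eq_multiplicity
      rw [h2]
      have hfac : (Nat.card G).factorization p ≠ 0 := by
        intro h0
        rcases (Nat.factorization_eq_zero_iff _ _).mp h0 with h | h | h
        · exact h (Fact.out)
        · exact h h1
        · exact Nat.card_pos.ne' h
      exact dvd_pow_self p hfac
    obtain ⟨a, ha⟩ := exists_prime_orderOf_dvd_card' p hpd
    have ha1 : (a : G) ≠ 1 := by
      intro h
      have h2 : orderOf (a : G) = p := by rw [Subgroup.orderOf_coe]; exact ha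
      rw [h, orderOf_one] at h2
      exact (Fact.out : p.Prime).one_lt.ne h2
    have haz : (a : G) * (z : G) = (z : G) * (a : G) :=
      (Subgroup.mem_centralizer_iff.mp z.2) (a : G) a.2
    have hcop : (orderOf (z : G)).Coprime p := by
      rw [hz']
      exact (Nat.coprime_primes Nat.prime_two Fact.out).mpr (Ne.symm hC.c1.podd)
    have hkey := hC.key P (a : G) (z : G) a.2 ha1 hz1 hcop haz
    have hsz : s * (z : G) = (z : G) * s := by
      have : s ∈ Subgroup.centralizer {(z : G)} := hkey ▸ hsN
      rw [Subgroup.mem_centralizer_iff] at this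
      exact (this (z : G) rfl).symm
    -- `s * z ∈ Ivs P`
    have hszI : s * (z : G) ∈ Ivs P := by
      refine ⟨?_, (NP P).mul_mem hsN (hCN z.2), ?_⟩
      · calc s * (z : G) * (s * (z : G)) = s * ((z : G) * s) * (z : G) := by group
          _ = s * (s * (z : G)) * (z : G) := by rw [hsz]
          _ = (s * s) * ((z : G) * (z : G)) := by group
          _ = 1 := by rw [hs2, hzz, one_mul]
      · intro h
        apply hsC
        have := (CP P).mul_mem h ((CP P).inv_mem z.2)
        simpa using this
    have hsI : s ∈ Ivs P := ⟨hs2, hsN, hsC⟩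
    have hcom2 : s * (s * (z : G)) = s * (z : G) * s := by
      rw [mul_assoc, ← hsz]
    have hne2 : (⟨s, hsI, rfl⟩ : {t : G // t ∈ Ivs P ∧ s * t = t * s}) ≠ ⟨s * (z : G), hszI, hcom2⟩ := by
      intro h
      have := congrArg Subtype.val h
      simp only at this
      exact hz1 (by simpa using this.symm)
    have hnt : Nontrivial {t : G // t ∈ Ivs P ∧ s * t = t * s} := ⟨⟨_, _, hne2⟩⟩
    have := Finite.one_lt_card_iff_nontrivial.mpr hnt
    rw [hcomm s hsI] at this
    omega
  omega

end Cfsg.Agent.Helper11.CYC
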