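import Cfsg.Agent.Lib.Helper31.GTGeneric
import Cfsg.Agent.Lib.Helper10.StableClosure

/-!
# Action-`p`-stability in the minimal configuration of the Glauberman–Thompson theorem
-/

set_option autoImplicit false
set_option linter.style.haveILetI false
set_option linter.unusedSectionVars false
set_option linter.unusedVariables false

namespace Cfsg.Agent.Helper11.CfgSt

open Cfsg Cfsg.Agent.Helper11.ZJ Cfsg.Agent.Helper31.GT Cfsg.Agent.Helper10
open scoped commutatorElement Pointwise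

variable {X : Type*} [Group X]

/-- In the configuration, every element acting quadratically on a normal `p`-subgroup `V` lies in
the preimage of `O_p(X / C_X(V))`. -/
theorem mem_stabL_of_quad [Finite X] {p : ℕ} [hp : Fact p.Prime] (hp2 : p ≠ 2) {T : Sylow p X}
    {K : Subgroup X} {m : ℕ} (cfg : Config p T K m) (V : Subgroup X) [hV : V.Normal]
    (hVp : IsPGroup p V) (a : X)
    (ha : ⁅⁅V, Subgroup.zpowers a⁆, Subgroup.zpowers a⁆ = ⊥) : a ∈ stabL p V := by
  set C := Subgroup.centralizer (V : Set X) with hC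
  set mk := QuotientGroup.mk' C with hmk
  have hsurj : Function.Surjective mk := QuotientGroup.mk'_surjective C
  -- `a ^ |V|` centralizes `V`
  have hpow : a ^ Nat.card V ∈ C := by
    rw [hC, Subgroup.mem_centralizer_iff]
    intro v hv
    have h1 : Commute a ⁅v, a⁆ := by
      have := (quad_iff.mp ha) v hv 1
      simpa using this
    have hw : ⁅v, a⁆ ∈ V := by
      rw [commutatorElement_def]
      have : v * a * v⁻¹ * a⁻¹ = v * (a * v⁻¹ * a⁻¹) := by group
      rw [this]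
      exact V.mul_mem hv (hV.conj_mem _ (V.inv_mem hv) _)
    have h2 : v * a * v⁻¹ = ⁅v, a⁆ * a := by rw [commutatorElement_def]; group
    have h3 : v * a ^ Nat.card V * v⁻¹ = (⁅v, a⁆ * a) ^ Nat.card V := by
      rw [← h2, conj_pow]
    have h4 : (⁅v, a⁆ * a) ^ Nat.card V = ⁅v, a⁆ ^ Nat.card V * a ^ Nat.card V :=
      (h1.symm).mul_pow _
    have h5 : ⁅v, a⁆ ^ Nat.card V = 1 := by
      have h6 : (⟨⁅v, a⁆, hw⟩ : ↥V) ^ Nat.card ↥V = 1 := pow_card_eq_one'
      have h7 := congrArg Subtype.val h6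
      rw [Subgroup.coe_pow, Subgroup.coe_one] at h7
      exact h7
    rw [h4, h5, one_mul] at h3
    calc v * a ^ Nat.card V = (v * a ^ Nat.card V * v⁻¹) * v := by group
      _ = a ^ Nat.card V * v := by rw [h3]
  -- the image of `a` is a `p`-element
  obtain ⟨j, hj⟩ := IsPGroup.iff_card.mp hVp
  have hbar : (mk a) ^ p ^ j = 1 := by
    rw [← map_pow, ← hj]
    exact (QuotientGroup.eq_one_iff _).mpr hpow
  have hzp : IsPGroup p (Subgroup.zpowers (mk a)) := by
    have h1 : orderOf (mk a) ∣ p ^ j := orderOf_dvd_of_pow_eq_one hbar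
    obtain ⟨i, -, hi⟩ := (Nat.dvd_prime_pow hp.out).mp h1
    apply IsPGroup.of_card (n := i)
    rw [Nat.card_zpowers, hi]
  obtain ⟨Qb, hQb⟩ := hzp.exists_le_sylow
  set Tb : Sylow p (X ⧸ C) := T.mapSurjective hsurj with hTb
  obtain ⟨gb, hgb⟩ := MulAction.exists_smul_eq (X ⧸ C) Tb Qb
  obtain ⟨g, rfl⟩ := hsurj gb
  have h1 : mk a ∈ ((mk g • Tb : Sylow p (X ⧸ C)) : Subgroup (X ⧸ C)) := by
    rw [hgb]
    exact hQb (Subgroup.mem_zpowers _)
  have h2 : ((mk g • Tb : Sylow p (X ⧸ C)) : Subgroup (X ⧸ C)) =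
      (Tb : Subgroup (X ⧸ C)).map (MulAut.conj (mk g)).toMonoidHom := rfl
  rw [h2, hTb, Sylow.coe_mapSurjective] at h1
  obtain ⟨_, ⟨t, ht, rfl⟩, hta⟩ := h1
  -- `t ≡ g⁻¹ a g` modulo `C`
  have h3 : mk t = mk (g⁻¹ * a * g) := by
    have : (MulAut.conj (mk g)).toMonoidHom (mk t) = mk g * mk t * (mk g)⁻¹ := by
      simp [MulAut.conj_apply]
    rw [this] at hta
    rw [map_mul, map_mul, map_inv, ← hta]
    group
  have hq1 : ⁅⁅V, Subgroup.zpowers (g⁻¹ * a * g)⁆, Subgroup.zpowers (g⁻¹ * a * g)⁆ = ⊥ := by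
    have := quad_conj (V := V) g⁻¹ ha
    rwa [inv_inv] at this
  have hq2 : ⁅⁅V, Subgroup.zpowers t⁆, Subgroup.zpowers t⁆ = ⊥ :=
    quad_of_quotient_eq (V := V) (a := g⁻¹ * a * g) (b := t) h3.symm hq1
  have hq3 : ∀ v ∈ V, ⁅⁅v, t⁆, t⁆ = 1 := by
    intro v hv
    have h4 : ⁅⁅v, t⁆, t⁆ ∈ ⁅⁅V, Subgroup.zpowers t⁆, Subgroup.zpowers t⁆ :=
      Subgroup.commutator_mem_commutator
        (Subgroup.commutator_mem_commutator hv (Subgroup.mem_zpowers t)) (Subgroup.mem_zpowers t)
    rw [hq2] at h4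
    exact Subgroup.mem_bot.mp h4
  have htL : t ∈ stabL p V := mem_stabL_of_quadratic hp2 cfg V hVp t ht hq3
  haveI hLn : (stabL p V).Normal := stabL_normal p V
  -- back to `a`
  have h5 : g⁻¹ * a * g ∈ stabL p V := by
    have h6 : t⁻¹ * (g⁻¹ * a * g) ∈ C := by
      rw [← QuotientGroup.eq_one_iff, ← QuotientGroup.mk'_apply, map_mul, map_inv, ← hmk, h3,
        inv_mul_cancel]
    have : g⁻¹ * a * g = t * (t⁻¹ * (g⁻¹ * a * g)) := by group
    rw [this]
    exact Subgroup.mul_mem _ htL (centralizer_le_stabL p V h6)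
  have := hLn.conj_mem _ h5 g
  have e : g * (g⁻¹ * a * g) * g⁻¹ = a := by group
  rwa [e] at this

/-- The configuration passes to quotients by normal `p`-subgroups. -/
theorem config_quot [Finite X] {p : ℕ} [hp : Fact p.Prime] {T : Sylow p X}
    {K : Subgroup X} {m : ℕ} (cfg : Config p T K m) (N : Subgroup X) [hN : N.Normal]
    (hNp : IsPGroup p N) :
    Config p (T.mapSurjective (QuotientGroup.mk'_surjective N)) (K.map (QuotientGroup.mk' N)) m := by
  set mk := QuotientGroup.mk' N with hmk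
  have hsurj : Function.Surjective mk := QuotientGroup.mk'_surjective N
  haveI := cfg.Kn
  have hker : IsPGroup p mk.ker := by rw [hmk, QuotientGroup.ker_mk']; exact hNp
  have hcore : (pCore p X).map mk ≤ pCore p (X ⧸ N) :=
    le_pCore' ((pCore_normal' p X).map mk hsurj) (isPGroup_pCore'.map mk)
  refine ⟨cfg.Kn.map mk hsurj, ?_, ?_, cfg.cop, ?_, ?_⟩
  · intro xb hxb
    obtain ⟨x, rfl⟩ := hsurj xb
    have h1 : IsPGroup p ↥((pCore p (X ⧸ N)).comap mk) :=
      IsPGroup.comap_of_ker_isPGroup isPGroup_pCore' mk hker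
    have h2 : ((pCore p (X ⧸ N)).comap mk).Normal := (pCore_normal' p (X ⧸ N)).comap mk
    have h3 : x ∈ pCore p X := le_pCore' h2 h1 hxb
    exact Subgroup.mem_map_of_mem _ (cfg.HK h3)
  · rintro _ ⟨k, hk, rfl⟩ _ ⟨k', hk', rfl⟩
    have := cfg.comm k hk k' hk'
    have h1 : mk (k * k' * k⁻¹ * k'⁻¹) ∈ (pCore p X).map mk := Subgroup.mem_map_of_mem _ this
    simp only [map_mul, map_inv] at h1
    exact hcore h1
  · rintro _ ⟨k, hk, rfl⟩
    have h1 : mk (k ^ m) ∈ (pCore p X).map mk := Subgroup.mem_map_of_mem _ (cfg.pow k hk)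
    rw [map_pow] at h1
    exact hcore h1
  · rw [Sylow.coe_mapSurjective, ← Subgroup.map_sup, cfg.gen]
    exact Subgroup.map_top_of_surjective mk hsurj

end Cfsg.Agent.Helper11.CfgSt
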