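import Cfsg.Agent.Lib.Helper11.ConfigStable

/-!
# Action-`p`-stability in the minimal configuration of the Glauberman–Thompson theorem, II
-/

set_option autoImplicit false
set_option linter.style.haveILetI false
set_option linter.unusedSectionVars false
set_option linter.unusedVariables false

namespace Cfsg.Agent.Helper11.CfgSt

open Cfsg Cfsg.Agent.Helper11.ZJ Cfsg.Agent.Helper31.GT Cfsg.Agent.Helper10
open scoped commutatorElement Pointwise

variable {X : Type*} [Group X]

theorem isPStableOn_of_config [Finite X] {p : ℕ} [hp : Fact p.Prime] (hp2 : p ≠ 2) {T : Sylow p X}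
    {K : Subgroup X} {m : ℕ} (cfg : Config p T K m) (V : Subgroup X) [hV : V.Normal]
    (hVp : IsPGroup p V) : IsPStableOn p V :=
  fun a ha => mem_stabL_of_quad hp2 cfg V hVp a ha

theorem isPGroup_of_elemAb {p : ℕ} {V : Subgroup X} (hV : IsElementaryAbelian p V) :
    IsPGroup p V := by
  rintro ⟨v, hv⟩
  refine ⟨1, ?_⟩
  apply Subtype.ext
  rw [Subgroup.coe_pow, Subgroup.coe_one, pow_one]
  exact hV.2 v hv

theorem isPStableOnSection_of_config [Finite X] {p : ℕ} [hp : Fact p.Prime] (hp2 : p ≠ 2)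
    {T : Sylow p X} {K : Subgroup X} {m : ℕ} (cfg : Config p T K m) (Q F : Subgroup X)
    [hQ : Q.Normal] [hF : F.Normal] (hQp : IsPGroup p Q) (hFQ : F ≤ Q) :
    IsPStableOnSection p Q F := by
  intro a ha
  set mk := QuotientGroup.mk' F with hmk
  have hsurj : Function.Surjective mk := QuotientGroup.mk'_surjective F
  have hFp : IsPGroup p F := hQp.to_le hFQ
  have cfg' := config_quot cfg F hFp
  set Vb := Q.map mk with hVb
  haveI hVbn : Vb.Normal := hQ.map mk hsurj
  have hVbp : IsPGroup p Vb := hQp.map mk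
  have hq : ⁅⁅Vb, Subgroup.zpowers (mk a)⁆, Subgroup.zpowers (mk a)⁆ = ⊥ := by
    rw [← MonoidHom.map_zpowers, hVb, ← Subgroup.map_commutator, ← Subgroup.map_commutator,
      eq_bot_iff]
    refine (Subgroup.map_mono ha).trans ?_
    rw [hmk, QuotientGroup.map_mk'_self]
  have hmem := mem_stabL_of_quad hp2 cfg' Vb hVbp (mk a) hq
  refine ⟨(stabL p Vb).comap mk, (stabL_normal p Vb).comap mk, ?_, ?_, hmem⟩
  · unfold sectionKernel
    exact Subgroup.comap_mono (centralizer_le_stabL p Vb)
  · unfold sectionKernel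
    rw [Subgroup.relIndex_comap, Subgroup.map_comap_eq_self_of_surjective hsurj]
    set C := Subgroup.centralizer (Vb : Set (X ⧸ F)) with hC
    have h1 : C = (⊥ : Subgroup ((X ⧸ F) ⧸ C)).comap (QuotientGroup.mk' C) := by
      rw [MonoidHom.comap_bot, QuotientGroup.ker_mk']
    have hs2 : Function.Surjective (QuotientGroup.mk' C) := QuotientGroup.mk'_surjective C
    obtain ⟨k, hk⟩ := IsPGroup.iff_card.mp (isPGroup_pCore' (p := p) (G := (X ⧸ F) ⧸ C))
    refine ⟨k, ?_⟩
    conv_lhs => rw [h1]
    unfold stabL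
    rw [Subgroup.relIndex_comap, Subgroup.map_comap_eq_self_of_surjective hs2,
      Subgroup.relIndex_bot_left, hk]

theorem isPStableOn_of_isPGroup {Y : Type*} [Group Y] {p : ℕ} [Fact p.Prime] (hY : IsPGroup p Y)
    (V : Subgroup Y) [V.Normal] : IsPStableOn p V := by
  intro a _
  have h1 : IsPGroup p (Y ⧸ Subgroup.centralizer (V : Set Y)) := hY.to_quotient _
  have h2 : (⊤ : Subgroup (Y ⧸ Subgroup.centralizer (V : Set Y))) ≤
      pCore p (Y ⧸ Subgroup.centralizer (V : Set Y)) :=
    le_pCore' inferInstance (h1.to_subgroup ⊤)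
  exact h2 (Subgroup.mem_top _)

/-- `p`-stability of a subgroup `N` on a normal subgroup of `N` whose image is normal in `X`. -/
theorem isPStableOn_subgroup [Finite X] {p : ℕ} [hp : Fact p.Prime] (hp2 : p ≠ 2) {T : Sylow p X}
    {K : Subgroup X} {m : ℕ} (cfg : Config p T K m) (N : Subgroup X) (V : Subgroup ↥N)
    [hV : V.Normal] (hVp : IsPGroup p V) (hV'n : (V.map N.subtype).Normal) :
    IsPStableOn p V := by
  intro a ha
  set V' := V.map N.subtype with hV'
  haveI := hV'n
  have hV'p : IsPGroup p V' := hVp.map _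
  have hq : ⁅⁅V', Subgroup.zpowers (N.subtype a)⁆, Subgroup.zpowers (N.subtype a)⁆ = ⊥ :=
    quad_map N.subtype ha
  have haL : N.subtype a ∈ stabL p V' := mem_stabL_of_quad hp2 cfg V' hV'p _ hq
  set L := stabL p V' with hL
  haveI hLn : L.Normal := stabL_normal p V'
  set CN := Subgroup.centralizer (V : Set ↥N) with hCN
  set M := (L.comap N.subtype).map (QuotientGroup.mk' CN) with hM
  have hMn : M.Normal := (hLn.comap N.subtype).map _ (QuotientGroup.mk'_surjective CN)
  have hMp : IsPGroup p M := by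
    rw [isPGroup_subgroup_iff']
    rintro _ ⟨n, hn, rfl⟩
    obtain ⟨j, hj⟩ := stabL_pow V' (show N.subtype n ∈ stabL p V' from hn)
    refine ⟨j, ?_⟩
    rw [← map_pow]
    apply (QuotientGroup.eq_one_iff _).mpr
    rw [hCN, Subgroup.mem_centralizer_iff]
    intro v hv
    apply Subtype.ext
    have h1 := (Subgroup.mem_centralizer_iff.mp hj) (v : X) ⟨v, hv, rfl⟩
    simpa using h1
  have hle : M ≤ pCore p (↥N ⧸ CN) := le_pCore' hMn hMp
  exact hle ⟨a, haL, rfl⟩

theorem isCoatom_sylow [Finite X] {p : ℕ} [Fact p.Prime] {T : Sylow p X}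
    (hT : IsCoatom (T : Subgroup X)) (S : Sylow p X) : IsCoatom (S : Subgroup X) := by
  obtain ⟨g, rfl⟩ := MulAction.exists_smul_eq X T S
  have h1 : ((g • T : Sylow p X) : Subgroup X) = (MulEquiv.mapSubgroup (MulAut.conj g)) T := rfl
  rw [h1, OrderIso.isCoatom_iff]
  exact hT

/-- A Sylow subgroup normalizes its Thompson subgroup. -/
theorem le_normalizer_thompsonSubgroupOf {p : ℕ} (S : Subgroup X) :
    S ≤ Subgroup.normalizer (thompsonSubgroupOf p S : Set X) := by
  apply le_normalizer_of_forall_map_conj_le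
  intro s hs
  have hSs : S.map (MulAut.conj s).toMonoidHom = S := by
    apply le_antisymm
    · rintro _ ⟨x, hx, rfl⟩
      exact S.mul_mem (S.mul_mem hs hx) (S.inv_mem hs)
    · intro x hx
      refine ⟨s⁻¹ * x * s, S.mul_mem (S.mul_mem (S.inv_mem hs) hx) hs, ?_⟩
      simp only [MulEquiv.coe_toMonoidHom, MulAut.conj_apply]
      group
  have h1 := thompsonSubgroupOf_map p (MulAut.conj s).toMonoidHom S
    (fun x _ hx => (MulAut.conj s).injective (by rw [MulEquiv.coe_toMonoidHom] at hx; rw [hx, map_one]))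
  rw [hSs] at h1
  exact le_of_eq h1.symm

/-- In the minimal configuration, `X` is `p`-stable in the action sense. -/
theorem isActionPStable_of_config [Finite X] {p : ℕ} [hp : Fact p.Prime] (hp2 : p ≠ 2)
    {T : Sylow p X} {K : Subgroup X} {m : ℕ} (cfg : Config p T K m)
    (hT : IsCoatom (T : Subgroup X)) : IsActionPStable p X := by
  refine ⟨?_, ?_, ?_⟩
  · intro V _ hV
    exact isPStableOn_of_config hp2 cfg V (isPGroup_of_elemAb hV)
  · exact isPStableOnSection_of_config hp2 cfg _ _ isPGroup_pCore' (Subgroup.map_subtype_le _)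
  · intro S
    set N := Subgroup.normalizer (thompsonSubgroupOf p (S : Subgroup X) : Set X) with hN
    intro V hVn hV
    have hSN : (S : Subgroup X) ≤ N := le_normalizer_thompsonSubgroupOf (S : Subgroup X)
    have hVS : V.map N.subtype ≤ (S : Subgroup X) := hV.trans (Subgroup.map_subtype_le _)
    have hVp : IsPGroup p V := by
      rw [isPGroup_subgroup_iff']
      intro v hv
      obtain ⟨k, hk⟩ := (isPGroup_subgroup_iff'.mp S.isPGroup') (v : X) (hVS ⟨v, hv, rfl⟩)
      refine ⟨k, ?_⟩
      apply Subtype.ext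
      rw [Subgroup.coe_pow, Subgroup.coe_one]
      exact hk
    have hS := isCoatom_sylow hT S
    rcases eq_or_lt_of_le hSN with h | h
    · -- `N = S` is a `p`-group
      have hNp : IsPGroup p ↥N := by rw [← h]; exact S.isPGroup'
      exact isPStableOn_of_isPGroup hNp V
    · have hNtop : N = ⊤ := hS.2 N h
      apply isPStableOn_subgroup hp2 cfg N V hVp
      refine ⟨?_⟩
      rintro _ ⟨v, hv, rfl⟩ x
      have hxN : x ∈ N := by rw [hNtop]; trivial
      have h1 : (⟨x, hxN⟩ : ↥N) * v * (⟨x, hxN⟩ : ↥N)⁻¹ ∈ V :=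
        hVn.conj_mem v hv _
      exact ⟨_, h1, by simp⟩

end Cfsg.Agent.Helper11.CfgSt
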