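import Cfsg.Agent.Lib.Helper11.QP2

/-!
# Dickson-lite assembly, I: explicit rational pairs in `SL₂(F)`
-/

set_option autoImplicit false
set_option linter.style.haveILetI false
set_option linter.unusedSectionVars false
set_option linter.unusedVariables false

namespace Cfsg.Agent.Helper11.QP

open Matrix

variable {F : Type*} [Field F]

/-- the conclusion of `DLHyp`: `L` contains a rational pair. -/
def HasRationalPair (L : Subgroup (Matrix.SpecialLinearGroup (Fin 2) F)) : Prop :=
  ∃ x ∈ L, ∃ y ∈ L, ∃ v w : Fin 2 → F, v 0 * w 1 - v 1 * w 0 ≠ 0 ∧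
    (x : Matrix (Fin 2) (Fin 2) F).mulVec v = v ∧
    (x : Matrix (Fin 2) (Fin 2) F).mulVec w = w + v ∧
    (y : Matrix (Fin 2) (Fin 2) F).mulVec v = v + w ∧
    (y : Matrix (Fin 2) (Fin 2) F).mulVec w = w

theorem uSL_coe (t : F) : ((uSL t : Matrix.SpecialLinearGroup (Fin 2) F) :
    Matrix (Fin 2) (Fin 2) F) = !![1, t; 0, 1] := rfl

theorem lSL_coe (t : F) : ((lSL t : Matrix.SpecialLinearGroup (Fin 2) F) :
    Matrix (Fin 2) (Fin 2) F) = !![1, 0; t, 1] := rfl

theorem lSL_inv (t : F) : (lSL t)⁻¹ = lSL (-t) := by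
  apply Subtype.ext
  rw [Matrix.SpecialLinearGroup.coe_inv, lSL_coe, lSL_coe, Matrix.adjugate_fin_two_of]
  simp

/-- `u(a)` and `l(a⁻¹)` form a rational pair. -/
theorem hasRationalPair_of_recip (L : Subgroup (Matrix.SpecialLinearGroup (Fin 2) F)) (a : F)
    (ha : a ≠ 0) (h1 : uSL a ∈ L) (h2 : lSL a⁻¹ ∈ L) : HasRationalPair L := by
  refine ⟨uSL a, h1, lSL a⁻¹, h2, ![a, 0], ![0, 1], ?_, ?_, ?_, ?_, ?_⟩
  · simpa using ha
  · rw [uSL_coe]
    ext i; fin_cases i <;> simp [Matrix.mulVec, dotProduct, Fin.sum_univ_two]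
  · rw [uSL_coe]
    ext i; fin_cases i <;> simp [Matrix.mulVec, dotProduct, Fin.sum_univ_two]
  · rw [lSL_coe]
    ext i; fin_cases i <;> simp [Matrix.mulVec, dotProduct, Fin.sum_univ_two, ha]
  · rw [lSL_coe]
    ext i; fin_cases i <;> simp [Matrix.mulVec, dotProduct, Fin.sum_univ_two]

theorem uSL_mul_lSL_coe (lam t : F) :
    ((uSL lam * lSL t : Matrix.SpecialLinearGroup (Fin 2) F) : Matrix (Fin 2) (Fin 2) F) =
      !![1 + lam * t, lam; t, 1] := by
  rw [Matrix.SpecialLinearGroup.coe_mul, uSL_coe, lSL_coe]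
  ext i j
  fin_cases i <;> fin_cases j <;> simp [Matrix.mul_apply, Fin.sum_univ_two]

theorem pow_two_10 (lam : F) :
    ((uSL lam * lSL 1) ^ 2 : Matrix.SpecialLinearGroup (Fin 2) F).1 1 0 = 2 + lam := by
  rw [Matrix.SpecialLinearGroup.coe_pow, uSL_mul_lSL_coe]
  simp [pow_succ, Matrix.mul_apply, Fin.sum_univ_two]
  ring

theorem pow_three_10 (lam : F) :
    ((uSL lam * lSL 1) ^ 3 : Matrix.SpecialLinearGroup (Fin 2) F).1 1 0 = (2 + lam) ^ 2 - 1 := by
  rw [Matrix.SpecialLinearGroup.coe_pow, uSL_mul_lSL_coe]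
  simp [pow_succ, Matrix.mul_apply, Fin.sum_univ_two]
  ring

theorem pow_five_10 (lam : F) :
    ((uSL lam * lSL 1) ^ 5 : Matrix.SpecialLinearGroup (Fin 2) F).1 1 0 =
      (2 + lam) ^ 4 - 3 * (2 + lam) ^ 2 + 1 := by
  rw [Matrix.SpecialLinearGroup.coe_pow, uSL_mul_lSL_coe]
  simp [pow_succ, Matrix.mul_apply, Fin.sum_univ_two]
  ring

theorem pow_two_10' (lam : F) :
    ((uSL lam * lSL (-1)) ^ 2 : Matrix.SpecialLinearGroup (Fin 2) F).1 1 0 = -(2 - lam) := by
  rw [Matrix.SpecialLinearGroup.coe_pow, uSL_mul_lSL_coe]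
  simp [pow_succ, Matrix.mul_apply, Fin.sum_univ_two]
  ring

theorem pow_three_10' (lam : F) :
    ((uSL lam * lSL (-1)) ^ 3 : Matrix.SpecialLinearGroup (Fin 2) F).1 1 0 =
      -((2 - lam) ^ 2 - 1) := by
  rw [Matrix.SpecialLinearGroup.coe_pow, uSL_mul_lSL_coe]
  simp [pow_succ, Matrix.mul_apply, Fin.sum_univ_two]
  ring

theorem pow_five_10' (lam : F) :
    ((uSL lam * lSL (-1)) ^ 5 : Matrix.SpecialLinearGroup (Fin 2) F).1 1 0 =
      -((2 - lam) ^ 4 - 3 * (2 - lam) ^ 2 + 1) := by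
  rw [Matrix.SpecialLinearGroup.coe_pow, uSL_mul_lSL_coe]
  simp [pow_succ, Matrix.mul_apply, Fin.sum_univ_two]
  ring

/-- the exceptional pair when `lam ^ 2 = -1` in characteristic `3`. -/
theorem hasRationalPair_of_sq_eq_neg_one (h3 : (3 : F) = 0) (lam : F) (hsq : lam ^ 2 = -1)
    (L : Subgroup (Matrix.SpecialLinearGroup (Fin 2) F)) (hu : uSL lam ∈ L) (hl : lSL 1 ∈ L) :
    HasRationalPair L := by
  have h2 : (2 : F) ≠ 0 := by
    intro h
    have : (1 : F) = 0 := by linear_combination h3 - h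
    exact one_ne_zero this
  have hdet : (!![lam, 1; -lam, -1 - lam] : Matrix (Fin 2) (Fin 2) F).det = 1 := by
    rw [Matrix.det_fin_two_of]
    linear_combination (-1 : F) * hsq
  set y : Matrix.SpecialLinearGroup (Fin 2) F := ⟨!![lam, 1; -lam, -1 - lam], hdet⟩ with hy
  set g : Matrix.SpecialLinearGroup (Fin 2) F := lSL 1 * uSL lam with hg
  have hgL : g ∈ L := L.mul_mem hl hu
  have hyg : y * g = g * lSL 1 := by
    apply Subtype.ext
    rw [Matrix.SpecialLinearGroup.coe_mul, Matrix.SpecialLinearGroup.coe_mul, hg,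
      Matrix.SpecialLinearGroup.coe_mul, lSL_coe, uSL_coe]
    show !![lam, 1; -lam, -1 - lam] * (!![1, 0; 1, 1] * !![1, lam; 0, 1]) =
      !![1, 0; 1, 1] * !![1, lam; 0, 1] * !![1, 0; 1, 1]
    ext i j
    fin_cases i <;> fin_cases j <;> simp [Matrix.mul_apply, Fin.sum_univ_two]
    · ring
    · linear_combination hsq
    · linear_combination (-(1 : F) - lam) * h3
    · linear_combination (-(2 : F)) * hsq - lam * h3
  have hyL : y ∈ L := by
    have : y = g * lSL 1 * g⁻¹ := eq_mul_inv_of_mul_eq hyg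
    rw [this]
    exact L.mul_mem (L.mul_mem hgL hl) (L.inv_mem hgL)
  refine ⟨uSL lam, hu, y, hyL, ![lam + 1, 0], ![1, 1 - lam], ?_, ?_, ?_, ?_, ?_⟩
  · simp only [Matrix.cons_val_zero, Matrix.cons_val_one]
    have : (lam + 1) * (1 - lam) - 0 * 1 = 2 := by linear_combination (-(1 : F)) * hsq
    rw [this]
    exact h2
  · rw [uSL_coe]
    ext i; fin_cases i <;> simp [Matrix.mulVec, dotProduct, Fin.sum_univ_two]
  · rw [uSL_coe]
    ext i; fin_cases i <;> simp [Matrix.mulVec, dotProduct, Fin.sum_univ_two]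
    linear_combination (-(1 : F)) * hsq
  · show (!![lam, 1; -lam, -1 - lam] : Matrix (Fin 2) (Fin 2) F).mulVec ![lam + 1, 0] = _
    ext i; fin_cases i <;> simp [Matrix.mulVec, dotProduct, Fin.sum_univ_two]
    · linear_combination hsq - h3
    · linear_combination (-(1 : F)) * hsq
  · show (!![lam, 1; -lam, -1 - lam] : Matrix (Fin 2) (Fin 2) F).mulVec ![1, 1 - lam] = _
    ext i; fin_cases i <;> simp [Matrix.mulVec, dotProduct, Fin.sum_univ_two]
    · linear_combination hsq - h3

/-- **The exceptional case** `p = 3`. -/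
theorem hasRationalPair_of_exceptional (h3 : (3 : F) = 0) (lam : F) (hlam : lam ≠ 0)
    (L : Subgroup (Matrix.SpecialLinearGroup (Fin 2) F)) (hu : uSL lam ∈ L) (hl : lSL 1 ∈ L)
    (hZ : ∀ y ∈ L, (y ^ 2).1 1 0 = 0 ∨ (y ^ 3).1 1 0 = 0 ∨ (y ^ 5).1 1 0 = 0) :
    HasRationalPair L := by
  have hl' : lSL (-1 : F) ∈ L := by
    rw [← lSL_inv]; exact L.inv_mem hl
  have key : lam = 1 ∨ lam = -1 ∨ lam ^ 2 = -1 := by
    have hA := hZ _ (L.mul_mem hu hl)
    have hB := hZ _ (L.mul_mem hu hl')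
    rw [pow_two_10, pow_three_10, pow_five_10] at hA
    rw [pow_two_10', pow_three_10', pow_five_10', neg_eq_zero, neg_eq_zero, neg_eq_zero] at hB
    rcases hA with hA | hA | hA
    · left; linear_combination hA - h3
    · have : (lam + 1) * lam = 0 := by linear_combination hA - (lam + 1) * h3
      rcases mul_eq_zero.mp this with h | h
      · right; left; linear_combination h
      · exact absurd h hlam
    · rcases hB with hB | hB | hB
      · right; left; linear_combination (-(1 : F)) * hB + h3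
      · have : (lam - 1) * lam = 0 := by linear_combination hB + (lam - 1) * h3
        rcases mul_eq_zero.mp this with h | h
        · left; linear_combination h
        · exact absurd h hlam
      · right; right
        have : lam * (lam ^ 2 + 1) = 0 := by
          linear_combination hA - hB - (13 * lam + 5 * lam ^ 3) * h3
        rcases mul_eq_zero.mp this with h | h
        · exact absurd h hlam
        · linear_combination h
  rcases key with h | h | h
  · subst h
    exact hasRationalPair_of_recip L 1 one_ne_zero hu (by rw [inv_one]; exact hl)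
  · subst h
    refine hasRationalPair_of_recip L (-1) (neg_ne_zero.mpr one_ne_zero) hu ?_
    have : ((-1 : F))⁻¹ = -1 := by rw [inv_neg, inv_one]
    rw [this]; exact hl'
  · exact hasRationalPair_of_sq_eq_neg_one h3 lam h L hu hl

end Cfsg.Agent.Helper11.QP
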