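import Mathlib
import Cfsg.Prelude.Def_GeometricClasses
import Cfsg.Agent.Lib.Helper97.ESDefs

/-!
ES server (helper97, S5877): small shared lemmas used by helper11's pieces (A3), (A1+K1).
-/

set_option autoImplicit false
set_option linter.unusedSectionVars false
set_option linter.style.haveILetI false

namespace Cfsg.Agent.Helper11.ES

open Cfsg Cfsg.Geo Cfsg.Agent.Helper97.ES
open scoped MatrixGroups

variable {F : Type*} [Field F] {n : ℕ}

/-- the linear map of a `GL` element -/
noncomputable abbrev L (a : GL (Fin n) F) : (Fin n → F) →ₗ[F] (Fin n → F) :=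
  Matrix.toLin' (a : Matrix (Fin n) (Fin n) F)

theorem L_mul (a b : GL (Fin n) F) (v : Fin n → F) : L (a * b) v = L a (L b v) := by
  unfold L
  rw [Units.val_mul, Matrix.toLin'_mul]
  rfl

theorem L_one (v : Fin n → F) : L (1 : GL (Fin n) F) v = v := by
  unfold L
  simp

theorem L_inv_cancel (a : GL (Fin n) F) (v : Fin n → F) : L a⁻¹ (L a v) = v := by
  rw [← L_mul, inv_mul_cancel, L_one]

theorem L_cancel_inv (a : GL (Fin n) F) (v : Fin n → F) : L a (L a⁻¹ v) = v := by
  rw [← L_mul, mul_inv_cancel, L_one]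

/-- the linear equivalence of a `GL` element -/
noncomputable def Lequiv (a : GL (Fin n) F) : (Fin n → F) ≃ₗ[F] (Fin n → F) :=
  LinearEquiv.ofLinearMap (L a) (L a⁻¹)
    (LinearMap.ext fun v => L_cancel_inv a v)
    (LinearMap.ext fun v => L_inv_cancel a v)

theorem Lequiv_apply (a : GL (Fin n) F) (v : Fin n → F) : Lequiv a v = L a v := rfl

theorem eDim_eq (g : GL (Fin n) F) (c : F) :
    eDim g c = Module.finrank F (Module.End.eigenspace (L g) c) := rfl

/-- scalars are central -/
theorem scalar_comm {z : GL (Fin n) F} (hz : z ∈ scalars (Fin n) F) (a : GL (Fin n) F) :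
    z * a = a * z := by
  rw [mem_scalars_iff] at hz
  obtain ⟨c, hc⟩ := hz
  apply Units.ext
  rw [Units.val_mul, Units.val_mul, hc, Matrix.smul_mul, Matrix.mul_smul, Matrix.one_mul,
    Matrix.mul_one]

/-- the linear map of a scalar element -/
theorem L_scalar {z : GL (Fin n) F} {c : F}
    (hc : (z : Matrix (Fin n) (Fin n) F) = c • (1 : Matrix (Fin n) (Fin n) F)) (v : Fin n → F) :
    L z v = c • v := by
  unfold L
  rw [hc]
  simp

/-- membership in the normalizer, both directions -/
theorem conj_mem_of_mem_normalizer {H : Subgroup (GL (Fin n) F)} {g : GL (Fin n) F}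
    (hg : g ∈ subgroupNormalizer H) {h : GL (Fin n) F} (hh : h ∈ H) : g * h * g⁻¹ ∈ H := by
  unfold subgroupNormalizer at hg
  exact (Subgroup.mem_normalizer_iff.mp hg h).mp hh

theorem conj_mem_of_mem_normalizer' {H : Subgroup (GL (Fin n) F)} {g : GL (Fin n) F}
    (hg : g ∈ subgroupNormalizer H) {h : GL (Fin n) F} (hh : h ∈ H) : g⁻¹ * h * g ∈ H := by
  have hginv : g⁻¹ ∈ subgroupNormalizer H := Subgroup.inv_mem _ hg
  have := conj_mem_of_mem_normalizer hginv hh
  simpa using this

end Cfsg.Agent.Helper11.ES
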