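import Mathlib
import Cfsg.Prelude.Def_GeometricClasses
import Cfsg.Agent.Lib.Helper97.ESDefs
import Cfsg.Agent.Lib.Helper11.ESBase

/-!
ES server (helper97, S5877): pieces (A1) `triv_bound` and (K1) `hz_bound`.
-/

set_option autoImplicit false
set_option linter.unusedSectionVars false
set_option linter.unusedVariables false
set_option linter.style.haveILetI false

namespace Cfsg.Agent.Helper11.ES

open Cfsg Cfsg.Geo Cfsg.Agent.Helper97.ES
open scoped MatrixGroups commutatorElement

section grp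

variable {F : Type*} [Field F] [Finite F] {n r : ℕ} {R : Subgroup (GL (Fin n) F)}

/-- a `GL` element whose matrix is `c • 1` is in `scalars` -/
theorem mem_scalars_of_eq_smul_one (g : GL (Fin n) F) (c : F)
    (h : (g : Matrix (Fin n) (Fin n) F) = c • (1 : Matrix (Fin n) (Fin n) F)) :
    g ∈ scalars (Fin n) F := by
  rw [mem_scalars_iff]
  by_cases hc : c = 0
  · refine ⟨1, ?_⟩
    have h0 : (g : Matrix (Fin n) (Fin n) F) = 0 := by rw [h, hc, zero_smul]
    have h1 : (1 : Matrix (Fin n) (Fin n) F) = 0 := by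
      have := Units.mul_inv g
      rw [h0, zero_mul] at this
      exact this.symm
    rw [h0, Units.val_one, one_smul, h1]
  · exact ⟨Units.mk0 c hc, h⟩

/-- (B1) an element commuting with all of `R` is scalar -/
theorem scalar_of_comm (S : Setup r R) (u : GL (Fin n) F) (h : ∀ y ∈ R, u * y = y * u) :
    u ∈ scalars (Fin n) F := by
  obtain ⟨c, hc⟩ := S.hirr.2 (u : Matrix (Fin n) (Fin n) F) (by
    rintro s ⟨y, hy, rfl⟩
    have := congrArg (fun a : GL (Fin n) F => (a : Matrix (Fin n) (Fin n) F)) (h y hy)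
    simpa [Units.val_mul] using this)
  exact mem_scalars_of_eq_smul_one u c hc

/-- (B2) commutators of elements of `R` are central in `R` and have `r`-th power `1` -/
theorem comm_central (S : Setup r R) {a b : GL (Fin n) F} (ha : a ∈ R) (hb : b ∈ R) :
    (∀ y ∈ R, (a * b * a⁻¹ * b⁻¹) * y = y * (a * b * a⁻¹ * b⁻¹)) ∧
      (a * b * a⁻¹ * b⁻¹) ^ r = 1 := by
  have hmem : ⁅(⟨a, ha⟩ : R), (⟨b, hb⟩ : R)⁆ ∈ Subgroup.center R := by
    rw [← S.hext]
    exact Subgroup.commutator_mem_commutator (Subgroup.mem_top _) (Subgroup.mem_top _)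
  have hval : ((⁅(⟨a, ha⟩ : R), (⟨b, hb⟩ : R)⁆ : R) : GL (Fin n) F) = a * b * a⁻¹ * b⁻¹ := by
    rw [commutatorElement_def]; rfl
  constructor
  · intro y hy
    have := (Subgroup.mem_center_iff.mp hmem) ⟨y, hy⟩
    have h2 := congrArg (Subtype.val : R → GL (Fin n) F) this
    simp only [Subgroup.coe_mul, hval] at h2
    exact h2.symm
  · have h1 : (⟨_, hmem⟩ : Subgroup.center R) ^ Nat.card (Subgroup.center R) = 1 :=
      pow_card_eq_one'
    rw [S.hZ] at h1
    have h2 := congrArg (fun z : Subgroup.center R => ((z : R) : GL (Fin n) F)) h1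
    simp only [Subgroup.coe_pow, Subgroup.coe_one, hval] at h2
    exact h2

/-- class 2 power formula -/
theorem pow_mul_comm_of_central {H : Type*} [Group H] (x y z : H) (hz : x * y = z * y * x)
    (hzx : z * x = x * z) (hzy : z * y = y * z) (k : ℕ) : x ^ k * y = z ^ k * y * x ^ k := by
  induction k with
  | zero => simp
  | succ k ih =>
    have hzkx : z ^ k * x = x * z ^ k := (Commute.pow_left (show Commute z x from hzx) k).eq
    calc x ^ (k + 1) * y = x * (x ^ k * y) := by rw [pow_succ']; group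
      _ = x * (z ^ k * y * x ^ k) := by rw [ih]
      _ = (x * z ^ k) * y * x ^ k := by group
      _ = z ^ k * (x * y) * x ^ k := by rw [← hzkx]; group
      _ = z ^ k * (z * y * x) * x ^ k := by rw [hz]
      _ = z ^ (k + 1) * y * x ^ (k + 1) := by rw [pow_succ, pow_succ']; group

/-- (B4) `x ^ r` commutes with all of `R` -/
theorem pow_r_comm (S : Setup r R) {x : GL (Fin n) F} (hx : x ∈ R) :
    ∀ y ∈ R, x ^ r * y = y * x ^ r := by
  intro y hy
  obtain ⟨hc, hp⟩ := comm_central S hx hy
  have hz : x * y = (x * y * x⁻¹ * y⁻¹) * y * x := by group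
  have h := pow_mul_comm_of_central x y (x * y * x⁻¹ * y⁻¹) hz (hc x hx) (hc y hy) r
  rw [hp, one_mul] at h
  exact h

/-- eigenspace at `0` of an invertible element is trivial -/
theorem eDim_zero (g : GL (Fin n) F) : eDim g 0 = 0 := by
  rw [eDim_eq]
  have : Module.End.eigenspace (L g) 0 = ⊥ := by
    rw [eq_bot_iff]
    intro v hv
    rw [Module.End.mem_eigenspace_iff, zero_smul] at hv
    have := L_inv_cancel g v
    rw [hv, map_zero] at this
    rw [Submodule.mem_bot]; exact this.symm
  rw [this]; simp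

/-- (EQD), one inequality: if `g x = ξ x g` then `eDim g μ ≤ eDim g (ξ μ)` -/
theorem eDim_le_of_twist (g x : GL (Fin n) F) (ξ : F)
    (h : ∀ v, L g (L x v) = ξ • L x (L g v)) (μ : F) : eDim g μ ≤ eDim g (ξ * μ) := by
  rw [eDim_eq, eDim_eq]
  have hle : (Module.End.eigenspace (L g) μ).map
      ((Lequiv x : (Fin n → F) ≃ₗ[F] (Fin n → F)) : (Fin n → F) →ₗ[F] (Fin n → F)) ≤
      Module.End.eigenspace (L g) (ξ * μ) := by
    rintro _ ⟨v, hv, rfl⟩
    have hv' : L g v = μ • v := Module.End.mem_eigenspace_iff.mp hv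
    rw [Module.End.mem_eigenspace_iff]
    show L g (L x v) = (ξ * μ) • L x v
    rw [h, hv', map_smul, smul_smul]
  calc Module.finrank F (Module.End.eigenspace (L g) μ)
      = Module.finrank F ((Module.End.eigenspace (L g) μ).map
          ((Lequiv x : (Fin n → F) ≃ₗ[F] (Fin n → F)) : (Fin n → F) →ₗ[F] (Fin n → F))) :=
        (LinearEquiv.finrank_map_eq _ _).symm
    _ ≤ _ := Submodule.finrank_mono hle

/-- partial sums of eigenspaces -/
noncomputable def Ssum (T : Module.End F (Fin n → F)) (μ : ℕ → F) : ℕ → Submodule F (Fin n → F)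
  | 0 => ⊥
  | k + 1 => Ssum T μ k ⊔ Module.End.eigenspace T (μ k)

/-- (EQD) the counting: `r` distinct eigenvalues with eigenspaces of dimension `≥ w` force `r w ≤ n` -/
theorem mul_le_of_distinct (T : Module.End F (Fin n → F)) (μ : ℕ → F) (m w : ℕ)
    (hinj : ∀ i < m, ∀ j < m, μ i = μ j → i = j)
    (hw : ∀ j < m, w ≤ Module.finrank F (Module.End.eigenspace T (μ j))) : m * w ≤ n := by
  have hind := Module.End.eigenspaces_iSupIndep T
  have hle : ∀ k : ℕ, ∀ j, k ≤ j → j < m → Ssum T μ k ≤ ⨆ ν, ⨆ (_ : ν ≠ μ j), Module.End.eigenspace T ν := by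
    intro k
    induction k with
    | zero => intro j _ _; exact bot_le
    | succ k ih =>
      intro j hkj hjm
      refine sup_le (ih j (by omega) hjm) ?_
      have hne : μ k ≠ μ j := fun h => by
        have := hinj k (by omega) j hjm h
        omega
      exact le_iSup₂_of_le (μ k) hne le_rfl
  have hcount : ∀ k : ℕ, k ≤ m → k * w ≤ Module.finrank F (Ssum T μ k) := by
    intro k
    induction k with
    | zero => intro _; simp
    | succ k ih =>
      intro hk
      have hdisj : Disjoint (Module.End.eigenspace T (μ k)) (Ssum T μ k) :=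
        (hind (μ k)).mono_right (hle k k le_rfl (by omega))
      have h1 := Submodule.finrank_sup_add_finrank_inf_eq (Ssum T μ k) (Module.End.eigenspace T (μ k))
      have h2 : Ssum T μ k ⊓ Module.End.eigenspace T (μ k) = ⊥ := by
        rw [inf_comm]; exact hdisj.eq_bot
      rw [h2, finrank_bot, add_zero] at h1
      have h3 := ih (by omega)
      have h4 := hw k (by omega)
      show (k + 1) * w ≤ Module.finrank F ↥(Ssum T μ k ⊔ Module.End.eigenspace T (μ k))
      rw [h1, add_mul, one_mul]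
      omega
  calc m * w ≤ Module.finrank F (Ssum T μ m) := hcount m le_rfl
    _ ≤ Module.finrank F (Fin n → F) := Submodule.finrank_le _
    _ = n := Module.finrank_fin_fun F

/-- **(A1) g trivial on R mod scalars.** -/
theorem triv_bound (S : Setup r R) (g : GL (Fin n) F) (ht : Triv R g)
    (hns : g ∉ scalars (Fin n) F) (c : F) : r * eDim g c ≤ n := by
  by_cases hc0 : c = 0
  · rw [hc0, eDim_zero, mul_zero]; exact Nat.zero_le _
  -- some `x ∈ R` does not commute with `g`
  have hex : ∃ x ∈ R, g * x * g⁻¹ * x⁻¹ ≠ 1 := by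
    by_contra hcon
    push Not at hcon
    apply hns
    apply scalar_of_comm S g
    intro y hy
    have := hcon y hy
    calc g * y = (g * y * g⁻¹ * y⁻¹) * y * g := by group
      _ = y * g := by rw [this, one_mul]
  obtain ⟨x, hxR, hne⟩ := hex
  obtain ⟨lam, hlam⟩ : ∃ lam : GL (Fin n) F, lam = g * x * g⁻¹ * x⁻¹ := ⟨_, rfl⟩
  have hlamS : lam ∈ scalars (Fin n) F := hlam ▸ ht x hxR
  obtain ⟨ξ, hξ⟩ := (mem_scalars_iff lam).mp hlamS
  -- `lam ^ r = 1`
  have hxr : x ^ r ∈ scalars (Fin n) F := scalar_of_comm S _ (pow_r_comm S hxR)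
  have hlamr : lam ^ r = 1 := by
    have h1 : g * x * g⁻¹ = lam * x := by rw [hlam]; group
    have h2 : (g * x * g⁻¹) ^ r = g * x ^ r * g⁻¹ := by
      have := map_pow (MulAut.conj g) x r
      rw [MulAut.conj_apply, MulAut.conj_apply] at this
      exact this.symm
    have h3 : (lam * x) ^ r = lam ^ r * x ^ r :=
      (show Commute lam x from scalar_comm hlamS x).mul_pow r
    have h4 : g * x ^ r * g⁻¹ = x ^ r := by
      rw [← scalar_comm hxr g]; group
    have h5 : lam ^ r * x ^ r = x ^ r := by rw [← h3, ← h1, h2, h4]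
    exact mul_eq_right.mp h5
  have hξr : ξ ^ r = 1 := by
    have h1 : ((lam ^ r : GL (Fin n) F) : Matrix (Fin n) (Fin n) F) =
        ((ξ ^ r : Fˣ) : F) • (1 : Matrix (Fin n) (Fin n) F) := by
      rw [Units.val_pow_eq_pow_val, hξ, smul_pow, one_pow, Units.val_pow_eq_pow_val]
    rw [hlamr, Units.val_one] at h1
    by_cases hn : n = 0
    · subst hn
      exfalso
      apply hne
      rw [← hlam]
      exact Subsingleton.elim _ _
    · have hn' : 0 < n := Nat.pos_of_ne_zero hn
      have h2 := congrFun (congrFun h1 ⟨0, hn'⟩) ⟨0, hn'⟩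
      simp only [Matrix.one_apply_eq, Matrix.smul_apply, smul_eq_mul, mul_one] at h2
      exact Units.ext h2.symm
  have hξ1 : ξ ≠ 1 := by
    intro h
    apply hne
    rw [← hlam]
    apply Units.ext
    rw [hξ, h, Units.val_one, one_smul, Units.val_one]
  have hord : orderOf ξ = r := by
    have hd : orderOf ξ ∣ r := orderOf_dvd_of_pow_eq_one hξr
    rcases (Nat.dvd_prime S.hr).mp hd with h | h
    · exact absurd (orderOf_eq_one_iff.mp h) hξ1
    · exact h
  -- the twist
  have htw : ∀ v, L g (L x v) = (ξ : F) • L x (L g v) := by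
    intro v
    have h1 : g * x = lam * (x * g) := by rw [hlam]; group
    rw [← L_mul, h1, L_mul, L_scalar hξ, L_mul]
  have hstep : ∀ j : ℕ, eDim g c ≤ eDim g (((ξ ^ j : Fˣ) : F) * c) := by
    intro j
    induction j with
    | zero => simp
    | succ j ih =>
      refine ih.trans ?_
      have := eDim_le_of_twist g x (ξ : F) htw (((ξ ^ j : Fˣ) : F) * c)
      rw [← mul_assoc, ← Units.val_mul, ← pow_succ'] at this
      exact this
  apply mul_le_of_distinct (L g) (fun j => ((ξ ^ j : Fˣ) : F) * c) r (eDim g c)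
  · intro i hi j hj hij
    have h1 : ((ξ ^ i : Fˣ) : F) = ((ξ ^ j : Fˣ) : F) := mul_right_cancel₀ hc0 hij
    have h2 : ξ ^ i = ξ ^ j := Units.ext h1
    exact pow_injOn_Iio_orderOf (by rw [hord]; exact hi) (by rw [hord]; exact hj) h2
  · intro j _
    have := hstep j
    rw [eDim_eq, eDim_eq] at this
    rw [eDim_eq]
    exact this

/-- **(K1) non-scalar elements of R ⊔ scalars.** -/
theorem hz_bound (S : Setup r R) (y : GL (Fin n) F) (hy : y ∈ HZ R)
    (hns : y ∉ scalars (Fin n) F) (c : F) : r * eDim y c ≤ n := by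
  apply triv_bound S y _ hns c
  intro x hxR
  have hy' : y ∈ ((R ⊔ scalars (Fin n) F : Subgroup (GL (Fin n) F)) : Set (GL (Fin n) F)) := hy
  rw [Subgroup.mul_normal] at hy'
  obtain ⟨ρ, hρ, z, hz, rfl⟩ := hy'
  have h1 : ρ * z * x * (ρ * z)⁻¹ * x⁻¹ = ρ * x * ρ⁻¹ * x⁻¹ := by
    have hzx : z * x = x * z := scalar_comm hz x
    calc ρ * z * x * (ρ * z)⁻¹ * x⁻¹ = ρ * (z * x) * z⁻¹ * ρ⁻¹ * x⁻¹ := by group
      _ = ρ * (x * z) * z⁻¹ * ρ⁻¹ * x⁻¹ := by rw [hzx]
      _ = ρ * x * ρ⁻¹ * x⁻¹ := by group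
  rw [h1]
  apply scalar_of_comm S
  exact (comm_central S hρ hxR).1

end grp

end Cfsg.Agent.Helper11.ES
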