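import Mathlib
import Cfsg.Prelude.Def_GeometricClasses
import Cfsg.Agent.Lib.Helper97.ESDefs
import Cfsg.Agent.Lib.Helper11.ESBase

/-!
ES server (helper97, S5877): piece (A3) `nontriv_bound`.
-/

set_option autoImplicit false
set_option linter.unusedSectionVars false
set_option linter.unusedVariables false
set_option linter.style.haveILetI false

namespace Cfsg.Agent.Helper11.ES

open Cfsg Cfsg.Geo Cfsg.Agent.Helper97.ES
open scoped MatrixGroups

section grp

variable {F : Type*} [Field F] [Finite F] {n r : ℕ} {R : Subgroup (GL (Fin n) F)}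

/-- **(A3) g non-trivial on R mod scalars: 2 r w ≤ (r+1) n.** -/
theorem nontriv_bound (S : Setup r R) (g : GL (Fin n) F)
    (hg : g ∈ subgroupNormalizer (HZ R)) (hnt : ¬ Triv R g)
    (hK1 : ∀ y ∈ HZ R, y ∉ scalars (Fin n) F → ∀ c : F, r * eDim y c ≤ n) (c : F) :
    2 * r * eDim g c ≤ (r + 1) * n := by
  unfold Triv at hnt
  push Not at hnt
  obtain ⟨x, hxR, hy⟩ := hnt
  have hxH : x ∈ HZ R := (le_sup_left : R ≤ HZ R) hxR
  have hconj : g⁻¹ * x * g ∈ HZ R := conj_mem_of_mem_normalizer' hg hxH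
  obtain ⟨t, ht⟩ : ∃ t : GL (Fin n) F, t = x⁻¹ * (g⁻¹ * x * g) := ⟨_, rfl⟩
  have htH : t ∈ HZ R := ht ▸ (HZ R).mul_mem ((HZ R).inv_mem hxH) hconj
  have htns : t ∉ scalars (Fin n) F := by
    intro hts
    apply hy
    have h1 : g * t * g⁻¹ ∈ scalars (Fin n) F := scalars_normal.conj_mem t hts g
    have h2 : (g * t * g⁻¹)⁻¹ ∈ scalars (Fin n) F := Subgroup.inv_mem _ h1
    have h3 : x * (g * t * g⁻¹)⁻¹ * x⁻¹ ∈ scalars (Fin n) F := scalars_normal.conj_mem _ h2 x
    have h4 : x * (g * t * g⁻¹)⁻¹ * x⁻¹ = g * x * g⁻¹ * x⁻¹ := by rw [ht]; group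
    rwa [h4] at h3
  have hbound := hK1 t htH htns 1
  obtain ⟨W, hW⟩ : ∃ W : Submodule F (Fin n → F), W = Module.End.eigenspace (L g) c := ⟨_, rfl⟩
  obtain ⟨W', hW'⟩ : ∃ W' : Submodule F (Fin n → F),
      W' = W.map ((Lequiv x⁻¹ : (Fin n → F) ≃ₗ[F] (Fin n → F)) : (Fin n → F) →ₗ[F] (Fin n → F)) :=
    ⟨_, rfl⟩
  have hdim' : Module.finrank F W' = Module.finrank F W := by
    rw [hW']; exact LinearEquiv.finrank_map_eq _ _
  have hU : W ⊓ W' ≤ Module.End.eigenspace (L t) 1 := by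
    intro v hv
    obtain ⟨hvW, hvW'⟩ := hv
    rw [hW'] at hvW'
    obtain ⟨w, hwW, hwv⟩ := hvW'
    rw [hW] at hvW hwW
    have hwW' : L g w = c • w := Module.End.mem_eigenspace_iff.mp hwW
    have hvW' : L g v = c • v := Module.End.mem_eigenspace_iff.mp hvW
    have hwv' : L x⁻¹ w = v := hwv
    have hxv : L x v = w := by rw [← hwv', L_cancel_inv]
    rw [Module.End.mem_eigenspace_iff, one_smul, ht, L_mul, L_mul, L_mul, hvW', map_smul, hxv,
      ← hwW', L_inv_cancel, hwv']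
  have h1 := Submodule.finrank_sup_add_finrank_inf_eq W W'
  have h2 : Module.finrank F ↥(W ⊔ W') ≤ n :=
    (Submodule.finrank_le _).trans_eq (Module.finrank_fin_fun F)
  have h3 : Module.finrank F ↥(W ⊓ W') ≤ eDim t 1 := by
    rw [eDim_eq]; exact Submodule.finrank_mono hU
  have hw : eDim g c = Module.finrank F W := by rw [eDim_eq, hW]
  have h4 : 2 * eDim g c ≤ n + eDim t 1 := by
    rw [hw]; omega
  calc 2 * r * eDim g c = r * (2 * eDim g c) := by ring
    _ ≤ r * (n + eDim t 1) := Nat.mul_le_mul_left _ h4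
    _ = r * n + r * eDim t 1 := by ring
    _ ≤ r * n + n := by omega
    _ = (r + 1) * n := by ring

end grp

end Cfsg.Agent.Helper11.ES
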