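import Cfsg.Agent.Lib.Helper31.GTMain
import Cfsg.Agent.Lib.Helper11.ZJ14

/-!
# The Glauberman–Thompson normal `p`-complement theorem for a strongly closed subgroup:
transport lemmas
-/

set_option autoImplicit false
set_option linter.style.haveILetI false
set_option linter.unusedSectionVars false
set_option linter.unusedVariables false

namespace Cfsg.Agent.Helper11.GTsc

open Cfsg Cfsg.Agent.Helper2 Cfsg.Agent.Helper11.ZJ Cfsg.Agent.Helper31.GT
open scoped Pointwise

universe u

variable {p : ℕ} [hp : Fact p.Prime] (𝒢 : GoodSys.{u} p)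

/-- `W` commutes with homomorphisms injective on `D`, for a uniform class. -/
theorem WS_map {X Y : Type u} [Group X] [Group Y] [Finite X] (f : X →* Y) (D : Subgroup X)
    (hinj : f.ker ⊓ D = ⊥) :
    W (𝒢.Good Y) (D.map f) = (W (𝒢.Good X) D).map f :=
  W_map_of_injOn (𝒢.ax X) f D hinj (Good' := 𝒢.Good Y)
    (fun Y₁ _ hY => 𝒢.push _ Y₁ hY) (fun Y' _ hY' => 𝒢.pull _ D hinj Y' hY')

/-- The induction hypothesis of the Glauberman–Thompson theorem for strongly closed subgroups. -/
def IHypD (n : ℕ) : Prop :=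
  ∀ (X : Type u) [Group X] [Finite X], Nat.card X < n → ∀ (R : Sylow p X) (D : Subgroup X),
    IsStronglyClosed D (R : Subgroup X) →
    HasNormalPComplement p ↥(Subgroup.normalizer (W (𝒢.Good X) D : Set X)) →
      HasNormalPComplement p X

theorem sc_conj {G : Type*} [Group G] {D S : Subgroup G} (hD : IsStronglyClosed D S) (g : G) :
    IsStronglyClosed (D.map (MulAut.conj g).toMonoidHom) (S.map (MulAut.conj g).toMonoidHom) := by
  refine ⟨Subgroup.map_mono hD.1, ?_⟩
  rintro _ ⟨x, hx, rfl⟩ h ⟨s, hs, hse⟩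
  have e1 : s = (g⁻¹ * h * g) * x * (g⁻¹ * h * g)⁻¹ := by
    have : (MulAut.conj g).toMonoidHom s = g * s * g⁻¹ := by simp [MulAut.conj_apply]
    rw [this] at hse
    have h2 : (MulAut.conj g).toMonoidHom x = g * x * g⁻¹ := by simp [MulAut.conj_apply]
    rw [h2] at hse
    have : s = g⁻¹ * (g * s * g⁻¹) * g := by group
    rw [this, hse]; group
  have h1 := hD.2 x hx (g⁻¹ * h * g) (e1 ▸ hs)
  refine ⟨(g⁻¹ * h * g) * x * (g⁻¹ * h * g)⁻¹, h1, ?_⟩
  simp only [MulEquiv.coe_toMonoidHom, MulAut.conj_apply]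
  group

/-- A Sylow `p`-subgroup `R` of `M` contained in the `p`-subgroup `S'` is `S' ⊓ M`. -/
theorem sylow_inf_eq {G : Type*} [Group G] (M : Subgroup G) (R : Sylow p ↥M) (S' : Subgroup G)
    (hS' : IsPGroup p S') (hR : (R : Subgroup ↥M).map M.subtype ≤ S') :
    S' ⊓ M = (R : Subgroup ↥M).map M.subtype := by
  apply le_antisymm
  · have h1 : IsPGroup p ↥(S'.subgroupOf M) := hS'.comap_subtype
    have h2 : (R : Subgroup ↥M) ≤ S'.subgroupOf M := by
      intro x hx
      exact Subgroup.mem_subgroupOf.mpr (hR ⟨x, hx, rfl⟩)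
    have h3 : (R : Subgroup ↥M) = S'.subgroupOf M := (R.is_maximal' h1 h2).symm
    intro x hx
    refine ⟨⟨x, hx.2⟩, ?_, rfl⟩
    rw [h3]
    exact Subgroup.mem_subgroupOf.mpr hx.1
  · exact le_inf hR (Subgroup.map_subtype_le _)

/-- A strongly closed subgroup restricts to subgroups. -/
theorem sc_subgroupOf {G : Type*} [Group G] {D' S' : Subgroup G} (hD' : IsStronglyClosed D' S')
    (hS' : IsPGroup p S') (M : Subgroup G) (R : Sylow p ↥M)
    (hR : (R : Subgroup ↥M).map M.subtype ≤ S') :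
    IsStronglyClosed (D'.subgroupOf M) (R : Subgroup ↥M) := by
  have heq := sylow_inf_eq M R S' hS' hR
  have hmem : ∀ x : ↥M, (x : G) ∈ S' → x ∈ (R : Subgroup ↥M) := by
    intro x hx
    have h1 : (x : G) ∈ S' ⊓ M := ⟨hx, x.2⟩
    rw [heq] at h1
    obtain ⟨y, hy, hyx⟩ := h1
    have : y = x := Subtype.ext hyx
    rw [← this]; exact hy
  refine ⟨?_, ?_⟩
  · intro x hx
    exact hmem x (hD'.1 (Subgroup.mem_subgroupOf.mp hx))
  · intro x hx m hm
    rw [Subgroup.mem_subgroupOf]
    have h1 : ((m * x * m⁻¹ : ↥M) : G) ∈ S' := hR ⟨_, hm, rfl⟩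
    have h2 := hD'.2 (x : G) (Subgroup.mem_subgroupOf.mp hx) (m : G)
    simp only [Subgroup.coe_mul, Subgroup.coe_inv] at h1 ⊢
    exact h2 h1

/-- The induction hypothesis applied to a proper subgroup. -/
theorem ihD_sub {G : Type u} [Group G] [Finite G]
    (ih : IHypD 𝒢 (Nat.card G)) (M : Subgroup G) (hM : M ≠ ⊤) (R : Sylow p ↥M)
    (S' D' : Subgroup G) (hD' : IsStronglyClosed D' S') (hS' : IsPGroup p S')
    (hR : (R : Subgroup ↥M).map M.subtype ≤ S')
    (h : HasNormalPComplement p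
      ↥(M ⊓ Subgroup.normalizer (W (𝒢.Good G) (D' ⊓ M) : Set G))) :
    HasNormalPComplement p ↥M := by
  have hcard : Nat.card ↥M < Nat.card G := by
    have := card_lt_of_lt' (lt_top_iff_ne_top.mpr hM)
    rwa [Subgroup.card_top] at this
  apply ih ↥M hcard R (D'.subgroupOf M) (sc_subgroupOf hD' hS' M R hR)
  set Z := W (𝒢.Good ↥M) (D'.subgroupOf M) with hZ
  have hinj : M.subtype.ker ⊓ (D'.subgroupOf M) = ⊥ := by
    rw [M.ker_subtype, bot_inf_eq]
  have hmap : W (𝒢.Good G) (D' ⊓ M) = Z.map M.subtype := by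
    rw [← Subgroup.subgroupOf_map_subtype]
    exact WS_map 𝒢 M.subtype (D'.subgroupOf M) hinj
  have hle : (Subgroup.normalizer (Z : Set ↥M)).map M.subtype ≤
      M ⊓ Subgroup.normalizer (W (𝒢.Good G) (D' ⊓ M) : Set G) := by
    apply le_inf (Subgroup.map_subtype_le _)
    rw [hmap]
    exact Subgroup.le_normalizer_map M.subtype
  have h1 := pn_mono hle h
  exact hasNormalPComplement_of_mulEquiv
    (Subgroup.equivMapOfInjective _ M.subtype M.subtype_injective).symm h1

/-- Conjugation invariance of the hypothesis. -/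
theorem hypD_conj {G : Type u} [Group G] [Finite G] (D : Subgroup G)
    (h : HasNormalPComplement p ↥(Subgroup.normalizer (W (𝒢.Good G) D : Set G))) (g : G) :
    HasNormalPComplement p
      ↥(Subgroup.normalizer (W (𝒢.Good G) (D.map (MulAut.conj g).toMonoidHom) : Set G)) := by
  have h2 : W (𝒢.Good G) (D.map (MulAut.conj g).toMonoidHom) =
      (W (𝒢.Good G) D).map (MulAut.conj g).toMonoidHom :=
    (W_map (𝒢.ax G) (MulAut.conj g) _).symm
  have h3 := pn_map (MulAut.conj g).toMonoidHom _ h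
  rw [Subgroup.map_equiv_normalizer_eq] at h3
  exact pn_mono (le_of_eq (by rw [h2])) h3

/-- Reduction modulo a normal `p'`-subgroup. -/
theorem hnpcD_of_quot_coprime {G : Type u} [Group G] [Finite G]
    (ih : IHypD 𝒢 (Nat.card G)) (K : Subgroup G) [hKn : K.Normal]
    (hK : (Nat.card K).Coprime p) (hK1 : K ≠ ⊥) (P : Sylow p G) (D : Subgroup G)
    (hD : IsStronglyClosed D (P : Subgroup G))
    (h : HasNormalPComplement p ↥(Subgroup.normalizer (W (𝒢.Good G) D : Set G))) :
    HasNormalPComplement p G := by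
  set mk := QuotientGroup.mk' K with hmk
  have hsurj : Function.Surjective mk := QuotientGroup.mk'_surjective K
  have hker : mk.ker = K := QuotientGroup.ker_mk' K
  apply hnpc_of_ker_coprime mk hsurj (by rw [hker]; exact hK)
  have hcard : Nat.card (G ⧸ K) < Nat.card G := by
    rw [Subgroup.card_eq_card_quotient_mul_card_subgroup K]
    have h1 : 1 < Nat.card K := by
      rcases Nat.lt_or_ge 1 (Nat.card K) with h | h
      · exact h
      · exfalso
        have : Nat.card K = 1 := le_antisymm h Nat.card_pos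
        exact hK1 (Subgroup.card_eq_one.mp this)
    have h2 : 0 < Nat.card (G ⧸ K) := Nat.card_pos
    nlinarith
  set Pb : Sylow p (G ⧸ K) := P.mapSurjective hsurj with hPb
  have hPbc : (Pb : Subgroup (G ⧸ K)) = (P : Subgroup G).map mk := Sylow.coe_mapSurjective hsurj P
  have hDq : IsStronglyClosed (D.map mk) (Pb : Subgroup (G ⧸ K)) := by
    rw [hPbc]
    exact sc_quotient K hK P D hD
  apply ih (G ⧸ K) hcard Pb (D.map mk) hDq
  have hDp : IsPGroup p D := P.isPGroup'.to_le hD.1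
  have hinj : mk.ker ⊓ D = ⊥ := by
    rw [hker]
    exact Cfsg.Agent.Helper54.inf_eq_bot_of_isPGroup_of_coprime _ _ hK hDp
  have hZ : W (𝒢.Good (G ⧸ K)) (D.map mk) = (W (𝒢.Good G) D).map mk := WS_map 𝒢 mk D hinj
  set Z := W (𝒢.Good G) D with hZdef
  have hZp : IsPGroup p Z := hDp.to_le (W_le (𝒢.ax G) _)
  have hle : Subgroup.normalizer (W (𝒢.Good (G ⧸ K)) (D.map mk) : Set (G ⧸ K)) ≤
      (Subgroup.normalizer (Z : Set G)).map mk := by
    rw [hZ]
    intro gb hgb
    obtain ⟨g, rfl⟩ := hsurj gb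
    have hconj : MulAut.conj g • Z ≤ Z ⊔ K := by
      rintro _ ⟨z, hz, rfl⟩
      show g * z * g⁻¹ ∈ Z ⊔ K
      have h1 : mk (g * z * g⁻¹) ∈ Z.map mk := by
        rw [map_mul, map_mul, map_inv]
        exact (Subgroup.mem_normalizer_iff.mp hgb (mk z)).mp (Subgroup.mem_map_of_mem mk hz)
      obtain ⟨z', hz', hzz⟩ := h1
      have h2 : z'⁻¹ * (g * z * g⁻¹) ∈ K := by
        rw [← hker, MonoidHom.mem_ker, map_mul, map_inv, hzz, inv_mul_cancel]
      have h3 : g * z * g⁻¹ = z' * (z'⁻¹ * (g * z * g⁻¹)) := by group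
      rw [h3]
      exact Subgroup.mul_mem _ (Subgroup.mem_sup_left hz') (Subgroup.mem_sup_right h2)
    obtain ⟨m, hm, hmg⟩ := Helper10.exists_mul_mem_normalizer_of_conj_le_sup hZp hK g hconj
    refine ⟨m * g, hmg, ?_⟩
    have : mk m = 1 := by rw [← MonoidHom.mem_ker, hker]; exact hm
    rw [map_mul, this, one_mul]
  exact pn_mono hle (pn_map mk _ h)

end Cfsg.Agent.Helper11.GTsc
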