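import Cfsg.Agent.Lib.Helper11.GTsc1

/-!
# The Glauberman–Thompson normal `p`-complement theorem for a strongly closed subgroup
-/

set_option autoImplicit false
set_option linter.style.haveILetI false
set_option linter.unusedSectionVars false
set_option linter.unusedVariables false

namespace Cfsg.Agent.Helper11.GTsc

open Cfsg Cfsg.Agent.Helper2 Cfsg.Agent.Helper11.ZJ Cfsg.Agent.Helper31.GT
open scoped Pointwise

universe u

variable {p : ℕ} [hp : Fact p.Prime] (𝒢 : GoodSys.{u} p)

/-- The inductive step. -/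
theorem gtD_step {G : Type u} [Group G] [Finite G] (hp2 : p ≠ 2)
    (ih : IHypD 𝒢 (Nat.card G)) (P : Sylow p G) (D : Subgroup G)
    (hD : IsStronglyClosed D (P : Subgroup G))
    (hN : HasNormalPComplement p ↥(Subgroup.normalizer (W (𝒢.Good G) D : Set G))) :
    HasNormalPComplement p G := by
  by_contra hG
  -- `D ≠ 1`
  have hDne : D ≠ ⊥ := by
    intro h
    apply hG
    rw [← pn_top]
    have h1 : W (𝒢.Good G) D = ⊥ := by
      rw [eq_bot_iff]
      exact (W_le (𝒢.ax G) D).trans (le_of_eq h)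
    have h2 : Subgroup.normalizer ((W (𝒢.Good G) D : Subgroup G) : Set G) = ⊤ := by
      rw [h1]
      exact Subgroup.normalizer_eq_top_iff.mpr inferInstance
    exact pn_mono (le_of_eq h2.symm) hN
  have hall : ∀ P' : Sylow p G, ∃ D' : Subgroup G, IsStronglyClosed D' (P' : Subgroup G) ∧
      D' ≠ ⊥ ∧ HasNormalPComplement p ↥(Subgroup.normalizer (W (𝒢.Good G) D' : Set G)) := by
    intro P'
    obtain ⟨g, rfl⟩ := MulAction.exists_smul_eq G P P'
    refine ⟨D.map (MulAut.conj g).toMonoidHom, sc_conj hD g, ?_, hypD_conj 𝒢 D hN g⟩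
    intro h
    exact hDne ((Subgroup.map_eq_bot_iff_of_injective _ (MulAut.conj g).injective).mp h)
  -- `O_{p'}(G) = 1`
  have hO : pPrimeCore p G = ⊥ := by
    by_contra h
    haveI := (Helper54.pPrimeCore_mem (G := G) p).1
    exact hG (hnpcD_of_quot_coprime 𝒢 ih (pPrimeCore p G) (Helper54.pPrimeCore_coprime p) h P D
      hD hN)
  -- the choice of `H`
  set 𝒳 : Set (Subgroup G) := {X | IsPGroup p X ∧ X ≠ ⊥ ∧
    ¬ HasNormalPComplement p ↥(Subgroup.normalizer (X : Set G))} with h𝒳
  obtain ⟨X₀, hX₀⟩ : 𝒳.Nonempty := by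
    obtain ⟨X, h1, h2, h3⟩ := exists_bad_local hG
    exact ⟨X, h1, h2, h3⟩
  set ν : Subgroup G → ℕ :=
    fun X => (Nat.card ↥(Subgroup.normalizer (X : Set G))).factorization p with hν
  set μ : Subgroup G → ℕ := fun X => ν X * (Nat.card G + 1) + Nat.card X with hμ
  obtain ⟨H, hH𝒳, hHmax⟩ := Set.exists_max_image 𝒳 μ (Set.toFinite _) ⟨X₀, hX₀⟩
  obtain ⟨hHp, hH1, hHbad⟩ := hH𝒳
  have hcardle : ∀ X : Subgroup G, Nat.card X ≤ Nat.card G := fun X => Subgroup.card_le_card_group X
  have hν_le : ∀ X ∈ 𝒳, ν X ≤ ν H := by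
    intro X hX
    by_contra hlt
    push Not at hlt
    have h1 : ν X * (Nat.card G + 1) + Nat.card X ≤ ν H * (Nat.card G + 1) + Nat.card H :=
      hHmax X hX
    have h2 : (ν H + 1) * (Nat.card G + 1) ≤ ν X * (Nat.card G + 1) := Nat.mul_le_mul_right _ hlt
    have h3 := hcardle H
    nlinarith
  have hcard_le : ∀ X ∈ 𝒳, ν X = ν H → Nat.card X ≤ Nat.card H := by
    intro X hX heq
    have h1 : ν X * (Nat.card G + 1) + Nat.card X ≤ ν H * (Nat.card G + 1) + Nat.card H :=
      hHmax X hX
    rw [heq] at h1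
    omega
  -- `N_G(H) = G`
  have hNH : Subgroup.normalizer (H : Set G) = ⊤ := by
    by_contra hNH
    set N := Subgroup.normalizer (H : Set G) with hN'
    obtain ⟨Q⟩ : Nonempty (Sylow p ↥N) := inferInstance
    set Q' : Subgroup G := (Q : Subgroup ↥N).map N.subtype with hQ'
    have hQ'p : IsPGroup p Q' := Q.isPGroup'.map _
    have hHQ' : H ≤ Q' := by
      haveI : (H.subgroupOf N).Normal := Subgroup.normal_in_normalizer
      have hp' : IsPGroup p ↥(H.subgroupOf N) := hHp.comap_subtype
      have h1 : H.subgroupOf N ≤ Q := hp'.le_sylow_of_normal Q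
      intro x hx
      exact ⟨⟨x, Subgroup.le_normalizer hx⟩, h1 (Subgroup.mem_subgroupOf.mpr hx), rfl⟩
    have hQ'ne : Q' ≠ ⊥ := fun h => hH1 (eq_bot_iff.mpr (h ▸ hHQ'))
    obtain ⟨P', hP'⟩ := hQ'p.exists_le_sylow
    obtain ⟨D', hD', hD'ne, hD'N⟩ := hall P'
    have hQeq : (P' : Subgroup G) ⊓ N = Q' := sylow_inf_eq N Q P' P'.isPGroup' hP'
    set E := D' ⊓ N with hE
    have hEQ : E = D' ⊓ Q' := by
      rw [← hQeq, ← inf_assoc, inf_eq_left.mpr hD'.1]
    have hEne : E ≠ ⊥ := by
      have h1 := sc_inf_normalizer_ne_bot hD' hD'ne H (hHQ'.trans hP')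
      rw [hQeq] at h1
      rwa [hEQ]
    have hEp : IsPGroup p E := hQ'p.to_le (hEQ ▸ inf_le_right)
    have hbadZ : ¬ HasNormalPComplement p
        ↥(Subgroup.normalizer (W (𝒢.Good G) E : Set G)) := by
      intro h
      apply hHbad
      exact ihD_sub 𝒢 ih N hNH Q P' D' hD' P'.isPGroup' hP' (pn_mono inf_le_right h)
    have hZ𝒳 : W (𝒢.Good G) E ∈ 𝒳 :=
      ⟨hEp.to_le (W_le (𝒢.ax G) _), 𝒢.ne_bot G E hEp hEne, hbadZ⟩
    have h1 := hν_le _ hZ𝒳
    have hcardQ' : Nat.card Q' = p ^ ν H := by
      rw [hQ', Subgroup.card_map_of_injective N.subtype_injective]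
      exact Q.card_eq_multiplicity
    rcases eq_or_lt_of_le hP' with heq | hlt
    · apply hbadZ
      have h2 : E = D' := by rw [hEQ, heq, inf_eq_left.mpr hD'.1]
      rw [h2]
      exact hD'N
    · have h2 := lt_inf_normalizer P'.isPGroup' hlt
      set T := (P' : Subgroup G) ⊓ Subgroup.normalizer (Q' : Set G) with hT
      have hTp : IsPGroup p T := P'.isPGroup'.to_le inf_le_left
      obtain ⟨t, ht⟩ := IsPGroup.iff_card.mp hTp
      have hTle : T ≤ Subgroup.normalizer (W (𝒢.Good G) E : Set G) := by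
        refine le_trans ?_ (normalizer_le_normalizer_W (𝒢.ax G) E)
        rw [hEQ]
        intro y hy
        have hy1 := sc_le_normalizer hD' hy.1
        have hy2 : y ∈ Subgroup.normalizer (Q' : Set G) := hy.2
        rw [Subgroup.mem_normalizer_iff] at hy1 hy2 ⊢
        intro x
        rw [Subgroup.mem_inf, Subgroup.mem_inf, ← hy1 x, ← hy2 x]
      have h3 : p ^ t ∣ Nat.card ↥(Subgroup.normalizer (W (𝒢.Good G) E : Set G)) :=
        ht ▸ Subgroup.card_dvd_of_le hTle
      have h4 : t ≤ ν (W (𝒢.Good G) E) :=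
        (hp.out.pow_dvd_iff_le_factorization Nat.card_pos.ne').mp h3
      have h5 : Nat.card Q' < Nat.card T := card_lt_of_lt' h2
      rw [hcardQ', ht] at h5
      have h6 : ν H < t := (Nat.pow_lt_pow_iff_right hp.out.one_lt).mp h5
      omega
  haveI hHn : H.Normal := Subgroup.normalizer_eq_top_iff.mp hNH
  have hνH : ν H = (Nat.card G).factorization p := by
    simp only [hν]
    rw [hNH, Subgroup.card_top]
  have hgood : ∀ X : Subgroup G, IsPGroup p X → Nat.card H < Nat.card X →
      (∃ P' : Sylow p G, (P' : Subgroup G) ≤ Subgroup.normalizer (X : Set G)) →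
      HasNormalPComplement p ↥(Subgroup.normalizer (X : Set G)) := by
    rintro X hXp hXc ⟨P', hP'⟩
    by_contra hbad
    have hX1 : X ≠ ⊥ := by
      intro h
      rw [h, Subgroup.card_bot] at hXc
      have := Nat.card_pos (α := H)
      omega
    have hX𝒳 : X ∈ 𝒳 := ⟨hXp, hX1, hbad⟩
    have h1 : ν X = ν H := by
      apply le_antisymm (hν_le X hX𝒳)
      rw [hνH]
      have h2 : p ^ (Nat.card G).factorization p ∣
          Nat.card ↥(Subgroup.normalizer (X : Set G)) := by
        rw [← P'.card_eq_multiplicity]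
        exact Subgroup.card_dvd_of_le hP'
      exact (hp.out.pow_dvd_iff_le_factorization Nat.card_pos.ne').mp h2
    have := hcard_le X hX𝒳 h1
    omega
  -- `H = O_p(G)`
  have hHcore : H = pCore p G := by
    have hle : H ≤ pCore p G := le_pCore' hHn hHp
    by_contra hne
    have hlt : H < pCore p G := lt_of_le_of_ne hle hne
    have hnt : Subgroup.normalizer ((pCore p G : Subgroup G) : Set G) = ⊤ :=
      Subgroup.normalizer_eq_top_iff.mpr (pCore_normal' p G)
    have h1 := hgood (pCore p G) isPGroup_pCore' (card_lt_of_lt' hlt)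
      ⟨P, by rw [hnt]; exact le_top⟩
    apply hG
    rw [← pn_top]
    exact pn_mono (le_of_eq hnt.symm) h1
  -- `H < P`
  have hHP : H < (P : Subgroup G) := by
    have hle : H ≤ (P : Subgroup G) := hHcore ▸ pCore_le_sylow' P
    refine lt_of_le_of_ne hle ?_
    intro heq
    apply hG
    rw [← pn_top]
    have hPn : ((P : Subgroup G)).Normal := heq ▸ hHn
    have hDn : (D).Normal := by
      have := sc_inf_normal hD hPn P.isPGroup'
      rwa [inf_eq_right.mpr hD.1] at this
    have h2 : (⊤ : Subgroup G) ≤ Subgroup.normalizer (W (𝒢.Good G) D : Set G) :=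
      (le_of_eq (Subgroup.normalizer_eq_top_iff.mpr hDn).symm).trans
        (normalizer_le_normalizer_W (𝒢.ax G) D)
    exact pn_mono h2 hN
  -- `G / H` has a normal `p`-complement
  have hquot : HasNormalPComplement p (G ⧸ H) := by
    apply hnpc_quot_of_pgroup (glauberman_thompson_all hp2 (Nat.card G)) H hH1 P hHP
    intro L hHL hLP hPL
    exact hgood L (P.isPGroup'.to_le hLP) (card_lt_of_lt' hHL) ⟨P, hPL⟩
  subst hHcore
  obtain ⟨Nb, hNbn, hNbc, k, hNbk⟩ := hnpc_iff.mp hquot
  set mk := QuotientGroup.mk' (pCore p G) with hmk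
  have hsurj : Function.Surjective mk := QuotientGroup.mk'_surjective _
  set K := Nb.comap mk with hK
  haveI hKn : K.Normal := hNbn.comap _
  have hHK : pCore p G ≤ K := by
    intro x hx
    show mk x ∈ Nb
    have : mk x = 1 := (QuotientGroup.eq_one_iff x).mpr hx
    rw [this]
    exact Nb.one_mem
  have hKH : ((pCore p G).relIndex K).Coprime p := by
    have h1 : (pCore p G).relIndex K = Nat.card Nb := by
      have h2 : pCore p G = (⊥ : Subgroup (G ⧸ pCore p G)).comap mk := by
        rw [MonoidHom.comap_bot, QuotientGroup.ker_mk']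
      conv_lhs => rw [h2]
      rw [Subgroup.relIndex_comap, hK, Subgroup.map_comap_eq_self_of_surjective hsurj,
        Subgroup.relIndex_bot_left]
    rw [h1]
    exact hNbc
  have hKi : ∃ k : ℕ, K.index = p ^ k :=
    ⟨k, by rw [hK, Subgroup.index_comap_of_surjective Nb hsurj]; exact hNbk⟩
  -- `C_G(O_p(G)) ≤ O_p(G)`
  have hc : Subgroup.centralizer (pCore p G : Set G) ≤ pCore p G :=
    Helper76.centralizer_pCore_le
      (isPSolvable_of_chain (pCore p G) K hHK isPGroup_pCore' hKH hKi) hO
  -- `P` is a maximal subgroup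
  have hmax : ∀ M : Subgroup G, (P : Subgroup G) ≤ M → M = (P : Subgroup G) ∨ M = ⊤ := by
    intro M hPM
    by_cases hM : M = ⊤
    · exact Or.inr hM
    · left
      have h1 : HasNormalPComplement p ↥M := by
        have h2 : ((P.subtype hPM : Sylow p ↥M) : Subgroup ↥M).map M.subtype =
            (P : Subgroup G) := by
          rw [Sylow.coe_subtype, Subgroup.subgroupOf_map_subtype, inf_eq_left.mpr hPM]
        apply ihD_sub 𝒢 ih M hM (P.subtype hPM) (P : Subgroup G) D hD P.isPGroup' (le_of_eq h2)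
        rw [inf_eq_left.mpr (hD.1.trans hPM)]
        exact pn_mono inf_le_right hN
      obtain ⟨T, hTn, hTc, j, hTj⟩ := hnpc_iff.mp h1
      set T' := T.map M.subtype with hT'
      have hT'c : (Nat.card T').Coprime p := by
        rw [hT', Subgroup.card_map_of_injective M.subtype_injective]
        exact hTc
      have hdisj : T' ⊓ pCore p G = ⊥ := by
        apply (Subgroup.disjoint_of_coprime_natCard _).eq_bot
        obtain ⟨a, ha⟩ := IsPGroup.iff_card.mp hHp
        rw [ha]
        exact Nat.Coprime.pow_right a hT'c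
      have hT'cent : T' ≤ Subgroup.centralizer (pCore p G : Set G) := by
        rintro _ ⟨t, ht, rfl⟩
        rw [Subgroup.mem_centralizer_iff]
        intro h hh
        have hhM : h ∈ M := hPM (le_of_lt hHP hh)
        have h3 : (t : G) * h * (t : G)⁻¹ * h⁻¹ ∈ T' := by
          refine ⟨t * ((⟨h, hhM⟩ : ↥M) * t⁻¹ * (⟨h, hhM⟩ : ↥M)⁻¹),
            T.mul_mem ht (hTn.conj_mem _ (T.inv_mem ht) _), ?_⟩
          simp [mul_assoc]
        have h4 : (t : G) * h * (t : G)⁻¹ * h⁻¹ ∈ pCore p G :=
          (pCore p G).mul_mem (hHn.conj_mem h hh _) ((pCore p G).inv_mem hh)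
        have h5 : (t : G) * h * (t : G)⁻¹ * h⁻¹ ∈ T' ⊓ pCore p G := ⟨h3, h4⟩
        rw [hdisj, Subgroup.mem_bot] at h5
        calc h * M.subtype t = ((t : G) * h * (t : G)⁻¹ * h⁻¹)⁻¹ * ((t : G) * h) := by
              simp [mul_assoc]
          _ = M.subtype t * h := by rw [h5, inv_one, one_mul]; rfl
      have hT'bot : T' = ⊥ := by
        rw [eq_bot_iff, ← hdisj]
        exact le_inf le_rfl (hT'cent.trans hc)
      have hTbot : T = ⊥ := by
        rw [eq_bot_iff]
        intro t ht
        have : (t : G) ∈ T' := ⟨t, ht, rfl⟩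
        rw [hT'bot, Subgroup.mem_bot] at this
        rw [Subgroup.mem_bot]
        exact Subtype.ext this
      have hMp : IsPGroup p ↥M := by
        apply IsPGroup.of_card (n := j)
        rw [← hTj, hTbot, Subgroup.index_bot]
      exact P.is_maximal' hMp hPM
  have cfg := config_of_max P K hHK hKH hKi hmax
  haveI := W_normal_sc (𝒢.ax G) hp2 hc hD (hst_of_config hp2 cfg)
  apply hG
  rw [← pn_top]
  exact pn_mono (le_of_eq (Subgroup.normalizer_eq_top_iff.mpr inferInstance).symm) hN

/-- **Glauberman–Thompson normal `p`-complement theorem** for strongly closed subgroups. -/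
theorem gtD_all (hp2 : p ≠ 2) : ∀ n : ℕ, IHypD 𝒢 n := by
  intro n
  induction n with
  | zero =>
    intro X _ _ h
    exact absurd h (Nat.not_lt_zero _)
  | succ n ih =>
    intro X _ _ hX R D hD hR
    by_cases h : Nat.card X < n
    · exact ih X h R D hD hR
    · have h1 : Nat.card X = n := by omega
      subst h1
      exact gtD_step 𝒢 hp2 ih R D hD hR

theorem gtD {G : Type u} [Group G] [Finite G] (hp2 : p ≠ 2) (P : Sylow p G) (D : Subgroup G)
    (hD : IsStronglyClosed D (P : Subgroup G))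
    (hN : HasNormalPComplement p ↥(Subgroup.normalizer (W (𝒢.Good G) D : Set G))) :
    HasNormalPComplement p G :=
  gtD_all 𝒢 hp2 (Nat.card G + 1) G (Nat.lt_succ_self _) P D hD hN

end Cfsg.Agent.Helper11.GTsc
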