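import Mathlib.GroupTheory.Complement
import Mathlib.GroupTheory.OrderOfElement
import Mathlib.GroupTheory.Coset.Card
import Mathlib.Algebra.BigOperators.Group.Finset.Basic
import Mathlib.Algebra.BigOperators.Group.Finset.Lemmas
import Mathlib.Tactic

set_option autoImplicit false

namespace Cfsg.Agent.Helper11

open scoped Pointwise

/-- Maschke-type averaging: a finite group `A` acts by automorphisms on a finite commutative group `M`
of coprime order; an invariant subgroup with a complement has an invariant complement. -/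
theorem exists_invariant_complement {A M : Type*} [Group A] [Fintype A] [CommGroup M] [Finite M]
    (φ : A →* MulAut M) (hcop : (Fintype.card A).Coprime (Nat.card M))
    (U W : Subgroup M) (hU : ∀ a : A, ∀ u ∈ U, φ a u ∈ U)
    (hdisj : U ⊓ W = ⊥) (hsup : U ⊔ W = ⊤) :
    ∃ W' : Subgroup M, (∀ a : A, ∀ w ∈ W', φ a w ∈ W') ∧ U ⊓ W' = ⊥ ∧ U ⊔ W' = ⊤ := by
  classical
  -- a retraction π : M → U
  have hcompl : U.IsComplement' W := by
    apply Subgroup.isComplement'_of_disjoint_and_mul_eq_univ (disjoint_iff.mpr hdisj)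
    rw [← Subgroup.mul_normal, hsup, Subgroup.coe_top]
  let π : M →* M := U.subtype.comp
    ((hcompl.QuotientMulEquiv).toMonoidHom.comp (QuotientGroup.mk' W))
  have hπU : ∀ m, π m ∈ U := fun m => Subtype.property _
  have hπid : ∀ u ∈ U, π u = u := by
    intro u hu
    show ((hcompl.QuotientMulEquiv) (QuotientGroup.mk' W u) : M) = u
    have : (hcompl.QuotientMulEquiv) (QuotientGroup.mk' W u) = ⟨u, hu⟩ := by
      rw [← MulEquiv.eq_symm_apply]
      rfl
    rw [this]
  -- the averaged map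
  let θ : M →* M := ∏ a : A, ((φ a).toMonoidHom.comp (π.comp (φ a⁻¹).toMonoidHom))
  have hθ_apply : ∀ m, θ m = ∏ a : A, φ a (π (φ a⁻¹ m)) := by
    intro m
    show (∏ a : A, ((φ a).toMonoidHom.comp (π.comp (φ a⁻¹).toMonoidHom))) m = _
    rw [MonoidHom.finsetProd_apply]
    rfl
  have hθU : ∀ m, θ m ∈ U := by
    intro m
    rw [hθ_apply]
    apply Subgroup.prod_mem
    intro a _
    exact hU a _ (hπU _)
  have hθid : ∀ u ∈ U, θ u = u ^ Fintype.card A := by
    intro u hu
    rw [hθ_apply]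
    have : ∀ a : A, φ a (π (φ a⁻¹ u)) = u := by
      intro a
      rw [hπid _ (hU a⁻¹ u hu), map_inv]
      exact MulEquiv.apply_symm_apply (φ a) u
    simp only [this, Finset.prod_const, Finset.card_univ]
  have hθeq : ∀ (b : A) (m : M), θ (φ b m) = φ b (θ m) := by
    intro b m
    rw [hθ_apply, hθ_apply, map_prod]
    apply Fintype.prod_equiv (Equiv.mulLeft b⁻¹)
    intro a
    have h1 : φ a = φ b * φ (b⁻¹ * a) := by rw [← map_mul, mul_inv_cancel_left]
    have h2 : φ a⁻¹ * φ b = φ (b⁻¹ * a)⁻¹ := by rw [← map_mul, mul_inv_rev, inv_inv]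
    show φ a (π (φ a⁻¹ (φ b m))) = φ b (φ (b⁻¹ * a) (π (φ (b⁻¹ * a)⁻¹ m)))
    have h3 : φ a⁻¹ (φ b m) = φ (b⁻¹ * a)⁻¹ m := by
      rw [← h2]; rfl
    rw [h3]
    conv_lhs => rw [h1]
    rfl
  refine ⟨θ.ker, ?_, ?_, ?_⟩
  · intro a w hw
    rw [MonoidHom.mem_ker] at hw ⊢
    rw [hθeq, hw, map_one]
  · rw [eq_bot_iff]
    intro u hu
    obtain ⟨huU, huK⟩ := Subgroup.mem_inf.mp hu
    rw [MonoidHom.mem_ker, hθid u huU] at huK
    rw [Subgroup.mem_bot]
    have h1 : orderOf u ∣ Fintype.card A := orderOf_dvd_of_pow_eq_one huK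
    have h2 : orderOf u ∣ Nat.card M := orderOf_dvd_natCard u
    have := Nat.eq_one_of_dvd_coprimes hcop h1 h2
    exact orderOf_eq_one_iff.mp this
  · rw [eq_top_iff]
    intro m _
    have hcopU : (Nat.card U).Coprime (Fintype.card A) :=
      (Nat.Coprime.coprime_dvd_right (Subgroup.card_subgroup_dvd_card U) hcop).symm
    obtain ⟨u, hu⟩ := (powCoprime hcopU).surjective ⟨θ m, hθU m⟩
    have hu' : (u : M) ^ Fintype.card A = θ m := congrArg Subtype.val hu
    have hker : (u : M)⁻¹ * m ∈ θ.ker := by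
      rw [MonoidHom.mem_ker, map_mul, map_inv, hθid _ u.2, hu', inv_mul_cancel]
    have : m = (u : M) * ((u : M)⁻¹ * m) := by group
    rw [this]
    exact Subgroup.mul_mem_sup u.2 hker

end Cfsg.Agent.Helper11
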