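import Mathlib
import Cfsg.Agent.Lib.Helper32.N9Defs

/-!
N9 server (helper32, S4409): the seven tiny pieces B1, B2, B4, T1, G1, G2, I3.
-/

set_option autoImplicit false
set_option linter.unusedSectionVars false
set_option linter.unusedVariables false
set_option linter.style.haveILetI false

namespace Cfsg.Agent.Helper11.N9

open Cfsg Cfsg.Agent.Helper32.N9

universe u

/-- **B1.** `[X, A]` is normal and `A`-invariant. -/
theorem commSub_normal_ainv {X : Type u} [Group X] (A : Subgroup (MulAut X)) :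
    (commSub A).Normal ∧ AInv A (commSub A) := by
  constructor
  · refine ⟨fun n hn g => ?_⟩
    unfold commSub at hn
    induction hn using Subgroup.closure_induction with
    | mem n hn =>
      obtain ⟨φ, hφ, x, rfl⟩ := hn
      have h : g * (x⁻¹ * φ x) * g⁻¹ =
          ((x * g⁻¹)⁻¹ * φ (x * g⁻¹)) * ((g⁻¹)⁻¹ * φ (g⁻¹))⁻¹ := by
        rw [map_mul, map_inv]; group
      rw [h]
      exact (commSub A).mul_mem (mem_commSub A hφ _) ((commSub A).inv_mem (mem_commSub A hφ _))
    | one => simp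
    | mul a b _ _ iha ihb =>
      have h : g * (a * b) * g⁻¹ = (g * a * g⁻¹) * (g * b * g⁻¹) := by group
      rw [h]; exact (commSub A).mul_mem iha ihb
    | inv a _ iha =>
      have h : g * a⁻¹ * g⁻¹ = (g * a * g⁻¹)⁻¹ := by group
      rw [h]; exact (commSub A).inv_mem iha
  · intro ψ hψ n hn
    unfold commSub at hn
    induction hn using Subgroup.closure_induction with
    | mem n hn =>
      obtain ⟨φ, hφ, x, rfl⟩ := hn
      have h : ψ (x⁻¹ * φ x) = (ψ x)⁻¹ * (ψ * φ * ψ⁻¹) (ψ x) := by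
        rw [map_mul, map_inv, MulAut.mul_apply, MulAut.mul_apply, MulAut.inv_apply_self]
      rw [h]
      exact mem_commSub A (A.mul_mem (A.mul_mem hψ hφ) (A.inv_mem hψ)) _
    | one => rw [map_one]; exact (commSub A).one_mem
    | mul a b _ _ iha ihb => rw [map_mul]; exact (commSub A).mul_mem iha ihb
    | inv a _ iha => rw [map_inv]; exact (commSub A).inv_mem iha

/-- **B2.** Restriction of an automorphism to an invariant subgroup. -/
theorem restrict_aut {X : Type u} [Group X] [Finite X] (T : Subgroup X) (φ : MulAut X)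
    (h : ∀ t ∈ T, φ t ∈ T) :
    ∃ φ' : MulAut ↥T, (∀ t : ↥T, ((φ' t : ↥T) : X) = φ (t : X)) ∧ orderOf φ' ∣ orderOf φ := by
  let f : ↥T →* ↥T :=
    { toFun := fun t => ⟨φ t, h t t.2⟩
      map_one' := by ext; simp
      map_mul' := fun a b => by ext; simp }
  have hinj : Function.Injective f := by
    intro a b hab
    have := congrArg (Subtype.val : ↥T → X) hab
    exact Subtype.ext (φ.injective this)
  have hbij : Function.Bijective f := Finite.injective_iff_bijective.mp hinj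
  let φ' : MulAut ↥T := MulEquiv.ofBijective f hbij
  have hφ' : ∀ t : ↥T, ((φ' t : ↥T) : X) = φ (t : X) := fun t => rfl
  refine ⟨φ', hφ', ?_⟩
  have hpow : ∀ k : ℕ, ∀ t : ↥T, (((φ' ^ k) t : ↥T) : X) = (φ ^ k) (t : X) := by
    intro k
    induction k with
    | zero => intro t; simp
    | succ k ih =>
      intro t
      rw [pow_succ, pow_succ, MulAut.mul_apply, MulAut.mul_apply, ih, hφ']
  apply orderOf_dvd_of_pow_eq_one
  ext t
  rw [hpow, pow_orderOf_eq_one]
  rfl

/-- transfer along an isomorphism -/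
theorem h11_transfer {A B : Type*} [Group A] [Group B] (e : A ≃* B)
    (h : IsMulCommutative A ∧ ¬ IsCyclic A ∧ Nat.card A = 8) :
    IsMulCommutative B ∧ ¬ IsCyclic B ∧ Nat.card B = 8 := by
  obtain ⟨h1, h2, h3⟩ := h
  refine ⟨⟨⟨fun x y => ?_⟩⟩, ?_, ?_⟩
  · have := h1.is_comm.comm (e.symm x) (e.symm y)
    have h4 := congrArg e this
    simpa using h4
  · intro hc
    exact h2 (isCyclic_of_surjective e.symm e.symm.surjective)
  · rw [← h3]; exact Nat.card_congr e.symm.toEquiv

/-- **B4.** `NA8` of a subgroup, seen inside the subgroup. -/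
theorem na8_top_iff {G : Type u} [Group G] (T : Subgroup G) :
    NA8 (⊤ : Subgroup ↥T) ↔ NA8 T := by
  unfold NA8
  apply not_congr
  constructor
  · rintro ⟨B, _, hB⟩
    refine ⟨B.map T.subtype, ?_, ?_⟩
    · rintro _ ⟨b, _, rfl⟩
      exact b.2
    · exact h11_transfer (B.equivMapOfInjective T.subtype T.subtype_injective) hB
  · rintro ⟨B, hBT, hB⟩
    refine ⟨B.subgroupOf T, le_top, ?_⟩
    exact h11_transfer (Subgroup.subgroupOfEquivOfLe hBT).symm hB

/-- **T1.** -/
theorem trivial_of_trivial_on_comm {X : Type u} [Group X] [Finite X] (hX : IsPGroup 2 X)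
    (φ : MulAut X) (hodd : Odd (orderOf φ)) (Y : Subgroup X) (hY : ∀ x : X, x⁻¹ * φ x ∈ Y)
    (htriv : ∀ y ∈ Y, φ y = y) : ∀ x : X, φ x = x := by
  intro x
  obtain ⟨y, hy⟩ : ∃ y, y = x⁻¹ * φ x := ⟨_, rfl⟩
  have hyY : y ∈ Y := hy ▸ hY x
  have hφx : φ x = x * y := by rw [hy]; group
  have hpow : ∀ k : ℕ, (φ ^ k) x = x * y ^ k := by
    intro k
    induction k with
    | zero => simp
    | succ k ih =>
      rw [pow_succ', MulAut.mul_apply, ih, map_mul, map_pow, htriv y hyY, hφx, pow_succ']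
      group
  have h1 := hpow (orderOf φ)
  rw [pow_orderOf_eq_one, MulAut.one_apply] at h1
  have h2 : y ^ orderOf φ = 1 := by
    have : x * y ^ orderOf φ = x * 1 := by rw [mul_one]; exact h1.symm
    exact mul_left_cancel this
  obtain ⟨m, hm⟩ := (IsPGroup.iff_orderOf.mp hX) y
  have h3 : orderOf y ∣ orderOf φ := orderOf_dvd_of_pow_eq_one h2
  have hcop : Nat.Coprime (2 ^ m) (orderOf φ) :=
    Nat.Coprime.pow_left m (Nat.coprime_two_left.mpr hodd)
  have h4 : orderOf y = 1 := by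
    rw [hm] at h3 ⊢
    exact Nat.Coprime.eq_one_of_dvd hcop h3
  rw [orderOf_eq_one_iff] at h4
  rw [hφx, h4, mul_one]

/-- **G1.** -/
theorem index_two_of_sup_zpowers {X : Type u} [Group X] [Finite X] (Y : Subgroup X) (hYn : Y.Normal)
    (c : X) (hc : c ∉ Y) (hc2 : c ^ 2 ∈ Y) (htop : Y ⊔ Subgroup.zpowers c = ⊤) : Y.index = 2 := by
  haveI := hYn
  have h1 : (QuotientGroup.mk' Y c) ≠ 1 := by
    intro h
    rw [QuotientGroup.mk'_apply, QuotientGroup.eq_one_iff] at h
    exact hc h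
  have h2 : (QuotientGroup.mk' Y c) ^ 2 = 1 := by
    rw [← map_pow, QuotientGroup.mk'_apply, QuotientGroup.eq_one_iff]
    exact hc2
  have h3 : Subgroup.zpowers (QuotientGroup.mk' Y c) = ⊤ := by
    have := congrArg (Subgroup.map (QuotientGroup.mk' Y)) htop
    rw [Subgroup.map_sup, QuotientGroup.map_mk'_self, bot_sup_eq, MonoidHom.map_zpowers,
      Subgroup.map_top_of_surjective _ (QuotientGroup.mk'_surjective Y)] at this
    exact this
  have h4 : orderOf (QuotientGroup.mk' Y c) = 2 := orderOf_eq_prime h2 h1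
  rw [Subgroup.index_eq_card, ← Subgroup.card_top (G := X ⧸ Y), ← h3, Nat.card_zpowers, h4]

/-- **G2.** -/
theorem exists_sq_mem_not_mem {X : Type u} [Group X] [Finite X] (hX : IsPGroup 2 X) (Y : Subgroup X)
    (c : X) (hc : c ∉ Y) : ∃ m : ℕ, c ^ 2 ^ m ∉ Y ∧ (c ^ 2 ^ m) ^ 2 ∈ Y := by
  classical
  obtain ⟨k, hk⟩ := (IsPGroup.iff_orderOf.mp hX) c
  have hex : ∃ j : ℕ, c ^ 2 ^ j ∈ Y := ⟨k, by rw [← hk, pow_orderOf_eq_one]; exact Y.one_mem⟩
  have h0 : Nat.find hex ≠ 0 := by
    intro h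
    have := Nat.find_spec hex
    rw [h, pow_zero, pow_one] at this
    exact hc this
  obtain ⟨m, hm⟩ := Nat.exists_eq_succ_of_ne_zero h0
  refine ⟨m, ?_, ?_⟩
  · exact Nat.find_min hex (by omega)
  · have := Nat.find_spec hex
    rw [hm, Nat.succ_eq_add_one, pow_succ, pow_mul] at this
    exact this

/-- **I3.** -/
theorem exists_odd_elt {S : Type u} [Group S] [Finite S] (h : ¬ IsPGroup 2 S) :
    ∃ s : S, s ≠ 1 ∧ Odd (orderOf s) := by
  have hq : ∃ q : ℕ, q.Prime ∧ q ∣ Nat.card S ∧ q ≠ 2 := by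
    by_contra hcon
    push Not at hcon
    apply h
    have h1 : Nat.card S = 2 ^ (Nat.card S).primeFactorsList.length :=
      Nat.eq_prime_pow_of_unique_prime_dvd Nat.card_pos.ne' (fun {d} hd hdd => hcon d hd hdd)
    haveI : Fact (Nat.Prime 2) := ⟨Nat.prime_two⟩
    exact IsPGroup.of_card h1
  obtain ⟨q, hq, hqd, hq2⟩ := hq
  haveI : Fact q.Prime := ⟨hq⟩
  obtain ⟨s, hs⟩ := exists_prime_orderOf_dvd_card' q hqd
  refine ⟨s, ?_, ?_⟩
  · intro h1
    rw [h1, orderOf_one] at hs
    exact hq.one_lt.ne hs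
  · rw [hs]; exact hq.odd_of_ne_two hq2

end Cfsg.Agent.Helper11.N9
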