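import Mathlib
import Cfsg.Agent.S1017
import Cfsg.Agent.Lib.Helper17.Simple
import Cfsg.Agent.Lib.Helper17.Sieve
import Cfsg.Agent.Lib.Helper17.SylowLink
import Cfsg.Agent.Lib.Helper17.Counting
import Cfsg.Agent.Lib.Helper75.FixKill
import Cfsg.Agent.Lib.Helper88.SV5460B

/-!
# O175560 (N58520) for helper24's S4274 server: no simple group of order 58520 = 2^3 * 5 * 7 * 11 * 19.

Elementary (no characters): Sylow links force `n_19 = 1540`, `n_7 = 4180`, `n_5 ∈ {266, 2926}`; then there are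
too many elements of orders 19, 7, 5 (and 55).
-/

set_option autoImplicit false

namespace Cfsg.Agent.Helper11.O175560

open Cfsg MulAction Cfsg.Agent.Helper17 Cfsg.Agent.Helper17.Sieve Cfsg.Agent.Helper88.SV

universe u

theorem h11_58520_cand19 : ∀ d ∈ List.range 3081, d ∣ 3080 → d % 19 = 1 →
    ¬ Bad (19 ^ 1 * 3080) 19 1 3080 d → d = 77 ∨ d = 1540 := by decide +kernel

/-- splitting a divisor of a product into divisors of the factors (keeps the kernel recursion shallow) -/
theorem h11_split_cand (m1 m2 d : ℕ) (P : ℕ → Prop) (hm1 : 0 < m1) (hm2 : 0 < m2)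
    (h : ∀ a ∈ List.range (m1 + 1), ∀ b ∈ List.range (m2 + 1), a ∣ m1 → b ∣ m2 → P (a * b))
    (hd : d ∣ m1 * m2) : P d := by
  obtain ⟨a, b, ha, hb, rfl⟩ := (Nat.dvd_mul).1 hd
  exact h a (List.mem_range.2 (Nat.lt_succ_of_le (Nat.le_of_dvd hm1 ha))) b
    (List.mem_range.2 (Nat.lt_succ_of_le (Nat.le_of_dvd hm2 hb))) ha hb

theorem h11_58520_cand11 : ∀ a ∈ List.range (40 + 1), ∀ b ∈ List.range (133 + 1), a ∣ 40 → b ∣ 133 →
    ((a * b) % 11 = 1 → ¬ Bad (11 ^ 1 * 5320) 11 1 5320 (a * b) → a * b = 56 ∨ a * b = 133) := by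
  decide +kernel

theorem h11_58520_cand7 : ∀ a ∈ List.range (40 + 1), ∀ b ∈ List.range (209 + 1), a ∣ 40 → b ∣ 209 →
    ((a * b) % 7 = 1 → ¬ Bad (7 ^ 1 * 8360) 7 1 8360 (a * b) →
      a * b = 22 ∨ a * b = 190 ∨ a * b = 4180) := by
  decide +kernel

theorem h11_58520_cand5 : ∀ a ∈ List.range (88 + 1), ∀ b ∈ List.range (133 + 1), a ∣ 88 → b ∣ 133 →
    ((a * b) % 5 = 1 → ¬ Bad (5 ^ 1 * 11704) 5 1 11704 (a * b) →
      a * b = 76 ∨ a * b = 266 ∨ a * b = 836 ∨ a * b = 2926) := by
  decide +kernel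

/-- generic structure of `N(P)`, `C(P)` for a Sylow subgroup of prime order in a simple group of order 58520 -/
theorem h11_58520_struct {G : Type u} [Group G] [Finite G] [IsSimpleGroup G]
    (hn0 : Nat.card G = 58520)
    {p : ℕ} [hp : Fact p.Prime] (hp0 : p ≠ 58520)
    (hP : ∀ P : Sylow p G, Nat.card (P : Subgroup G) = p) (P : Sylow p G) :
    ∃ k c : ℕ, k ∣ p - 1 ∧ k ≠ 1 ∧
      Nat.card (Subgroup.centralizer ((P : Subgroup G) : Set G)) = p * c ∧
      Nat.card (Subgroup.normalizer ((P : Subgroup G) : Set G)) = k * (p * c) ∧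
      Nat.card (Sylow p G) * (k * (p * c)) = 58520 := by
  obtain ⟨k, c, hk, hk1, hC, hN⟩ :=
    Cfsg.Agent.S1017.normalizer_structure P (hP P) (by rw [hn0]; exact fun h => hp0 h.symm)
  refine ⟨k, c, hk, hk1, hC, hN, ?_⟩
  have hmul := Cfsg.Agent.S1017.card_sylow_mul_card_normalizer P
  rw [hN, hn0] at hmul
  exact hmul

/-- (N58520) no simple group of order `58520 = 2^3 * 5 * 7 * 11 * 19`. -/
theorem no_58520 {G : Type u} [Group G] [Finite G] [IsSimpleGroup G] : Nat.card G ≠ 58520 := by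
  intro hn0
  have hnp : ¬ (Nat.card G).Prime := by rw [hn0]; norm_num
  have hna : ¬ IsMulCommutative G := not_comm_of_not_prime hnp
  have : Fact (Nat.Prime 5) := ⟨by norm_num⟩
  have : Fact (Nat.Prime 7) := ⟨by norm_num⟩
  have : Fact (Nat.Prime 11) := ⟨by norm_num⟩
  have : Fact (Nat.Prime 19) := ⟨by norm_num⟩
  have h19 : Nat.card G = 19 ^ 1 * 3080 := by rw [hn0]; norm_num
  have h11 : Nat.card G = 11 ^ 1 * 5320 := by rw [hn0]; norm_num
  have h7 : Nat.card G = 7 ^ 1 * 8360 := by rw [hn0]; norm_num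
  have h5 : Nat.card G = 5 ^ 1 * 11704 := by rw [hn0]; norm_num
  -- Sylow orders
  have hP19 : ∀ P : Sylow 19 G, Nat.card (P : Subgroup G) = 19 := fun P => by
    simpa using sylow_card_eq P h19 (by norm_num)
  have hP11 : ∀ P : Sylow 11 G, Nat.card (P : Subgroup G) = 11 := fun P => by
    simpa using sylow_card_eq P h11 (by norm_num)
  have hP7 : ∀ P : Sylow 7 G, Nat.card (P : Subgroup G) = 7 := fun P => by
    simpa using sylow_card_eq P h7 (by norm_num)
  have hP5 : ∀ P : Sylow 5 G, Nat.card (P : Subgroup G) = 5 := fun P => by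
    simpa using sylow_card_eq P h5 (by norm_num)
  -- Sylow numbers
  have hn19 : Nat.card (Sylow 19 G) = 77 ∨ Nat.card (Sylow 19 G) = 1540 := by
    obtain ⟨hd, hmod⟩ := sylow_count (G := G) h19 (by norm_num)
    have hb := Cfsg.Agent.Helper75.FixKill.not_bad hna 19 1 3080 (by norm_num) (by norm_num) h19
      (by norm_num)
    exact h11_58520_cand19 _
      (List.mem_range.mpr (Nat.lt_succ_of_le (Nat.le_of_dvd (by norm_num) hd))) hd hmod hb
  have hn11 : Nat.card (Sylow 11 G) = 56 ∨ Nat.card (Sylow 11 G) = 133 := by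
    obtain ⟨hd, hmod⟩ := sylow_count (G := G) h11 (by norm_num)
    have hb := Cfsg.Agent.Helper75.FixKill.not_bad hna 11 1 5320 (by norm_num) (by norm_num) h11
      (by norm_num)
    exact h11_split_cand 40 133 _ (fun d => d % 11 = 1 → ¬ Bad (11 ^ 1 * 5320) 11 1 5320 d →
      d = 56 ∨ d = 133) (by norm_num) (by norm_num) h11_58520_cand11 hd hmod hb
  have hn7 : Nat.card (Sylow 7 G) = 22 ∨ Nat.card (Sylow 7 G) = 190 ∨
      Nat.card (Sylow 7 G) = 4180 := by
    obtain ⟨hd, hmod⟩ := sylow_count (G := G) h7 (by norm_num)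
    have hb := Cfsg.Agent.Helper75.FixKill.not_bad hna 7 1 8360 (by norm_num) (by norm_num) h7
      (by norm_num)
    exact h11_split_cand 40 209 _ (fun d => d % 7 = 1 → ¬ Bad (7 ^ 1 * 8360) 7 1 8360 d →
      d = 22 ∨ d = 190 ∨ d = 4180) (by norm_num) (by norm_num) h11_58520_cand7 hd hmod hb
  have hn5 : Nat.card (Sylow 5 G) = 76 ∨ Nat.card (Sylow 5 G) = 266 ∨
      Nat.card (Sylow 5 G) = 836 ∨ Nat.card (Sylow 5 G) = 2926 := by
    obtain ⟨hd, hmod⟩ := sylow_count (G := G) h5 (by norm_num)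
    have hb := Cfsg.Agent.Helper75.FixKill.not_bad hna 5 1 11704 (by norm_num) (by norm_num) h5
      (by norm_num)
    exact h11_split_cand 88 133 _ (fun d => d % 5 = 1 → ¬ Bad (5 ^ 1 * 11704) 5 1 11704 d →
      d = 76 ∨ d = 266 ∨ d = 836 ∨ d = 2926) (by norm_num) (by norm_num) h11_58520_cand5 hd hmod hb
  -- links: `q ∣ |C(P)|` gives a Sylow `q`-subgroup `Q` with `p ∣ |C(Q)|`
  have link : ∀ {p q : ℕ} [Fact p.Prime] [Fact q.Prime]
      (_ : ∀ P : Sylow p G, Nat.card (P : Subgroup G) = p)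
      (_ : ∀ Q : Sylow q G, Nat.card (Q : Subgroup G) = q) (P : Sylow p G),
      q ∣ Nat.card (Subgroup.centralizer ((P : Subgroup G) : Set G)) →
      ∃ Q : Sylow q G, p ∣ Nat.card (Subgroup.centralizer ((Q : Subgroup G) : Set G)) :=
    fun hP hQ P h => sylow_link hP hQ P h
  -- (1) n_19 = 1540
  have hn19' : Nat.card (Sylow 19 G) = 1540 := by
    rcases hn19 with h | h
    · exfalso
      obtain ⟨P⟩ : Nonempty (Sylow 19 G) := inferInstance
      obtain ⟨k, c, hk, hk1, hC, hN, hmul⟩ := h11_58520_struct hn0 (by norm_num) hP19 P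
      rw [h] at hmul
      have hkle : k ≤ 18 := Nat.le_of_dvd (by norm_num) hk
      have hC380 : Nat.card (Subgroup.centralizer ((P : Subgroup G) : Set G)) = 380 := by
        rw [hC]; interval_cases k <;> omega
      obtain ⟨Q, hQ⟩ := link hP19 hP5 P (by rw [hC380]; norm_num)
      obtain ⟨k', c', hk', hk1', hC', hN', hmul'⟩ := h11_58520_struct hn0 (by norm_num) hP5 Q
      have hkle' : k' ≤ 4 := Nat.le_of_dvd (by norm_num) hk'
      rw [hC'] at hQ
      obtain ⟨j, hj⟩ := hQ
      rcases hn5 with h5' | h5' | h5' | h5' <;> rw [h5'] at hmul' <;>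
        interval_cases k' <;> omega
    · exact h
  have hC19 : ∀ P : Sylow 19 G,
      Nat.card (Subgroup.centralizer ((P : Subgroup G) : Set G)) = 19 := by
    intro P
    obtain ⟨k, c, hk, hk1, hC, hN, hmul⟩ := h11_58520_struct hn0 (by norm_num) hP19 P
    rw [hn19'] at hmul
    have hkle : k ≤ 18 := Nat.le_of_dvd (by norm_num) hk
    rw [hC]; interval_cases k <;> omega
  -- possible centralizer orders for p = 11
  have hC11 : ∀ P : Sylow 11 G,
      ¬ (7 ∣ Nat.card (Subgroup.centralizer ((P : Subgroup G) : Set G))) := by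
    intro P h7d
    obtain ⟨k, c, hk, hk1, hC, hN, hmul⟩ := h11_58520_struct hn0 (by norm_num) hP11 P
    have hkle : k ≤ 10 := Nat.le_of_dvd (by norm_num) hk
    rw [hC] at h7d
    obtain ⟨j, hj⟩ := h7d
    rcases hn11 with h | h <;> rw [h] at hmul <;> interval_cases k <;> omega
  -- (2) n_7 = 4180
  have hn7' : Nat.card (Sylow 7 G) = 4180 := by
    rcases hn7 with h | h | h
    · exfalso
      obtain ⟨P⟩ : Nonempty (Sylow 7 G) := inferInstance
      obtain ⟨k, c, hk, hk1, hC, hN, hmul⟩ := h11_58520_struct hn0 (by norm_num) hP7 P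
      rw [h] at hmul
      have hkle : k ≤ 6 := Nat.le_of_dvd (by norm_num) hk
      have hC1330 : Nat.card (Subgroup.centralizer ((P : Subgroup G) : Set G)) = 1330 := by
        rw [hC]; interval_cases k <;> omega
      obtain ⟨Q, hQ⟩ := link hP7 hP19 P (by rw [hC1330]; norm_num)
      rw [hC19 Q] at hQ
      revert hQ; norm_num
    · exfalso
      obtain ⟨P⟩ : Nonempty (Sylow 7 G) := inferInstance
      obtain ⟨k, c, hk, hk1, hC, hN, hmul⟩ := h11_58520_struct hn0 (by norm_num) hP7 P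
      rw [h] at hmul
      have hkle : k ≤ 6 := Nat.le_of_dvd (by norm_num) hk
      have hC154 : Nat.card (Subgroup.centralizer ((P : Subgroup G) : Set G)) = 154 := by
        rw [hC]; interval_cases k <;> omega
      obtain ⟨Q, hQ⟩ := link hP7 hP11 P (by rw [hC154]; norm_num)
      exact hC11 Q hQ
    · exact h
  have hC7 : ∀ P : Sylow 7 G,
      Nat.card (Subgroup.centralizer ((P : Subgroup G) : Set G)) = 7 := by
    intro P
    obtain ⟨k, c, hk, hk1, hC, hN, hmul⟩ := h11_58520_struct hn0 (by norm_num) hP7 P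
    rw [hn7'] at hmul
    have hkle : k ≤ 6 := Nat.le_of_dvd (by norm_num) hk
    rw [hC]; interval_cases k <;> omega
  -- (3) n_5 ∈ {266, 2926}
  have hn5' : Nat.card (Sylow 5 G) = 266 ∨ Nat.card (Sylow 5 G) = 2926 := by
    rcases hn5 with h | h | h | h
    · exfalso
      obtain ⟨P⟩ : Nonempty (Sylow 5 G) := inferInstance
      obtain ⟨k, c, hk, hk1, hC, hN, hmul⟩ := h11_58520_struct hn0 (by norm_num) hP5 P
      rw [h] at hmul
      have hkle : k ≤ 4 := Nat.le_of_dvd (by norm_num) hk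
      have hC385 : Nat.card (Subgroup.centralizer ((P : Subgroup G) : Set G)) = 385 := by
        rw [hC]; interval_cases k <;> omega
      obtain ⟨Q, hQ⟩ := link hP5 hP7 P (by rw [hC385]; norm_num)
      rw [hC7 Q] at hQ
      revert hQ; norm_num
    · exact Or.inl h
    · exfalso
      obtain ⟨P⟩ : Nonempty (Sylow 5 G) := inferInstance
      obtain ⟨k, c, hk, hk1, hC, hN, hmul⟩ := h11_58520_struct hn0 (by norm_num) hP5 P
      rw [h] at hmul
      have hkle : k ≤ 4 := Nat.le_of_dvd (by norm_num) hk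
      have hC35 : Nat.card (Subgroup.centralizer ((P : Subgroup G) : Set G)) = 35 := by
        rw [hC]; interval_cases k <;> omega
      obtain ⟨Q, hQ⟩ := link hP5 hP7 P (by rw [hC35]; norm_num)
      rw [hC7 Q] at hQ
      revert hQ; norm_num
    · exact Or.inr h
  -- (4) counting
  have c19 := h88_card_orderOf_ge (G := G) hP19
  have c7 := h88_card_orderOf_ge (G := G) hP7
  have c5 := h88_card_orderOf_ge (G := G) hP5
  rw [hn19'] at c19
  rw [hn7'] at c7
  rcases hn5' with h5' | h5'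
  · -- n_5 = 266: 11 ∣ |C(P5)|, many elements of order 55
    have hC5 : ∀ P : Sylow 5 G,
        11 ∣ Nat.card (Subgroup.centralizer ((P : Subgroup G) : Set G)) := by
      intro P
      obtain ⟨k, c, hk, hk1, hC, hN, hmul⟩ := h11_58520_struct hn0 (by norm_num) hP5 P
      rw [h5'] at hmul
      have hkle : k ≤ 4 := Nat.le_of_dvd (by norm_num) hk
      rw [hC]
      interval_cases k
      · omega
      · omega
      · exact ⟨5 * 2, by omega⟩
      · omega
      · exact ⟨5, by omega⟩
    have c55 := h88_card_orderOf_mul_ge (G := G) (p := 5) (r := 11) (by norm_num) (by norm_num)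
      hP5 hC5
    rw [h5'] at c55 c5
    have hsum := sum_card_orderOf_le (G := G) ({5, 7, 19, 55} : Finset ℕ)
    rw [Finset.sum_insert (by decide), Finset.sum_insert (by decide),
      Finset.sum_insert (by decide), Finset.sum_singleton, hn0] at hsum
    norm_num at c55 c19 c7 c5
    omega
  · -- n_5 = 2926: too many elements of orders 19, 7, 5
    rw [h5'] at c5
    have hsum := sum_card_orderOf_le (G := G) ({5, 7, 19} : Finset ℕ)
    rw [Finset.sum_insert (by decide), Finset.sum_insert (by decide),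
      Finset.sum_singleton, hn0] at hsum
    norm_num at c19 c7 c5
    omega

end Cfsg.Agent.Helper11.O175560
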