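import Mathlib
import Cfsg.Agent.Lib.Helper17.Sieve
import Cfsg.Agent.Lib.Helper17.SylowInter
import Cfsg.Agent.Lib.Helper17.SylowInter2
import Cfsg.Agent.Lib.Helper75.FixKill

/-!
# No nonabelian simple group of order 5880 = 2^3 * 3 * 5 * 7^2 (exercise order for S0983)

`n_7 = 15`; any two distinct Sylow 7-subgroups meet in a subgroup `D` of order 7, exactly 8 Sylow
7-subgroups contain a given such `D`, and any two of them meet in `D`: the 210 ordered pairs of
distinct Sylow 7-subgroups would be partitioned into fibres of size 56.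
-/

set_option autoImplicit false
set_option linter.unusedVariables false
set_option linter.unusedSectionVars false
set_option linter.style.haveILetI false
set_option linter.deprecated false

namespace Cfsg.Agent.Helper11.SV

open Cfsg.Agent.Helper17 Cfsg.Agent.Helper17.Sieve MulAction
open scoped Pointwise

section
variable {G : Type*} [Group G] [Finite G]

/-- two distinct Sylow 7-subgroups of order 49, when there are 15 of them, meet in order 7 -/
theorem card_inf_eq_seven [Fact (Nat.Prime 7)] (hn : Nat.card (Sylow 7 G) = 15) (P R : Sylow 7 G)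
    (hP : Nat.card (P : Subgroup G) = 49) (hPR : P ≠ R) :
    Nat.card ↥((P : Subgroup G) ⊓ (R : Subgroup G)) = 7 := by
  have h1 := card_inf_mul_relIndex (R : Subgroup G) (P : Subgroup G)
  rw [hP] at h1
  have h2 : (R : Subgroup G).relIndex (P : Subgroup G) ≤ 15 := by
    have h3 := MulAction.index_stabilizer (↥(P : Subgroup G)) R
    rw [sylow_stabilizer_eq] at h3
    have h4 : (R : Subgroup G).relIndex (P : Subgroup G) = (orbit (↥(P : Subgroup G)) R).ncard := h3
    rw [h4, ← hn]
    exact Set.ncard_le_card _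
  have h4 : (R : Subgroup G).relIndex (P : Subgroup G) ≠ 1 := by
    intro h
    rw [Subgroup.relIndex_eq_one] at h
    exact hPR (Sylow.ext (P.is_maximal' R.2 h).symm)
  rw [inf_comm]
  generalize (R : Subgroup G).relIndex (P : Subgroup G) = b at h1 h2 h4
  generalize Nat.card ↥((R : Subgroup G) ⊓ (P : Subgroup G)) = a at h1 ⊢
  interval_cases b <;> omega

/-- exactly 8 Sylow 7-subgroups contain the intersection of two distinct ones -/
theorem card_over [Fact (Nat.Prime 7)] [IsSimpleGroup G] (hn : Nat.card (Sylow 7 G) = 15)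
    (h49 : ∀ P : Sylow 7 G, Nat.card (P : Subgroup G) = 49) (P R : Sylow 7 G) (hPR : P ≠ R) :
    Nat.card {Q : Sylow 7 G // (P : Subgroup G) ⊓ (R : Subgroup G) ≤ (Q : Subgroup G)} = 8 := by
  classical
  set D : Subgroup G := (P : Subgroup G) ⊓ (R : Subgroup G) with hD
  have hD7 : Nat.card ↥D = 7 := card_inf_eq_seven hn P R (h49 P) hPR
  have hcomm : ∀ a b : ↥(P : Subgroup G), a * b = b * a :=
    IsPGroup.commutative_of_card_eq_prime_sq (p := 7) (by rw [h49 P]; norm_num)
  -- the invariant set of Sylow subgroups over `D`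
  let T : SubMulAction ↥(P : Subgroup G) (Sylow 7 G) :=
    { carrier := {Q | D ≤ (Q : Subgroup G)}
      smul_mem' := by
        intro x Q hQ d hd
        change d ∈ MulAut.conj (x : G) • (Q : Subgroup G)
        rw [Subgroup.mem_pointwise_smul_iff_inv_smul_mem]
        have hc := hcomm x ⟨d, hd.1⟩
        have hc' : (x : G) * d = d * (x : G) := congrArg Subtype.val hc
        have : (MulAut.conj (x : G))⁻¹ • d = d := by
          rw [MulAut.smul_def, MulAut.conj_inv_apply]
          rw [mul_assoc, ← hc', ← mul_assoc, inv_mul_cancel, one_mul]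
        rw [this]
        exact hQ hd }
  have hTmem : ∀ Q : Sylow 7 G, Q ∈ T ↔ D ≤ (Q : Subgroup G) := fun Q => Iff.rfl
  have hmod := IsPGroup.card_modEq_card_fixedPoints (P.2 : IsPGroup 7 ↥(P : Subgroup G)) (↥T)
  have hfix : Nat.card ↥(fixedPoints ↥(P : Subgroup G) ↥T) = 1 := by
    rw [Nat.card_eq_one_iff_unique]
    constructor
    · constructor
      rintro ⟨⟨Q, hQ⟩, hQf⟩ ⟨⟨Q', hQ'⟩, hQf'⟩
      have key : ∀ (Q : Sylow 7 G) (hQ : Q ∈ T),
          (⟨Q, hQ⟩ : ↥T) ∈ fixedPoints ↥(P : Subgroup G) ↥T → Q = P := by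
        intro Q hQ hf
        have hle : (P : Subgroup G) ≤ Subgroup.normalizer ((Q : Subgroup G) : Set G) := by
          intro x hx
          have h1 := hf ⟨x, hx⟩
          have h2 : (⟨x, hx⟩ : ↥(P : Subgroup G)) • Q = Q := congrArg Subtype.val h1
          rw [Subgroup.smul_def] at h2
          exact Sylow.smul_eq_iff_mem_normalizer.1 h2
        have h3 := IsPGroup.inf_normalizer_sylow P.2 Q
        have h4 : (P : Subgroup G) ≤ (Q : Subgroup G) := fun x hx => (h3.le ⟨hx, hle hx⟩).2
        exact (Sylow.ext (P.is_maximal' Q.2 h4).symm).symm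
      have e1 := key Q hQ hQf
      have e2 := key Q' hQ' hQf'
      subst e1
      subst e2
      rfl
    · refine ⟨⟨⟨P, (hTmem P).2 inf_le_left⟩, ?_⟩⟩
      intro x
      apply Subtype.ext
      show x • P = P
      rw [Subgroup.smul_def]
      exact Sylow.smul_eq_iff_mem_normalizer.2 (Subgroup.le_normalizer x.2)
  rw [hfix] at hmod
  have hge : 1 < Nat.card ↥T := by
    rw [Finite.one_lt_card_iff_nontrivial]
    refine ⟨⟨⟨P, (hTmem P).2 inf_le_left⟩, ⟨R, (hTmem R).2 inf_le_right⟩, ?_⟩⟩
    intro h
    exact hPR (congrArg Subtype.val h)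
  have hlt : Nat.card ↥T < 15 := by
    rw [← hn]
    -- some Sylow subgroup does not contain `D`
    have hex : ∃ Q : Sylow 7 G, ¬ D ≤ (Q : Subgroup G) := by
      by_contra hcon
      push Not at hcon
      have hcore : D ≤ (P : Subgroup G).normalCore := by
        intro d hd
        show ∀ b : G, b * d * b⁻¹ ∈ (P : Subgroup G)
        intro b
        have h1 : d ∈ MulAut.conj b⁻¹ • (P : Subgroup G) := hcon (b⁻¹ • P) hd
        rw [Subgroup.mem_pointwise_smul_iff_inv_smul_mem, MulAut.smul_def,
          MulAut.conj_inv_apply, inv_inv] at h1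
        exact h1
      haveI := Subgroup.normalCore_normal (P : Subgroup G)
      rcases Subgroup.Normal.eq_bot_or_eq_top (Subgroup.normalCore_normal (P : Subgroup G))
        with h | h
      · rw [h, le_bot_iff] at hcore
        rw [hcore] at hD7
        simp at hD7
      · have hPtop : (P : Subgroup G) = ⊤ := top_le_iff.1 (h ▸ Subgroup.normalCore_le _)
        have hR : (R : Subgroup G) ≤ (P : Subgroup G) := hPtop ▸ le_top
        exact hPR (Sylow.ext (R.is_maximal' P.2 hR))
    obtain ⟨Q, hQ⟩ := hex
    exact Finite.card_subtype_lt (p := fun Q : Sylow 7 G => Q ∈ T) (x := Q) hQ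
  have h8 : Nat.card ↥T = 8 := by
    have := hmod
    unfold Nat.ModEq at this
    omega
  exact h8

end

/-- no nonabelian simple group has order 5880 -/
theorem no_5880.{u} : NoSimple.{u} 5880 := by
  intro G _ _ _ hna hcard
  classical
  haveI : Fact (Nat.Prime 7) := ⟨by norm_num⟩
  haveI : Fintype (Sylow 7 G) := Fintype.ofFinite _
  have hn' : Nat.card G = 7 ^ 2 * 120 := by rw [hcard]; norm_num
  have hpm : ¬ 7 ∣ 120 := by norm_num
  have hn : Nat.card (Sylow 7 G) = 15 := by
    obtain ⟨hd, hmod⟩ := sylow_count (G := G) hn' hpm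
    have hnb := Cfsg.Agent.Helper75.FixKill.not_bad hna 7 2 120 (by norm_num) (by norm_num) hn' hpm
    have hle : Nat.card (Sylow 7 G) ≤ 120 := Nat.le_of_dvd (by norm_num) hd
    generalize Nat.card (Sylow 7 G) = d at hd hmod hnb hle
    interval_cases d <;> first | omega | (exfalso; exact hnb (by decide))
  have h49 : ∀ P : Sylow 7 G, Nat.card (P : Subgroup G) = 49 := fun P => by
    have := sylow_card_eq P hn' hpm
    rw [this]; norm_num
  let s : Finset (Sylow 7 G × Sylow 7 G) := (Finset.univ : Finset (Sylow 7 G)).offDiag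
  have hs : s.card = 210 := by
    show (Finset.univ : Finset (Sylow 7 G)).offDiag.card = 210
    rw [Finset.offDiag_card, Finset.card_univ, ← Nat.card_eq_fintype_card, hn]
  let f : Sylow 7 G × Sylow 7 G → Subgroup G := fun x => (x.1 : Subgroup G) ⊓ (x.2 : Subgroup G)
  have hfib : ∀ b ∈ s.image f, (s.filter (fun a => f a = b)).card = 56 := by
    intro b hb
    obtain ⟨⟨P, R⟩, hPRs, rfl⟩ := Finset.mem_image.1 hb
    have hPR : P ≠ R := (Finset.mem_offDiag.1 hPRs).2.2
    have h8 := card_over hn h49 P R hPR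
    have h7 := card_inf_eq_seven hn P R (h49 P) hPR
    have heq : s.filter (fun a => f a = f (P, R)) =
        ((Finset.univ : Finset (Sylow 7 G)).filter
          (fun Q : Sylow 7 G => (P : Subgroup G) ⊓ (R : Subgroup G) ≤ (Q : Subgroup G))).offDiag := by
      ext ⟨A, B⟩
      simp only [Finset.mem_filter, Finset.mem_offDiag, Finset.mem_univ, true_and, s, f]
      constructor
      · rintro ⟨hAB, h⟩
        exact ⟨h ▸ inf_le_left, h ▸ inf_le_right, hAB⟩
      · rintro ⟨hA, hB, hAB⟩
        refine ⟨hAB, ?_⟩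
        have hle : (P : Subgroup G) ⊓ (R : Subgroup G) ≤ (A : Subgroup G) ⊓ (B : Subgroup G) :=
          le_inf hA hB
        have h7' := card_inf_eq_seven hn A B (h49 A) hAB
        exact (Subgroup.eq_of_le_of_card_ge hle (by rw [h7, h7'])).symm
    rw [heq, Finset.offDiag_card]
    have hc : ((Finset.univ : Finset (Sylow 7 G)).filter
        (fun Q : Sylow 7 G => (P : Subgroup G) ⊓ (R : Subgroup G) ≤ (Q : Subgroup G))).card = 8 := by
      rw [← Fintype.card_subtype, ← Nat.card_eq_fintype_card]
      exact h8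
    rw [hc]
  have hsum := Finset.card_eq_sum_card_image f s
  rw [Finset.sum_congr rfl hfib, Finset.sum_const, smul_eq_mul, hs] at hsum
  omega

end Cfsg.Agent.Helper11.SV
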