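import Mathlib
import Cfsg.Agent.Lib.Helper17.Simple
import Cfsg.Agent.Lib.Helper11.SV5880

/-!
# O6232 (N5880) for helper17's S0983 server: no simple group of order 5880.
The proof is `Cfsg.Agent.Helper11.SV.no_5880` (Lib/Helper11/SV5880.lean): `n_7 = 15`, any two Sylow
7-subgroups meet in order 7, exactly 8 of them contain a given such intersection, and the 210 ordered
pairs of distinct Sylow 7-subgroups would split into fibres of size 56.
-/

set_option autoImplicit false

namespace Cfsg.Agent.Helper11.O6232

open Cfsg MulAction

universe u

/-- (N5880) no simple group of order `5880 = 2^3 * 3 * 5 * 7^2`. -/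
theorem no_5880 {G : Type u} [Group G] [Finite G] [IsSimpleGroup G] : Nat.card G ≠ 5880 := by
  intro h
  have hnp : ¬ (Nat.card G).Prime := by rw [h]; norm_num
  exact Cfsg.Agent.Helper11.SV.no_5880 G (Cfsg.Agent.Helper17.not_comm_of_not_prime hnp) h

end Cfsg.Agent.Helper11.O6232
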