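import Mathlib.GroupTheory.PGroup
import Mathlib.GroupTheory.Sylow
import Mathlib.GroupTheory.GroupAction.ConjAct

set_option autoImplicit false

namespace Cfsg.Agent.Helper11

/-- A subgroup of the centre is normal. -/
theorem normal_of_le_center {G : Type*} [Group G] {Z : Subgroup G} (h : Z ≤ Subgroup.center G) :
    Z.Normal := by
  refine ⟨fun n hn g => ?_⟩
  have h1 := h hn
  rw [Subgroup.mem_center_iff] at h1
  rw [h1 g, mul_inv_cancel_right]
  exact hn

/-- A nontrivial normal subgroup of a finite `p`-group meets the centre nontrivially. -/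
theorem exists_mem_center_ne_one_of_normal {G : Type*} [Group G] [Finite G] {p : ℕ}
    [Fact p.Prime] (hG : IsPGroup p G) (N : Subgroup G) [N.Normal] (hN : N ≠ ⊥) :
    ∃ z ∈ N, z ∈ Subgroup.center G ∧ z ≠ 1 := by
  have hG' : IsPGroup p (ConjAct G) := hG.of_equiv ConjAct.toConjAct
  have hNp : IsPGroup p N := hG.to_subgroup N
  have hnt : Nontrivial N := (Subgroup.nontrivial_iff_ne_bot N).mpr hN
  have dvd : p ∣ Nat.card N := by
    obtain ⟨n, hn0, hn⟩ := hNp.nontrivial_iff_card.mp hnt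
    exact hn.symm ▸ dvd_pow_self _ (ne_of_gt hn0)
  have h1 : (1 : N) ∈ MulAction.fixedPoints (ConjAct G) N := by
    intro g
    exact smul_one g
  obtain ⟨b, hb, hb1⟩ := hG'.exists_fixed_point_of_prime_dvd_card_of_fixed_point N dvd h1
  refine ⟨b.1, b.2, ?_, ?_⟩
  · rw [Subgroup.mem_center_iff]
    intro g
    have := hb (ConjAct.toConjAct g)
    have h2 := congrArg Subtype.val this
    rw [ConjAct.Subgroup.val_conj_smul, ConjAct.toConjAct_smul] at h2
    exact mul_inv_eq_iff_eq_mul.mp h2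
  · intro h
    apply hb1
    ext
    exact h.symm

/-- A nontrivial normal subgroup of a finite `p`-group contains a central element of order `p`. -/
theorem exists_mem_center_orderOf_eq_of_normal {G : Type*} [Group G] [Finite G] {p : ℕ}
    [Fact p.Prime] (hG : IsPGroup p G) (N : Subgroup G) [N.Normal] (hN : N ≠ ⊥) :
    ∃ z ∈ N, z ∈ Subgroup.center G ∧ orderOf z = p := by
  obtain ⟨z, hzN, hzc, hz1⟩ := exists_mem_center_ne_one_of_normal hG N hN
  obtain ⟨k, hk⟩ := hG z
  -- order of z is p ^ j with j ≥ 1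
  obtain ⟨j, hjk, hj⟩ := (Nat.dvd_prime_pow (Fact.out : p.Prime)).mp (orderOf_dvd_of_pow_eq_one hk)
  have hj0 : j ≠ 0 := by
    rintro rfl
    rw [pow_zero, orderOf_eq_one_iff] at hj
    exact hz1 hj
  obtain ⟨i, rfl⟩ := Nat.exists_eq_succ_of_ne_zero hj0
  refine ⟨z ^ (p ^ i), N.pow_mem hzN _, (Subgroup.center G).pow_mem hzc _, ?_⟩
  have hp : p.Prime := Fact.out
  rw [orderOf_pow' z (pow_ne_zero i hp.ne_zero), hj, Nat.gcd_eq_right (pow_dvd_pow p (Nat.le_succ i)),
    pow_succ, Nat.mul_div_cancel_left _ (pow_pos hp.pos i)]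

end Cfsg.Agent.Helper11
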