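import Mathlib

set_option autoImplicit false

namespace Cfsg.Agent.Helper11

/-- A finite `p`-group acting linearly on a nonzero invariant subspace in characteristic `p` fixes a
nonzero vector of it. -/
theorem exists_fixed_ne_zero {K V P : Type*} [Field K] {p : ℕ} [Fact p.Prime] [CharP K p]
    [AddCommGroup V] [Module K V] [Group P] [Finite P] (hP : IsPGroup p P)
    (ρ : Representation K P V) (W : Submodule K V) (hW : ∀ g, ∀ w ∈ W, ρ g w ∈ W) (hne : W ≠ ⊥) :
    ∃ v ∈ W, v ≠ 0 ∧ ∀ g, ρ g v = v := by
  classical
  obtain ⟨w, hwW, hw0⟩ := Submodule.exists_mem_ne_zero_of_ne_bot hne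
  let s : Set V := Set.range fun g : P => ρ g w
  let M : AddSubgroup V := AddSubgroup.closure s
  have hpV : ∀ v : V, p • v = 0 := by
    intro v
    rw [← Nat.cast_smul_eq_nsmul K, CharP.cast_eq_zero, zero_smul]
  have hsfin : Finite s := Set.finite_range _
  have hfg : AddGroup.FG M := AddGroup.closure_finite_fg s
  have htors : AddMonoid.IsTorsion M := by
    intro m
    rw [isOfFinAddOrder_iff_nsmul_eq_zero]
    refine ⟨p, (Fact.out : p.Prime).pos, ?_⟩
    ext
    simp [hpV]
  have hMfin : Finite M := AddCommGroup.finite_of_fg_isAddTorsion M htors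
  have hMstab : ∀ g : P, ∀ m ∈ M, ρ g m ∈ M := by
    intro g m hm
    induction hm using AddSubgroup.closure_induction with
    | mem x hx =>
      obtain ⟨h, rfl⟩ := hx
      apply AddSubgroup.subset_closure
      exact ⟨g * h, by simp [map_mul]⟩
    | zero => rw [map_zero]; exact M.zero_mem
    | add x y _ _ hx hy => rw [map_add]; exact M.add_mem hx hy
    | neg x _ hx => rw [map_neg]; exact M.neg_mem hx
  letI : MulAction P M :=
    { smul := fun g m => ⟨ρ g m.1, hMstab g m.1 m.2⟩
      one_smul := by
        intro m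
        apply Subtype.ext
        show ρ 1 m.1 = m.1
        rw [map_one]; rfl
      mul_smul := by
        intro g h m
        apply Subtype.ext
        show ρ (g * h) m.1 = ρ g (ρ h m.1)
        rw [map_mul]; rfl }
  have hsmul : ∀ (g : P) (m : M), ((g • m : M) : V) = ρ g m.1 := fun g m => rfl
  have hwM : w ∈ M := AddSubgroup.subset_closure ⟨1, by simp⟩
  have hdvd : p ∣ Nat.card M := by
    have h1 : addOrderOf (⟨w, hwM⟩ : M) = p := by
      apply addOrderOf_eq_prime
      · ext; simp [hpV]
      · intro h
        exact hw0 (congrArg Subtype.val h)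
    rw [← h1]
    exact addOrderOf_dvd_natCard _
  have h0 : (0 : M) ∈ MulAction.fixedPoints P M := by
    intro g
    apply Subtype.ext
    rw [hsmul]
    simp
  obtain ⟨b, hb, hb0⟩ := hP.exists_fixed_point_of_prime_dvd_card_of_fixed_point M hdvd h0
  have hMW : M ≤ W.toAddSubgroup := by
    rw [AddSubgroup.closure_le]
    rintro _ ⟨g, rfl⟩
    exact hW g w hwW
  refine ⟨b.1, hMW b.2, ?_, ?_⟩
  · intro h
    apply hb0
    apply Subtype.ext
    exact h.symm
  · intro g
    have := hb g
    rw [← hsmul, this]

/-- A Sylow `p`-subgroup of a finite group acting transitively on a set of `p`-power size is itself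
transitive. -/
theorem sylow_isPretransitive {G Ω : Type*} [Group G] [Finite G] [MulAction G Ω]
    [MulAction.IsPretransitive G Ω] {p f : ℕ} [Fact p.Prime] (hcard : Nat.card Ω = p ^ f)
    (P : Sylow p G) : MulAction.IsPretransitive (P : Subgroup G) Ω := by
  classical
  have hΩfin : Finite Ω := by
    apply Nat.finite_of_card_ne_zero
    rw [hcard]
    exact pow_ne_zero _ (Fact.out : p.Prime).ne_zero
  have hne : Nonempty Ω := by
    rw [← Finite.card_pos_iff, hcard]
    exact pow_pos (Fact.out : p.Prime).pos _
  obtain ⟨a⟩ := hne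
  rw [MulAction.isPretransitive_iff_orbit_eq_univ a]
  set S := MulAction.stabilizer G a with hS
  have hSidx : S.index = p ^ f := by
    rw [hS, MulAction.index_stabilizer_of_transitive, hcard]
  have hstab : MulAction.stabilizer (P : Subgroup G) a = S.subgroupOf (P : Subgroup G) := by
    ext g
    simp [Subgroup.mem_subgroupOf, MulAction.mem_stabilizer_iff, hS, Subgroup.smul_def]
  have h1 : ((P : Subgroup G) ⊓ S).relIndex (P : Subgroup G) * (P : Subgroup G).index
      = ((P : Subgroup G) ⊓ S).index := Subgroup.relIndex_mul_index inf_le_left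
  have h2 : ((P : Subgroup G) ⊓ S).relIndex S * S.index
      = ((P : Subgroup G) ⊓ S).index := Subgroup.relIndex_mul_index inf_le_right
  have hcop : (p ^ f).Coprime (P : Subgroup G).index := by
    apply Nat.Coprime.pow_left
    rw [Nat.Prime.coprime_iff_not_dvd (Fact.out : p.Prime)]
    exact P.not_dvd_index
  have hdvd : p ^ f ∣ ((P : Subgroup G) ⊓ S).relIndex (P : Subgroup G) := by
    apply hcop.dvd_of_dvd_mul_right
    rw [h1, ← h2, hSidx]
    exact dvd_mul_left _ _
  rw [Subgroup.inf_relIndex_left] at hdvd
  have horb : (MulAction.orbit (P : Subgroup G) a).ncard = S.relIndex (P : Subgroup G) := by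
    rw [← MulAction.index_stabilizer, hstab]
    rfl
  rw [← horb] at hdvd
  have hle : p ^ f ≤ (MulAction.orbit (P : Subgroup G) a).ncard := by
    apply Nat.le_of_dvd _ hdvd
    rw [Set.ncard_pos]
    exact MulAction.nonempty_orbit a
  apply Set.eq_of_subset_of_ncard_le (Set.subset_univ _) _ Set.finite_univ
  rw [Set.ncard_univ, hcard]
  exact hle

end Cfsg.Agent.Helper11
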