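import Cfsg.Agent.Lib.Helper54.PConstrained

/-!
# `N_G(P)/C_G(P)` and its image modulo a normal `p'`-subgroup

For a normal `p'`-subgroup `K` of `G` and a `p`-subgroup `P`, the quotient map induces an isomorphism
`N_G(P)/C_G(P) ≃ N_{G/K}(PK/K)/C_{G/K}(PK/K)`.
-/

set_option autoImplicit false
set_option linter.style.haveILetI false

namespace Cfsg.Agent.Helper11.PStab

open Cfsg Cfsg.Agent.Helper54
open scoped commutatorElement

variable {G : Type*} [Group G]

/-- The restriction of `G → G/K` to `N_G(P) → N_{G/K}(PK/K)`. -/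
def normMap (K : Subgroup G) [K.Normal] (P : Subgroup G) :
    ↥(Subgroup.normalizer (P : Set G)) →*
      ↥(Subgroup.normalizer ((P.map (QuotientGroup.mk' K) : Subgroup (G ⧸ K)) : Set (G ⧸ K))) :=
  ((QuotientGroup.mk' K).comp (Subgroup.normalizer (P : Set G)).subtype).codRestrict _
    (fun x => Subgroup.le_normalizer_map _ (Subgroup.mem_map_of_mem _ x.2))

@[simp] theorem normMap_coe (K : Subgroup G) [K.Normal] (P : Subgroup G)
    (x : ↥(Subgroup.normalizer (P : Set G))) :
    ((normMap K P x : ↥(Subgroup.normalizer ((P.map (QuotientGroup.mk' K) : Subgroup (G ⧸ K)) :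
      Set (G ⧸ K)))) : G ⧸ K) = QuotientGroup.mk' K (x : G) := rfl

theorem normMap_surjective [Finite G] {p : ℕ} [Fact p.Prime] (K : Subgroup G) [K.Normal]
    (hK : (Nat.card K).Coprime p) (P : Subgroup G) (hP : IsPGroup p P) :
    Function.Surjective (normMap K P) := by
  rintro ⟨n', hn'⟩
  obtain ⟨c, rfl⟩ := QuotientGroup.mk'_surjective K n'
  have hb : ∃ k ∈ K, c * k ∈ Subgroup.normalizer (P : Set G) := by
    apply exists_mul_mem_normalizer K hK P hP c
    intro t ht
    have h1 : (QuotientGroup.mk' K) c * (QuotientGroup.mk' K) t * ((QuotientGroup.mk' K) c)⁻¹ ∈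
        P.map (QuotientGroup.mk' K) :=
      (Subgroup.mem_normalizer_iff.mp hn' _).mp (Subgroup.mem_map_of_mem _ ht)
    obtain ⟨t', ht', h2⟩ := h1
    have h3 : t'⁻¹ * (c * t * c⁻¹) ∈ K := by
      rw [← QuotientGroup.eq_one_iff, ← QuotientGroup.mk'_apply]
      simp only [map_mul, map_inv]
      rw [h2]
      group
    have h4 : c * t * c⁻¹ = t' * (t'⁻¹ * (c * t * c⁻¹)) := by group
    rw [h4]
    exact Subgroup.mul_mem _ (Subgroup.mem_sup_left ht') (Subgroup.mem_sup_right h3)
  obtain ⟨k, hk, hck⟩ := hb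
  refine ⟨⟨c * k, hck⟩, ?_⟩
  apply Subtype.ext
  show (QuotientGroup.mk' K) (c * k) = (QuotientGroup.mk' K) c
  rw [map_mul, QuotientGroup.mk'_apply, QuotientGroup.mk'_apply,
    (QuotientGroup.eq_one_iff k).mpr hk, mul_one]

/-- The composite `N_G(P) → N_{G/K}(PK/K) → N_{G/K}(PK/K)/C_{G/K}(PK/K)`. -/
def normQuot (K : Subgroup G) [K.Normal] (P : Subgroup G) :
    ↥(Subgroup.normalizer (P : Set G)) →*
      (↥(Subgroup.normalizer ((P.map (QuotientGroup.mk' K) : Subgroup (G ⧸ K)) : Set (G ⧸ K))) ⧸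
        (Subgroup.centralizer ((P.map (QuotientGroup.mk' K) : Subgroup (G ⧸ K)) : Set (G ⧸ K))).subgroupOf
          (Subgroup.normalizer ((P.map (QuotientGroup.mk' K) : Subgroup (G ⧸ K)) : Set (G ⧸ K)))) :=
  (QuotientGroup.mk' _).comp (normMap K P)

theorem normQuot_surjective [Finite G] {p : ℕ} [Fact p.Prime] (K : Subgroup G) [K.Normal]
    (hK : (Nat.card K).Coprime p) (P : Subgroup G) (hP : IsPGroup p P) :
    Function.Surjective (normQuot K P) :=
  (QuotientGroup.mk'_surjective _).comp (normMap_surjective K hK P hP)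

theorem normQuot_ker [Finite G] {p : ℕ} [Fact p.Prime] (K : Subgroup G) [K.Normal]
    (hK : (Nat.card K).Coprime p) (P : Subgroup G) (hP : IsPGroup p P) :
    (normQuot K P).ker =
      (Subgroup.centralizer (P : Set G)).subgroupOf (Subgroup.normalizer (P : Set G)) := by
  have hinf : K ⊓ P = ⊥ := inf_eq_bot_of_isPGroup_of_coprime K P hK hP
  ext x
  rw [MonoidHom.mem_ker, Subgroup.mem_subgroupOf]
  show QuotientGroup.mk' _ (normMap K P x) = 1 ↔ _
  rw [QuotientGroup.mk'_apply, QuotientGroup.eq_one_iff, Subgroup.mem_subgroupOf, normMap_coe,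
    Subgroup.mem_centralizer_iff, Subgroup.mem_centralizer_iff]
  constructor
  · intro h y hy
    have h1 := h _ (Subgroup.mem_map_of_mem (QuotientGroup.mk' K) hy)
    rw [← map_mul, ← map_mul, QuotientGroup.mk'_apply, QuotientGroup.mk'_apply,
      QuotientGroup.eq] at h1
    -- `(y x)⁻¹ (x y) ∈ K ∩ P`
    have hxN := x.2
    have h2 : (x : G)⁻¹ * y⁻¹ * (x : G) ∈ P := by
      have h3 := (Subgroup.mem_normalizer_iff.mp (Subgroup.inv_mem _ hxN) y⁻¹).mp (P.inv_mem hy)
      simpa using h3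
    have h4 : (y * (x : G))⁻¹ * ((x : G) * y) ∈ K ⊓ P := by
      refine ⟨h1, ?_⟩
      have : (y * (x : G))⁻¹ * ((x : G) * y) = ((x : G)⁻¹ * y⁻¹ * (x : G)) * y := by group
      rw [this]
      exact P.mul_mem h2 hy
    rw [hinf, Subgroup.mem_bot] at h4
    have : (x : G) * y = (y * (x : G)) * ((y * (x : G))⁻¹ * ((x : G) * y)) := by group
    rw [this, h4, mul_one]
  · rintro h _ ⟨y, hy, rfl⟩
    rw [← map_mul, ← map_mul, h y hy]

/-- `N_G(P)/C_G(P) ≃ N_{G/K}(PK/K)/C_{G/K}(PK/K)`. -/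
noncomputable def quotEquiv [Finite G] {p : ℕ} [Fact p.Prime] (K : Subgroup G) [K.Normal]
    (hK : (Nat.card K).Coprime p) (P : Subgroup G) (hP : IsPGroup p P) :
    (↥(Subgroup.normalizer (P : Set G)) ⧸
      (Subgroup.centralizer (P : Set G)).subgroupOf (Subgroup.normalizer (P : Set G))) ≃*
    (↥(Subgroup.normalizer ((P.map (QuotientGroup.mk' K) : Subgroup (G ⧸ K)) : Set (G ⧸ K))) ⧸
        (Subgroup.centralizer ((P.map (QuotientGroup.mk' K) : Subgroup (G ⧸ K)) : Set (G ⧸ K))).subgroupOf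
          (Subgroup.normalizer ((P.map (QuotientGroup.mk' K) : Subgroup (G ⧸ K)) : Set (G ⧸ K)))) :=
  (QuotientGroup.quotientMulEquivOfEq (normQuot_ker K hK P hP).symm).trans
    (QuotientGroup.quotientKerEquivOfSurjective (normQuot K P) (normQuot_surjective K hK P hP))

theorem quotEquiv_mk [Finite G] {p : ℕ} [Fact p.Prime] (K : Subgroup G) [K.Normal]
    (hK : (Nat.card K).Coprime p) (P : Subgroup G) (hP : IsPGroup p P)
    (x : ↥(Subgroup.normalizer (P : Set G))) :
    quotEquiv K hK P hP (QuotientGroup.mk' _ x) = QuotientGroup.mk' _ (normMap K P x) := rfl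

/-- Membership in `O_p` of the two quotients corresponds. -/
theorem mk_mem_pCore_iff [Finite G] {p : ℕ} [Fact p.Prime] (K : Subgroup G) [K.Normal]
    (hK : (Nat.card K).Coprime p) (P : Subgroup G) (hP : IsPGroup p P)
    (x : ↥(Subgroup.normalizer (P : Set G))) :
    QuotientGroup.mk' ((Subgroup.centralizer (P : Set G)).subgroupOf
        (Subgroup.normalizer (P : Set G))) x ∈ pCore p _ ↔
      QuotientGroup.mk' ((Subgroup.centralizer ((P.map (QuotientGroup.mk' K) : Subgroup (G ⧸ K)) :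
        Set (G ⧸ K))).subgroupOf (Subgroup.normalizer ((P.map (QuotientGroup.mk' K) :
          Subgroup (G ⧸ K)) : Set (G ⧸ K)))) (normMap K P x) ∈ pCore p _ := by
  have h := pCore_map_mulEquiv p (quotEquiv K hK P hP)
  rw [← h, ← quotEquiv_mk K hK P hP x]
  constructor
  · intro hx
    exact Subgroup.mem_map_of_mem _ hx
  · rintro ⟨y, hy, hyx⟩
    have : y = QuotientGroup.mk' _ x := (quotEquiv K hK P hP).injective hyx
    rw [← this]; exact hy

/-- The conclusion of `p`-stability for `(A, P)` is equivalent to that for the images modulo `K`. -/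
theorem concl_iff [Finite G] {p : ℕ} [Fact p.Prime] (K : Subgroup G) [K.Normal]
    (hK : (Nat.card K).Coprime p) (P : Subgroup G) (hP : IsPGroup p P) (A : Subgroup G)
    (hAN : A ≤ Subgroup.normalizer (P : Set G)) :
    (A.subgroupOf (Subgroup.normalizer (P : Set G))).map
        (QuotientGroup.mk' ((Subgroup.centralizer (P : Set G)).subgroupOf
          (Subgroup.normalizer (P : Set G)))) ≤ pCore p _ ↔
    ((A.map (QuotientGroup.mk' K)).subgroupOf
        (Subgroup.normalizer ((P.map (QuotientGroup.mk' K) : Subgroup (G ⧸ K)) : Set (G ⧸ K)))).map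
        (QuotientGroup.mk' ((Subgroup.centralizer ((P.map (QuotientGroup.mk' K) : Subgroup (G ⧸ K)) :
          Set (G ⧸ K))).subgroupOf (Subgroup.normalizer ((P.map (QuotientGroup.mk' K) :
            Subgroup (G ⧸ K)) : Set (G ⧸ K))))) ≤ pCore p _ := by
  constructor
  · rintro h _ ⟨y, hy, rfl⟩
    obtain ⟨a, ha, hay⟩ := Subgroup.mem_subgroupOf.mp hy
    have hy' : y = normMap K P ⟨a, hAN ha⟩ := Subtype.ext hay.symm
    rw [hy', ← mk_mem_pCore_iff K hK P hP]
    apply h
    exact Subgroup.mem_map_of_mem _ (Subgroup.mem_subgroupOf.mpr ha)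
  · rintro h _ ⟨x, hx, rfl⟩
    have hx := Subgroup.mem_subgroupOf.mp hx
    rw [mk_mem_pCore_iff K hK P hP]
    apply h
    apply Subgroup.mem_map_of_mem
    rw [Subgroup.mem_subgroupOf, normMap_coe]
    exact Subgroup.mem_map_of_mem _ hx

end Cfsg.Agent.Helper11.PStab
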