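import Cfsg.Agent.Lib.Helper11.PStab1

/-!
# Lifting `p`-subgroups through a normal `p'`-subgroup
-/

set_option autoImplicit false
set_option linter.style.haveILetI false

namespace Cfsg.Agent.Helper11.PStab

open Cfsg Cfsg.Agent.Helper54
open scoped commutatorElement

variable {G : Type*} [Group G]

/-- Every Sylow `p`-subgroup of `G/K` is the image of a Sylow `p`-subgroup of `G`. -/
theorem exists_sylow_map_eq [Finite G] {p : ℕ} [Fact p.Prime] (K : Subgroup G) [K.Normal]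
    (T : Sylow p (G ⧸ K)) : ∃ S : Sylow p G, (S : Subgroup G).map (QuotientGroup.mk' K) = T := by
  have hsurj := QuotientGroup.mk'_surjective K
  let S₀ : Sylow p G := default
  obtain ⟨g', hg'⟩ := MulAction.exists_smul_eq (G ⧸ K) (S₀.mapSurjective hsurj) T
  obtain ⟨g, rfl⟩ := hsurj g'
  refine ⟨g • S₀, ?_⟩
  have h1 : ((g • S₀ : Sylow p G) : Subgroup G) = (S₀ : Subgroup G).map (MulAut.conj g).toMonoidHom := rfl
  have h2 : (T : Subgroup (G ⧸ K)) =
      ((S₀ : Subgroup G).map (QuotientGroup.mk' K)).map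
        (MulAut.conj (QuotientGroup.mk' K g)).toMonoidHom := by
    rw [← hg', ← Sylow.coe_mapSurjective hsurj S₀]; rfl
  rw [h1, h2, Subgroup.map_map, Subgroup.map_map]
  congr 1

/-- Lifting a pair `(A', P')` of `p`-subgroups of `G/K`, `P'` normal, to `G`. -/
theorem exists_lift [Finite G] {p : ℕ} [Fact p.Prime] (K : Subgroup G) [K.Normal]
    (hK : (Nat.card K).Coprime p) (A' P' : Subgroup (G ⧸ K)) (hA' : IsPGroup p A')
    (hP' : IsPGroup p P') (hP'n : P'.Normal) (hq : ⁅⁅P', A'⁆, A'⁆ = ⊥) :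
    ∃ A P : Subgroup G, IsPGroup p A ∧ IsPGroup p P ∧ A ≤ Subgroup.normalizer (P : Set G) ∧
      A.map (QuotientGroup.mk' K) = A' ∧ P.map (QuotientGroup.mk' K) = P' ∧ ⁅⁅P, A⁆, A⁆ = ⊥ ∧
      K ⊔ P = P'.comap (QuotientGroup.mk' K) := by
  obtain ⟨T, hT⟩ := hA'.exists_le_sylow
  have hP'T : P' ≤ T := hP'.le_sylow_of_normal T
  obtain ⟨S, hS⟩ := exists_sylow_map_eq K T
  have hMn : (P'.comap (QuotientGroup.mk' K)).Normal := hP'n.comap _
  have hKM : K ≤ P'.comap (QuotientGroup.mk' K) := by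
    intro k hk
    rw [Subgroup.mem_comap, QuotientGroup.mk'_apply, (QuotientGroup.eq_one_iff k).mpr hk]
    exact one_mem _
  have hAN : (S : Subgroup G) ⊓ A'.comap (QuotientGroup.mk' K) ≤
      Subgroup.normalizer (((S : Subgroup G) ⊓ P'.comap (QuotientGroup.mk' K) : Subgroup G) : Set G) := by
    intro a ha
    rw [Subgroup.mem_normalizer_iff]
    intro x
    constructor
    · rintro ⟨hx1, hx2⟩
      exact ⟨Subgroup.mul_mem _ (Subgroup.mul_mem _ ha.1 hx1) (Subgroup.inv_mem _ ha.1),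
        hMn.conj_mem x hx2 a⟩
    · rintro ⟨hx1, hx2⟩
      have h3 : x = a⁻¹ * (a * x * a⁻¹) * a⁻¹⁻¹ := by group
      rw [h3]
      exact ⟨Subgroup.mul_mem _ (Subgroup.mul_mem _ (Subgroup.inv_mem _ ha.1) hx1)
        (Subgroup.inv_mem _ (Subgroup.inv_mem _ ha.1)), hMn.conj_mem _ hx2 a⁻¹⟩
  have hmapA : ((S : Subgroup G) ⊓ A'.comap (QuotientGroup.mk' K)).map (QuotientGroup.mk' K) = A' := by
    apply le_antisymm
    · rintro _ ⟨a, ha, rfl⟩
      exact ha.2
    · intro a' ha'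
      have h3 : a' ∈ (S : Subgroup G).map (QuotientGroup.mk' K) := by rw [hS]; exact hT ha'
      obtain ⟨s, hs, rfl⟩ := h3
      exact ⟨s, ⟨hs, ha'⟩, rfl⟩
  have hmapP : ((S : Subgroup G) ⊓ P'.comap (QuotientGroup.mk' K)).map (QuotientGroup.mk' K) = P' := by
    apply le_antisymm
    · rintro _ ⟨a, ha, rfl⟩
      exact ha.2
    · intro a' ha'
      have h3 : a' ∈ (S : Subgroup G).map (QuotientGroup.mk' K) := by rw [hS]; exact hP'T ha'
      obtain ⟨s, hs, rfl⟩ := h3
      exact ⟨s, ⟨hs, ha'⟩, rfl⟩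
  have hPp : IsPGroup p ↥((S : Subgroup G) ⊓ P'.comap (QuotientGroup.mk' K)) :=
    S.isPGroup'.to_le inf_le_left
  refine ⟨(S : Subgroup G) ⊓ A'.comap (QuotientGroup.mk' K),
    (S : Subgroup G) ⊓ P'.comap (QuotientGroup.mk' K), S.isPGroup'.to_le inf_le_left, hPp,
    hAN, hmapA, hmapP, ?_, ?_⟩
  · -- the double commutator lies in `K ∩ P`
    set A := (S : Subgroup G) ⊓ A'.comap (QuotientGroup.mk' K) with hAdef
    set P := (S : Subgroup G) ⊓ P'.comap (QuotientGroup.mk' K) with hPdef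
    have h1 : ⁅P, A⁆ ≤ P := by
      rw [Subgroup.commutator_le]
      intro x hx a ha
      have h4 : a * x⁻¹ * a⁻¹ ∈ P :=
        (Subgroup.mem_normalizer_iff.mp (hAN ha) x⁻¹).mp (P.inv_mem hx)
      have : ⁅x, a⁆ = x * (a * x⁻¹ * a⁻¹) := by rw [commutatorElement_def]; group
      rw [this]; exact P.mul_mem hx h4
    have h2 : ⁅⁅P, A⁆, A⁆ ≤ P := (Subgroup.commutator_mono h1 le_rfl).trans h1
    have h3 : ⁅⁅P, A⁆, A⁆ ≤ K := by
      have h5 : (⁅⁅P, A⁆, A⁆).map (QuotientGroup.mk' K) = ⊥ := by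
        rw [Subgroup.map_commutator, Subgroup.map_commutator, hmapA, hmapP, hq]
      rw [Subgroup.map_eq_bot_iff, QuotientGroup.ker_mk'] at h5
      exact h5
    rw [eq_bot_iff, ← inf_eq_bot_of_isPGroup_of_coprime K P hK hPp]
    exact le_inf h3 h2
  · apply le_antisymm
    · exact sup_le hKM inf_le_right
    · intro m hm
      have h3 : QuotientGroup.mk' K m ∈
          ((S : Subgroup G) ⊓ P'.comap (QuotientGroup.mk' K)).map (QuotientGroup.mk' K) := by
        rw [hmapP]; exact hm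
      obtain ⟨x, hx, hxm⟩ := h3
      have h4 : x⁻¹ * m ∈ K := by
        rw [← QuotientGroup.eq_one_iff, ← QuotientGroup.mk'_apply, map_mul, map_inv, hxm]
        group
      have : m = x * (x⁻¹ * m) := by group
      rw [this]
      exact Subgroup.mul_mem _ (Subgroup.mem_sup_right hx) (Subgroup.mem_sup_left h4)

/-- `O_p(X) ≤ O_{p',p}(X)`. -/
theorem pCore_le_pPrimePCore (p : ℕ) (X : Type*) [Group X] : pCore p X ≤ pPrimePCore p X := by
  intro x hx
  rw [mem_pPrimePCore_iff]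
  have h1 : ((pCore p X).map (QuotientGroup.mk' (pPrimeCore p X))).Normal :=
    (pCore_normal' p).map _ (QuotientGroup.mk'_surjective _)
  have h2 : IsPGroup p ((pCore p X).map (QuotientGroup.mk' (pPrimeCore p X))) :=
    isPGroup_pCore.map _
  exact le_pCore h1 h2 (Subgroup.mem_map_of_mem _ hx)

end Cfsg.Agent.Helper11.PStab
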