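import Mathlib
import Cfsg.Prelude.Def_Perm

set_option autoImplicit false

namespace Cfsg.Agent.Helper11

open Cfsg

theorem permRep_apply {K : Type*} [CommSemiring K] {G : Type*} [Group G] {Ω : Type*} [MulAction G Ω]
    (g : G) (f : Ω → K) (x : Ω) : Cfsg.permRep K G Ω g f x = f (g⁻¹ • x) := rfl

theorem permRep_single {K : Type*} [CommSemiring K] {G : Type*} [Group G] {Ω : Type*} [MulAction G Ω]
    [DecidableEq Ω] (g : G) (j : Ω) (c : K) :
    Cfsg.permRep K G Ω g (Pi.single j c) = Pi.single (g • j) c := by
  funext x
  rw [permRep_apply, Pi.single_apply, Pi.single_apply]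
  simp only [inv_smul_eq_iff]

/-- The submodule of functions on a `G`-set that are constant on orbits. -/
def invFun (K : Type*) [CommSemiring K] (G : Type*) [Group G] (X : Type*) [MulAction G X] :
    Submodule K (X → K) where
  carrier := {φ | ∀ (g : G) (x : X), φ (g • x) = φ x}
  add_mem' := by
    intro a b ha hb g x
    simp only [Pi.add_apply, ha g x, hb g x]
  zero_mem' := by intro g x; rfl
  smul_mem' := by
    intro c a ha g x
    simp only [Pi.smul_apply, ha g x]

theorem mem_invFun {K : Type*} [CommSemiring K] {G : Type*} [Group G] {X : Type*} [MulAction G X]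
    (φ : X → K) : φ ∈ invFun K G X ↔ ∀ (g : G) (x : X), φ (g • x) = φ x := Iff.rfl

/-- Orbit-constant functions are functions on the orbit space. -/
noncomputable def invFunEquiv (K : Type*) [CommSemiring K] (G : Type*) [Group G] (X : Type*) [MulAction G X] :
    invFun K G X ≃ₗ[K] (MulAction.orbitRel.Quotient G X → K) where
  toFun φ := fun q => Quotient.liftOn' q φ.1 (by
    intro a b h
    rw [MulAction.orbitRel_apply] at h
    obtain ⟨g, rfl⟩ := h
    exact φ.2 g b)
  map_add' := by
    intro a b
    funext q
    induction q using Quotient.inductionOn' with | _ x => rfl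
  map_smul' := by
    intro c a
    funext q
    induction q using Quotient.inductionOn' with | _ x => rfl
  invFun ψ := ⟨fun x => ψ (Quotient.mk'' x), by
    intro g x
    show ψ (Quotient.mk'' (g • x)) = ψ (Quotient.mk'' x)
    congr 1
    rw [Quotient.eq'', MulAction.orbitRel_apply]
    exact ⟨g, rfl⟩⟩
  left_inv := by
    intro φ
    ext x
    rfl
  right_inv := by
    intro ψ
    funext q
    induction q using Quotient.inductionOn' with | _ x => rfl

theorem finrank_invFun (K : Type*) [Field K] (G : Type*) [Group G] (X : Type*) [MulAction G X]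
    [Finite X] : Module.finrank K (invFun K G X) = Nat.card (MulAction.orbitRel.Quotient G X) := by
  classical
  haveI : Fintype (MulAction.orbitRel.Quotient G X) := Fintype.ofFinite _
  rw [(invFunEquiv K G X).finrank_eq, Module.finrank_fintype_fun_eq_card, Nat.card_eq_fintype_card]

end Cfsg.Agent.Helper11
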