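import Mathlib

/-!
# Quadratic pairs, I: two quadratic unipotent maps `1 + a`, `1 + b` with `ab + ba` nilpotent
generate a `p`-group
-/

set_option autoImplicit false
set_option linter.style.haveILetI false
set_option linter.unusedSectionVars false
set_option linter.unusedVariables false

namespace Cfsg.Agent.Helper11.QP

variable {p : ℕ} [hp : Fact p.Prime] {V : Type*} [AddCommGroup V] [Module (ZMod p) V]

section algebra

variable (a b : Module.End (ZMod p) V)

/-- `z = ab + ba`. -/
def zz : Module.End (ZMod p) V := a * b + b * a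

theorem zz_mul_a (ha : a * a = 0) : zz a b * a = a * b * a := by
  unfold zz
  rw [add_mul, mul_assoc b a a, ha, mul_zero, add_zero]

theorem a_mul_zz (ha : a * a = 0) : a * zz a b = a * b * a := by
  unfold zz
  rw [mul_add, ← mul_assoc a a b, ha, zero_mul, zero_add, mul_assoc]

theorem zz_mul_b (hb : b * b = 0) : zz a b * b = b * a * b := by
  unfold zz
  rw [add_mul, mul_assoc a b b, hb, mul_zero, zero_add]

theorem b_mul_zz (hb : b * b = 0) : b * zz a b = b * a * b := by
  unfold zz
  rw [mul_add, ← mul_assoc b b a, hb, zero_mul, add_zero, mul_assoc]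

theorem commute_zz_a (ha : a * a = 0) : Commute (zz a b) a := by
  show zz a b * a = a * zz a b
  rw [zz_mul_a a b ha, a_mul_zz a b ha]

theorem commute_zz_b (hb : b * b = 0) : Commute (zz a b) b := by
  show zz a b * b = b * zz a b
  rw [zz_mul_b a b hb, b_mul_zz a b hb]

/-- The chain `K_0 = 0`, `K_{j+1} = {v | a v ∈ K_j, b v ∈ K_j}`. -/
def KK : ℕ → Submodule (ZMod p) V
  | 0 => ⊥
  | j + 1 => (KK j).comap a ⊓ (KK j).comap b

theorem mem_KK_succ (j : ℕ) (v : V) : v ∈ KK a b (j + 1) ↔ a v ∈ KK a b j ∧ b v ∈ KK a b j := by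
  show v ∈ (KK a b j).comap a ⊓ (KK a b j).comap b ↔ _
  rw [Submodule.mem_inf, Submodule.mem_comap, Submodule.mem_comap]

theorem KK_mono (j : ℕ) : KK a b j ≤ KK a b (j + 1) := by
  induction j with
  | zero => exact bot_le
  | succ j ih =>
    intro v hv
    rw [mem_KK_succ] at hv ⊢
    exact ⟨ih hv.1, ih hv.2⟩

theorem ker_le_KK (ha : a * a = 0) (hb : b * b = 0) :
    ∀ i : ℕ, LinearMap.ker ((zz a b) ^ i) ≤ KK a b (3 * i) := by
  intro i
  induction i with
  | zero =>
    intro v hv
    rw [pow_zero, LinearMap.mem_ker, Module.End.one_apply] at hv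
    rw [hv]
    exact Submodule.zero_mem _
  | succ i ih =>
    intro v hv
    rw [LinearMap.mem_ker] at hv
    have e : 3 * (i + 1) = 3 * i + 1 + 1 + 1 := by ring
    rw [e]
    have haa : ∀ x : V, a (a x) = 0 := fun x => by
      have := congrArg (fun f : Module.End (ZMod p) V => f x) ha
      simpa using this
    have hbb : ∀ x : V, b (b x) = 0 := fun x => by
      have := congrArg (fun f : Module.End (ZMod p) V => f x) hb
      simpa using this
    -- `a b a v` and `b a b v` lie in `ker z^i`
    have h1 : a (b (a v)) ∈ KK a b (3 * i) := by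
      apply ih
      rw [LinearMap.mem_ker]
      have e1 : a (b (a v)) = (zz a b * a) v := by rw [zz_mul_a a b ha]; rfl
      rw [e1]
      have e2 : (zz a b) ^ i * (zz a b * a) = a * (zz a b) ^ (i + 1) := by
        rw [← mul_assoc, ← pow_succ]
        exact ((commute_zz_a a b ha).pow_left (i + 1)).eq
      have e3 : ((zz a b) ^ i) ((zz a b * a) v) = ((zz a b) ^ i * (zz a b * a)) v := rfl
      rw [e3, e2]
      show a (((zz a b) ^ (i + 1)) v) = 0
      rw [hv, map_zero]
    have h2 : b (a (b v)) ∈ KK a b (3 * i) := by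
      apply ih
      rw [LinearMap.mem_ker]
      have e1 : b (a (b v)) = (zz a b * b) v := by rw [zz_mul_b a b hb]; rfl
      rw [e1]
      have e2 : (zz a b) ^ i * (zz a b * b) = b * (zz a b) ^ (i + 1) := by
        rw [← mul_assoc, ← pow_succ]
        exact ((commute_zz_b a b hb).pow_left (i + 1)).eq
      have e3 : ((zz a b) ^ i) ((zz a b * b) v) = ((zz a b) ^ i * (zz a b * b)) v := rfl
      rw [e3, e2]
      show b (((zz a b) ^ (i + 1)) v) = 0
      rw [hv, map_zero]
    have h0 : ∀ j : ℕ, (0 : V) ∈ KK a b j := fun j => Submodule.zero_mem _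
    simp only [mem_KK_succ, haa, hbb, map_zero, h0, h1, h2, and_self, true_and, and_true]

end algebra

section units

variable (g h : (Module.End (ZMod p) V)ˣ)

/-- The property of `u`: `u - 1` pushes the chain down. -/
def Push (a b : Module.End (ZMod p) V) (u : (Module.End (ZMod p) V)ˣ) : Prop :=
  ∀ (j : ℕ) (v : V), v ∈ KK a b (j + 1) →
    ((u : Module.End (ZMod p) V) - 1) v ∈ KK a b j

theorem Push.map_mem {a b : Module.End (ZMod p) V} {u : (Module.End (ZMod p) V)ˣ}
    (hu : Push a b u) (j : ℕ) (v : V) (hv : v ∈ KK a b j) :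
    (u : Module.End (ZMod p) V) v ∈ KK a b j := by
  cases j with
  | zero =>
    have : v = 0 := by simpa [KK] using hv
    rw [this, map_zero]
    exact Submodule.zero_mem _
  | succ j =>
    have h1 := hu j v hv
    have h2 : (u : Module.End (ZMod p) V) v =
        v + ((u : Module.End (ZMod p) V) - 1) v := by
      simp [LinearMap.sub_apply]
    rw [h2]
    exact Submodule.add_mem _ hv (KK_mono a b j h1)

theorem Push.inv_map_mem {a b : Module.End (ZMod p) V} {u : (Module.End (ZMod p) V)ˣ}
    (hu : Push a b u) : ∀ (j : ℕ) (v : V), v ∈ KK a b j →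
    ((u⁻¹ : (Module.End (ZMod p) V)ˣ) : Module.End (ZMod p) V) v ∈ KK a b j := by
  intro j
  induction j with
  | zero =>
    intro v hv
    have : v = 0 := by simpa [KK] using hv
    rw [this, map_zero]
    exact Submodule.zero_mem _
  | succ j ih =>
    intro v hv
    have h1 := hu j v hv
    have h2 := ih _ h1
    have e : ((u⁻¹ : (Module.End (ZMod p) V)ˣ) : Module.End (ZMod p) V) =
        1 - ((u⁻¹ : (Module.End (ZMod p) V)ˣ) : Module.End (ZMod p) V) *
          ((u : Module.End (ZMod p) V) - 1) := by
      rw [mul_sub, mul_one, Units.inv_mul]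
      abel
    have e2 : ((u⁻¹ : (Module.End (ZMod p) V)ˣ) : Module.End (ZMod p) V) v =
        v - ((u⁻¹ : (Module.End (ZMod p) V)ˣ) : Module.End (ZMod p) V)
          (((u : Module.End (ZMod p) V) - 1) v) := by
      conv_lhs => rw [e]
      rfl
    rw [e2]
    exact Submodule.sub_mem _ hv (KK_mono a b j h2)

theorem push_closure :
    ∀ u ∈ Subgroup.closure ({g, h} : Set (Module.End (ZMod p) V)ˣ),
      Push ((g : Module.End (ZMod p) V) - 1) ((h : Module.End (ZMod p) V) - 1) u := by
  intro u hu
  induction hu using Subgroup.closure_induction with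
  | mem x hx =>
    intro j v hv
    rw [mem_KK_succ] at hv
    rcases hx with rfl | hx
    · exact hv.1
    · rw [Set.mem_singleton_iff] at hx
      subst hx
      exact hv.2
  | one =>
    intro j v hv
    simp
  | mul x y _ _ hx hy =>
    intro j v hv
    have e : ((x * y : (Module.End (ZMod p) V)ˣ) : Module.End (ZMod p) V) - 1 =
        (x : Module.End (ZMod p) V) * ((y : Module.End (ZMod p) V) - 1) +
          ((x : Module.End (ZMod p) V) - 1) := by
      rw [Units.val_mul, mul_sub, mul_one]
      abel
    rw [e, LinearMap.add_apply]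
    apply Submodule.add_mem
    · exact hx.map_mem j _ (hy j v hv)
    · exact hx j v hv
  | inv x _ hx =>
    intro j v hv
    have e : ((x⁻¹ : (Module.End (ZMod p) V)ˣ) : Module.End (ZMod p) V) - 1 =
        -(((x⁻¹ : (Module.End (ZMod p) V)ˣ) : Module.End (ZMod p) V) *
          ((x : Module.End (ZMod p) V) - 1)) := by
      rw [mul_sub, mul_one, Units.inv_mul]
      abel
    rw [e, LinearMap.neg_apply]
    apply Submodule.neg_mem
    exact hx.inv_map_mem j _ (hx j v hv)

/-- If `z = ab + ba` is nilpotent (`a = g - 1`, `b = h - 1`, `a² = b² = 0`), then `⟨g, h⟩` is a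
`p`-group. -/
theorem isPGroup_closure_of_nilpotent
    (hg : ((g : Module.End (ZMod p) V) - 1) * ((g : Module.End (ZMod p) V) - 1) = 0)
    (hh : ((h : Module.End (ZMod p) V) - 1) * ((h : Module.End (ZMod p) V) - 1) = 0)
    (n : ℕ)
    (hz : (zz ((g : Module.End (ZMod p) V) - 1) ((h : Module.End (ZMod p) V) - 1)) ^ n = 0) :
    IsPGroup p ↥(Subgroup.closure ({g, h} : Set (Module.End (ZMod p) V)ˣ)) := by
  rcases subsingleton_or_nontrivial V with hV | hV
  · rintro ⟨u, hu⟩
    refine ⟨0, ?_⟩
    apply Subtype.ext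
    apply Units.ext
    apply LinearMap.ext
    intro v
    exact Subsingleton.elim _ _
  set a := (g : Module.End (ZMod p) V) - 1 with ha
  set b := (h : Module.End (ZMod p) V) - 1 with hb
  haveI : CharP (Module.End (ZMod p) V) p :=
    charP_of_injective_algebraMap (algebraMap (ZMod p) (Module.End (ZMod p) V)).injective p
  have htop : KK a b (3 * n) = ⊤ := by
    rw [eq_top_iff]
    refine le_trans ?_ (ker_le_KK a b hg hh n)
    rw [hz]
    intro v _
    rw [LinearMap.mem_ker]
    rfl
  rintro ⟨u, hu⟩
  have hP := push_closure g h u hu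
  have hpow : ∀ i : ℕ, i ≤ 3 * n → ∀ v : V,
      (((u : Module.End (ZMod p) V) - 1) ^ i) v ∈ KK a b (3 * n - i) := by
    intro i
    induction i with
    | zero =>
      intro _ v
      rw [Nat.sub_zero, htop]
      exact Submodule.mem_top
    | succ i ih =>
      intro hi v
      have h1 := ih (by omega) v
      have e : 3 * n - i = (3 * n - (i + 1)) + 1 := by omega
      rw [e] at h1
      have h2 := hP _ _ h1
      rw [pow_succ']
      exact h2
  have hnil : ((u : Module.End (ZMod p) V) - 1) ^ (3 * n) = 0 := by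
    apply LinearMap.ext
    intro v
    have := hpow (3 * n) le_rfl v
    rw [Nat.sub_self] at this
    have h0 : (((u : Module.End (ZMod p) V) - 1) ^ (3 * n)) v = 0 := by simpa [KK] using this
    rw [h0]
    rfl
  have hk : 3 * n ≤ p ^ (3 * n) := le_of_lt (Nat.lt_pow_self hp.out.one_lt)
  have h1 : ((u : Module.End (ZMod p) V) - 1) ^ (p ^ (3 * n)) = 0 :=
    pow_eq_zero_of_le hk hnil
  rw [sub_pow_char_pow_of_commute p (3 * n) (Commute.one_right _), one_pow,
    sub_eq_zero] at h1
  refine ⟨3 * n, ?_⟩
  apply Subtype.ext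
  apply Units.ext
  rw [Subgroup.coe_pow, Units.val_pow_eq_pow_val, h1]
  rfl

end units

end Cfsg.Agent.Helper11.QP
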