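import Cfsg.Agent.Lib.Helper11.QP1

/-!
# Quadratic pairs, II: the field case

`a² = b² = 0`, `z = ab + ba ≠ 0` a root of the irreducible polynomial `f`: then `F_p[z]` is a field
`K0` and there is a `K0`-plane on which `1 + a`, `1 + b` act as `u(ζ)`, `l(1)`.
-/

set_option autoImplicit false
set_option linter.style.haveILetI false
set_option linter.unusedSectionVars false
set_option linter.unusedVariables false

namespace Cfsg.Agent.Helper11.QP

open Polynomial

/-- Upper unitriangular element of `SL₂`. -/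
def uSL {F : Type*} [CommRing F] (t : F) : Matrix.SpecialLinearGroup (Fin 2) F :=
  ⟨!![1, t; 0, 1], by simp [Matrix.det_fin_two]⟩

/-- Lower unitriangular element of `SL₂`. -/
def lSL {F : Type*} [CommRing F] (t : F) : Matrix.SpecialLinearGroup (Fin 2) F :=
  ⟨!![1, 0; t, 1], by simp [Matrix.det_fin_two]⟩

/-- "Dickson-lite": a subgroup of `SL₂(F)` containing `u(λ)` and `l(1)` contains a rational pair. -/
def DLHyp (p : ℕ) : Prop :=
  ∀ (F : Type) [Field F] [Finite F] [CharP F p] (lam : F), lam ≠ 0 →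
    ∀ L : Subgroup (Matrix.SpecialLinearGroup (Fin 2) F), uSL lam ∈ L → lSL 1 ∈ L →
      ∃ x ∈ L, ∃ y ∈ L, ∃ v w : Fin 2 → F, v 0 * w 1 - v 1 * w 0 ≠ 0 ∧
        (x : Matrix (Fin 2) (Fin 2) F).mulVec v = v ∧
        (x : Matrix (Fin 2) (Fin 2) F).mulVec w = w + v ∧
        (y : Matrix (Fin 2) (Fin 2) F).mulVec v = v + w ∧
        (y : Matrix (Fin 2) (Fin 2) F).mulVec w = w

variable {p : ℕ} [hp : Fact p.Prime] {V : Type*} [AddCommGroup V] [Module (ZMod p) V]

section field

variable (a b : Module.End (ZMod p) V) (f : (ZMod p)[X])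

/-- The ring homomorphism `F_p[X]/(f) → End(V)`, `X ↦ z`. -/
noncomputable def phi (hfz : aeval (zz a b) f = 0) : AdjoinRoot f →+* Module.End (ZMod p) V :=
  Ideal.Quotient.lift (Ideal.span {f}) (aeval (zz a b)).toRingHom (by
    intro q hq
    obtain ⟨r, rfl⟩ := Ideal.mem_span_singleton.mp hq
    show aeval (zz a b) (f * r) = 0
    rw [map_mul, hfz, zero_mul])

theorem phi_mk (hfz : aeval (zz a b) f = 0) (q : (ZMod p)[X]) :
    phi a b f hfz (AdjoinRoot.mk f q) = aeval (zz a b) q := rfl

theorem phi_root (hfz : aeval (zz a b) f = 0) : phi a b f hfz (AdjoinRoot.root f) = zz a b := by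
  show phi a b f hfz (AdjoinRoot.mk f X) = _
  rw [phi_mk, aeval_X]

theorem commute_aeval {c z : Module.End (ZMod p) V} (h : Commute c z) (q : (ZMod p)[X]) :
    Commute c (aeval z q) := by
  induction q using Polynomial.induction_on' with
  | add q₁ q₂ h₁ h₂ => rw [map_add]; exact h₁.add_right h₂
  | monomial n t =>
    rw [← C_mul_X_pow_eq_monomial, map_mul, aeval_C, map_pow, aeval_X]
    exact (Algebra.commute_algebraMap_right t c).mul_right (h.pow_right n)

theorem commute_phi_a (ha : a * a = 0) (hfz : aeval (zz a b) f = 0) (κ : AdjoinRoot f) :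
    Commute a (phi a b f hfz κ) := by
  induction κ using AdjoinRoot.induction_on with
  | ih q =>
    rw [phi_mk]
    exact commute_aeval (commute_zz_a a b ha).symm q

theorem commute_phi_b (hb : b * b = 0) (hfz : aeval (zz a b) f = 0) (κ : AdjoinRoot f) :
    Commute b (phi a b f hfz κ) := by
  induction κ using AdjoinRoot.induction_on with
  | ih q =>
    rw [phi_mk]
    exact commute_aeval (commute_zz_b a b hb).symm q

end field

section main

variable (g h : (Module.End (ZMod p) V)ˣ) (f : (ZMod p)[X]) [hf : Fact (Irreducible f)]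

/-- The field case of the module lemma. -/
theorem exists_rational_pair_field (hDL : DLHyp p)
    (hg : ((g : Module.End (ZMod p) V) - 1) * ((g : Module.End (ZMod p) V) - 1) = 0)
    (hh : ((h : Module.End (ZMod p) V) - 1) * ((h : Module.End (ZMod p) V) - 1) = 0)
    (hfz : aeval (zz ((g : Module.End (ZMod p) V) - 1) ((h : Module.End (ZMod p) V) - 1)) f = 0)
    (hz0 : zz ((g : Module.End (ZMod p) V) - 1) ((h : Module.End (ZMod p) V) - 1) ≠ 0) :
    ∃ x ∈ Subgroup.closure ({g, h} : Set (Module.End (ZMod p) V)ˣ),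
      ∃ y ∈ Subgroup.closure ({g, h} : Set (Module.End (ZMod p) V)ˣ), ∃ v w : V,
        (∀ c d : ZMod p, c • v + d • w = 0 → c = 0 ∧ d = 0) ∧
        (x : Module.End (ZMod p) V) v = v ∧ (x : Module.End (ZMod p) V) w = w + v ∧
        (y : Module.End (ZMod p) V) v = v + w ∧ (y : Module.End (ZMod p) V) w = w := by
  set a := (g : Module.End (ZMod p) V) - 1 with ha
  set b := (h : Module.End (ZMod p) V) - 1 with hb
  set z := zz a b with hz
  set φ := phi a b f hfz with hφ
  have hf0 : f ≠ 0 := hf.out.ne_zero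
  -- instances on `K0`
  haveI : Module.Finite (ZMod p) (AdjoinRoot f) := (AdjoinRoot.powerBasis hf0).finite
  haveI : Finite (AdjoinRoot f) := Module.finite_of_finite (ZMod p)
  haveI : CharP (AdjoinRoot f) p :=
    charP_of_injective_algebraMap (algebraMap (ZMod p) (AdjoinRoot f)).injective p
  have haa : ∀ x : V, a (a x) = 0 := fun x => by
    have := congrArg (fun f : Module.End (ZMod p) V => f x) hg
    simpa using this
  have hbb : ∀ x : V, b (b x) = 0 := fun x => by
    have := congrArg (fun f : Module.End (ZMod p) V => f x) hh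
    simpa using this
  have hzv : ∀ x : V, z x = a (b x) + b (a x) := fun x => rfl
  set ζ : AdjoinRoot f := AdjoinRoot.root f with hζ
  have hφζ : φ ζ = z := phi_root a b f hfz
  have hζ0 : ζ ≠ 0 := by
    intro h0
    apply hz0
    rw [← hφζ, h0, map_zero]
  -- nonzero scalars act injectively
  have hinj : ∀ κ : AdjoinRoot f, κ ≠ 0 → ∀ x : V, φ κ x = 0 → x = 0 := by
    intro κ hκ x hx
    have h1 : φ κ⁻¹ * φ κ = 1 := by rw [← map_mul, inv_mul_cancel₀ hκ, map_one]
    have h2 : (φ κ⁻¹ * φ κ) x = x := by rw [h1]; rfl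
    rw [← h2]
    show φ κ⁻¹ (φ κ x) = 0
    rw [hx, map_zero]
  have hca : ∀ (κ : AdjoinRoot f) (x : V), a (φ κ x) = φ κ (a x) := fun κ x =>
    congrArg (fun f : Module.End (ZMod p) V => f x) (commute_phi_a a b f hg hfz κ).eq
  have hcb : ∀ (κ : AdjoinRoot f) (x : V), b (φ κ x) = φ κ (b x) := fun κ x =>
    congrArg (fun f : Module.End (ZMod p) V => f x) (commute_phi_b a b f hh hfz κ).eq
  -- the vector `w₀`
  obtain ⟨w₀, hw0, haw⟩ : ∃ w₀ : V, w₀ ≠ 0 ∧ a w₀ = 0 := by
    obtain ⟨v₀, hv₀⟩ : ∃ v₀ : V, z v₀ ≠ 0 := by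
      by_contra hcon
      push Not at hcon
      exact hz0 (LinearMap.ext hcon)
    by_cases h1 : a (b v₀) = 0
    · refine ⟨a v₀, ?_, haa v₀⟩
      intro h2
      apply hv₀
      rw [hzv, h1, h2, map_zero, add_zero]
    · exact ⟨a (b v₀), h1, haa _⟩
  have hzw : z w₀ = a (b w₀) := by rw [hzv, haw, map_zero, add_zero]
  have habw : a (b w₀) = φ ζ w₀ := by rw [hφζ, hzw]
  -- the embedding `ι`
  set ι : (Fin 2 → AdjoinRoot f) → V := fun c => φ (c 0) w₀ + φ (c 1) (b w₀) with hι
  have hιadd : ∀ c d, ι (c + d) = ι c + ι d := by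
    intro c d
    simp only [hι, Pi.add_apply, map_add, LinearMap.add_apply]
    abel
  have hιinj : ∀ c, ι c = 0 → c = 0 := by
    intro c hc
    have h1 : a (ι c) = φ (c 1 * ζ) w₀ := by
      simp only [hι, map_add, hca, haw, map_zero, zero_add, habw, map_mul]
      rfl
    rw [hc, map_zero] at h1
    have hc1 : c 1 = 0 := by
      by_contra hne
      exact hw0 (hinj _ (mul_ne_zero hne hζ0) w₀ h1.symm)
    have h2 : φ (c 0) w₀ = 0 := by
      have := hc
      simp only [hι, hc1, map_zero, LinearMap.zero_apply, add_zero] at this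
      exact this
    have hc0 : c 0 = 0 := by
      by_contra hne
      exact hw0 (hinj _ hne w₀ h2)
    funext i
    fin_cases i
    · exact hc0
    · exact hc1
  -- equivariance for the generators
  have hgι : ∀ c, (g : Module.End (ZMod p) V) (ι c) =
      ι ((uSL ζ : Matrix (Fin 2) (Fin 2) (AdjoinRoot f)).mulVec c) := by
    intro c
    have e1 : (g : Module.End (ZMod p) V) (ι c) = ι c + a (ι c) := by
      simp [ha, LinearMap.sub_apply]
    have e2 : a (ι c) = φ (ζ * c 1) w₀ := by
      simp only [hι, map_add, hca, haw, map_zero, zero_add, habw]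
      rw [mul_comm ζ, map_mul]
      rfl
    rw [e1, e2]
    simp only [hι, uSL, Matrix.mulVec, Matrix.of_apply, Matrix.cons_val', dotProduct,
      Fin.sum_univ_two, Matrix.cons_val_zero, Matrix.cons_val_one, Matrix.empty_val',
      Matrix.cons_val_fin_one, one_mul, zero_mul, zero_add, map_add, LinearMap.add_apply]
    abel
  have hhι : ∀ c, (h : Module.End (ZMod p) V) (ι c) =
      ι ((lSL (1 : AdjoinRoot f) : Matrix (Fin 2) (Fin 2) (AdjoinRoot f)).mulVec c) := by
    intro c
    have e1 : (h : Module.End (ZMod p) V) (ι c) = ι c + b (ι c) := by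
      simp [hb, LinearMap.sub_apply]
    have e2 : b (ι c) = φ (c 0) (b w₀) := by
      simp only [hι, map_add, hcb, hbb, map_zero, add_zero]
    rw [e1, e2]
    simp only [hι, lSL, Matrix.mulVec, Matrix.of_apply, Matrix.cons_val', dotProduct,
      Fin.sum_univ_two, Matrix.cons_val_zero, Matrix.cons_val_one, Matrix.empty_val',
      Matrix.cons_val_fin_one, one_mul, zero_mul, add_zero, map_add, LinearMap.add_apply]
    abel
  -- equivariance on the closure
  set L : Subgroup (Matrix.SpecialLinearGroup (Fin 2) (AdjoinRoot f)) :=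
    Subgroup.closure {uSL ζ, lSL 1} with hL
  have hequiv : ∀ m ∈ L, ∃ y ∈ Subgroup.closure ({g, h} : Set (Module.End (ZMod p) V)ˣ),
      ∀ c, (y : Module.End (ZMod p) V) (ι c) =
        ι ((m : Matrix (Fin 2) (Fin 2) (AdjoinRoot f)).mulVec c) := by
    intro m hm
    induction hm using Subgroup.closure_induction with
    | mem x hx =>
      rcases hx with rfl | hx
      · exact ⟨g, Subgroup.subset_closure (Set.mem_insert _ _), hgι⟩
      · rw [Set.mem_singleton_iff] at hx
        subst hx
        exact ⟨h, Subgroup.subset_closure (Set.mem_insert_of_mem _ rfl), hhι⟩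
    | one =>
      refine ⟨1, Subgroup.one_mem _, fun c => ?_⟩
      simp
    | mul m₁ m₂ _ _ h₁ h₂ =>
      obtain ⟨y₁, hy₁, e₁⟩ := h₁
      obtain ⟨y₂, hy₂, e₂⟩ := h₂
      refine ⟨y₁ * y₂, Subgroup.mul_mem _ hy₁ hy₂, fun c => ?_⟩
      rw [Units.val_mul, Module.End.mul_apply, e₂, e₁, Matrix.SpecialLinearGroup.coe_mul,
        Matrix.mulVec_mulVec]
    | inv m _ h₁ =>
      obtain ⟨y, hy, e⟩ := h₁
      refine ⟨y⁻¹, Subgroup.inv_mem _ hy, fun c => ?_⟩
      have h1 := e (((m⁻¹ : Matrix.SpecialLinearGroup (Fin 2) (AdjoinRoot f)) :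
        Matrix (Fin 2) (Fin 2) (AdjoinRoot f)).mulVec c)
      rw [Matrix.mulVec_mulVec, ← Matrix.SpecialLinearGroup.coe_mul, mul_inv_cancel,
        Matrix.SpecialLinearGroup.coe_one, Matrix.one_mulVec] at h1
      rw [← h1]
      show ((y⁻¹ : (Module.End (ZMod p) V)ˣ) : Module.End (ZMod p) V)
        ((y : Module.End (ZMod p) V) _) = _
      rw [← Module.End.mul_apply, Units.inv_mul]
      rfl
  obtain ⟨xb, hxb, yb, hyb, vb, wb, hdet, h1, h2, h3, h4⟩ :=
    hDL (AdjoinRoot f) ζ hζ0 L (Subgroup.subset_closure (Set.mem_insert _ _))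
      (Subgroup.subset_closure (Set.mem_insert_of_mem _ rfl))
  obtain ⟨x, hx, ex⟩ := hequiv xb hxb
  obtain ⟨y, hy, ey⟩ := hequiv yb hyb
  refine ⟨x, hx, y, hy, ι vb, ι wb, ?_, ?_, ?_, ?_, ?_⟩
  · intro c d hcd
    -- `ι` is additive, hence `ZMod p`-linear
    set ιh : (Fin 2 → AdjoinRoot f) →+ V :=
      { toFun := ι
        map_zero' := by
          have := hιadd 0 0
          rw [add_zero] at this
          exact left_eq_add.mp this
        map_add' := hιadd } with hιh
    have e1 : c • ι vb + d • ι wb = ιh (c • vb + d • wb) := by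
      rw [map_add, ZMod.map_smul, ZMod.map_smul]
      rfl
    rw [e1] at hcd
    have h5 : c • vb + d • wb = 0 := hιinj _ hcd
    set c' := algebraMap (ZMod p) (AdjoinRoot f) c with hc'
    set d' := algebraMap (ZMod p) (AdjoinRoot f) d with hd'
    have h50 : c' * vb 0 + d' * wb 0 = 0 := by
      have h6 := congrFun h5 0
      rw [Pi.add_apply, Pi.smul_apply, Pi.smul_apply, Pi.zero_apply, Algebra.smul_def,
        Algebra.smul_def] at h6
      exact h6
    have h51 : c' * vb 1 + d' * wb 1 = 0 := by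
      have h6 := congrFun h5 1
      rw [Pi.add_apply, Pi.smul_apply, Pi.smul_apply, Pi.zero_apply, Algebra.smul_def,
        Algebra.smul_def] at h6
      exact h6
    have hc0 : c' * (vb 0 * wb 1 - vb 1 * wb 0) = 0 := by
      have : c' * (vb 0 * wb 1 - vb 1 * wb 0) =
          (c' * vb 0 + d' * wb 0) * wb 1 - (c' * vb 1 + d' * wb 1) * wb 0 := by ring
      rw [this, h50, h51]; ring
    have hd0 : d' * (vb 0 * wb 1 - vb 1 * wb 0) = 0 := by
      have : d' * (vb 0 * wb 1 - vb 1 * wb 0) =
          (c' * vb 1 + d' * wb 1) * vb 0 - (c' * vb 0 + d' * wb 0) * vb 1 := by ring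
      rw [this, h50, h51]; ring
    have hc'0 : c' = 0 := (mul_eq_zero.mp hc0).resolve_right hdet
    have hd'0 : d' = 0 := (mul_eq_zero.mp hd0).resolve_right hdet
    have hinjA := (algebraMap (ZMod p) (AdjoinRoot f)).injective
    exact ⟨hinjA (by rw [← hc', hc'0, map_zero]), hinjA (by rw [← hd', hd'0, map_zero])⟩
  · rw [ex, h1]
  · rw [ex, h2, hιadd]
  · rw [ey, h3, hιadd]
  · rw [ey, h4]

end main

end Cfsg.Agent.Helper11.QP
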