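import Cfsg.Agent.Lib.Helper11.QP2

/-!
# Quadratic pairs, III: the module lemma

Two quadratic unipotent automorphisms of a finite elementary abelian `p`-group which do not generate
a `p`-group: the group they generate contains a rational pair (modulo "Dickson-lite").
-/

set_option autoImplicit false
set_option linter.style.haveILetI false
set_option linter.unusedSectionVars false
set_option linter.unusedVariables false

namespace Cfsg.Agent.Helper11.QP

open Polynomial

variable {p : ℕ} [hp : Fact p.Prime] {V : Type*} [AddCommGroup V] [Module (ZMod p) V]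

/-- Intertwining maps intertwine polynomial expressions. -/
theorem aeval_intertwine {W : Type*} [AddCommGroup W] [Module (ZMod p) W] (T : W →ₗ[ZMod p] V)
    (s : Module.End (ZMod p) W) (t : Module.End (ZMod p) V) (hst : ∀ x, T (s x) = t (T x))
    (q : (ZMod p)[X]) : ∀ x, T (aeval s q x) = aeval t q (T x) := by
  induction q using Polynomial.induction_on' with
  | add q₁ q₂ h₁ h₂ =>
    intro x
    rw [map_add, map_add, LinearMap.add_apply, LinearMap.add_apply, map_add, h₁, h₂]
  | monomial n c =>
    intro x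
    rw [← C_mul_X_pow_eq_monomial, map_mul, map_mul, aeval_C, aeval_C, map_pow, map_pow, aeval_X,
      aeval_X]
    have hpow : ∀ (n : ℕ) (x : W), T ((s ^ n) x) = (t ^ n) (T x) := by
      intro n
      induction n with
      | zero => intro x; simp
      | succ n ih =>
        intro x
        rw [pow_succ, pow_succ, Module.End.mul_apply, Module.End.mul_apply, ih, hst]
    rw [Module.End.mul_apply, Module.End.mul_apply, Module.algebraMap_end_apply,
      Module.algebraMap_end_apply, map_smul, hpow]

/-- Restriction of a unit of `End(V)` to an invariant submodule. -/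
def restrictUnit (W : Submodule (ZMod p) V) (u : (Module.End (ZMod p) V)ˣ)
    (h1 : ∀ x ∈ W, (u : Module.End (ZMod p) V) x ∈ W)
    (h2 : ∀ x ∈ W, ((u⁻¹ : (Module.End (ZMod p) V)ˣ) : Module.End (ZMod p) V) x ∈ W) :
    (Module.End (ZMod p) W)ˣ where
  val := (u : Module.End (ZMod p) V).restrict h1
  inv := ((u⁻¹ : (Module.End (ZMod p) V)ˣ) : Module.End (ZMod p) V).restrict h2
  val_inv := by
    apply LinearMap.ext
    intro x
    apply Subtype.ext
    show (u : Module.End (ZMod p) V)
      (((u⁻¹ : (Module.End (ZMod p) V)ˣ) : Module.End (ZMod p) V) (x : V)) = (x : V)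
    rw [← Module.End.mul_apply, Units.mul_inv]
    rfl
  inv_val := by
    apply LinearMap.ext
    intro x
    apply Subtype.ext
    show ((u⁻¹ : (Module.End (ZMod p) V)ˣ) : Module.End (ZMod p) V)
      ((u : Module.End (ZMod p) V) (x : V)) = (x : V)
    rw [← Module.End.mul_apply, Units.inv_mul]
    rfl

theorem restrictUnit_apply (W : Submodule (ZMod p) V) (u : (Module.End (ZMod p) V)ˣ) (h1 h2)
    (x : W) : (((restrictUnit W u h1 h2 : (Module.End (ZMod p) W)ˣ) : Module.End (ZMod p) W) x : V) =
      (u : Module.End (ZMod p) V) (x : V) := rfl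

/-- The inverse of a quadratic unipotent unit. -/
theorem inv_eq_of_sq_zero (g : (Module.End (ZMod p) V)ˣ)
    (hg : ((g : Module.End (ZMod p) V) - 1) * ((g : Module.End (ZMod p) V) - 1) = 0) :
    ((g⁻¹ : (Module.End (ZMod p) V)ˣ) : Module.End (ZMod p) V) =
      1 - ((g : Module.End (ZMod p) V) - 1) := by
  symm
  apply Units.eq_inv_of_mul_eq_one_left
  have : (g : Module.End (ZMod p) V) * (1 - ((g : Module.End (ZMod p) V) - 1)) =
      1 - ((g : Module.End (ZMod p) V) - 1) * ((g : Module.End (ZMod p) V) - 1) := by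
    noncomm_ring
  rw [this, hg, sub_zero]

/-- **The module lemma.** -/
theorem exists_rational_pair [Finite V] (hDL : DLHyp p) (g h : (Module.End (ZMod p) V)ˣ)
    (hg : ((g : Module.End (ZMod p) V) - 1) * ((g : Module.End (ZMod p) V) - 1) = 0)
    (hh : ((h : Module.End (ZMod p) V) - 1) * ((h : Module.End (ZMod p) V) - 1) = 0)
    (hnp : ¬ IsPGroup p ↥(Subgroup.closure ({g, h} : Set (Module.End (ZMod p) V)ˣ))) :
    ∃ x ∈ Subgroup.closure ({g, h} : Set (Module.End (ZMod p) V)ˣ),
      ∃ y ∈ Subgroup.closure ({g, h} : Set (Module.End (ZMod p) V)ˣ), ∃ v w : V,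
        (∀ c d : ZMod p, c • v + d • w = 0 → c = 0 ∧ d = 0) ∧
        (x : Module.End (ZMod p) V) v = v ∧ (x : Module.End (ZMod p) V) w = w + v ∧
        (y : Module.End (ZMod p) V) v = v + w ∧ (y : Module.End (ZMod p) V) w = w := by
  set a := (g : Module.End (ZMod p) V) - 1 with ha
  set b := (h : Module.End (ZMod p) V) - 1 with hb
  set z := zz a b with hz
  have hnil : ∀ n : ℕ, z ^ n ≠ 0 := fun n hn =>
    hnp (isPGroup_closure_of_nilpotent g h hg hh n hn)
  haveI : Module.Finite (ZMod p) V := Module.Finite.of_finite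
  -- the minimal polynomial
  have hint : IsIntegral (ZMod p) z := Algebra.IsIntegral.isIntegral z
  set μ := minpoly (ZMod p) z with hμ
  have hμ0 : μ ≠ 0 := minpoly.ne_zero hint
  obtain ⟨q, hq, hXq⟩ := Polynomial.exists_eq_pow_rootMultiplicity_mul_and_not_dvd μ hμ0 0
  rw [C_0, sub_zero] at hq hXq
  set n := μ.rootMultiplicity 0 with hn
  have hq0 : q ≠ 0 := by
    intro h0
    rw [h0, mul_zero] at hq
    exact hμ0 hq
  have hqu : ¬ IsUnit q := by
    intro hu
    obtain ⟨r, hr, rfl⟩ := Polynomial.isUnit_iff.mp hu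
    have h1 : aeval z μ = 0 := minpoly.aeval _ _
    rw [hq, map_mul, map_pow, aeval_X, aeval_C] at h1
    obtain ⟨r', hr'⟩ := hr.exists_right_inv
    have h2 : z ^ n = z ^ n * algebraMap (ZMod p) (Module.End (ZMod p) V) r *
        algebraMap (ZMod p) (Module.End (ZMod p) V) r' := by
      rw [mul_assoc, ← map_mul, hr', map_one, mul_one]
    rw [h1, zero_mul] at h2
    exact hnil n h2
  obtain ⟨f, hfirr, hfq⟩ := WfDvdMonoid.exists_irreducible_factor hqu hq0
  haveI hfF : Fact (Irreducible f) := ⟨hfirr⟩
  have hXf : ¬ X ∣ f := fun hX => hXq (hX.trans hfq)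
  have hfμ : f ∣ μ := hfq.trans (hq ▸ Dvd.intro_left _ rfl)
  -- `W = ker f(z) ≠ 0`
  set W : Submodule (ZMod p) V := LinearMap.ker (aeval z f) with hW
  have hWne : W ≠ ⊥ := by
    intro hbot
    obtain ⟨r, hr⟩ := hfμ
    have hr0 : r ≠ 0 := by
      intro h0
      rw [h0, mul_zero] at hr
      exact hμ0 hr
    have h1 : aeval z r = 0 := by
      apply LinearMap.ext
      intro x
      have h2 : aeval z μ = 0 := minpoly.aeval _ _
      rw [hr, map_mul] at h2
      have h3 : (aeval z f) ((aeval z r) x) = 0 := by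
        rw [← Module.End.mul_apply, h2]
        rfl
      have h4 : (aeval z r) x ∈ W := h3
      rw [hbot, Submodule.mem_bot] at h4
      rw [h4]
      rfl
    have h5 : μ ∣ r := minpoly.dvd _ _ h1
    have h6 := Polynomial.natDegree_le_of_dvd h5 hr0
    have h7 : μ.natDegree = f.natDegree + r.natDegree := by
      rw [hr]
      exact Polynomial.natDegree_mul hfirr.ne_zero hr0
    have h8 : 0 < f.natDegree := Irreducible.natDegree_pos hfirr
    omega
  -- invariance of `W`
  have hcza : Commute (aeval z f) a := (commute_aeval (commute_zz_a a b hg).symm f).symm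
  have hczb : Commute (aeval z f) b := (commute_aeval (commute_zz_b a b hh).symm f).symm
  have haW : ∀ x ∈ W, a x ∈ W := by
    intro x hx
    show (aeval z f) (a x) = 0
    have := congrArg (fun t : Module.End (ZMod p) V => t x) hcza.eq
    simp only [Module.End.mul_apply] at this
    rw [this, show (aeval z f) x = 0 from hx, map_zero]
  have hbW : ∀ x ∈ W, b x ∈ W := by
    intro x hx
    show (aeval z f) (b x) = 0
    have := congrArg (fun t : Module.End (ZMod p) V => t x) hczb.eq
    simp only [Module.End.mul_apply] at this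
    rw [this, show (aeval z f) x = 0 from hx, map_zero]
  have hgv : ∀ x : V, (g : Module.End (ZMod p) V) x = x + a x := by
    intro x; simp [ha, LinearMap.sub_apply]
  have hhv : ∀ x : V, (h : Module.End (ZMod p) V) x = x + b x := by
    intro x; simp [hb, LinearMap.sub_apply]
  have hgiv : ∀ x : V, ((g⁻¹ : (Module.End (ZMod p) V)ˣ) : Module.End (ZMod p) V) x = x - a x := by
    intro x
    rw [inv_eq_of_sq_zero g hg]
    rfl
  have hhiv : ∀ x : V, ((h⁻¹ : (Module.End (ZMod p) V)ˣ) : Module.End (ZMod p) V) x = x - b x := by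
    intro x
    rw [inv_eq_of_sq_zero h hh]
    rfl
  have hg1 : ∀ x ∈ W, (g : Module.End (ZMod p) V) x ∈ W := fun x hx => by
    rw [hgv]; exact W.add_mem hx (haW x hx)
  have hg2 : ∀ x ∈ W, ((g⁻¹ : (Module.End (ZMod p) V)ˣ) : Module.End (ZMod p) V) x ∈ W :=
    fun x hx => by rw [hgiv]; exact W.sub_mem hx (haW x hx)
  have hh1 : ∀ x ∈ W, (h : Module.End (ZMod p) V) x ∈ W := fun x hx => by
    rw [hhv]; exact W.add_mem hx (hbW x hx)
  have hh2 : ∀ x ∈ W, ((h⁻¹ : (Module.End (ZMod p) V)ˣ) : Module.End (ZMod p) V) x ∈ W :=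
    fun x hx => by rw [hhiv]; exact W.sub_mem hx (hbW x hx)
  set g' := restrictUnit W g hg1 hg2 with hg'
  set h' := restrictUnit W h hh1 hh2 with hh'
  set a' := (g' : Module.End (ZMod p) W) - 1 with ha'
  set b' := (h' : Module.End (ZMod p) W) - 1 with hb'
  have ha'v : ∀ x : W, ((a' x : W) : V) = a (x : V) := by
    intro x
    simp only [ha', LinearMap.sub_apply, Module.End.one_apply, Submodule.coe_sub,
      restrictUnit_apply, hg', hgv]
    abel
  have hb'v : ∀ x : W, ((b' x : W) : V) = b (x : V) := by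
    intro x
    simp only [hb', LinearMap.sub_apply, Module.End.one_apply, Submodule.coe_sub,
      restrictUnit_apply, hh', hhv]
    abel
  have hg'q : a' * a' = 0 := by
    apply LinearMap.ext
    intro x
    apply Subtype.ext
    rw [Module.End.mul_apply, ha'v, ha'v]
    have := congrArg (fun t : Module.End (ZMod p) V => t (x : V)) hg
    simpa using this
  have hh'q : b' * b' = 0 := by
    apply LinearMap.ext
    intro x
    apply Subtype.ext
    rw [Module.End.mul_apply, hb'v, hb'v]
    have := congrArg (fun t : Module.End (ZMod p) V => t (x : V)) hh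
    simpa using this
  set z' := zz a' b' with hz'
  have hz'v : ∀ x : W, W.subtype (z' x) = z (W.subtype x) := by
    intro x
    show ((a' (b' x) + b' (a' x) : W) : V) = a (b (x : V)) + b (a (x : V))
    rw [Submodule.coe_add, ha'v, hb'v, hb'v, ha'v]
  have hfz' : aeval z' f = 0 := by
    apply LinearMap.ext
    intro x
    apply Subtype.ext
    have h1 := aeval_intertwine W.subtype z' z hz'v f x
    have h2 : aeval z f (W.subtype x) = 0 := x.2
    rw [h2] at h1
    exact h1
  have hz'0 : z' ≠ 0 := by
    intro h0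
    rw [h0, ← Polynomial.coeff_zero_eq_aeval_zero'] at hfz'
    obtain ⟨x, hx, hx0⟩ := (Submodule.ne_bot_iff W).mp hWne
    have h1 := congrArg (fun t : Module.End (ZMod p) W => t ⟨x, hx⟩) hfz'
    simp only [Module.algebraMap_end_apply, LinearMap.zero_apply] at h1
    have h2 : f.coeff 0 = 0 := by
      by_contra hne
      have h3 := (smul_eq_zero.mp h1).resolve_left hne
      exact hx0 (congrArg Subtype.val h3)
    exact hXf (Polynomial.X_dvd_iff.mpr h2)
  haveI : Finite W := inferInstance
  obtain ⟨x', hx', y', hy', v', w', hind, e1, e2, e3, e4⟩ :=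
    exists_rational_pair_field g' h' f hDL hg'q hh'q hfz' hz'0
  -- lifting elements of the closure
  have hlift : ∀ u' ∈ Subgroup.closure ({g', h'} : Set (Module.End (ZMod p) W)ˣ),
      ∃ u ∈ Subgroup.closure ({g, h} : Set (Module.End (ZMod p) V)ˣ),
        ∀ x : W, (u : Module.End (ZMod p) V) (x : V) =
          (((u' : Module.End (ZMod p) W) x : W) : V) := by
    intro u' hu'
    induction hu' using Subgroup.closure_induction with
    | mem t ht =>
      rcases ht with rfl | ht
      · exact ⟨g, Subgroup.subset_closure (Set.mem_insert _ _), fun x => rfl⟩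
      · rw [Set.mem_singleton_iff] at ht
        subst ht
        exact ⟨h, Subgroup.subset_closure (Set.mem_insert_of_mem _ rfl), fun x => rfl⟩
    | one => exact ⟨1, Subgroup.one_mem _, fun x => rfl⟩
    | mul t₁ t₂ _ _ h₁ h₂ =>
      obtain ⟨u₁, hu₁, e₁⟩ := h₁
      obtain ⟨u₂, hu₂, e₂⟩ := h₂
      refine ⟨u₁ * u₂, Subgroup.mul_mem _ hu₁ hu₂, fun x => ?_⟩
      rw [Units.val_mul, Units.val_mul, Module.End.mul_apply, Module.End.mul_apply, e₂, e₁]
    | inv t _ h₁ =>
      obtain ⟨u, hu, e⟩ := h₁
      refine ⟨u⁻¹, Subgroup.inv_mem _ hu, fun x => ?_⟩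
      have h1 := e (((t⁻¹ : (Module.End (ZMod p) W)ˣ) : Module.End (ZMod p) W) x)
      have h2 : (t : Module.End (ZMod p) W)
          (((t⁻¹ : (Module.End (ZMod p) W)ˣ) : Module.End (ZMod p) W) x) = x := by
        rw [← Module.End.mul_apply, Units.mul_inv]
        rfl
      rw [h2] at h1
      rw [← h1, ← Module.End.mul_apply, Units.inv_mul]
      rfl
  obtain ⟨x, hx, ex⟩ := hlift x' hx'
  obtain ⟨y, hy, ey⟩ := hlift y' hy'
  refine ⟨x, hx, y, hy, (v' : V), (w' : V), ?_, ?_, ?_, ?_, ?_⟩
  · intro c d hcd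
    apply hind c d
    apply Subtype.ext
    rw [Submodule.coe_add, Submodule.coe_smul, Submodule.coe_smul, hcd]
    rfl
  · rw [ex, e1]
  · rw [ex, e2, Submodule.coe_add]
  · rw [ey, e3, Submodule.coe_add]
  · rw [ey, e4]

end Cfsg.Agent.Helper11.QP
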