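import Cfsg.Agent.Lib.Helper11.QP3
import Cfsg.Prelude.Def_Transfer

/-!
# Quadratic pairs, IV: from a group acting by conjugation on an elementary abelian subgroup to the
module lemma
-/

set_option autoImplicit false
set_option linter.style.haveILetI false
set_option linter.unusedSectionVars false
set_option linter.unusedVariables false

namespace Cfsg.Agent.Helper11.QP

universe u

open scoped commutatorElement

/-- The configuration recognised as `Qd(p)`: commuting independent `v`, `w` of order `p` on which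
`x`, `y` act as the two elementary matrices. -/
def IsQdPair (p : ℕ) {Y : Type*} [Group Y] (v w x y : Y) : Prop :=
  v ^ p = 1 ∧ w ^ p = 1 ∧ v * w = w * v ∧ (∀ i j : ℕ, v ^ i * w ^ j = 1 → p ∣ i ∧ p ∣ j) ∧
    x * v * x⁻¹ = v ∧ x * w * x⁻¹ = w * v ∧ y * v * y⁻¹ = v * w ∧ y * w * y⁻¹ = w

variable {p : ℕ} [hp : Fact p.Prime]

section bridge

variable {Y : Type*} [Group Y] {A : Type*} [AddCommGroup A] [Module (ZMod p) A]

/-- additive endomorphism from an automorphism of `Multiplicative A` -/
noncomputable def autToEnd : MulAut (Multiplicative A) →* Module.End (ZMod p) A where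
  toFun σ := AddMonoidHom.toZModLinearMap p (AddMonoidHom.toMultiplicative.symm σ.toMonoidHom)
  map_one' := by
    apply LinearMap.ext
    intro a
    rfl
  map_mul' σ τ := by
    apply LinearMap.ext
    intro a
    rfl

theorem autToEnd_apply (σ : MulAut (Multiplicative A)) (a : A) :
    (autToEnd (p := p) σ) a = Multiplicative.toAdd (σ (Multiplicative.ofAdd a)) := rfl

variable (e : Multiplicative A →* Y) (he : Function.Injective e)

/-- the linear action of the normalizer of `e.range` on `A`. -/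
noncomputable def rho :
    ↥(Subgroup.normalizer (e.range : Set Y)) →* (Module.End (ZMod p) A)ˣ :=
  ((autToEnd (p := p) (A := A)).comp
    ((MulAut.congr (MonoidHom.ofInjective he).symm).toMonoidHom.comp
      (Subgroup.normalizerMonoidHom e.range))).toHomUnits

theorem rho_spec (n : ↥(Subgroup.normalizer (e.range : Set Y))) (a : A) :
    e (Multiplicative.ofAdd (((rho e he n : (Module.End (ZMod p) A)ˣ) : Module.End (ZMod p) A) a)) =
      (n : Y) * e (Multiplicative.ofAdd a) * (n : Y)⁻¹ := by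
  have h1 : ((rho e he n : (Module.End (ZMod p) A)ˣ) : Module.End (ZMod p) A) a =
      Multiplicative.toAdd ((MonoidHom.ofInjective he).symm
        (Subgroup.normalizerMonoidHom e.range n ((MonoidHom.ofInjective he) (Multiplicative.ofAdd a)))) := rfl
  rw [h1, ofAdd_toAdd]
  set z := Subgroup.normalizerMonoidHom e.range n ((MonoidHom.ofInjective he) (Multiplicative.ofAdd a))
    with hz
  have h2 : e ((MonoidHom.ofInjective he).symm z) = (z : Y) := by
    have := (MonoidHom.ofInjective he).apply_symm_apply z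
    conv_rhs => rw [← this]
    rfl
  rw [h2, hz]
  rfl

include he in
theorem ofAdd_injective' {a b : A} (h : e (Multiplicative.ofAdd a) = e (Multiplicative.ofAdd b)) :
    a = b :=
  Multiplicative.ofAdd.injective (he h)

theorem rho_eq_one_iff (n : ↥(Subgroup.normalizer (e.range : Set Y))) :
    rho (p := p) e he n = 1 ↔ (n : Y) ∈ Subgroup.centralizer (e.range : Set Y) := by
  constructor
  · intro h
    rw [Subgroup.mem_centralizer_iff]
    rintro _ ⟨m, rfl⟩
    have h1 := rho_spec (p := p) e he n (Multiplicative.toAdd m)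
    rw [h, Units.val_one, Module.End.one_apply, ofAdd_toAdd] at h1
    conv_lhs => rw [h1]
    group
  · intro h
    rw [Subgroup.mem_centralizer_iff] at h
    apply Units.ext
    apply LinearMap.ext
    intro a
    apply ofAdd_injective' e he
    rw [rho_spec, Units.val_one, Module.End.one_apply]
    have h1 := h (e (Multiplicative.ofAdd a)) ⟨_, rfl⟩
    rw [← h1]
    group

theorem rho_quad (n : ↥(Subgroup.normalizer (e.range : Set Y)))
    (hq : ⁅⁅e.range, Subgroup.zpowers (n : Y)⁆, Subgroup.zpowers (n : Y)⁆ = ⊥) :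
    (((rho e he n : (Module.End (ZMod p) A)ˣ) : Module.End (ZMod p) A) - 1) *
      (((rho e he n : (Module.End (ZMod p) A)ˣ) : Module.End (ZMod p) A) - 1) = 0 := by
  set T := ((rho e he n : (Module.End (ZMod p) A)ˣ) : Module.End (ZMod p) A) with hT
  rw [Subgroup.commutator_eq_bot_iff_le_centralizer, Subgroup.commutator_le] at hq
  have hfix : ∀ a : A, T (a - T a) = a - T a := by
    intro a
    apply ofAdd_injective' e he
    rw [hT, rho_spec]
    have h1 : e (Multiplicative.ofAdd (a - T a)) = ⁅e (Multiplicative.ofAdd a), (n : Y)⁆ := by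
      rw [ofAdd_sub, map_div, hT, rho_spec, commutatorElement_def, div_eq_mul_inv]
      group
    rw [← hT, h1]
    have h2 := hq (e (Multiplicative.ofAdd a)) ⟨_, rfl⟩ (n : Y) (Subgroup.mem_zpowers _)
    have h3 := (Subgroup.mem_centralizer_iff.mp h2) (n : Y) (Subgroup.mem_zpowers _)
    rw [h3]
    group
  apply LinearMap.ext
  intro a
  rw [Module.End.mul_apply, LinearMap.sub_apply, LinearMap.sub_apply, Module.End.one_apply,
    Module.End.one_apply, LinearMap.zero_apply]
  have h1 : T a - a = -(a - T a) := by abel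
  rw [h1, map_neg, hfix]
  abel

theorem map_ofAdd_nsmul (i : ℕ) (a : A) :
    e (Multiplicative.ofAdd (i • a)) = e (Multiplicative.ofAdd a) ^ i := by
  rw [ofAdd_nsmul, map_pow]

theorem closure_pair_eq_map (N : Subgroup Y) (g h : Y) (hg : g ∈ N) (hh : h ∈ N) :
    Subgroup.closure ({g, h} : Set Y) =
      (Subgroup.closure ({⟨g, hg⟩, ⟨h, hh⟩} : Set ↥N)).map N.subtype := by
  rw [MonoidHom.map_closure, Set.image_pair]
  rfl

include he in
/-- **The module lemma, group form** (abstract model). -/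
theorem exists_pair_abstract [Finite A] (hDL : DLHyp p) (g h : Y)
    (hg : g ∈ Subgroup.normalizer (e.range : Set Y))
    (hh : h ∈ Subgroup.normalizer (e.range : Set Y))
    (hqg : ⁅⁅e.range, Subgroup.zpowers g⁆, Subgroup.zpowers g⁆ = ⊥)
    (hqh : ⁅⁅e.range, Subgroup.zpowers h⁆, Subgroup.zpowers h⁆ = ⊥)
    (hnp : ¬ ∀ k ∈ Subgroup.closure ({g, h} : Set Y),
      ∃ m : ℕ, k ^ p ^ m ∈ Subgroup.centralizer (e.range : Set Y)) :
    ∃ x ∈ Subgroup.closure ({g, h} : Set Y), ∃ y ∈ Subgroup.closure ({g, h} : Set Y),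
      ∃ v ∈ e.range, ∃ w ∈ e.range, IsQdPair p v w x y := by
  set N := Subgroup.normalizer (e.range : Set Y) with hN
  set g' : ↥N := ⟨g, hg⟩ with hg'
  set h' : ↥N := ⟨h, hh⟩ with hh'
  set ρ := rho (p := p) e he with hρ
  have hcl : Subgroup.closure ({ρ g', ρ h'} : Set (Module.End (ZMod p) A)ˣ) =
      (Subgroup.closure ({g', h'} : Set ↥N)).map ρ := by
    rw [MonoidHom.map_closure, Set.image_pair]
  have hcl2 := closure_pair_eq_map N g h hg hh
  have hnp' : ¬ IsPGroup p ↥(Subgroup.closure ({ρ g', ρ h'} : Set (Module.End (ZMod p) A)ˣ)) := by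
    intro hP
    apply hnp
    intro k hk
    rw [hcl2] at hk
    obtain ⟨k', hk', rfl⟩ := hk
    have h1 : ρ k' ∈ Subgroup.closure ({ρ g', ρ h'} : Set (Module.End (ZMod p) A)ˣ) := by
      rw [hcl]; exact ⟨k', hk', rfl⟩
    obtain ⟨m, hm⟩ := hP ⟨ρ k', h1⟩
    refine ⟨m, ?_⟩
    have h2 : ρ (k' ^ p ^ m) = 1 := by
      rw [map_pow]
      have := congrArg Subtype.val hm
      simpa using this
    have h3 := (rho_eq_one_iff e he _).mp h2
    simpa using h3
  obtain ⟨x₁, hx₁, y₁, hy₁, v, w, hind, hxv, hxw, hyv, hyw⟩ :=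
    exists_rational_pair hDL (ρ g') (ρ h') (rho_quad e he g' hqg) (rho_quad e he h' hqh) hnp'
  rw [hcl] at hx₁ hy₁
  obtain ⟨x', hx', rfl⟩ := hx₁
  obtain ⟨y', hy', rfl⟩ := hy₁
  refine ⟨(x' : Y), ?_, (y' : Y), ?_, e (Multiplicative.ofAdd v), ⟨_, rfl⟩,
    e (Multiplicative.ofAdd w), ⟨_, rfl⟩, ?_⟩
  · rw [hcl2]; exact ⟨x', hx', rfl⟩
  · rw [hcl2]; exact ⟨y', hy', rfl⟩
  · have hpz : ∀ a : A, p • a = 0 := fun a => ZModModule.char_nsmul_eq_zero p a
    refine ⟨?_, ?_, ?_, ?_, ?_, ?_, ?_, ?_⟩
    · rw [← map_ofAdd_nsmul, hpz, ofAdd_zero, map_one]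
    · rw [← map_ofAdd_nsmul, hpz, ofAdd_zero, map_one]
    · rw [← e.map_mul, ← e.map_mul, mul_comm]
    · intro i j hij
      rw [← map_ofAdd_nsmul, ← map_ofAdd_nsmul, ← e.map_mul, ← ofAdd_add] at hij
      have h1 : i • v + j • w = 0 := by
        apply ofAdd_injective' e he
        rw [hij, ofAdd_zero, map_one]
      rw [← Nat.cast_smul_eq_nsmul (ZMod p) i v, ← Nat.cast_smul_eq_nsmul (ZMod p) j w] at h1
      obtain ⟨h2, h3⟩ := hind _ _ h1
      exact ⟨(ZMod.natCast_eq_zero_iff i p).mp h2, (ZMod.natCast_eq_zero_iff j p).mp h3⟩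
    · rw [← rho_spec (p := p) e he x' v, hxv]
    · rw [← rho_spec (p := p) e he x' w, hxw, ofAdd_add, e.map_mul]
    · rw [← rho_spec (p := p) e he y' v, hyv, ofAdd_add, e.map_mul]
    · rw [← rho_spec (p := p) e he y' w, hyw]

end bridge

section concrete

/-- an elementary abelian subgroup is the injective image of a `ZMod p`-module. -/
theorem exists_model {Y : Type u} [Group Y] (V : Subgroup Y) (hV : Cfsg.IsElementaryAbelian p V) :
    ∃ (A : Type u) (_ : AddCommGroup A) (_ : Module (ZMod p) A) (e : Multiplicative A →* Y),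
      Function.Injective e ∧ e.range = V := by
  letI : CommGroup ↥V := { (inferInstance : Group ↥V) with mul_comm := hV.1.is_comm.comm }
  have hexp : ∀ a : Additive ↥V, p • a = 0 := by
    intro a
    have h1 : (Additive.toMul a) ^ p = 1 := by
      apply Subtype.ext
      rw [Subgroup.coe_pow]
      exact hV.2 _ (Additive.toMul a).2
    apply Additive.toMul.injective
    rw [toMul_nsmul, h1, toMul_zero]
  letI : Module (ZMod p) (Additive ↥V) := AddCommGroup.zmodModule hexp
  refine ⟨Additive ↥V, inferInstance, inferInstance,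
    V.subtype.comp (MulEquiv.multiplicativeAdditive ↥V).toMonoidHom, ?_, ?_⟩
  · exact V.subtype_injective.comp (MulEquiv.multiplicativeAdditive ↥V).injective
  · rw [MonoidHom.range_comp]
    have : (MulEquiv.multiplicativeAdditive ↥V).toMonoidHom.range = ⊤ :=
      MonoidHom.range_eq_top.mpr (MulEquiv.multiplicativeAdditive ↥V).surjective
    rw [this, ← MonoidHom.range_eq_map, Subgroup.range_subtype]

/-- **The module lemma, group form.** -/
theorem exists_pair_of_quadratic {Y : Type u} [Group Y] [Finite Y] (hDL : DLHyp p)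
    (V : Subgroup Y) (hV : Cfsg.IsElementaryAbelian p V) (g h : Y)
    (hg : g ∈ Subgroup.normalizer (V : Set Y)) (hh : h ∈ Subgroup.normalizer (V : Set Y))
    (hqg : ⁅⁅V, Subgroup.zpowers g⁆, Subgroup.zpowers g⁆ = ⊥)
    (hqh : ⁅⁅V, Subgroup.zpowers h⁆, Subgroup.zpowers h⁆ = ⊥)
    (hnp : ¬ ∀ k ∈ Subgroup.closure ({g, h} : Set Y),
      ∃ m : ℕ, k ^ p ^ m ∈ Subgroup.centralizer (V : Set Y)) :
    ∃ x ∈ Subgroup.closure ({g, h} : Set Y), ∃ y ∈ Subgroup.closure ({g, h} : Set Y),
      ∃ v ∈ V, ∃ w ∈ V, IsQdPair p v w x y := by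
  obtain ⟨A, i1, i2, e, he, rfl⟩ := exists_model V hV
  haveI : Finite A := by
    have : Finite (Multiplicative A) := Finite.of_injective e he
    exact this
  exact exists_pair_abstract e he hDL g h hg hh hqg hqh hnp

end concrete

end Cfsg.Agent.Helper11.QP
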