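import Cfsg.Agent.Lib.Helper11.QP4
import Cfsg.Agent.Lib.Helper10.MinNormal2
import Cfsg.Agent.Lib.Helper10.StableClosure
import Cfsg.Agent.Lib.Helper67.BaerSuzuki
import Cfsg.Agent.Lib.Helper31.GTStable

/-!
# Quadratic pairs, V: a quadratic element outside `O_p` modulo the centralizer yields a `Qd(p)` pair
in a section (Glauberman's lemma)
-/

set_option autoImplicit false
set_option linter.style.haveILetI false
set_option linter.unusedSectionVars false
set_option linter.unusedVariables false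

namespace Cfsg.Agent.Helper11.QP

universe u

open Cfsg.Agent.Helper10

variable {p : ℕ} [hp : Fact p.Prime]

/-- **Lemma Z**: a normal subgroup inducing a `p`-group on a minimal normal `p`-subgroup centralizes
it. -/
theorem le_centralizer_of_minNormal {Y : Type*} [Group Y] [Finite Y] (V : Subgroup Y)
    (hV : IsMinNormal V) (hVp : IsPGroup p V) (L : Subgroup Y) [hLn : L.Normal]
    (hL : ∀ l ∈ L, ∃ k : ℕ, l ^ p ^ k ∈ Subgroup.centralizer (V : Set Y)) :
    L ≤ Subgroup.centralizer (V : Set Y) := by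
  obtain ⟨hVn, hVne, hVmin⟩ := hV
  haveI := hVn
  set φ : Y →* MulAut ↥V := MulAut.conjNormal with hφ
  have hφ1 : ∀ c ∈ Subgroup.centralizer (V : Set Y), φ c = 1 := by
    intro c hc
    apply MulEquiv.ext
    intro v
    apply Subtype.ext
    rw [hφ, MulAut.conjNormal_apply, MulAut.one_apply]
    have := (Subgroup.mem_centralizer_iff.mp hc) v v.2
    rw [← this]; group
  set Q : Subgroup (MulAut ↥V) := L.map φ with hQ
  have hQp : IsPGroup p ↥Q := by
    rintro ⟨q, l, hl, rfl⟩
    obtain ⟨k, hk⟩ := hL l hl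
    refine ⟨k, ?_⟩
    apply Subtype.ext
    rw [Subgroup.coe_pow, Subgroup.coe_one]
    show (φ l) ^ p ^ k = 1
    rw [← map_pow]
    exact hφ1 _ hk
  have hcardV : p ∣ Nat.card ↥V := by
    haveI : Nontrivial ↥V := (Subgroup.nontrivial_iff_ne_bot V).mpr hVne
    obtain ⟨n, hn0, hn⟩ := hVp.nontrivial_iff_card.mp inferInstance
    rw [hn]
    exact dvd_pow_self _ (ne_of_gt hn0)
  have hfix1 : (1 : ↥V) ∈ MulAction.fixedPoints ↥Q ↥V := by
    intro q
    show (q : MulAut ↥V) (1 : ↥V) = 1
    exact map_one _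
  obtain ⟨b, hb, hb1⟩ := hQp.exists_fixed_point_of_prime_dvd_card_of_fixed_point ↥V hcardV hfix1
  -- `b` is centralized by `L`
  have hbL : (b : Y) ∈ V ⊓ Subgroup.centralizer (L : Set Y) := by
    refine Subgroup.mem_inf.mpr ⟨b.2, ?_⟩
    rw [Subgroup.mem_centralizer_iff]
    intro l hl
    have h1 := hb ⟨φ l, l, hl, rfl⟩
    have h2 : (φ l) b = b := h1
    have h3 := congrArg Subtype.val h2
    rw [hφ, MulAut.conjNormal_apply] at h3
    conv_rhs => rw [← h3]
    group
  haveI : (Subgroup.centralizer (L : Set Y)).Normal := Subgroup.normal_centralizer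
  have hKn : (V ⊓ Subgroup.centralizer (L : Set Y)).Normal := inferInstance
  rcases hVmin _ hKn inf_le_left with h0 | h0
  · exfalso
    rw [h0, Subgroup.mem_bot] at hbL
    apply hb1
    apply Subtype.ext
    rw [hbL]; rfl
  · have h1 : V ≤ Subgroup.centralizer (L : Set Y) := by
      rw [← h0]; exact inf_le_right
    exact Subgroup.le_centralizer_iff.mp h1

/-- a minimal normal subgroup that is a `p`-group is elementary abelian. -/
theorem isElementaryAbelian_of_minNormal {Y : Type u} [Group Y] [Finite Y] (V : Subgroup Y)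
    (hV : IsMinNormal V) (hVp : IsPGroup p V) : Cfsg.IsElementaryAbelian p V := by
  haveI : Group.IsNilpotent ↥V := hVp.isNilpotent
  have hab : IsMulCommutative ↥V := hV.isMulCommutative_of_isSolvable
  obtain ⟨q, hq, hqd, hqe⟩ := hV.exists_prime_pow_eq_one_of_comm hab
  obtain ⟨k, hk⟩ := IsPGroup.iff_card.mp hVp
  rw [hk] at hqd
  have hqp : q = p := (Nat.prime_dvd_prime_iff_eq hq hp.out).mp (hq.dvd_of_dvd_pow hqd)
  subst hqp
  exact ⟨hab, hqe⟩

theorem zpowers_sup_zpowers {Z : Type*} [Group Z] (a b : Z) :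
    Subgroup.zpowers a ⊔ Subgroup.zpowers b = Subgroup.closure ({a, b} : Set Z) := by
  rw [Set.insert_eq, Subgroup.closure_union, Subgroup.zpowers_eq_closure,
    Subgroup.zpowers_eq_closure]

/-- The hypothesis "the image of `g` in `Y / C_Y(P)` is not in `O_p(Y / C_Y(P))`", quotient-free. -/
def NotInOp (p : ℕ) {Y : Type*} [Group Y] (P : Subgroup Y) (g : Y) : Prop :=
  ∀ L : Subgroup Y, L.Normal →
    (∀ l ∈ L, ∃ k : ℕ, l ^ p ^ k ∈ Subgroup.centralizer (P : Set Y)) → g ∉ L

/-- **Glauberman's lemma**, inductive core. `T` is any property of finite groups implied by the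
presence of a `Qd(p)`-pair and inherited from quotients. -/
theorem glauberman_core (hDL : DLHyp p) (T : ∀ (Z : Type u) [Group Z], Prop)
    (hT_pair : ∀ (Z : Type u) [Group Z] [Finite Z] (v w x y : Z), IsQdPair p v w x y → T Z)
    (hT_quot : ∀ (Z : Type u) [Group Z] [Finite Z] (N : Subgroup Z) [N.Normal], T (Z ⧸ N) → T Z) :
    ∀ (n : ℕ) (Y : Type u) [Group Y] [Finite Y], Nat.card Y = n →
      ∀ (P : Subgroup Y) [P.Normal], IsPGroup p P → ∀ g : Y,
        ⁅⁅P, Subgroup.zpowers g⁆, Subgroup.zpowers g⁆ = ⊥ → NotInOp p P g → T Y := by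
  intro n
  induction n using Nat.strong_induction_on with
  | _ n ih =>
  intro Y _ _ hcard P hPn hPp g hq hH
  -- `P ≠ ⊥`
  have hPne : P ≠ ⊥ := by
    rintro rfl
    refine hH ⊤ inferInstance ?_ (Subgroup.mem_top g)
    intro l _
    refine ⟨0, ?_⟩
    rw [Subgroup.mem_centralizer_iff]
    intro h hh
    have : h = 1 := hh
    rw [this, one_mul, mul_one]
  obtain ⟨V, hVmin, hVP⟩ := exists_isMinNormal_le P hPne
  have hVp : IsPGroup p V := hPp.to_le hVP
  have hVE := isElementaryAbelian_of_minNormal V hVmin hVp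
  haveI hVn : V.Normal := hVmin.1
  haveI hCn : (Subgroup.centralizer (V : Set Y)).Normal := Subgroup.normal_centralizer
  have hqV : ⁅⁅V, Subgroup.zpowers g⁆, Subgroup.zpowers g⁆ = ⊥ := by
    rw [eq_bot_iff, ← hq]
    exact Subgroup.commutator_mono (Subgroup.commutator_mono hVP le_rfl) le_rfl
  have hnorm : ∀ a : Y, a ∈ Subgroup.normalizer (V : Set Y) := by
    intro a
    rw [Subgroup.normalizer_eq_top]
    exact Subgroup.mem_top a
  by_cases hgC : g ∈ Subgroup.centralizer (V : Set Y)
  · -- pass to `Y ⧸ V`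
    apply hT_quot Y V
    have hlt : Nat.card (Y ⧸ V) < n := by
      rw [← hcard, ← Subgroup.index_mul_card V, ← Subgroup.index_eq_card]
      have h1 : 1 < Nat.card ↥V := by
        rw [Subgroup.one_lt_card_iff_ne_bot]
        exact hVmin.2.1
      have h2 : 0 < V.index := Nat.pos_of_ne_zero (Subgroup.index_ne_zero_of_finite)
      nlinarith
    haveI : (P.map (QuotientGroup.mk' V)).Normal := hPn.map _ (QuotientGroup.mk'_surjective V)
    refine ih _ hlt (Y ⧸ V) rfl (P.map (QuotientGroup.mk' V)) (hPp.map _)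
      (QuotientGroup.mk' V g) (quad_map (QuotientGroup.mk' V) hq) ?_
    intro Lb hLbn hLb hgLb
    haveI := hLbn
    set L := Lb.comap (QuotientGroup.mk' V) ⊓ Subgroup.centralizer (V : Set Y) with hL
    have hLn : L.Normal := inferInstance
    obtain ⟨r, hr⟩ := IsPGroup.iff_card.mp hVp
    refine hH L hLn ?_ (Subgroup.mem_inf.mpr ⟨hgLb, hgC⟩)
    intro l hl
    obtain ⟨hl1, hl2⟩ := Subgroup.mem_inf.mp hl
    obtain ⟨k, hk⟩ := hLb _ hl1
    rw [← map_pow] at hk
    have hs1 : l ^ p ^ k ∈ Subgroup.centralizer (V : Set Y) := Subgroup.pow_mem _ hl2 _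
    have hs2 : l ^ p ^ k ∈ (Cfsg.Agent.Helper31.GT.secAct P V).ker := by
      rw [Cfsg.Agent.Helper31.GT.mem_ker_secAct]
      intro v hv
      have h1 := (Subgroup.mem_centralizer_iff.mp hk) (QuotientGroup.mk' V v)
        (Subgroup.mem_map_of_mem _ hv)
      rw [← QuotientGroup.eq_one_iff (N := V)]
      have h2 : ((l ^ p ^ k * v * (l ^ p ^ k)⁻¹ * v⁻¹ : Y) : Y ⧸ V) =
          (QuotientGroup.mk' V (l ^ p ^ k)) * (QuotientGroup.mk' V v) *
            (QuotientGroup.mk' V (l ^ p ^ k))⁻¹ * (QuotientGroup.mk' V v)⁻¹ := by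
        simp
      rw [h2, ← h1]
      group
    have h3 := Cfsg.Agent.Helper31.GT.pow_card_mem_centralizer P V _ hs1 hs2
    refine ⟨k + r, ?_⟩
    rw [pow_add, pow_mul, ← hr]
    exact h3
  · by_cases hall : ∀ a b : Y, ∀ k ∈ Subgroup.closure ({a * g * a⁻¹, b * g * b⁻¹} : Set Y),
        ∃ m : ℕ, k ^ p ^ m ∈ Subgroup.centralizer (V : Set Y)
    · exfalso
      apply hgC
      set C := Subgroup.centralizer (V : Set Y) with hC
      obtain ⟨Q⟩ : Nonempty (Sylow p (Y ⧸ C)) := inferInstance
      have hconj : ∀ b : Y, (QuotientGroup.mk' C (b * g * b⁻¹)) ∈ (Q : Subgroup (Y ⧸ C)) := by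
        intro b
        apply Cfsg.Agent.Helper67.baer_suzuki_elt
        intro ab
        obtain ⟨a, rfl⟩ := QuotientGroup.mk'_surjective C ab
        rw [zpowers_sup_zpowers]
        have h1 : ({(QuotientGroup.mk' C) (b * g * b⁻¹),
            (QuotientGroup.mk' C) a * (QuotientGroup.mk' C) (b * g * b⁻¹) *
              ((QuotientGroup.mk' C) a)⁻¹} : Set (Y ⧸ C)) =
            (QuotientGroup.mk' C) '' {b * g * b⁻¹, (a * b) * g * (a * b)⁻¹} := by
          rw [Set.image_pair]
          congr 2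
          rw [← map_inv, ← map_mul, ← map_mul]
          congr 1
          group
        rw [h1, ← MonoidHom.map_closure]
        rintro ⟨_, k, hk, rfl⟩
        obtain ⟨m, hm⟩ := hall b (a * b) k hk
        refine ⟨m, ?_⟩
        apply Subtype.ext
        rw [Subgroup.coe_pow, Subgroup.coe_one, ← map_pow]
        exact (QuotientGroup.eq_one_iff _).mpr hm
      set L := ((Q : Subgroup (Y ⧸ C)).normalCore).comap (QuotientGroup.mk' C) with hL
      haveI hLn : L.Normal := inferInstance
      have hgL : g ∈ L := by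
        rw [hL, Subgroup.mem_comap]
        intro bb
        obtain ⟨b, rfl⟩ := QuotientGroup.mk'_surjective C bb
        have := hconj b
        rw [map_mul, map_mul, map_inv] at this
        exact this
      have hLp : ∀ l ∈ L, ∃ k : ℕ, l ^ p ^ k ∈ C := by
        intro l hl
        have h1 : QuotientGroup.mk' C l ∈ (Q : Subgroup (Y ⧸ C)) :=
          Subgroup.normalCore_le _ hl
        obtain ⟨k, hk⟩ := Q.2 ⟨_, h1⟩
        refine ⟨k, ?_⟩
        have h2 := congrArg Subtype.val hk
        rw [Subgroup.coe_pow, Subgroup.coe_one, ← map_pow] at h2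
        exact (QuotientGroup.eq_one_iff _).mp h2
      exact le_centralizer_of_minNormal V hVmin hVp L hLp hgL
    · push Not at hall
      obtain ⟨a, b, hab⟩ := hall
      have hnp : ¬ ∀ k ∈ Subgroup.closure ({a * g * a⁻¹, b * g * b⁻¹} : Set Y),
          ∃ m : ℕ, k ^ p ^ m ∈ Subgroup.centralizer (V : Set Y) := by
        intro h
        obtain ⟨k, hk, hk2⟩ := hab
        obtain ⟨m, hm⟩ := h k hk
        exact hk2 m hm
      obtain ⟨x, _, y, _, v, _, w, _, hpair⟩ := exists_pair_of_quadratic hDL V hVE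
        (a * g * a⁻¹) (b * g * b⁻¹) (hnorm _) (hnorm _) (quad_conj a hqV) (quad_conj b hqV) hnp
      exact hT_pair Y v w x y hpair

end Cfsg.Agent.Helper11.QP
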