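import Cfsg.Agent.Lib.Helper11.QP5
import Cfsg.Agent.Lib.Helper31.QdRecog
import Cfsg.Agent.Lib.Helper46.Involves2

/-!
# Quadratic pairs, VI: sections `SL₂(p)` and `Qd(p)` from a pair; Glauberman's lemma for
`IsNormalizerPStable`
-/

set_option autoImplicit false
set_option linter.style.haveILetI false
set_option linter.unusedSectionVars false
set_option linter.unusedVariables false

namespace Cfsg.Agent.Helper11.QP

universe u w

open Cfsg Cfsg.Agent.Helper10 Cfsg.Agent.Helper46 Cfsg.Agent.Helper31.QdR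

variable {p : ℕ} [hp : Fact p.Prime]

/-- A section with prescribed top group from an injection and a surjection. -/
theorem section_of_inj_surj {Y S R : Type*} [Group Y] [Group S] [Group R] (π : R →* Y)
    (hπ : Function.Injective π) (ρ : R →* S) (hρ : Function.Surjective ρ) :
    ∃ (K L : Subgroup Y) (hL : (L.subgroupOf K).Normal), K = π.range ∧
      Nonempty (K ⧸ L.subgroupOf K ≃* S) := by
  set K := π.range with hK
  set f : ↥K →* S := ρ.comp (MonoidHom.ofInjective hπ).symm.toMonoidHom with hf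
  have hfs : Function.Surjective f := by
    intro s
    obtain ⟨r, rfl⟩ := hρ s
    refine ⟨MonoidHom.ofInjective hπ r, ?_⟩
    show ρ ((MonoidHom.ofInjective hπ).symm (MonoidHom.ofInjective hπ r)) = ρ r
    rw [MulEquiv.symm_apply_apply]
  have hR : (f.ker.map K.subtype).subgroupOf K = f.ker :=
    Subgroup.comap_map_eq_self_of_injective K.subtype_injective _
  have hN : ((f.ker.map K.subtype).subgroupOf K).Normal := by
    rw [hR]; infer_instance
  refine ⟨K, f.ker.map K.subtype, hN, rfl, ⟨?_⟩⟩
  exact (QuotientGroup.quotientMulEquivOfEq hR).trans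
    (QuotientGroup.quotientKerEquivOfSurjective f hfs)

/-- **`SL₂(p)` as a section**, from a pair, inside `⟨x, y⟩`. -/
theorem sl2_section_of_pair {Y : Type*} [Group Y] (v w x y : Y) (h : IsQdPair p v w x y) :
    ∃ (K L : Subgroup Y) (hL : (L.subgroupOf K).Normal), K ≤ Subgroup.closure {x, y} ∧
      Nonempty (K ⧸ L.subgroupOf K ≃* Matrix.SpecialLinearGroup (Fin 2) (ZMod p)) := by
  classical
  obtain ⟨hv, hw, hvw, hind, hxv, hxw, hyv, hyw⟩ := h
  set e := coordHom v w hv hw hvw with he
  have hcomm : Commute v w := hvw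
  have heinj : Function.Injective e := by
    rw [injective_iff_map_eq_one]
    intro m hm
    rw [he, coordHom_apply] at hm
    obtain ⟨h1, h2⟩ := hind _ _ hm
    have h3 : (Multiplicative.toAdd m 0).val = 0 :=
      Nat.eq_zero_of_dvd_of_lt h1 (ZMod.val_lt _)
    have h4 : (Multiplicative.toAdd m 1).val = 0 :=
      Nat.eq_zero_of_dvd_of_lt h2 (ZMod.val_lt _)
    apply Multiplicative.toAdd.injective
    rw [toAdd_one]
    ext i
    fin_cases i
    · exact (ZMod.val_eq_zero _).mp h3
    · exact (ZMod.val_eq_zero _).mp h4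
  -- the graph subgroup
  set R : Subgroup (Y × SL2 (ZMod p)) :=
    { carrier := {r | ∀ m : Multiplicative (Fin 2 → ZMod p),
        r.1 * e m * r.1⁻¹ = e (actHom (ZMod p) r.2 m)}
      one_mem' := by
        intro m
        simp
      mul_mem' := by
        intro r r' hr hr' m
        have h1 := hr' m
        have h2 := hr (actHom (ZMod p) r'.2 m)
        show (r.1 * r'.1) * e m * (r.1 * r'.1)⁻¹ = e (actHom (ZMod p) (r.2 * r'.2) m)
        rw [map_mul, MulAut.mul_apply, ← h2, ← h1]
        group
      inv_mem' := by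
        intro r hr m
        have h1 := hr (actHom (ZMod p) r.2⁻¹ m)
        have h2 : actHom (ZMod p) r.2 (actHom (ZMod p) r.2⁻¹ m) = m := by
          rw [← MulAut.mul_apply, ← map_mul, mul_inv_cancel, map_one, MulAut.one_apply]
        rw [h2] at h1
        show r.1⁻¹ * e m * r.1⁻¹⁻¹ = e (actHom (ZMod p) r.2⁻¹ m)
        rw [← h1]
        group } with hR
  have hRmem : ∀ r : Y × SL2 (ZMod p), r ∈ R ↔ ∀ m : Multiplicative (Fin 2 → ZMod p),
      r.1 * e m * r.1⁻¹ = e (actHom (ZMod p) r.2 m) := fun r => Iff.rfl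
  have hxR : (x, unip (1 : ZMod p)) ∈ R := by
    rw [hRmem]
    intro m
    show x * e m * x⁻¹ = e (Multiplicative.ofAdd (unip (1 : ZMod p) • Multiplicative.toAdd m))
    rw [he, coordHom_apply, coordHom_apply, unip_smul, toAdd_ofAdd]
    simp only [Matrix.cons_val_zero, Matrix.cons_val_one, one_mul]
    rw [pow_val_add hv]
    have e1 : x * (v ^ (Multiplicative.toAdd m 0).val * w ^ (Multiplicative.toAdd m 1).val) * x⁻¹
        = (x * v * x⁻¹) ^ (Multiplicative.toAdd m 0).val *
          (x * w * x⁻¹) ^ (Multiplicative.toAdd m 1).val := by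
      rw [conj_pow, conj_pow]; group
    rw [e1, hxv, hxw, hcomm.symm.mul_pow]
    have h1 : Commute (w ^ (Multiplicative.toAdd m 1).val) (v ^ (Multiplicative.toAdd m 1).val) :=
      (hcomm.symm.pow_pow _ _)
    rw [h1.eq, mul_assoc]
  have hyR : (y, lowU (1 : ZMod p)) ∈ R := by
    rw [hRmem]
    intro m
    show y * e m * y⁻¹ = e (Multiplicative.ofAdd (lowU (1 : ZMod p) • Multiplicative.toAdd m))
    rw [he, coordHom_apply, coordHom_apply, lowU_smul, toAdd_ofAdd]
    simp only [Matrix.cons_val_zero, Matrix.cons_val_one, one_mul]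
    rw [pow_val_add hw]
    have e1 : y * (v ^ (Multiplicative.toAdd m 0).val * w ^ (Multiplicative.toAdd m 1).val) * y⁻¹
        = (y * v * y⁻¹) ^ (Multiplicative.toAdd m 0).val *
          (y * w * y⁻¹) ^ (Multiplicative.toAdd m 1).val := by
      rw [conj_pow, conj_pow]; group
    rw [e1, hyv, hyw, hcomm.mul_pow, mul_assoc]
  -- the subgroup generated by the two graph points
  set R₀ : Subgroup (Y × SL2 (ZMod p)) :=
    Subgroup.closure {(x, unip (1 : ZMod p)), (y, lowU (1 : ZMod p))} with hR₀
  have hR₀R : R₀ ≤ R := by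
    rw [hR₀, Subgroup.closure_le]
    rintro r (rfl | rfl)
    · exact hxR
    · exact hyR
  set ρ : ↥R₀ →* SL2 (ZMod p) := (MonoidHom.snd Y (SL2 (ZMod p))).comp R₀.subtype with hρ
  set π : ↥R₀ →* Y := (MonoidHom.fst Y (SL2 (ZMod p))).comp R₀.subtype with hπ
  have hρsurj : Function.Surjective ρ := by
    rw [← MonoidHom.range_eq_top, hρ, MonoidHom.range_comp, Subgroup.range_subtype, hR₀,
      MonoidHom.map_closure, Set.image_pair]
    exact closure_unip_lowU p
  have hπrange : π.range = Subgroup.closure {x, y} := by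
    rw [hπ, MonoidHom.range_comp, Subgroup.range_subtype, hR₀, MonoidHom.map_closure,
      Set.image_pair]
    rfl
  have hπinj : Function.Injective π := by
    rw [injective_iff_map_eq_one]
    rintro ⟨⟨g, A⟩, hr⟩ h1
    have h1' : g = 1 := h1
    subst h1'
    have h2 : A = 1 := by
      apply eq_one_of_smul_eq
      intro u
      have h3 := (hRmem _).mp (hR₀R hr) (Multiplicative.ofAdd u)
      simp only [one_mul, inv_one, mul_one] at h3
      have h4 := heinj h3
      have h5 := congrArg Multiplicative.toAdd h4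
      rw [actHom_apply, toAdd_ofAdd, toAdd_ofAdd] at h5
      exact h5.symm
    subst h2
    rfl
  obtain ⟨K, L, hL, hK, hiso⟩ := section_of_inj_surj π hπinj ρ hρsurj
  exact ⟨K, L, hL, by rw [hK, hπrange], hiso⟩

/-- `Qd(p)` from a pair (helper31). -/
theorem involves_qd_of_isQdPair (hp2 : p ≠ 2) {Y : Type*} [Group Y] [Finite Y] (v w x y : Y)
    (h : IsQdPair p v w x y) : Involves ↥(qd p) Y := by
  obtain ⟨hv, hw, hvw, hind, hxv, hxw, hyv, hyw⟩ := h
  exact involves_qd_of_pair hp2 v w x y hv hw hvw hind hxv hxw hyv hyw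

/-- `SL₂(p)` from a pair. -/
theorem involves_sl2_of_isQdPair {Y : Type*} [Group Y] (v w x y : Y)
    (h : IsQdPair p v w x y) : Involves (Matrix.SpecialLinearGroup (Fin 2) (ZMod p)) Y := by
  obtain ⟨K, L, hL, _, hiso⟩ := sl2_section_of_pair v w x y h
  exact ⟨K, L, hL, hiso⟩

end Cfsg.Agent.Helper11.QP
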