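import Cfsg.Agent.Lib.Helper11.QP6

/-!
# Quadratic pairs, VII: Glauberman's lemma: a group that is not `p`-stable (normalizer form)
involves `Qd(p)` (modulo the "Dickson-lite" hypothesis `DLHyp p`)
-/

set_option autoImplicit false
set_option linter.style.haveILetI false
set_option linter.unusedSectionVars false
set_option linter.unusedVariables false

namespace Cfsg.Agent.Helper11.QP

universe u w

open Cfsg Cfsg.Agent.Helper10 Cfsg.Agent.Helper46

variable {p : ℕ} [hp : Fact p.Prime]

/-- Glauberman's lemma for a normal `p`-subgroup, with any target involved by pairs. -/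
theorem involves_of_notInOp (hDL : DLHyp p) {H : Type w} [Group H]
    (hpair : ∀ (Z : Type u) [Group Z] [Finite Z] (v w x y : Z), IsQdPair p v w x y →
      Involves H Z)
    {Y : Type u} [Group Y] [Finite Y] (P : Subgroup Y) [P.Normal] (hPp : IsPGroup p P) (g : Y)
    (hq : ⁅⁅P, Subgroup.zpowers g⁆, Subgroup.zpowers g⁆ = ⊥) (hH : NotInOp p P g) :
    Involves H Y := by
  refine glauberman_core hDL (fun Z _ => Involves H Z) hpair ?_ (Nat.card Y) Y rfl P hPp g hq hH
  intro Z _ _ N _ h
  exact involves_of_involves_quotient (QuotientGroup.mk' N) (QuotientGroup.mk'_surjective N) h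

/-- **Glauberman's lemma** (G): a finite group that is not `p`-stable in the normalizer form
involves every group involved by pairs. -/
theorem involves_of_not_isNormalizerPStable (hDL : DLHyp p) {H : Type w} [Group H]
    (hpair : ∀ (Z : Type u) [Group Z] [Finite Z] (v w x y : Z), IsQdPair p v w x y →
      Involves H Z)
    {X : Type u} [Group X] [Finite X] (hns : ¬ Cfsg.IsNormalizerPStable p X) : Involves H X := by
  unfold Cfsg.IsNormalizerPStable at hns
  push Not at hns
  obtain ⟨P, hPp, g, hg, hq, hnot⟩ := hns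
  set N := Subgroup.normalizer (P : Set X) with hN
  have hPN : P ≤ N := Subgroup.le_normalizer
  haveI hP'n : (P.subgroupOf N).Normal := Subgroup.normal_in_normalizer
  have hP'p : IsPGroup p ↥(P.subgroupOf N) := hPp.comap_subtype
  have hq' : ⁅⁅P.subgroupOf N, Subgroup.zpowers (⟨g, hg⟩ : ↥N)⁆,
      Subgroup.zpowers (⟨g, hg⟩ : ↥N)⁆ = ⊥ := by
    apply quad_of_map N.subtype N.subtype_injective
    rw [Subgroup.subgroupOf_map_subtype, inf_eq_left.mpr hPN]
    exact hq
  apply involves_of_involves_subgroup N
  apply involves_of_notInOp hDL hpair (P.subgroupOf N) hP'p ⟨g, hg⟩ hq'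
  intro L hLn hL hgL
  apply hnot
  haveI := hLn
  set C' := (Subgroup.centralizer (P : Set X)).subgroupOf N with hC'
  have hmapn : (L.map (QuotientGroup.mk' C')).Normal :=
    hLn.map _ (QuotientGroup.mk'_surjective C')
  have hmapp : IsPGroup p ↥(L.map (QuotientGroup.mk' C')) := by
    rintro ⟨_, l, hl, rfl⟩
    obtain ⟨k, hk⟩ := hL l hl
    refine ⟨k, ?_⟩
    apply Subtype.ext
    rw [Subgroup.coe_pow, Subgroup.coe_one, ← map_pow]
    apply (QuotientGroup.eq_one_iff _).mpr
    rw [hC', Subgroup.mem_subgroupOf, Subgroup.mem_centralizer_iff]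
    intro x hx
    have h1 := (Subgroup.mem_centralizer_iff.mp hk) ⟨x, hPN hx⟩
      (Subgroup.mem_subgroupOf.mpr hx)
    exact congrArg Subtype.val h1
  exact Cfsg.Agent.Helper10.le_pCore hmapn hmapp (Subgroup.mem_map_of_mem _ hgL)

end Cfsg.Agent.Helper11.QP
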