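import Mathlib
import Cfsg.Prelude.Def_PLocal

set_option autoImplicit false
set_option linter.unusedSectionVars false

namespace Cfsg.Agent.Helper11.Repl

open scoped commutatorElement

section
variable {S : Type*} [Group S]

/-- The conjugate `b⁻¹ A b`. -/
abbrev Ab (A : Subgroup S) (b : S) : Subgroup S := A.map (MulAut.conj b⁻¹).toMonoidHom

/-- The generators `[a, b⁻¹]`. -/
abbrev gens (A : Subgroup S) (b : S) : Set S := {g : S | ∃ a ∈ A, g = a * b⁻¹ * a⁻¹ * b}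

abbrev TT (A : Subgroup S) (b : S) : Subgroup S := Subgroup.closure (gens A b)

abbrev DD (A : Subgroup S) (b : S) : Subgroup S := A ⊓ Ab A b

abbrev Astar (A : Subgroup S) (b : S) : Subgroup S := DD A b ⊔ TT A b

theorem mem_Ab {A : Subgroup S} {b x : S} : x ∈ Ab A b ↔ b * x * b⁻¹ ∈ A := by
  constructor
  · rintro ⟨a, ha, rfl⟩
    have : b * ((MulAut.conj b⁻¹).toMonoidHom a) * b⁻¹ = a := by
      show b * (b⁻¹ * a * b⁻¹⁻¹) * b⁻¹ = a
      group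
    rw [this]; exact ha
  · intro h
    refine ⟨b * x * b⁻¹, h, ?_⟩
    show b⁻¹ * (b * x * b⁻¹) * b⁻¹⁻¹ = x
    group

theorem conj_mem_Ab {A : Subgroup S} {b a : S} (ha : a ∈ A) : b⁻¹ * a * b ∈ Ab A b := by
  rw [mem_Ab]
  have : b * (b⁻¹ * a * b) * b⁻¹ = a := by group
  rw [this]; exact ha

end

section
variable {S : Type*} [Group S] [Finite S] {A B : Subgroup S} [hBn : B.Normal] {b : S}
  (hA : IsMulCommutative A) (hBA : ⁅B, B⁆ ≤ A) (hb : b ∈ B)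
  (hbN : b ∈ Subgroup.normalizer ((Subgroup.normalizer (A : Set S)) : Set S))

include hA in
theorem A_comm {x y : S} (hx : x ∈ A) (hy : y ∈ A) : x * y = y * x := by
  have := hA.is_comm.comm (⟨x, hx⟩ : A) ⟨y, hy⟩
  exact congrArg Subtype.val this

include hbN in
theorem conj_mem_N {x : S} (hx : x ∈ Subgroup.normalizer (A : Set S)) :
    b * x * b⁻¹ ∈ Subgroup.normalizer (A : Set S) := by
  rw [Subgroup.mem_normalizer_iff] at hbN
  exact (hbN x).mp hx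

include hbN in
theorem conj_inv_mem_N {x : S} (hx : x ∈ Subgroup.normalizer (A : Set S)) :
    b⁻¹ * x * b ∈ Subgroup.normalizer (A : Set S) := by
  rw [Subgroup.mem_normalizer_iff] at hbN
  rw [hbN (b⁻¹ * x * b)]
  have : b * (b⁻¹ * x * b) * b⁻¹ = x := by group
  rw [this]; exact hx

theorem N_conj_mem {x a : S} (hx : x ∈ Subgroup.normalizer (A : Set S)) (ha : a ∈ A) :
    x * a * x⁻¹ ∈ A := by
  rw [Subgroup.mem_normalizer_iff] at hx
  exact (hx a).mp ha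

theorem N_conj_inv_mem {x a : S} (hx : x ∈ Subgroup.normalizer (A : Set S)) (ha : a ∈ A) :
    x⁻¹ * a * x ∈ A := by
  have hx' := Subgroup.inv_mem _ hx
  have := N_conj_mem hx' ha
  rwa [inv_inv] at this

theorem A_le_N : A ≤ Subgroup.normalizer (A : Set S) := Subgroup.le_normalizer

include hbN in
theorem Ab_le_N : Ab A b ≤ Subgroup.normalizer (A : Set S) := by
  intro x hx
  rw [mem_Ab] at hx
  have h1 := conj_inv_mem_N hbN (A_le_N hx)
  have : b⁻¹ * (b * x * b⁻¹) * b = x := by group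
  rwa [this] at h1

include hbN in
/-- `A` normalizes `b⁻¹ A b`. -/
theorem A_conj_Ab {a y : S} (ha : a ∈ A) (hy : y ∈ Ab A b) : a * y * a⁻¹ ∈ Ab A b := by
  rw [mem_Ab] at hy ⊢
  have h1 : b * a * b⁻¹ ∈ Subgroup.normalizer (A : Set S) := conj_mem_N hbN (A_le_N ha)
  have h2 := N_conj_mem h1 hy
  have : b * (a * y * a⁻¹) * b⁻¹ = (b * a * b⁻¹) * (b * y * b⁻¹) * (b * a * b⁻¹)⁻¹ := by group
  rw [this]; exact h2

include hbN in
theorem Ab_conj_A {a y : S} (ha : a ∈ A) (hy : y ∈ Ab A b) : y * a * y⁻¹ ∈ A :=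
  N_conj_mem (Ab_le_N hbN hy) ha

include hA in
theorem Ab_comm {x y : S} (hx : x ∈ Ab A b) (hy : y ∈ Ab A b) : x * y = y * x := by
  rw [mem_Ab] at hx hy
  have := A_comm hA hx hy
  have e1 : x * y = b⁻¹ * ((b * x * b⁻¹) * (b * y * b⁻¹)) * b := by group
  have e2 : y * x = b⁻¹ * ((b * y * b⁻¹) * (b * x * b⁻¹)) * b := by group
  rw [e1, e2, this]

include hA in
theorem D_comm_A {d a : S} (hd : d ∈ DD A b) (ha : a ∈ A) : d * a = a * d :=
  A_comm hA (Subgroup.mem_inf.mp hd).1 ha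

include hA in
theorem D_comm_Ab {d y : S} (hd : d ∈ DD A b) (hy : y ∈ Ab A b) : d * y = y * d :=
  Ab_comm hA (Subgroup.mem_inf.mp hd).2 hy

include hbN in
/-- Commutators of `A` with `b⁻¹ A b` lie in the intersection. -/
theorem comm_mem_D {a y : S} (ha : a ∈ A) (hy : y ∈ Ab A b) : a * y * a⁻¹ * y⁻¹ ∈ DD A b := by
  apply Subgroup.mem_inf.mpr
  constructor
  · have h1 := Ab_conj_A hbN (A.inv_mem ha) hy
    have : a * y * a⁻¹ * y⁻¹ = a * (y * a⁻¹ * y⁻¹) := by group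
    rw [this]; exact A.mul_mem ha h1
  · have h1 := A_conj_Ab hbN ha hy
    exact (Ab A b).mul_mem h1 ((Ab A b).inv_mem hy)

include hb in
theorem t_mem_B (a : S) : a * b⁻¹ * a⁻¹ * b ∈ B := by
  have h1 : a * b⁻¹ * a⁻¹ ∈ B := hBn.conj_mem b⁻¹ (B.inv_mem hb) a
  exact B.mul_mem h1 hb

include hb in
theorem TT_le_B : TT A b ≤ B := by
  rw [Subgroup.closure_le]
  rintro g ⟨a, _, rfl⟩
  exact t_mem_B hb a

theorem t_eq (a : S) : a * b⁻¹ * a⁻¹ * b = a * (b⁻¹ * a * b)⁻¹ := by group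

include hBA in
theorem B'_le_D : ⁅B, B⁆ ≤ DD A b := by
  apply le_inf hBA
  intro x hx
  rw [mem_Ab]
  have hn : (⁅B, B⁆ : Subgroup S).Normal := inferInstance
  exact hBA (hn.conj_mem x hx b)

include hBA hb in
theorem AB_le_D : A ⊓ B ≤ DD A b := by
  intro x hx
  obtain ⟨hxA, hxB⟩ := Subgroup.mem_inf.mp hx
  apply Subgroup.mem_inf.mpr ⟨hxA, ?_⟩
  rw [mem_Ab]
  have h1 : ⁅b, x⁆ ∈ ⁅B, B⁆ := Subgroup.commutator_mem_commutator hb hxB
  have : b * x * b⁻¹ = ⁅b, x⁆ * x := by rw [commutatorElement_def]; group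
  rw [this]
  exact A.mul_mem (hBA h1) hxA

include hBA hb in
theorem D_conj_mem {d : S} (hd : d ∈ DD A b) : b⁻¹ * d * b ∈ DD A b := by
  obtain ⟨hdA, hdAb⟩ := Subgroup.mem_inf.mp hd
  apply Subgroup.mem_inf.mpr ⟨?_, conj_mem_Ab hdA⟩
  rw [mem_Ab] at hdAb
  -- c = d⁻¹ (b d b⁻¹) ∈ A ∩ B
  set c := d⁻¹ * (b * d * b⁻¹) with hc
  have hcA : c ∈ A := A.mul_mem (A.inv_mem hdA) hdAb
  have hcB : c ∈ B := by
    have h1 : d⁻¹ * b * d⁻¹⁻¹ ∈ B := hBn.conj_mem b hb d⁻¹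
    have : c = (d⁻¹ * b * d⁻¹⁻¹) * b⁻¹ := by rw [hc]; group
    rw [this]
    exact B.mul_mem h1 (B.inv_mem hb)
  have h2 : ⁅c⁻¹, b⁻¹⁆ ∈ ⁅B, B⁆ :=
    Subgroup.commutator_mem_commutator (B.inv_mem hcB) (B.inv_mem hb)
  have h3 : b⁻¹ * c * b ∈ A := by
    have : b⁻¹ * c * b = c * ⁅c⁻¹, b⁻¹⁆ := by rw [commutatorElement_def]; group
    rw [this]
    exact A.mul_mem hcA (hBA h2)
  have h4 : b⁻¹ * d * b = d * (b⁻¹ * c * b)⁻¹ := by rw [hc]; group
  rw [h4]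
  exact A.mul_mem hdA (A.inv_mem h3)

theorem t_mul (a a' : S) :
    (a * a') * b⁻¹ * (a * a')⁻¹ * b = (a * (a' * b⁻¹ * a'⁻¹ * b) * a⁻¹) * (a * b⁻¹ * a⁻¹ * b) := by
  group

theorem t_mem_TT {a : S} (ha : a ∈ A) : a * b⁻¹ * a⁻¹ * b ∈ TT A b :=
  Subgroup.subset_closure ⟨a, ha, rfl⟩

/-- `A` normalizes `T`. -/
theorem A_conj_TT {a x : S} (ha : a ∈ A) (hx : x ∈ TT A b) : a * x * a⁻¹ ∈ TT A b := by
  induction hx using Subgroup.closure_induction with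
  | mem x hx =>
    obtain ⟨a', ha', rfl⟩ := hx
    have h1 := t_mul (b := b) a a'
    have h2 : a * (a' * b⁻¹ * a'⁻¹ * b) * a⁻¹ =
        ((a * a') * b⁻¹ * (a * a')⁻¹ * b) * (a * b⁻¹ * a⁻¹ * b)⁻¹ := by
      rw [h1]; group
    rw [h2]
    exact (TT A b).mul_mem (t_mem_TT (A.mul_mem ha ha')) ((TT A b).inv_mem (t_mem_TT ha))
  | one => simp
  | mul x y _ _ hx hy =>
    have : a * (x * y) * a⁻¹ = (a * x * a⁻¹) * (a * y * a⁻¹) := by group
    rw [this]; exact (TT A b).mul_mem hx hy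
  | inv x _ hx =>
    have : a * x⁻¹ * a⁻¹ = (a * x * a⁻¹)⁻¹ := by group
    rw [this]; exact (TT A b).inv_mem hx

include hbN in
theorem TT_le_N : TT A b ≤ Subgroup.normalizer (A : Set S) := by
  rw [Subgroup.closure_le]
  rintro g ⟨a, ha, rfl⟩
  rw [t_eq]
  exact Subgroup.mul_mem _ (A_le_N ha) (Subgroup.inv_mem _ (Ab_le_N hbN (conj_mem_Ab ha)))

include hbN in
theorem Astar_le_N : Astar A b ≤ Subgroup.normalizer (A : Set S) :=
  sup_le (inf_le_left.trans A_le_N) (TT_le_N hbN)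

include hA hbN in
theorem D_comm_TT {d x : S} (hd : d ∈ DD A b) (hx : x ∈ TT A b) : d * x = x * d := by
  have : TT A b ≤ Subgroup.centralizer ({d} : Set S) := by
    rw [Subgroup.closure_le]
    rintro g ⟨a, ha, rfl⟩
    rw [SetLike.mem_coe, Subgroup.mem_centralizer_iff]
    intro y hy
    rw [Set.mem_singleton_iff] at hy
    subst hy
    rw [t_eq]
    have h1 := D_comm_A hA hd ha
    have h2 := D_comm_Ab hA hd ((Ab A b).inv_mem (conj_mem_Ab ha))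
    calc y * (a * (b⁻¹ * a * b)⁻¹) = (y * a) * (b⁻¹ * a * b)⁻¹ := (mul_assoc _ _ _).symm
      _ = (a * y) * (b⁻¹ * a * b)⁻¹ := by rw [h1]
      _ = a * (y * (b⁻¹ * a * b)⁻¹) := mul_assoc _ _ _
      _ = a * ((b⁻¹ * a * b)⁻¹ * y) := by rw [h2]
      _ = a * (b⁻¹ * a * b)⁻¹ * y := (mul_assoc _ _ _).symm
  have := this hx
  rw [Subgroup.mem_centralizer_iff] at this
  exact this d rfl

end

end Cfsg.Agent.Helper11.Repl
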