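import Cfsg.Agent.Lib.Helper11.Replacement1

set_option autoImplicit false
set_option linter.unusedSectionVars false

namespace Cfsg.Agent.Helper11.Repl

open scoped commutatorElement

section
variable {S : Type*} [Group S] [Finite S] {A B : Subgroup S} [hBn : B.Normal] {b : S}
  (hA : IsMulCommutative A) (hBA : ⁅B, B⁆ ≤ A) (hb : b ∈ B)
  (hbN : b ∈ Subgroup.normalizer ((Subgroup.normalizer (A : Set S)) : Set S))

theorem mem_normalizer_Astar {x : S} (hD : ∀ d ∈ DD A b, x * d * x⁻¹ ∈ Astar A b)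
    (hT : ∀ a ∈ A, x * (a * b⁻¹ * a⁻¹ * b) * x⁻¹ ∈ Astar A b) :
    x ∈ Subgroup.normalizer ((Astar A b : Subgroup S) : Set S) := by
  have hle : Astar A b ≤ (Astar A b).comap (MulAut.conj x).toMonoidHom := by
    apply sup_le
    · intro d hd
      exact hD d hd
    · rw [Subgroup.closure_le]
      rintro g ⟨a, ha, rfl⟩
      exact hT a ha
  apply Subgroup.mem_normalizer_fintype
  intro n hn
  exact hle hn

include hA in
/-- Claim 6: `A` normalizes `A*`. -/
theorem A_le_normalizer_Astar : A ≤ Subgroup.normalizer ((Astar A b : Subgroup S) : Set S) := by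
  intro a ha
  apply mem_normalizer_Astar
  · intro d hd
    have : a * d * a⁻¹ = d := by
      rw [← D_comm_A hA hd ha]; group
    rw [this]
    exact Subgroup.mem_sup_left hd
  · intro a' ha'
    exact Subgroup.mem_sup_right (A_conj_TT ha (t_mem_TT ha'))

include hBA hb in
/-- Claim 8: `b` normalizes `A*`. -/
theorem b_mem_normalizer_Astar : b ∈ Subgroup.normalizer ((Astar A b : Subgroup S) : Set S) := by
  have h : b⁻¹ ∈ Subgroup.normalizer ((Astar A b : Subgroup S) : Set S) := by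
    apply mem_normalizer_Astar
    · intro d hd
      rw [inv_inv]
      exact Subgroup.mem_sup_left (D_conj_mem hBA hb hd)
    · intro a ha
      rw [inv_inv]
      have h1 : ⁅b⁻¹, a * b⁻¹ * a⁻¹ * b⁆ ∈ ⁅B, B⁆ :=
        Subgroup.commutator_mem_commutator (B.inv_mem hb) (t_mem_B hb a)
      have h2 : b⁻¹ * (a * b⁻¹ * a⁻¹ * b) * b = ⁅b⁻¹, a * b⁻¹ * a⁻¹ * b⁆ * (a * b⁻¹ * a⁻¹ * b) := by
        rw [commutatorElement_def]; group
      rw [h2]
      exact Subgroup.mul_mem _ (Subgroup.mem_sup_left (B'_le_D hBA h1))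
        (Subgroup.mem_sup_right (t_mem_TT ha))
  have := Subgroup.inv_mem _ h
  rwa [inv_inv] at this

include hBA hb hbN in
/-- Claim 9 (inclusion): `N(A) ≤ N(A*)`. -/
theorem N_le_normalizer_Astar :
    Subgroup.normalizer (A : Set S) ≤ Subgroup.normalizer ((Astar A b : Subgroup S) : Set S) := by
  intro x hx
  have hy : b * x * b⁻¹ ∈ Subgroup.normalizer (A : Set S) := conj_mem_N hbN hx
  apply mem_normalizer_Astar
  · intro d hd
    obtain ⟨hdA, hdAb⟩ := Subgroup.mem_inf.mp hd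
    apply Subgroup.mem_sup_left
    apply Subgroup.mem_inf.mpr ⟨N_conj_mem hx hdA, ?_⟩
    rw [mem_Ab] at hdAb ⊢
    have h1 := N_conj_mem hy hdAb
    have : b * (x * d * x⁻¹) * b⁻¹ = (b * x * b⁻¹) * (b * d * b⁻¹) * (b * x * b⁻¹)⁻¹ := by group
    rw [this]; exact h1
  · intro a ha
    set a' := x * a * x⁻¹ with ha'def
    have ha' : a' ∈ A := N_conj_mem hx ha
    set e := a' * ((b * x * b⁻¹) * a⁻¹ * (b * x * b⁻¹)⁻¹) with hedef
    have heA : e ∈ A := A.mul_mem ha' (N_conj_mem hy (A.inv_mem ha))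
    have heB : e ∈ B := by
      set k := ⁅b, x⁆ with hk
      have hkB : k ∈ B := by
        have h1 : x * b⁻¹ * x⁻¹ ∈ B := hBn.conj_mem b⁻¹ (B.inv_mem hb) x
        have : k = b * (x * b⁻¹ * x⁻¹) := by rw [hk, commutatorElement_def]; group
        rw [this]; exact B.mul_mem hb h1
      have h2 : a' * k * a'⁻¹ ∈ B := hBn.conj_mem k hkB a'
      have : e = (a' * k * a'⁻¹) * k⁻¹ := by
        rw [hedef, ha'def, hk, commutatorElement_def]; group
      rw [this]; exact B.mul_mem h2 (B.inv_mem hkB)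
    have heD : e ∈ DD A b := AB_le_D hBA hb (Subgroup.mem_inf.mpr ⟨heA, heB⟩)
    have heD' := D_conj_mem hBA hb heD
    have : x * (a * b⁻¹ * a⁻¹ * b) * x⁻¹ = (a' * b⁻¹ * a'⁻¹ * b) * (b⁻¹ * e * b) := by
      rw [hedef, ha'def]; group
    rw [this]
    exact Subgroup.mul_mem _ (Subgroup.mem_sup_right (t_mem_TT ha')) (Subgroup.mem_sup_left heD')

end

end Cfsg.Agent.Helper11.Repl
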