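import Cfsg.Agent.Lib.Helper11.Replacement2
import Cfsg.Agent.S0648

set_option autoImplicit false
set_option linter.unusedSectionVars false

namespace Cfsg.Agent.Helper11.Repl

open scoped commutatorElement

section
variable {S : Type*} [Group S] [Finite S] {p : ℕ} [hp : Fact p.Prime] (hS : IsPGroup p S)
  {A B : Subgroup S} [hBn : B.Normal] {b : S}
  (hB2 : p = 2 → IsMulCommutative B)
  (hA : IsMulCommutative A) (hBA : ⁅B, B⁆ ≤ A) (hb : b ∈ B)
  (hbN : b ∈ Subgroup.normalizer ((Subgroup.normalizer (A : Set S)) : Set S))

theorem closure_gens_eq :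
    Subgroup.closure {g : S | ∃ a ∈ A, g = b⁻¹ * a * b * a⁻¹} = TT A b := by
  apply le_antisymm
  · rw [Subgroup.closure_le]
    rintro g ⟨a, ha, rfl⟩
    have : b⁻¹ * a * b * a⁻¹ = (a * b⁻¹ * a⁻¹ * b)⁻¹ := by group
    rw [this]
    exact (TT A b).inv_mem (t_mem_TT ha)
  · rw [Subgroup.closure_le]
    rintro g ⟨a, ha, rfl⟩
    have : a * b⁻¹ * a⁻¹ * b = (b⁻¹ * a * b * a⁻¹)⁻¹ := by group
    rw [this]
    exact Subgroup.inv_mem _ (Subgroup.subset_closure ⟨a, ha, rfl⟩)

include hS hB2 hA hBA hb hbN in
theorem TT_comm {x y : S} (hx : x ∈ TT A b) (hy : y ∈ TT A b) : x * y = y * x := by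
  by_cases hp2 : p = 2
  · have hBc := hB2 hp2
    have := hBc.is_comm.comm (⟨x, TT_le_B hb hx⟩ : B) ⟨y, TT_le_B hb hy⟩
    exact congrArg Subtype.val this
  · have hAB : A ≤ Subgroup.normalizer (B : Set S) := by
      rw [Subgroup.normalizer_eq_top]; exact le_top
    have hc : ⁅⁅B, B⁆, A⁆ = ⊥ := by
      rw [eq_bot_iff, Subgroup.commutator_le]
      intro u hu a ha
      rw [Subgroup.mem_bot, commutatorElement_eq_one_iff_mul_comm]
      exact A_comm hA (hBA hu) ha
    have hres := (Cfsg.Agent.S0648.result A B hAB hc).2 hA b hb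
    rw [closure_gens_eq] at hres
    have hX : ⁅⁅TT A b, A⁆, A⁆ = ⊥ := by
      have h1 : ⁅TT A b, A⁆ ≤ A := by
        rw [Subgroup.commutator_le]
        intro u hu a ha
        rw [commutatorElement_def]
        have h2 := N_conj_mem (TT_le_N hbN hu) ha
        exact A.mul_mem h2 (A.inv_mem ha)
      rw [eq_bot_iff, Subgroup.commutator_le]
      intro u hu a ha
      rw [Subgroup.mem_bot, commutatorElement_eq_one_iff_mul_comm]
      exact A_comm hA (h1 hu) ha
    have hsq := hres hX ⁅x, y⁆ (Subgroup.commutator_mem_commutator hx hy)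
    have hord : orderOf ⁅x, y⁆ ∣ 2 := orderOf_dvd_of_pow_eq_one hsq
    obtain ⟨k, hk⟩ := IsPGroup.iff_orderOf.mp hS ⁅x, y⁆
    have h1 : orderOf ⁅x, y⁆ = 1 := by
      rcases (Nat.dvd_prime Nat.prime_two).mp hord with h | h
      · exact h
      · exfalso
        rw [hk] at h
        have hpd : p ∣ 2 := by
          rw [← h]
          apply dvd_pow_self
          rintro rfl
          simp at h
        have := (Nat.prime_dvd_prime_iff_eq hp.out Nat.prime_two).mp hpd
        exact hp2 this
    rw [orderOf_eq_one_iff, commutatorElement_eq_one_iff_mul_comm] at h1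
    exact h1

include hS hB2 hA hBA hb hbN in
/-- Claim 2: `A*` is commutative. -/
theorem Astar_comm {x y : S} (hx : x ∈ Astar A b) (hy : y ∈ Astar A b) : x * y = y * x := by
  have hle : Astar A b ≤ Subgroup.centralizer ((Astar A b : Subgroup S) : Set S) := by
    apply sup_le
    · intro d hd
      rw [Subgroup.mem_centralizer_iff]
      intro z hz
      have hz' : z ∈ Astar A b := hz
      have : Astar A b ≤ Subgroup.centralizer ({d} : Set S) := by
        apply sup_le
        · intro d' hd'
          rw [Subgroup.mem_centralizer_iff]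
          intro w hw
          rw [Set.mem_singleton_iff] at hw
          subst hw
          exact A_comm hA (Subgroup.mem_inf.mp hd).1 (Subgroup.mem_inf.mp hd').1
        · intro t ht
          rw [Subgroup.mem_centralizer_iff]
          intro w hw
          rw [Set.mem_singleton_iff] at hw
          subst hw
          exact D_comm_TT hA hbN hd ht
      have h2 := this hz'
      rw [Subgroup.mem_centralizer_iff] at h2
      exact (h2 d rfl).symm
    · intro t ht
      rw [Subgroup.mem_centralizer_iff]
      intro z hz
      have hz' : z ∈ Astar A b := hz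
      have : Astar A b ≤ Subgroup.centralizer ({t} : Set S) := by
        apply sup_le
        · intro d' hd'
          rw [Subgroup.mem_centralizer_iff]
          intro w hw
          rw [Set.mem_singleton_iff] at hw
          subst hw
          exact (D_comm_TT hA hbN hd' ht).symm
        · intro t' ht'
          rw [Subgroup.mem_centralizer_iff]
          intro w hw
          rw [Set.mem_singleton_iff] at hw
          subst hw
          exact TT_comm hS hB2 hA hBA hb hbN ht ht'
      have h2 := this hz'
      rw [Subgroup.mem_centralizer_iff] at h2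
      exact (h2 t rfl).symm
  have := hle hx
  rw [Subgroup.mem_centralizer_iff] at this
  exact (this y hy).symm

end

end Cfsg.Agent.Helper11.Repl
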