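import Cfsg.Agent.Lib.Helper11.Replacement3

set_option autoImplicit false
set_option linter.unusedSectionVars false

namespace Cfsg.Agent.Helper11.Repl

open scoped commutatorElement

/-- Power of a product when the commutator is central for the two factors. -/
theorem pow_mul_of_central_comm {G : Type*} [Group G] (x y z : G) (hz : y * x = x * y * z)
    (hzx : Commute z x) (hzy : Commute z y) (n : ℕ) :
    (x * y) ^ n = x ^ n * y ^ n * z ^ (n.choose 2) := by
  have hyx : ∀ m : ℕ, y ^ m * x = x * y ^ m * z ^ m := by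
    intro m
    induction m with
    | zero => simp
    | succ m ih =>
      calc y ^ (m + 1) * x = y ^ m * (y * x) := by rw [pow_succ]; group
        _ = y ^ m * (x * y * z) := by rw [hz]
        _ = (y ^ m * x) * y * z := by group
        _ = (x * y ^ m * z ^ m) * y * z := by rw [ih]
        _ = x * y ^ m * (z ^ m * y) * z := by group
        _ = x * y ^ m * (y * z ^ m) * z := by rw [(hzy.pow_left m).eq]
        _ = x * y ^ (m + 1) * z ^ (m + 1) := by rw [pow_succ, pow_succ]; group
  induction n with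
  | zero => simp
  | succ n ih =>
    have hc : (n + 1).choose 2 = n + n.choose 2 := by
      rw [Nat.choose_succ_succ, Nat.choose_one_right]
    calc (x * y) ^ (n + 1) = (x * y) ^ n * (x * y) := pow_succ _ _
      _ = x ^ n * y ^ n * z ^ (n.choose 2) * (x * y) := by rw [ih]
      _ = x ^ n * y ^ n * (z ^ (n.choose 2) * x) * y := by group
      _ = x ^ n * y ^ n * (x * z ^ (n.choose 2)) * y := by rw [(hzx.pow_left _).eq]
      _ = x ^ n * (y ^ n * x) * z ^ (n.choose 2) * y := by group
      _ = x ^ n * (x * y ^ n * z ^ n) * z ^ (n.choose 2) * y := by rw [hyx]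
      _ = x ^ n * x * y ^ n * z ^ n * (z ^ (n.choose 2) * y) := by group
      _ = x ^ n * x * y ^ n * z ^ n * (y * z ^ (n.choose 2)) := by rw [(hzy.pow_left _).eq]
      _ = x ^ n * x * y ^ n * (z ^ n * y) * z ^ (n.choose 2) := by group
      _ = x ^ n * x * y ^ n * (y * z ^ n) * z ^ (n.choose 2) := by rw [(hzy.pow_left n).eq]
      _ = x ^ (n + 1) * y ^ (n + 1) * z ^ ((n + 1).choose 2) := by
          rw [hc, pow_add z n, pow_succ, pow_succ]; group

section
variable {S : Type*} [Group S] [Finite S] {p : ℕ} [hp : Fact p.Prime] (hS : IsPGroup p S)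
  {A B : Subgroup S} [hBn : B.Normal] {b : S}
  (hB2 : p = 2 → IsMulCommutative B)
  (hA : IsMulCommutative A) (hBA : ⁅B, B⁆ ≤ A) (hb : b ∈ B)
  (hbN : b ∈ Subgroup.normalizer ((Subgroup.normalizer (A : Set S)) : Set S))

theorem pow_exponent_A {a : S} (ha : a ∈ A) : a ^ Monoid.exponent A = 1 := by
  have := Monoid.pow_exponent_eq_one (⟨a, ha⟩ : A)
  exact congrArg Subtype.val this

include hS in
theorem odd_exponent_A (hp2 : p ≠ 2) : Odd (Monoid.exponent A) := by
  have h1 : Monoid.exponent A ∣ Nat.card A := Group.exponent_dvd_nat_card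
  obtain ⟨k, hk⟩ := IsPGroup.iff_card.mp (hS.to_subgroup A)
  rw [hk] at h1
  obtain ⟨j, _, hj⟩ := (Nat.dvd_prime_pow hp.out).mp h1
  rw [hj]
  exact (hp.out.eq_two_or_odd'.resolve_left hp2).pow

include hS hA hbN in
theorem t_pow_exponent (hp2 : p ≠ 2) {a : S} (ha : a ∈ A) :
    (a * b⁻¹ * a⁻¹ * b) ^ Monoid.exponent A = 1 := by
  set e := Monoid.exponent A with he
  set y := (b⁻¹ * a * b)⁻¹ with hy
  have hyAb : y ∈ Ab A b := (Ab A b).inv_mem (conj_mem_Ab ha)
  set w := a⁻¹ * y * a⁻¹⁻¹ * y⁻¹ with hw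
  have hwD : w ∈ DD A b := comm_mem_D hbN (A.inv_mem ha) hyAb
  set z := y⁻¹ * a⁻¹ * y * a with hz
  have hzw : z = w := by
    have h1 : z = y⁻¹ * w * y := by rw [hz, hw]; group
    have h2 : w * y = y * w := D_comm_Ab hA hwD hyAb
    rw [h1, mul_assoc, h2]; group
  have hzD : z ∈ DD A b := hzw ▸ hwD
  have hzx : Commute z a := D_comm_A hA hzD ha
  have hzy : Commute z y := D_comm_Ab hA hzD hyAb
  have hyx : y * a = a * y * z := by rw [hz]; group
  have hpow := pow_mul_of_central_comm a y z hyx hzx hzy e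
  have hae : a ^ e = 1 := pow_exponent_A ha
  have hye : y ^ e = 1 := by
    have : y = b⁻¹ * a⁻¹ * b⁻¹⁻¹ := by rw [hy]; group
    rw [this, conj_pow, inv_pow, hae]; group
  have hze : z ^ e = 1 := pow_exponent_A (Subgroup.mem_inf.mp hzD).1
  have hodd : Odd e := odd_exponent_A (A := A) hS hp2
  have hch : z ^ (e.choose 2) = 1 := by
    obtain ⟨m, hm⟩ := hodd
    have : e.choose 2 = e * m := by
      rw [Nat.choose_two_right, hm]
      have : (2 * m + 1) * (2 * m + 1 - 1) = 2 * ((2 * m + 1) * m) := by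
        rw [Nat.add_sub_cancel]; ring
      rw [this, Nat.mul_div_cancel_left _ (by norm_num : 0 < 2)]
    rw [this, pow_mul, hze, one_pow]
  rw [t_eq, hpow, hae, hye, hch]
  simp

include hS hB2 hA hBA hb hbN in
/-- Claim 10: for odd `p` the exponent does not grow. -/
theorem Astar_pow_exponent (hp2 : p ≠ 2) {x : S} (hx : x ∈ Astar A b) :
    x ^ Monoid.exponent A = 1 := by
  let K : Subgroup S :=
    { carrier := {w | w ∈ Astar A b ∧ w ^ Monoid.exponent A = 1}
      one_mem' := ⟨Subgroup.one_mem _, one_pow _⟩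
      mul_mem' := by
        rintro u v ⟨hu, hu1⟩ ⟨hv, hv1⟩
        refine ⟨Subgroup.mul_mem _ hu hv, ?_⟩
        have hc : Commute u v := Astar_comm hS hB2 hA hBA hb hbN hu hv
        rw [hc.mul_pow, hu1, hv1, one_mul]
      inv_mem' := by
        rintro u ⟨hu, hu1⟩
        exact ⟨Subgroup.inv_mem _ hu, by rw [inv_pow, hu1, inv_one]⟩ }
  have hle : Astar A b ≤ K := by
    apply sup_le
    · intro d hd
      exact ⟨Subgroup.mem_sup_left hd, pow_exponent_A (Subgroup.mem_inf.mp hd).1⟩
    · rw [Subgroup.closure_le]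
      rintro g ⟨a, ha, rfl⟩
      exact ⟨Subgroup.mem_sup_right (t_mem_TT ha), t_pow_exponent hS hA hbN hp2 ha⟩
  exact (hle hx).2

end

end Cfsg.Agent.Helper11.Repl
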