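import Mathlib
import Cfsg.Prelude.Def_OddOrderLocal
import Cfsg.Agent.Lib.Helper98.TIHDefs

set_option autoImplicit false
set_option linter.unusedSectionVars false

/-!
TIH server (helper98, S4118): piece (P2) `exists_pi_layer`.
-/

namespace Cfsg.Agent.Helper11.TIH

open Cfsg.Agent.Helper98.TIH

universe u

/-- `|A| * |B : A| = |B|` for `A ≤ B`. -/
theorem h11p2_card_mul_relIndex {G : Type u} [Group G] {A B : Subgroup G} (h : A ≤ B) :
    Nat.card A * A.relIndex B = Nat.card B := by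
  have := Subgroup.relIndex_mul_relIndex (H := (⊥ : Subgroup G)) (K := A) (L := B) bot_le h
  rwa [Subgroup.relIndex_bot_left, Subgroup.relIndex_bot_left] at this

/-- one step of the chain -/
theorem h11p2_step {G : Type u} [Group G] [Finite G] {H O : Subgroup G} (hc : IsCore H O)
    (A B : Subgroup G) (hAO : A ≤ O) (hB : B.Normal) (hBO : ¬ B ≤ O)
    (hf : (∀ q : ℕ, q.Prime → q ∣ A.relIndex B → q ∣ Nat.card H) ∨
      (A.relIndex B).Coprime (Nat.card H)) :
    ∃ K : Subgroup G, K.Normal ∧ O ≤ K ∧ ¬ K ≤ O ∧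
      ∀ q : ℕ, q.Prime → q ∣ O.relIndex K → q ∣ Nat.card H := by
  have hOn := hc.normal
  have hKn : (B ⊔ O).Normal := Subgroup.sup_normal B O
  have hKO : ¬ B ⊔ O ≤ O := fun h => hBO (le_sup_left.trans h)
  have hrel : O.relIndex (B ⊔ O) = O.relIndex B := Subgroup.relIndex_sup_right B O
  have hdvd : O.relIndex B ∣ A.relIndex B := Subgroup.relIndex_dvd_of_le_left B hAO
  refine ⟨B ⊔ O, hKn, le_sup_right, hKO, ?_⟩
  rcases hf with hf | hf
  · intro q hq hqd
    rw [hrel] at hqd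
    exact hf q hq (hqd.trans hdvd)
  · exfalso
    apply hKO
    apply hc.max _ hKn
    have h1 : Nat.card O * O.relIndex (B ⊔ O) = Nat.card (B ⊔ O : Subgroup G) :=
      h11p2_card_mul_relIndex le_sup_right
    rw [← h1, hrel]
    exact Nat.Coprime.mul_left hc.coprime (Nat.Coprime.coprime_dvd_left hdvd hf)

/-- (P2) the π-layer above `O`. -/
theorem exists_pi_layer {G : Type u} [Group G] [Finite G] {H O : Subgroup G} (hc : IsCore H O)
    (hH1 : H ≠ ⊥)
    (hsep : ∃ (n : ℕ) (M : Fin (n + 1) → Subgroup G), M 0 = ⊥ ∧ M (Fin.last n) = ⊤ ∧ Monotone M ∧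
      (∀ i, (M i).Normal) ∧
      ∀ i : Fin n, (∀ q : ℕ, q.Prime → q ∣ (M i.castSucc).relIndex (M i.succ) → q ∣ Nat.card H) ∨
        ((M i.castSucc).relIndex (M i.succ)).Coprime (Nat.card H)) :
    ∃ K : Subgroup G, K.Normal ∧ O ≤ K ∧ ¬ K ≤ O ∧
      ∀ q : ℕ, q.Prime → q ∣ O.relIndex K → q ∣ Nat.card H := by
  obtain ⟨n, M, h0, hlast, hmono, hnorm, hfac⟩ := hsep
  -- `⊤ ≰ O`
  have htop : ¬ (⊤ : Subgroup G) ≤ O := by
    intro h
    have hO : O = ⊤ := top_le_iff.mp h
    have h1 : (Nat.card (⊤ : Subgroup G)).Coprime (Nat.card H) := hO ▸ hc.coprime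
    have h2 : Nat.card H ∣ Nat.card (⊤ : Subgroup G) := Subgroup.card_dvd_of_le le_top
    have h3 : Nat.card H = 1 := Nat.Coprime.eq_one_of_dvd h1.symm h2
    exact hH1 (Subgroup.card_eq_one.mp h3)
  have key : ∀ i : Fin (n + 1), M i ≤ O ∨ ∃ K : Subgroup G, K.Normal ∧ O ≤ K ∧ ¬ K ≤ O ∧
      ∀ q : ℕ, q.Prime → q ∣ O.relIndex K → q ∣ Nat.card H := by
    intro i
    induction i using Fin.induction with
    | zero => left; rw [h0]; exact bot_le
    | succ i ih =>
      rcases ih with ih | ih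
      · by_cases hB : M i.succ ≤ O
        · exact Or.inl hB
        · exact Or.inr (h11p2_step hc (M i.castSucc) (M i.succ) ih (hnorm _) hB (hfac i))
      · exact Or.inr ih
  rcases key (Fin.last n) with h | h
  · rw [hlast] at h; exact absurd h htop
  · exact h

end Cfsg.Agent.Helper11.TIH
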