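import Mathlib
import Cfsg.Prelude.Def_OddOrderLocal
import Cfsg.Agent.Lib.Helper98.TIHDefs

set_option autoImplicit false
set_option linter.unusedSectionVars false

/-!
TIH server (helper98, S4118): piece (P3b) `layer_le_sup`.
-/

namespace Cfsg.Agent.Helper11.TIH

open Cfsg.Agent.Helper98.TIH

universe u

/-- `|A| * |B : A| = |B|` for `A ≤ B`. -/
theorem h11_card_mul_relIndex {G : Type u} [Group G] {A B : Subgroup G} (h : A ≤ B) :
    Nat.card A * A.relIndex B = Nat.card B := by
  have := Subgroup.relIndex_mul_relIndex (H := (⊥ : Subgroup G)) (K := A) (L := B) bot_le h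
  rwa [Subgroup.relIndex_bot_left, Subgroup.relIndex_bot_left] at this

/-- the product formula, with one factor normal -/
theorem h11_card_sup_mul_card_inf {G : Type u} [Group G] (H K : Subgroup G) [K.Normal] :
    Nat.card (H ⊔ K : Subgroup G) * Nat.card (H ⊓ K : Subgroup G) = Nat.card H * Nat.card K := by
  have a := Subgroup.relIndex_sup_right (H := H) (K := K)
  have b : Nat.card K * K.relIndex (H ⊔ K) = Nat.card (H ⊔ K : Subgroup G) :=
    h11_card_mul_relIndex le_sup_right
  have c : (H ⊓ K).relIndex H = K.relIndex H := Subgroup.inf_relIndex_left H K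
  have d : Nat.card (H ⊓ K : Subgroup G) * (H ⊓ K).relIndex H = Nat.card H :=
    h11_card_mul_relIndex inf_le_left
  rw [← b, ← d, a, c]; ring

/-- (P3b) orders. -/
theorem layer_le_sup {G : Type u} [Group G] [Finite G] {H O : Subgroup G}
    (hall : (Nat.card H).Coprime H.index) (hc : IsCore H O) (K : Subgroup G) (hK : K.Normal)
    (hOK : O ≤ K) (hπ : ∀ q : ℕ, q.Prime → q ∣ O.relIndex K → q ∣ Nat.card H) :
    K ≤ O ⊔ H := by
  have := hK
  have := hc.normal
  -- `j = |HK : H|` is prime to `|H|`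
  have hj : (Nat.card H).Coprime (H.relIndex (H ⊔ K)) :=
    Nat.Coprime.coprime_dvd_right (Subgroup.relIndex_dvd_index_of_le le_sup_left) hall
  have h1 : Nat.card (H ⊔ K : Subgroup G) * Nat.card (H ⊓ K : Subgroup G) =
      Nat.card H * Nat.card K := h11_card_sup_mul_card_inf H K
  have h2 : Nat.card H * H.relIndex (H ⊔ K) = Nat.card (H ⊔ K : Subgroup G) :=
    h11_card_mul_relIndex le_sup_left
  have hHpos : 0 < Nat.card H := Nat.card_pos
  have h3 : H.relIndex (H ⊔ K) * Nat.card (H ⊓ K : Subgroup G) = Nat.card K := by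
    rw [← h2, mul_assoc] at h1
    exact Nat.eq_of_mul_eq_mul_left hHpos h1
  have h4 : Nat.card O * O.relIndex K = Nat.card K := h11_card_mul_relIndex hOK
  -- `b = |K:O|` is prime to `j`
  have hbj : (O.relIndex K).Coprime (H.relIndex (H ⊔ K)) := by
    apply Nat.coprime_of_dvd
    intro q hq hqb hqj
    have hqH := hπ q hq hqb
    have h5 : q ∣ Nat.gcd (Nat.card H) (H.relIndex (H ⊔ K)) := Nat.dvd_gcd hqH hqj
    rw [hj] at h5
    exact hq.one_lt.ne' (Nat.dvd_one.mp h5)
  have hbD : O.relIndex K ∣ Nat.card (H ⊓ K : Subgroup G) := by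
    have : O.relIndex K ∣ H.relIndex (H ⊔ K) * Nat.card (H ⊓ K : Subgroup G) := by
      rw [h3, ← h4]; exact dvd_mul_left _ _
    exact hbj.dvd_of_dvd_mul_left this
  -- `O ⊓ (H ⊓ K) = ⊥`
  have hcop : (Nat.card (H ⊓ K : Subgroup G)).Coprime (Nat.card O) := by
    have : Nat.card (H ⊓ K : Subgroup G) ∣ Nat.card H := Subgroup.card_dvd_of_le inf_le_left
    exact Nat.Coprime.coprime_dvd_left this hc.coprime.symm
  have hbot : (H ⊓ K) ⊓ O = ⊥ := (Subgroup.disjoint_of_coprime_natCard hcop).eq_bot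
  have h6 : Nat.card ((H ⊓ K) ⊔ O : Subgroup G) * Nat.card ((H ⊓ K) ⊓ O : Subgroup G) =
      Nat.card (H ⊓ K : Subgroup G) * Nat.card O := h11_card_sup_mul_card_inf (H ⊓ K) O
  rw [hbot, Subgroup.card_bot, mul_one] at h6
  have hle : (H ⊓ K) ⊔ O ≤ K := sup_le inf_le_right hOK
  have hcard : Nat.card K ≤ Nat.card ((H ⊓ K) ⊔ O : Subgroup G) := by
    rw [h6, ← h4, mul_comm]
    exact Nat.mul_le_mul_right _ (Nat.le_of_dvd Nat.card_pos hbD)
  have heq : (H ⊓ K) ⊔ O = K := Subgroup.eq_of_le_of_card_ge hle hcard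
  calc K = (H ⊓ K) ⊔ O := heq.symm
    _ ≤ O ⊔ H := sup_le (inf_le_left.trans le_sup_right) le_sup_left

end Cfsg.Agent.Helper11.TIH
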