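import Mathlib
import Cfsg.Prelude.Def_LocalStructure

/-!
# Thompson–Wielandt toolkit, part 1: relative cores, the `p`-group normalizer trick, index lemmas (helper11)
-/

set_option autoImplicit false
set_option linter.unusedSectionVars false

namespace Cfsg.Agent.Helper11.TW1

open Cfsg

variable {G : Type*} [Group G]

/-- the conjugate `g X g⁻¹` -/
def cj (g : G) (X : Subgroup G) : Subgroup G := X.map (MulAut.conj g).toMonoidHom

theorem mem_cj {g y : G} {X : Subgroup G} : y ∈ cj g X ↔ g⁻¹ * y * g ∈ X := by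
  unfold cj
  rw [Subgroup.mem_map_equiv]
  simp [MulAut.conj_symm_apply]

theorem conj_mem_cj {g x : G} {X : Subgroup G} (hx : x ∈ X) : g * x * g⁻¹ ∈ cj g X := by
  rw [mem_cj]
  have : g⁻¹ * (g * x * g⁻¹) * g = x := by group
  rw [this]; exact hx

theorem cj_one (X : Subgroup G) : cj 1 X = X := by
  ext y; rw [mem_cj]; simp

theorem cj_mul (g h : G) (X : Subgroup G) : cj (g * h) X = cj g (cj h X) := by
  ext y
  rw [mem_cj, mem_cj, mem_cj]
  have : (g * h)⁻¹ * y * (g * h) = h⁻¹ * (g⁻¹ * y * g) * h := by group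
  rw [this]

theorem cj_mono {g : G} {X Y : Subgroup G} (h : X ≤ Y) : cj g X ≤ cj g Y :=
  Subgroup.map_mono h

theorem cj_eq_of_mem_normalizer {g : G} {X : Subgroup G}
    (hg : g ∈ Subgroup.normalizer (X : Set G)) : cj g X = X := by
  ext y
  rw [mem_cj]
  have hg' : g⁻¹ ∈ Subgroup.normalizer (X : Set G) := inv_mem hg
  rw [Subgroup.mem_normalizer_iff] at hg'
  have := hg' y
  simp only [inv_inv] at this
  exact this.symm

theorem card_cj [Finite G] (g : G) (X : Subgroup G) : Nat.card ↥(cj g X) = Nat.card ↥X := by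
  unfold cj
  exact Nat.card_congr (X.equivMapOfInjective _ (MulAut.conj g).injective).symm.toEquiv

/-- the largest subgroup of `X` normalized by `H`: `⋂_{h ∈ H} h X h⁻¹` -/
def cr (H X : Subgroup G) : Subgroup G := ⨅ h : H, cj (h : G) X

theorem mem_cr {H X : Subgroup G} {y : G} : y ∈ cr H X ↔ ∀ h ∈ H, h⁻¹ * y * h ∈ X := by
  unfold cr
  rw [Subgroup.mem_iInf]
  constructor
  · intro h x hx
    exact mem_cj.mp (h ⟨x, hx⟩)
  · rintro h ⟨x, hx⟩
    exact mem_cj.mpr (h x hx)

theorem cr_le (H X : Subgroup G) : cr H X ≤ X := by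
  intro y hy
  have := mem_cr.mp hy 1 H.one_mem
  simpa using this

theorem le_normalizer_cr (H X : Subgroup G) : H ≤ Subgroup.normalizer (cr H X : Set G) := by
  intro h hh
  rw [Subgroup.mem_normalizer_iff]
  intro y
  constructor
  · intro hy
    rw [mem_cr] at hy ⊢
    intro k hk
    have := hy (h⁻¹ * k) (H.mul_mem (H.inv_mem hh) hk)
    have e : (h⁻¹ * k)⁻¹ * y * (h⁻¹ * k) = k⁻¹ * (h * y * h⁻¹) * k := by group
    rwa [e] at this
  · intro hy
    rw [mem_cr] at hy ⊢
    intro k hk
    have := hy (h * k) (H.mul_mem hh hk)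
    have e : (h * k)⁻¹ * (h * y * h⁻¹) * (h * k) = k⁻¹ * y * k := by group
    rwa [e] at this

theorem le_cr {H X Y : Subgroup G} (hYX : Y ≤ X) (hn : H ≤ Subgroup.normalizer (Y : Set G)) :
    Y ≤ cr H X := by
  intro y hy
  rw [mem_cr]
  intro h hh
  have h1 : h⁻¹ ∈ Subgroup.normalizer (Y : Set G) := inv_mem (hn hh)
  rw [Subgroup.mem_normalizer_iff] at h1
  have := (h1 y).mp hy
  simp only [inv_inv] at this
  exact hYX this

theorem cr_mono {H X Y : Subgroup G} (h : X ≤ Y) : cr H X ≤ cr H Y := by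
  intro y hy
  rw [mem_cr] at hy ⊢
  intro k hk
  exact h (hy k hk)

/-- elementwise: conjugation by an element of the normalizer -/
theorem conj_mem_of_mem_normalizer {X : Subgroup G} {g x : G}
    (hg : g ∈ Subgroup.normalizer (X : Set G)) (hx : x ∈ X) : g * x * g⁻¹ ∈ X :=
  (Subgroup.mem_normalizer_iff.mp hg x).mp hx

theorem conj_inv_mem_of_mem_normalizer {X : Subgroup G} {g x : G}
    (hg : g ∈ Subgroup.normalizer (X : Set G)) (hx : x ∈ X) : g⁻¹ * x * g ∈ X := by
  have := conj_mem_of_mem_normalizer (inv_mem hg) hx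
  simpa using this

theorem orderOf_conj (n g : G) : orderOf (n * g * n⁻¹) = orderOf g := by
  have := (MulAut.conj n).orderOf_eq g
  rwa [MulAut.conj_apply] at this

theorem le_normalizer_of_conj_mem {H X : Subgroup G} (h : ∀ n ∈ H, ∀ y ∈ X, n * y * n⁻¹ ∈ X) :
    H ≤ Subgroup.normalizer (X : Set G) := by
  intro n hn
  rw [Subgroup.mem_normalizer_iff]
  intro y
  constructor
  · exact h n hn y
  · intro hy
    have := h n⁻¹ (H.inv_mem hn) _ hy
    have e : n⁻¹ * (n * y * n⁻¹) * n⁻¹⁻¹ = y := by group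
    rwa [e] at this

theorem le_normalizer_inf {H A B : Subgroup G} (hA : H ≤ Subgroup.normalizer (A : Set G))
    (hB : H ≤ Subgroup.normalizer (B : Set G)) : H ≤ Subgroup.normalizer ((A ⊓ B : Subgroup G) : Set G) := by
  apply le_normalizer_of_conj_mem
  intro n hn y hy
  rw [Subgroup.mem_inf] at hy ⊢
  exact ⟨conj_mem_of_mem_normalizer (hA hn) hy.1, conj_mem_of_mem_normalizer (hB hn) hy.2⟩

/-- an element permuting a generating set (in both directions) normalizes the closure -/
theorem mem_normalizer_closure {S : Set G} {g : G} (h1 : ∀ z ∈ S, g * z * g⁻¹ ∈ S)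
    (h2 : ∀ z ∈ S, g⁻¹ * z * g ∈ S) : g ∈ Subgroup.normalizer (Subgroup.closure S : Set G) := by
  have key : ∀ (k : G), (∀ z ∈ S, k * z * k⁻¹ ∈ S) →
      ∀ y ∈ Subgroup.closure S, k * y * k⁻¹ ∈ Subgroup.closure S := by
    intro k hk y hy
    induction hy using Subgroup.closure_induction with
    | mem z hz => exact Subgroup.subset_closure (hk z hz)
    | one => simp
    | mul a b _ _ ha hb =>
      have e : k * (a * b) * k⁻¹ = (k * a * k⁻¹) * (k * b * k⁻¹) := by group
      rw [e]; exact mul_mem ha hb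
    | inv a _ ha =>
      have e : k * a⁻¹ * k⁻¹ = (k * a * k⁻¹)⁻¹ := by group
      rw [e]; exact inv_mem ha
  rw [Subgroup.mem_normalizer_iff]
  intro y
  constructor
  · exact key g h1 y
  · intro hy
    have := key g⁻¹ (by intro z hz; simpa using h2 z hz) _ hy
    have e : g⁻¹ * (g * y * g⁻¹) * g⁻¹⁻¹ = y := by group
    rwa [e] at this

/-- if `r` normalizes `P` and `z ∈ P` then `(r z)^n ∈ r^n P` -/
theorem pow_mul_mem {P : Subgroup G} {r z : G} (hr : r ∈ Subgroup.normalizer (P : Set G))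
    (hz : z ∈ P) (n : ℕ) : (r ^ n)⁻¹ * (r * z) ^ n ∈ P := by
  induction n with
  | zero => simp
  | succ n ih =>
    have e : (r ^ (n + 1))⁻¹ * (r * z) ^ (n + 1)
        = (r⁻¹ * ((r ^ n)⁻¹ * (r * z) ^ n) * r) * z := by
      rw [pow_succ, pow_succ]; group
    rw [e]
    exact mul_mem (conj_inv_mem_of_mem_normalizer hr ih) hz

/-- The key element-level fact: if `w = r z` with `z ∈ P`, `r` a `p`-element normalizing `P`, and the
order of `w` is prime to `p`, then `w ∈ P`. -/
theorem mem_of_mul_of_coprime [Finite G] {p : ℕ} {P : Subgroup G} {r z : G}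
    (hr : r ∈ Subgroup.normalizer (P : Set G)) (hz : z ∈ P) (k : ℕ) (hrk : r ^ p ^ k = 1)
    (hco : (orderOf (r * z)).Coprime p) : r * z ∈ P := by
  have h1 := pow_mul_mem hr hz (p ^ k)
  rw [hrk, inv_one, one_mul] at h1
  have hco' : (p ^ k).Coprime (orderOf (r * z)) := (Nat.Coprime.pow_right k hco).symm
  by_cases h1o : orderOf (r * z) = 1
  · rw [orderOf_eq_one_iff] at h1o
    rw [h1o]; exact P.one_mem
  · have hpos : 0 < orderOf (r * z) := orderOf_pos _
    have hgt : 1 < orderOf (r * z) := by omega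
    obtain ⟨a, -, ha⟩ := Nat.exists_mul_mod_eq_one_of_coprime hco' hgt
    have e : (r * z) = ((r * z) ^ p ^ k) ^ a := by
      rw [← pow_mul]
      conv_lhs => rw [← pow_one (r * z)]
      rw [pow_eq_pow_iff_modEq]
      unfold Nat.ModEq
      rw [ha, Nat.mod_eq_of_lt hgt]
    rw [e]
    exact pow_mem h1 a

/-- **The `p`-group normalizer trick.** If `A`, `B` are `p`-subgroups, `A` normalizes `B`, and every
element of `B` normalizing `A` lies in `A`, then `B ≤ A`. -/
theorem le_of_normalizer_inf_le [Finite G] {p : ℕ} [Fact p.Prime] {A B : Subgroup G}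
    (hA : IsPGroup p A) (hB : IsPGroup p B) (hAB : A ≤ Subgroup.normalizer (B : Set G))
    (h : ∀ b ∈ B, b ∈ Subgroup.normalizer (A : Set G) → b ∈ A) : B ≤ A := by
  classical
  set S := A ⊔ B with hS
  have hSp : IsPGroup p S := IsPGroup.to_sup_of_normal_right' hA hB hAB
  have hAS : A ≤ S := le_sup_left
  by_contra hBA
  have hlt : A.subgroupOf S < ⊤ := by
    rw [lt_top_iff_ne_top]
    intro htop
    rw [Subgroup.subgroupOf_eq_top] at htop
    exact hBA (le_sup_right.trans htop)
  have : Group.IsNilpotent ↥S := hSp.isNilpotent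
  have hnc := Group.normalizerCondition_of_isNilpotent (G := ↥S) (A.subgroupOf S) hlt
  obtain ⟨s, hsn, hsA⟩ := SetLike.exists_of_lt hnc
  have hsS : (s : G) ∈ ((A ⊔ B : Subgroup G) : Set G) := s.2
  rw [Subgroup.coe_mul_of_left_le_normalizer_right A B hAB] at hsS
  obtain ⟨a, ha, b, hb, hab⟩ := hsS
  -- `s` normalizes `A`
  have hsn' : (s : G) ∈ Subgroup.normalizer (A : Set G) := by
    rw [Subgroup.mem_normalizer_iff] at hsn ⊢
    intro y
    constructor
    · intro hy
      have := (hsn ⟨y, hAS hy⟩).mp (Subgroup.mem_subgroupOf.mpr hy)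
      exact Subgroup.mem_subgroupOf.mp this
    · intro hy
      have hyS : y ∈ S := by
        have e : y = (s : G)⁻¹ * ((s : G) * y * (s : G)⁻¹) * (s : G) := by group
        rw [e]
        exact S.mul_mem (S.mul_mem (S.inv_mem s.2) (hAS hy)) s.2
      have := (hsn ⟨y, hyS⟩).mpr (Subgroup.mem_subgroupOf.mpr hy)
      exact Subgroup.mem_subgroupOf.mp this
  have hbn : b ∈ Subgroup.normalizer (A : Set G) := by
    have e : b = a⁻¹ * (s : G) := by rw [← hab]; group
    rw [e]
    exact mul_mem (inv_mem (Subgroup.le_normalizer ha)) hsn'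
  have hbA := h b hb hbn
  apply hsA
  rw [Subgroup.mem_subgroupOf, ← hab]
  exact mul_mem ha hbA

/-- index of a finite intersection of normal subgroups divides the product of the indices -/
theorem index_iInf_dvd {Γ : Type*} [Group Γ] [Finite Γ] {ι : Type*} (s : Finset ι)
    (A : ι → Subgroup Γ) (hA : ∀ i ∈ s, (A i).Normal) :
    (⨅ i ∈ s, A i).index ∣ ∏ i ∈ s, (A i).index := by
  classical
  induction s using Finset.induction_on with
  | empty => simp
  | insert j s hj ih =>
    rw [Finset.iInf_insert, Finset.prod_insert hj]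
    have : (A j).Normal := hA j (Finset.mem_insert_self j s)
    have h1 : (A j).relIndex (⨅ i ∈ s, A i) * (⨅ i ∈ s, A i).index = (A j ⊓ ⨅ i ∈ s, A i).index := by
      have := Subgroup.relIndex_inf_mul_relIndex (A j) (⨅ i ∈ s, A i) ⊤
      simpa using this
    rw [← h1]
    exact Nat.mul_dvd_mul (Subgroup.relIndex_dvd_index_of_normal _ _)
      (ih (fun i hi => hA i (Finset.mem_insert_of_mem hi)))

/-- `[Γ : core_Γ(H)]` divides `[Γ : H]!` -/
theorem index_normalCore_dvd {Γ : Type*} [Group Γ] [Finite Γ] (H : Subgroup Γ) :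
    H.normalCore.index ∣ H.index.factorial := by
  rw [Subgroup.normalCore_eq_ker, Subgroup.index_ker, Subgroup.index_eq_card, ← Nat.card_perm]
  exact Subgroup.card_subgroup_dvd_card (MulAction.toPermHom Γ (Γ ⧸ H)).range

/-- `[H : core_Γ(H)]` divides `([Γ : H] - 1)!` -/
theorem relIndex_normalCore_dvd {Γ : Type*} [Group Γ] [Finite Γ] (H : Subgroup Γ) :
    H.normalCore.relIndex H ∣ (H.index - 1).factorial := by
  classical
  set φ := MulAction.toPermHom Γ (Γ ⧸ H) with hφ
  rw [Subgroup.normalCore_eq_ker, Subgroup.relIndex_ker]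
  -- the image of `H` fixes the coset `H`
  set x0 : Γ ⧸ H := QuotientGroup.mk 1 with hx0
  have hle : H.map φ ≤ MulAction.stabilizer (Equiv.Perm (Γ ⧸ H)) x0 := by
    rintro _ ⟨h, hh, rfl⟩
    rw [MulAction.mem_stabilizer_iff]
    show φ h x0 = x0
    rw [hφ, MulAction.toPermHom_apply, MulAction.toPerm_apply, hx0]
    show (QuotientGroup.mk (h * 1) : Γ ⧸ H) = QuotientGroup.mk 1
    rw [QuotientGroup.eq]
    simpa using hh
  have hn : H.index ≠ 0 := Subgroup.index_ne_zero_of_finite
  have hcard : Nat.card ↥(MulAction.stabilizer (Equiv.Perm (Γ ⧸ H)) x0) = (H.index - 1).factorial := by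
    have h1 := Subgroup.card_mul_index (MulAction.stabilizer (Equiv.Perm (Γ ⧸ H)) x0)
    rw [MulAction.index_stabilizer_of_transitive, Nat.card_perm, ← Subgroup.index_eq_card,
      ← Nat.mul_factorial_pred hn, mul_comm] at h1
    exact Nat.eq_of_mul_eq_mul_left (Nat.pos_of_ne_zero hn) h1
  rw [← hcard]
  exact Subgroup.card_dvd_of_le hle

end Cfsg.Agent.Helper11.TW1
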