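import Mathlib
import Cfsg.Agent.Lib.Helper11.TW1
import Cfsg.Agent.Lib.Helper23.Large

/-!
# Thompson–Wielandt toolkit, part 2: pairs of maximal core-free subgroups; the `O_p` analysis (helper11)

`M`, `N` distinct maximal subgroups of `G` containing no nontrivial normal subgroup of `G`,
`D = M ∩ N`, `K = core_M(D)`, `L = core_N(D)`, `P = core_M(L)`, `Q = core_N(K)`.
If `P` is not a `p`-group, then `O_p(M) = 1`.
-/

set_option autoImplicit false
set_option linter.unusedSectionVars false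

namespace Cfsg.Agent.Helper11.TW2

open Cfsg Cfsg.Agent.Helper11.TW1 Cfsg.Agent.Helper23

variable {G : Type*} [Group G]

/-- `K = core_M(M ∩ N)` -/
def KK (M N : Subgroup G) : Subgroup G := M ⊓ cr M N

/-- `P = core_M(core_N(M ∩ N))` -/
def PP (M N : Subgroup G) : Subgroup G := cr M (KK N M)

theorem KK_le_left (M N : Subgroup G) : KK M N ≤ M := inf_le_left

theorem KK_le_right (M N : Subgroup G) : KK M N ≤ N := inf_le_right.trans (cr_le M N)

theorem le_normalizer_KK (M N : Subgroup G) : M ≤ Subgroup.normalizer (KK M N : Set G) := by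
  intro m hm
  rw [Subgroup.mem_normalizer_iff]
  intro y
  have h1 := Subgroup.mem_normalizer_iff.mp (le_normalizer_cr M N hm) y
  unfold KK
  rw [Subgroup.mem_inf, Subgroup.mem_inf, ← h1]
  constructor
  · rintro ⟨hy, hy'⟩
    exact ⟨M.mul_mem (M.mul_mem hm hy) (M.inv_mem hm), hy'⟩
  · rintro ⟨hy, hy'⟩
    refine ⟨?_, hy'⟩
    have e : y = m⁻¹ * (m * y * m⁻¹) * m := by group
    rw [e]
    exact M.mul_mem (M.mul_mem (M.inv_mem hm) hy) hm

theorem le_KK {M N Y : Subgroup G} (hYM : Y ≤ M) (hYN : Y ≤ N)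
    (hn : M ≤ Subgroup.normalizer (Y : Set G)) : Y ≤ KK M N :=
  le_inf hYM (le_cr hYN hn)

theorem PP_le (M N : Subgroup G) : PP M N ≤ KK N M := cr_le _ _

theorem le_normalizer_PP (M N : Subgroup G) : M ≤ Subgroup.normalizer (PP M N : Set G) :=
  le_normalizer_cr _ _

theorem PP_le_KK (M N : Subgroup G) : PP M N ≤ KK M N :=
  le_KK ((PP_le M N).trans (KK_le_right N M)) ((PP_le M N).trans (KK_le_left N M))
    (le_normalizer_PP M N)

theorem le_PP {M N Y : Subgroup G} (hY : Y ≤ KK N M) (hn : M ≤ Subgroup.normalizer (Y : Set G)) :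
    Y ≤ PP M N := le_cr hY hn

/-- The standing hypotheses. -/
structure Pair (M N : Subgroup G) : Prop where
  maxM : ∀ H : Subgroup G, M ≤ H → H = M ∨ H = ⊤
  maxN : ∀ H : Subgroup G, N ≤ H → H = N ∨ H = ⊤
  coreM : ∀ X : Subgroup G, X.Normal → X ≤ M → X = ⊥
  coreN : ∀ X : Subgroup G, X.Normal → X ≤ N → X = ⊥
  ne : M ≠ N
  cardp : ∀ p : ℕ, Nat.card ↥(pCoreOf p M) = Nat.card ↥(pCoreOf p N)

namespace Pair

variable {M N : Subgroup G}

theorem symm (h : Pair M N) : Pair N M :=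
  ⟨h.maxN, h.maxM, h.coreN, h.coreM, h.ne.symm, fun p => (h.cardp p).symm⟩

theorem sup_eq_top (h : Pair M N) : M ⊔ N = ⊤ := by
  rcases h.maxM (M ⊔ N) le_sup_left with h1 | h1
  · have hNM : N ≤ M := by rw [← h1]; exact le_sup_right
    rcases h.maxN M hNM with h2 | h2
    · exact absurd h2 h.ne
    · rw [h2]; simp
  · exact h1

theorem eq_bot_of_le_normalizers (h : Pair M N) {X : Subgroup G} (hXM : X ≤ M)
    (hM : M ≤ Subgroup.normalizer (X : Set G)) (hN : N ≤ Subgroup.normalizer (X : Set G)) :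
    X = ⊥ := by
  have h1 : Subgroup.normalizer (X : Set G) = ⊤ := by
    rw [eq_top_iff, ← h.sup_eq_top]
    exact sup_le hM hN
  exact h.coreM X (Subgroup.normalizer_eq_top_iff.mp h1) hXM

theorem normalizer_eq (h : Pair M N) {X : Subgroup G} (hX : X ≠ ⊥) (hXM : X ≤ M)
    (hM : M ≤ Subgroup.normalizer (X : Set G)) : Subgroup.normalizer (X : Set G) = M := by
  rcases h.maxM _ hM with h1 | h1
  · exact h1
  · exact absurd (h.coreM X (Subgroup.normalizer_eq_top_iff.mp h1) hXM) hX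

theorem mem_of_mem_normalizer (h : Pair M N) {X : Subgroup G} (hX : X ≠ ⊥) (hXM : X ≤ M)
    (hM : M ≤ Subgroup.normalizer (X : Set G)) {y : G}
    (hy : y ∈ Subgroup.normalizer (X : Set G)) : y ∈ M := by
  rw [h.normalizer_eq hX hXM hM] at hy; exact hy

end Pair

section ylemma

variable [Finite G] {M N : Subgroup G}

/-- the subgroup generated by the `p'`-elements of `P` -/
def pPrimeGen (p : ℕ) (P : Subgroup G) : Subgroup G :=
  Subgroup.closure {z | z ∈ P ∧ (orderOf z).Coprime p}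

theorem pPrimeGen_le (p : ℕ) (P : Subgroup G) : pPrimeGen p P ≤ P := by
  unfold pPrimeGen
  rw [Subgroup.closure_le]
  intro z hz; exact hz.1

theorem normalizer_le_normalizer_pPrimeGen (p : ℕ) (P : Subgroup G) :
    Subgroup.normalizer (P : Set G) ≤ Subgroup.normalizer (pPrimeGen p P : Set G) := by
  intro m hm
  unfold pPrimeGen
  apply mem_normalizer_closure
  · rintro z ⟨hz, hzo⟩
    refine ⟨conj_mem_of_mem_normalizer hm hz, ?_⟩
    have : orderOf (m * z * m⁻¹) = orderOf z := orderOf_conj m z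
    rw [this]; exact hzo
  · rintro z ⟨hz, hzo⟩
    refine ⟨conj_inv_mem_of_mem_normalizer hm hz, ?_⟩
    have : orderOf (m⁻¹ * z * m) = orderOf z := by
      have := orderOf_conj m⁻¹ z
      simpa using this
    rw [this]; exact hzo

/-- **Y-lemma.** If `P` has a nontrivial `p'`-element, every subgroup `Y` of `N`, normalized by `N`, which
centralizes `L / O_p(L)`, lies in `L`. -/
theorem Ylemma (h : Pair M N) (p : ℕ) [Fact p.Prime] {x : G} (hxP : x ∈ PP M N) (hx1 : x ≠ 1)
    (hxo : (orderOf x).Coprime p) {Y : Subgroup G} (hYN : Y ≤ N)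
    (hNY : N ≤ Subgroup.normalizer (Y : Set G))
    (hc : ∀ y ∈ Y, ∀ l ∈ KK N M, y * l * y⁻¹ * l⁻¹ ∈ pCoreOf p (KK N M)) : Y ≤ KK N M := by
  set P := PP M N with hP
  set L := KK N M with hL
  set R := pCoreOf p L with hR
  have hPL : P ≤ L := PP_le M N
  have hLM : L ≤ M := KK_le_right N M
  have hRL : R ≤ L := pCoreOf_le L
  have hRp : IsPGroup p R := pCoreOf_isPGroup L
  set P₁ := pPrimeGen p P with hP₁
  have hP₁ne : P₁ ≠ ⊥ := by
    intro h0
    have : x ∈ P₁ := Subgroup.subset_closure ⟨hxP, hxo⟩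
    rw [h0, Subgroup.mem_bot] at this
    exact hx1 this
  have hP₁M : P₁ ≤ M := (pPrimeGen_le p P).trans (hPL.trans hLM)
  have hMP₁ : M ≤ Subgroup.normalizer (P₁ : Set G) :=
    (le_normalizer_PP M N).trans (normalizer_le_normalizer_pPrimeGen p P)
  -- `Y` normalizes `P₁`
  have hstep : ∀ y ∈ Y, ∀ z, z ∈ P ∧ (orderOf z).Coprime p →
      y * z * y⁻¹ ∈ P ∧ (orderOf (y * z * y⁻¹)).Coprime p := by
    rintro y hy z ⟨hz, hzo⟩
    have ho : orderOf (y * z * y⁻¹) = orderOf z := orderOf_conj y z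
    refine ⟨?_, by rw [ho]; exact hzo⟩
    set r := y * z * y⁻¹ * z⁻¹ with hr
    have hrR : r ∈ R := hc y hy z (hPL hz)
    have e : y * z * y⁻¹ = r * z := by rw [hr]; group
    rw [e]
    obtain ⟨k, hk⟩ := (IsPGroup.iff_orderOf.mp hRp) ⟨r, hrR⟩
    have hrk : r ^ p ^ k = 1 := by
      have h1 : orderOf r = p ^ k := by
        rw [← hk]; exact Subgroup.orderOf_coe (⟨r, hrR⟩ : ↥R)
      rw [← h1]; exact pow_orderOf_eq_one r
    have hrn : r ∈ Subgroup.normalizer (P : Set G) := le_normalizer_PP M N (hLM (hRL hrR))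
    apply mem_of_mul_of_coprime hrn hz k hrk
    rw [← e, ho]; exact hzo
  have hYP₁ : Y ≤ Subgroup.normalizer (P₁ : Set G) := by
    intro y hy
    rw [hP₁]
    unfold pPrimeGen
    apply mem_normalizer_closure
    · intro z hz; exact hstep y hy z hz
    · intro z hz
      have := hstep y⁻¹ (Y.inv_mem hy) z hz
      simpa using this
  have hYM : Y ≤ M := fun y hy => h.mem_of_mem_normalizer hP₁ne hP₁M hMP₁ (hYP₁ hy)
  exact le_KK hYN hYM hNY

end ylemma

end Cfsg.Agent.Helper11.TW2
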