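import Mathlib
import Cfsg.Agent.Lib.Helper11.TW2

/-!
# Thompson–Wielandt toolkit, part 3: if `P` is not a `p`-group then `O_p(M) = 1` (helper11)
-/

set_option autoImplicit false
set_option linter.unusedSectionVars false

namespace Cfsg.Agent.Helper11.TW3

open Cfsg Cfsg.Agent.Helper11.TW1 Cfsg.Agent.Helper11.TW2 Cfsg.Agent.Helper23

variable {G : Type*} [Group G] [Finite G] {M N : Subgroup G}

theorem le_normalizer_pCoreOf_KK (p : ℕ) [Fact p.Prime] (M N : Subgroup G) :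
    N ≤ Subgroup.normalizer (pCoreOf p (KK N M) : Set G) :=
  (le_normalizer_KK N M).trans (normalizer_le_normalizer_pCoreOf (KK N M))

/-- `C_N(L / O_p(L))`, `L = core_N(M ∩ N)` -/
def CM (p : ℕ) [Fact p.Prime] (M N : Subgroup G) : Subgroup G where
  carrier := {y | y ∈ N ∧ ∀ l ∈ KK N M, y * l * y⁻¹ * l⁻¹ ∈ pCoreOf p (KK N M)}
  one_mem' := ⟨N.one_mem, fun l _ => by simp⟩
  mul_mem' := by
    rintro y₁ y₂ ⟨h1N, h1⟩ ⟨h2N, h2⟩
    refine ⟨N.mul_mem h1N h2N, fun l hl => ?_⟩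
    have e : y₁ * y₂ * l * (y₁ * y₂)⁻¹ * l⁻¹
        = (y₁ * (y₂ * l * y₂⁻¹ * l⁻¹) * y₁⁻¹) * (y₁ * l * y₁⁻¹ * l⁻¹) := by group
    rw [e]
    exact mul_mem (conj_mem_of_mem_normalizer (le_normalizer_pCoreOf_KK p M N h1N) (h2 l hl)) (h1 l hl)
  inv_mem' := by
    rintro y ⟨hN, h1⟩
    refine ⟨N.inv_mem hN, fun l hl => ?_⟩
    have e : y⁻¹ * l * y⁻¹⁻¹ * l⁻¹ = y⁻¹ * (y * l * y⁻¹ * l⁻¹)⁻¹ * y := by group
    rw [e]
    exact conj_inv_mem_of_mem_normalizer (le_normalizer_pCoreOf_KK p M N hN) (inv_mem (h1 l hl))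

theorem mem_CM {p : ℕ} [Fact p.Prime] {y : G} :
    y ∈ CM p M N ↔ y ∈ N ∧ ∀ l ∈ KK N M, y * l * y⁻¹ * l⁻¹ ∈ pCoreOf p (KK N M) := Iff.rfl

theorem CM_le_N (p : ℕ) [Fact p.Prime] : CM p M N ≤ N := fun _ hy => hy.1

theorem le_normalizer_CM (p : ℕ) [Fact p.Prime] : N ≤ Subgroup.normalizer (CM p M N : Set G) := by
  apply le_normalizer_of_conj_mem
  rintro n hn y ⟨hyN, hy⟩
  refine ⟨N.mul_mem (N.mul_mem hn hyN) (N.inv_mem hn), fun l hl => ?_⟩
  have hl' : n⁻¹ * l * n ∈ KK N M := conj_inv_mem_of_mem_normalizer (le_normalizer_KK N M hn) hl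
  have e : n * y * n⁻¹ * l * (n * y * n⁻¹)⁻¹ * l⁻¹
      = n * (y * (n⁻¹ * l * n) * y⁻¹ * (n⁻¹ * l * n)⁻¹) * n⁻¹ := by group
  rw [e]
  exact conj_mem_of_mem_normalizer (le_normalizer_pCoreOf_KK p M N hn) (hy _ hl')

/-- if `P` has a nontrivial `p'`-element then `C_N(L/O_p(L)) ≤ L` -/
theorem CM_le (h : Pair M N) (p : ℕ) [Fact p.Prime] {x : G} (hxP : x ∈ PP M N) (hx1 : x ≠ 1)
    (hxo : (orderOf x).Coprime p) : CM p M N ≤ KK N M :=
  Ylemma h p hxP hx1 hxo (CM_le_N p) (le_normalizer_CM p) (fun _ hy l hl => hy.2 l hl)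

/-- a `p`-subgroup `U` of `N` normalized by `L`, with `L` normalized by `U`, lies in `C_N(L/O_p(L))` -/
theorem le_CM_of_pgroup (p : ℕ) [Fact p.Prime] {U : Subgroup G} (hU : IsPGroup p U) (hUN : U ≤ N)
    (hLU : KK N M ≤ Subgroup.normalizer (U : Set G)) : U ≤ CM p M N := by
  intro y hy
  refine ⟨hUN hy, fun l hl => ?_⟩
  set L := KK N M with hL
  have hX : U ⊓ L ≤ pCoreOf p L := by
    apply le_pCoreOf_of_normal_pgroup inf_le_right (hU.to_le inf_le_left)
    exact le_normalizer_inf hLU Subgroup.le_normalizer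
  apply hX
  refine Subgroup.mem_inf.mpr ⟨?_, ?_⟩
  · have e : y * l * y⁻¹ * l⁻¹ = y * (l * y⁻¹ * l⁻¹) := by group
    rw [e]
    exact U.mul_mem hy (conj_mem_of_mem_normalizer (hLU hl) (U.inv_mem hy))
  · exact L.mul_mem (conj_mem_of_mem_normalizer (le_normalizer_KK N M (hUN hy)) hl) (L.inv_mem hl)

theorem KK_le_inf (M N : Subgroup G) : KK N M ≤ M ⊓ N := le_inf (KK_le_right N M) (KK_le_left N M)

/-- if `P` is not a `p`-group then `O_p(N) = O_p(L) = O_p(M ∩ N)` -/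
theorem pcore_facts (h : Pair M N) (p : ℕ) [Fact p.Prime] {x : G} (hxP : x ∈ PP M N) (hx1 : x ≠ 1)
    (hxo : (orderOf x).Coprime p) :
    pCoreOf p N = pCoreOf p (KK N M) ∧ pCoreOf p (M ⊓ N) = pCoreOf p (KK N M) := by
  set L := KK N M with hL
  have hCM := CM_le h p hxP hx1 hxo
  have hLN : L ≤ N := KK_le_left N M
  have hLD : L ≤ M ⊓ N := KK_le_inf M N
  have hRN : N ≤ Subgroup.normalizer (pCoreOf p L : Set G) := le_normalizer_pCoreOf_KK p M N
  constructor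
  · apply le_antisymm
    · have h1 : pCoreOf p N ≤ L :=
        (le_CM_of_pgroup p (pCoreOf_isPGroup N) (pCoreOf_le N)
          (hLN.trans (le_normalizer_pCoreOf N))).trans hCM
      exact le_pCoreOf_of_normal_pgroup h1 (pCoreOf_isPGroup N) (hLN.trans (le_normalizer_pCoreOf N))
    · exact le_pCoreOf_of_normal_pgroup ((pCoreOf_le L).trans hLN) (pCoreOf_isPGroup L) hRN
  · apply le_antisymm
    · have h1 : pCoreOf p (M ⊓ N) ≤ L :=
        (le_CM_of_pgroup p (pCoreOf_isPGroup _) ((pCoreOf_le _).trans inf_le_right)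
          (hLD.trans (le_normalizer_pCoreOf _))).trans hCM
      exact le_pCoreOf_of_normal_pgroup h1 (pCoreOf_isPGroup _) (hLD.trans (le_normalizer_pCoreOf _))
    · exact le_pCoreOf_of_normal_pgroup ((pCoreOf_le L).trans hLD) (pCoreOf_isPGroup L)
        (inf_le_right.trans hRN)

/-- **if `P` is not a `p`-group then `O_p(M) = 1`** -/
theorem pCoreOf_eq_bot (h : Pair M N) (p : ℕ) [Fact p.Prime] {x : G} (hxP : x ∈ PP M N) (hx1 : x ≠ 1)
    (hxo : (orderOf x).Coprime p) : pCoreOf p M = ⊥ := by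
  obtain ⟨e1, e2⟩ := pcore_facts h p hxP hx1 hxo
  set RN := pCoreOf p N with hRN
  set RM := pCoreOf p M with hRM
  have hcard : Nat.card ↥RM = Nat.card ↥RN := h.cardp p
  by_cases hbot : RN = ⊥
  · rw [hbot] at hcard
    have : Nat.card ↥RM = 1 := by rw [hcard]; simp
    exact Subgroup.card_eq_one.mp this
  · exfalso
    have hRNN : RN ≤ N := pCoreOf_le N
    have hNRN : N ≤ Subgroup.normalizer (RN : Set G) := le_normalizer_pCoreOf N
    have hRND : RN = pCoreOf p (M ⊓ N) := e1.trans e2.symm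
    have hRN_D : RN ≤ M ⊓ N := by rw [hRND]; exact pCoreOf_le _
    have hle : RM ≤ RN := by
      apply le_of_normalizer_inf_le (pCoreOf_isPGroup N) (pCoreOf_isPGroup M)
      · exact (hRN_D.trans inf_le_left).trans (le_normalizer_pCoreOf M)
      · intro b hb hbn
        have hbN : b ∈ N := h.symm.mem_of_mem_normalizer hbot hRNN hNRN hbn
        have hbM : b ∈ M := pCoreOf_le M hb
        have hX : RM ⊓ (M ⊓ N) ≤ pCoreOf p (M ⊓ N) := by
          apply le_pCoreOf_of_normal_pgroup inf_le_right ((pCoreOf_isPGroup M).to_le inf_le_left)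
          exact le_normalizer_inf (inf_le_left.trans (le_normalizer_pCoreOf M)) Subgroup.le_normalizer
        show b ∈ RN
        rw [hRND]
        exact hX (Subgroup.mem_inf.mpr ⟨hb, Subgroup.mem_inf.mpr ⟨hbM, hbN⟩⟩)
    have heq : RM = RN := Subgroup.eq_of_le_of_card_ge hle hcard.ge
    apply hbot
    apply h.symm.eq_bot_of_le_normalizers hRNN hNRN
    rw [← heq]
    exact le_normalizer_pCoreOf M

end Cfsg.Agent.Helper11.TW3
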