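import Mathlib
import Cfsg.Agent.Lib.Helper11.TW3
import Cfsg.Agent.Lib.Helper22.Components
import Cfsg.Agent.Lib.Helper21.Components

/-!
# Thompson–Wielandt toolkit, part 4: the components (helper11)

Under `P ≠ 1 ≠ Q`, the maximal subgroups `M` and `N` have no components.
-/

set_option autoImplicit false
set_option linter.unusedSectionVars false

namespace Cfsg.Agent.Helper11.TW4

open Cfsg Cfsg.Agent.Helper11.TW1 Cfsg.Agent.Helper11.TW2 Cfsg.Agent.Helper11.TW3

variable {G : Type*} [Group G]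

/-- `C` is a component of the subgroup `H` -/
def RC (H C : Subgroup G) : Prop := C ≤ H ∧ IsComponent (C.subgroupOf H)

theorem RC.of_component {H : Subgroup G} {C₀ : Subgroup ↥H} (h : IsComponent C₀) :
    RC H (C₀.map H.subtype) := by
  refine ⟨Subgroup.map_subtype_le _, ?_⟩
  have : (C₀.map H.subtype).subgroupOf H = C₀ :=
    Subgroup.comap_map_eq_self_of_injective H.subtype_injective C₀
  rw [this]; exact h

theorem RC.restrict {H K C : Subgroup G} (h : RC H C) (hCK : C ≤ K) (hKH : K ≤ H) : RC K C := by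
  refine ⟨hCK, ?_, ?_⟩
  · have hs := (h.2.1).comap (Subgroup.inclusion hKH)
    have e : (C.subgroupOf H).comap (Subgroup.inclusion hKH) = C.subgroupOf K := by
      ext x
      simp [Subgroup.mem_subgroupOf]
    rwa [e] at hs
  · exact Cfsg.Agent.Helper22.IsQuasisimple.of_mulEquiv
      ((Subgroup.subgroupOfEquivOfLe h.1).trans (Subgroup.subgroupOfEquivOfLe hCK).symm) h.2.2

theorem RC.extend {H K C : Subgroup G} (h : RC K C) (hKH : K ≤ H)
    (hn : (K.subgroupOf H).Normal) : RC H C := by
  refine ⟨h.1.trans hKH, ?_⟩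
  set E : Subgroup ↥K := C.subgroupOf K with hE
  have h1 : IsComponent (E.map ((Subgroup.subgroupOfEquivOfLe hKH).symm : ↥K →* ↥(K.subgroupOf H))) :=
    Cfsg.Agent.Helper22.IsComponent.map_injective h.2 _ (Subgroup.subgroupOfEquivOfLe hKH).symm.bijective
  have h2 := Cfsg.Agent.Helper22.IsComponent.of_subnormal hn.isSubnormal h1
  have e : (E.map ((Subgroup.subgroupOfEquivOfLe hKH).symm : ↥K →* ↥(K.subgroupOf H))).map
      (K.subgroupOf H).subtype = C.subgroupOf H := by
    ext x
    constructor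
    · rintro ⟨y, ⟨e, he, rfl⟩, rfl⟩
      exact Subgroup.mem_subgroupOf.mpr (Subgroup.mem_subgroupOf.mp he)
    · intro hx
      have hxC : (x : G) ∈ C := Subgroup.mem_subgroupOf.mp hx
      refine ⟨(Subgroup.subgroupOfEquivOfLe hKH).symm ⟨(x : G), h.1 hxC⟩, ⟨⟨(x : G), h.1 hxC⟩, ?_, rfl⟩, ?_⟩
      · exact Subgroup.mem_subgroupOf.mpr hxC
      · exact Subtype.ext rfl
  rwa [e] at h2

/-- a component normalizing a subgroup is contained in it or commutes with it -/
theorem RC.le_or_commute {H C X : Subgroup G} (h : RC H C) (hXH : X ≤ H)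
    (hn : C ≤ Subgroup.normalizer (X : Set G)) :
    C ≤ X ∨ ∀ c ∈ C, ∀ x ∈ X, c * x = x * c := by
  have hn' : C.subgroupOf H ≤ Subgroup.normalizer ((X.subgroupOf H : Subgroup ↥H) : Set ↥H) := by
    intro c hc
    have hcn := hn (Subgroup.mem_subgroupOf.mp hc)
    rw [Subgroup.mem_normalizer_iff] at hcn ⊢
    intro y
    rw [Subgroup.mem_subgroupOf, Subgroup.mem_subgroupOf]
    exact hcn (y : G)
  rcases Cfsg.Agent.Helper21.component_le_or_commutator_eq_bot_of_le_normalizer _ _ h.2 hn' with h1 | h1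
  · left
    intro c hc
    have := h1 (Subgroup.mem_subgroupOf.mpr (show ((⟨c, h.1 hc⟩ : ↥H) : G) ∈ C from hc))
    exact Subgroup.mem_subgroupOf.mp this
  · right
    intro c hc x hx
    rw [Subgroup.commutator_eq_bot_iff_le_centralizer] at h1
    have hc' : (⟨c, h.1 hc⟩ : ↥H) ∈ C.subgroupOf H := Subgroup.mem_subgroupOf.mpr hc
    have := Subgroup.mem_centralizer_iff.mp (h1 hc') ⟨x, hXH hx⟩ (Subgroup.mem_subgroupOf.mpr hx)
    exact (congrArg Subtype.val this).symm

/-- a component is not abelian -/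
theorem RC.not_commute {H C : Subgroup G} (h : RC H C) :
    ¬ ∀ c ∈ C, ∀ x ∈ C, c * x = x * c := by
  intro hc
  apply Cfsg.Agent.Helper22.IsQuasisimple.not_commutator_eq_bot h.2.2
  rw [Subgroup.commutator_eq_bot_iff_le_centralizer]
  intro c hcC
  rw [Subgroup.mem_centralizer_iff]
  intro y hy
  apply Subtype.ext
  exact (hc c (Subgroup.mem_subgroupOf.mp hcC) y (Subgroup.mem_subgroupOf.mp hy)).symm

variable [Finite G] {M N : Subgroup G}

/-- the key fact about components: a component of `M` lies in `K ∩ L` -/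
theorem RC.le_KK_inf (h : Pair M N) (hP : PP M N ≠ ⊥) (hQ : PP N M ≠ ⊥) {C : Subgroup G}
    (hC : RC M C) : C ≤ KK M N ⊓ KK N M := by
  -- step 1: `C ≤ K`
  have hCK : C ≤ KK M N := by
    rcases hC.le_or_commute (KK_le_left M N) (hC.1.trans (le_normalizer_KK M N)) with h1 | h1
    · exact h1
    · intro c hc
      refine Subgroup.mem_inf.mpr ⟨hC.1 hc, mem_cr.mpr fun m hm => ?_⟩
      -- `m⁻¹ c m` centralizes `K ⊇ Q`, hence normalizes `Q`, hence lies in `N`
      apply h.symm.mem_of_mem_normalizer hQ ((PP_le N M).trans (KK_le_right M N)) (le_normalizer_PP N M)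
      apply Subgroup.centralizer_le_normalizer
      rw [Subgroup.mem_centralizer_iff]
      intro q hq
      have hqK : q ∈ KK M N := PP_le N M hq
      have hq' : m * q * m⁻¹ ∈ KK M N := conj_mem_of_mem_normalizer (le_normalizer_KK M N hm) hqK
      have := h1 c hc _ hq'
      calc q * (m⁻¹ * c * m) = m⁻¹ * ((m * q * m⁻¹) * c) * m := by group
        _ = m⁻¹ * (c * (m * q * m⁻¹)) * m := by rw [this]
        _ = m⁻¹ * c * m * q := by group
  -- step 2: `C ≤ L`
  have hCL : C ≤ KK N M := by
    have hCN : C ≤ N := hCK.trans (KK_le_right M N)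
    rcases hC.le_or_commute (KK_le_right N M) (hCN.trans (le_normalizer_KK N M)) with h1 | h1
    · exact h1
    · intro c hc
      refine Subgroup.mem_inf.mpr ⟨hCN hc, mem_cr.mpr fun n hn => ?_⟩
      apply h.mem_of_mem_normalizer hP ((PP_le M N).trans (KK_le_right N M)) (le_normalizer_PP M N)
      apply Subgroup.centralizer_le_normalizer
      rw [Subgroup.mem_centralizer_iff]
      intro q hq
      have hqL : q ∈ KK N M := PP_le M N hq
      have hq' : n * q * n⁻¹ ∈ KK N M := conj_mem_of_mem_normalizer (le_normalizer_KK N M hn) hqL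
      have := h1 c hc _ hq'
      calc q * (n⁻¹ * c * n) = n⁻¹ * ((n * q * n⁻¹) * c) * n := by group
        _ = n⁻¹ * (c * (n * q * n⁻¹)) * n := by rw [this]
        _ = n⁻¹ * c * n * q := by group
  exact le_inf hCK hCL

theorem RC.swap (h : Pair M N) (hP : PP M N ≠ ⊥) (hQ : PP N M ≠ ⊥) {C : Subgroup G}
    (hC : RC M C) : RC N C := by
  have hle := RC.le_KK_inf h hP hQ hC
  have hCL : C ≤ KK N M := hle.trans inf_le_right
  have h1 : RC (KK N M) C := hC.restrict hCL (KK_le_right N M)
  apply h1.extend (KK_le_left N M)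
  rw [Subgroup.normal_subgroupOf_iff_le_normalizer (KK_le_left N M)]
  exact le_normalizer_KK N M

/-- `E(M)` as a subgroup of `G` -/
def layerOf (M : Subgroup G) : Subgroup G := (layer ↥M).map M.subtype

theorem layerOf_le (M : Subgroup G) : layerOf M ≤ M := Subgroup.map_subtype_le _

theorem le_normalizer_layerOf (M : Subgroup G) : M ≤ Subgroup.normalizer (layerOf M : Set G) := by
  apply le_normalizer_of_conj_mem
  rintro m hm _ ⟨y, hy, rfl⟩
  have hn : (layer ↥M).Normal := Cfsg.Agent.Helper22.layer_normal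
  exact ⟨⟨m, hm⟩ * y * ⟨m, hm⟩⁻¹, hn.conj_mem y hy _, by simp⟩

theorem layerOf_le_layerOf (h : Pair M N) (hP : PP M N ≠ ⊥) (hQ : PP N M ≠ ⊥) :
    layerOf M ≤ layerOf N := by
  unfold layerOf
  rw [Subgroup.map_le_iff_le_comap]
  unfold layer
  apply sSup_le
  intro C₀ hC₀
  rw [← Subgroup.map_le_iff_le_comap]
  have h1 : RC M (C₀.map M.subtype) := RC.of_component hC₀
  have h2 : RC N (C₀.map M.subtype) := RC.swap h hP hQ h1
  have h3 : (C₀.map M.subtype).subgroupOf N ≤ layer ↥N := Cfsg.Agent.Helper22.IsComponent.le_layer h2.2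
  have h4 := Subgroup.map_mono (f := N.subtype) h3
  rwa [Subgroup.map_subgroupOf_eq_of_le h2.1] at h4

/-- **no components** -/
theorem layer_eq_bot (h : Pair M N) (hP : PP M N ≠ ⊥) (hQ : PP N M ≠ ⊥) : layer ↥M = ⊥ := by
  have e : layerOf M = layerOf N :=
    le_antisymm (layerOf_le_layerOf h hP hQ) (layerOf_le_layerOf h.symm hQ hP)
  have h0 : layerOf M = ⊥ := by
    apply h.eq_bot_of_le_normalizers (layerOf_le M) (le_normalizer_layerOf M)
    rw [e]; exact le_normalizer_layerOf N
  exact (Subgroup.map_eq_bot_iff_of_injective _ M.subtype_injective).mp h0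

end Cfsg.Agent.Helper11.TW4
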