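import Mathlib
import Cfsg.Agent.Lib.Helper11.TW4
import Cfsg.Agent.Lib.Helper21.FStar
import Cfsg.Agent.S0009

/-!
# Thompson–Wielandt toolkit, part 5: the main abstract theorem (helper11)

If `P ≠ 1 ≠ Q` then for some prime `p`, `P` is a `p`-group and `F*(M) = O_p(M)`.
-/

set_option autoImplicit false
set_option linter.unusedSectionVars false

namespace Cfsg.Agent.Helper11.TW5

open Cfsg Cfsg.Agent.Helper11.TW1 Cfsg.Agent.Helper11.TW2 Cfsg.Agent.Helper11.TW3
  Cfsg.Agent.Helper11.TW4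

variable {G : Type*} [Group G] [Finite G] {M N : Subgroup G}

/-- a subgroup which is not a `p`-group contains a nontrivial `p'`-element -/
theorem exists_pprime_of_not_isPGroup {p : ℕ} [hp : Fact p.Prime] {P : Subgroup G}
    (h : ¬ IsPGroup p P) : ∃ x ∈ P, x ≠ 1 ∧ (orderOf x).Coprime p := by
  unfold IsPGroup at h
  push Not at h
  obtain ⟨g, hg⟩ := h
  have hpos : 0 < orderOf (g : G) := orderOf_pos _
  obtain ⟨k, m, hm, hkm⟩ := Nat.exists_eq_pow_mul_and_not_dvd hpos.ne' p hp.out.ne_one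
  refine ⟨(g : G) ^ p ^ k, P.pow_mem g.2 _, ?_, ?_⟩
  · intro h1
    apply hg k
    apply Subtype.ext
    simpa using h1
  · have hd : p ^ k ∣ orderOf (g : G) := ⟨m, hkm⟩
    have : orderOf ((g : G) ^ p ^ k) = m := by
      rw [orderOf_pow_of_dvd (pow_ne_zero k hp.out.ne_zero) hd, hkm]
      exact Nat.mul_div_cancel_left m (pow_pos hp.out.pos k)
    rw [this]
    exact ((Nat.Prime.coprime_iff_not_dvd hp.out).mpr hm).symm

theorem pCore_eq_bot_of_pCoreOf {p : ℕ} (h : pCoreOf p M = ⊥) : pCore p ↥M = ⊥ :=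
  (Subgroup.map_eq_bot_iff_of_injective _ M.subtype_injective).mp h

/-- **Main theorem.** -/
theorem main (h : Pair M N) (hP : PP M N ≠ ⊥) (hQ : PP N M ≠ ⊥) :
    ∃ p : ℕ, p.Prime ∧ IsPGroup p (PP M N) ∧ generalizedFittingSubgroup ↥M = pCore p ↥M := by
  have hlayer : layer ↥M = ⊥ := layer_eq_bot h hP hQ
  have hcore : ∀ p : ℕ, p.Prime → ¬ IsPGroup p (PP M N) → pCore p ↥M = ⊥ := by
    intro p hp hnp
    have := Fact.mk hp
    obtain ⟨x, hxP, hx1, hxo⟩ := exists_pprime_of_not_isPGroup hnp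
    exact pCore_eq_bot_of_pCoreOf (pCoreOf_eq_bot h p hxP hx1 hxo)
  have hMne : M ≠ ⊥ := by
    intro h0
    apply hP
    rw [eq_bot_iff, ← h0]
    exact (PP_le M N).trans (KK_le_right N M)
  have hFne : generalizedFittingSubgroup ↥M ≠ ⊥ := by
    intro h0
    apply hMne
    rw [eq_bot_iff]
    intro a ha
    have h1 : (⟨a, ha⟩ : ↥M) ∈
        Subgroup.centralizer ((generalizedFittingSubgroup ↥M : Subgroup ↥M) : Set ↥M) := by
      rw [h0, Subgroup.mem_centralizer_iff]
      intro y hy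
      rw [SetLike.mem_coe, Subgroup.mem_bot] at hy
      rw [hy]; simp
    have h2 := Cfsg.Agent.Helper21.centralizer_generalizedFittingSubgroup_le h1
    rw [h0, Subgroup.mem_bot] at h2
    rw [Subgroup.mem_bot]
    exact congrArg Subtype.val h2
  have hFeq : generalizedFittingSubgroup ↥M = ⨆ p : Nat.Primes, pCore (p : ℕ) ↥M := by
    unfold generalizedFittingSubgroup
    rw [hlayer, bot_sup_eq]
    exact Cfsg.Agent.S0009.result
  -- some prime `p` with `P` a `p`-group
  have hex : ∃ p : ℕ, p.Prime ∧ IsPGroup p (PP M N) := by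
    by_contra hno
    push Not at hno
    apply hFne
    rw [hFeq]
    apply le_antisymm _ bot_le
    apply iSup_le
    intro p
    rw [hcore p p.2 (hno p p.2)]
  obtain ⟨p, hp, hPp⟩ := hex
  refine ⟨p, hp, hPp, ?_⟩
  have := Fact.mk hp
  -- a nontrivial element of `P`
  obtain ⟨x, hxP, hx1⟩ : ∃ x ∈ PP M N, x ≠ 1 := by
    by_contra hno
    push Not at hno
    apply hP
    rw [eq_bot_iff]
    intro x hx
    rw [Subgroup.mem_bot]; exact hno x hx
  have hother : ∀ r : ℕ, r.Prime → r ≠ p → pCore r ↥M = ⊥ := by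
    intro r hr hrp
    apply hcore r hr
    intro hPr
    -- `x` would be both a `p`-element and an `r`-element
    obtain ⟨k, hk⟩ := hPp ⟨x, hxP⟩
    obtain ⟨l, hl⟩ := hPr ⟨x, hxP⟩
    have hk' : x ^ p ^ k = 1 := by simpa using congrArg Subtype.val hk
    have hl' : x ^ r ^ l = 1 := by simpa using congrArg Subtype.val hl
    have h1 : orderOf x ∣ p ^ k := orderOf_dvd_of_pow_eq_one hk'
    have h2 : orderOf x ∣ r ^ l := orderOf_dvd_of_pow_eq_one hl'
    have hco : (p ^ k).Coprime (r ^ l) :=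
      Nat.Coprime.pow k l ((Nat.coprime_primes hp hr).mpr (Ne.symm hrp))
    have : orderOf x = 1 := Nat.eq_one_of_dvd_coprimes hco h1 h2
    exact hx1 (orderOf_eq_one_iff.mp this)
  rw [hFeq]
  apply le_antisymm
  · apply iSup_le
    intro r
    by_cases hrp : (r : ℕ) = p
    · rw [hrp]
    · rw [hother r r.2 hrp]; exact bot_le
  · exact le_iSup (fun q : Nat.Primes => pCore (q : ℕ) ↥M) ⟨p, hp⟩

end Cfsg.Agent.Helper11.TW5
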