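import Mathlib
import Cfsg.Agent.Lib.Helper11.TW2

/-!
# Thompson–Wielandt toolkit, part 6: the index bound `[M : P] ∣ d! ((d'-1)!)^d` (helper11)
-/

set_option autoImplicit false
set_option linter.unusedSectionVars false

namespace Cfsg.Agent.Helper11.TW6

open Cfsg Cfsg.Agent.Helper11.TW1 Cfsg.Agent.Helper11.TW2

variable {G : Type*} [Group G] [Finite G]

/-- `K ∩ M = core` -/
theorem KK_subgroupOf (M N : Subgroup G) : (KK M N).subgroupOf M = (N.subgroupOf M).normalCore := by
  ext ⟨m, hm⟩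
  rw [Subgroup.mem_subgroupOf]
  show m ∈ KK M N ↔ _
  unfold KK
  rw [Subgroup.mem_inf, mem_cr]
  constructor
  · rintro ⟨-, h⟩
    show ∀ b : ↥M, b * ⟨m, hm⟩ * b⁻¹ ∈ N.subgroupOf M
    intro b
    rw [Subgroup.mem_subgroupOf]
    have := h (b : G)⁻¹ (M.inv_mem b.2)
    simpa using this
  · intro h
    refine ⟨hm, fun k hk => ?_⟩
    have h' : ∀ b : ↥M, b * ⟨m, hm⟩ * b⁻¹ ∈ N.subgroupOf M := h
    have := h' ⟨k⁻¹, M.inv_mem hk⟩
    rw [Subgroup.mem_subgroupOf] at this
    simpa using this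

/-- `[M : K] ∣ [M : M ∩ N]!` -/
theorem relIndex_KK_dvd (M N : Subgroup G) : (KK M N).relIndex M ∣ (N.relIndex M).factorial := by
  unfold Subgroup.relIndex
  rw [KK_subgroupOf]
  exact index_normalCore_dvd _

/-- `[M ∩ N : L] ∣ ([N : M ∩ N] - 1)!` -/
theorem relIndex_KK_inf_dvd (M N : Subgroup G) :
    (KK N M).relIndex (M ⊓ N) ∣ (M.relIndex N - 1).factorial := by
  have h1 := relIndex_normalCore_dvd (M.subgroupOf N)
  have e1 : (M.subgroupOf N).normalCore.relIndex (M.subgroupOf N) = (KK N M).relIndex (M ⊓ N) := by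
    rw [← KK_subgroupOf, ← Subgroup.inf_subgroupOf_right M N,
      Subgroup.relIndex_subgroupOf inf_le_right]
  rw [e1] at h1
  exact h1

/-- second isomorphism theorem, divisibility form -/
theorem relIndex_dvd_relIndex_of_normal {A B K : Subgroup G} (hAB : A ≤ B)
    (hn : B ≤ Subgroup.normalizer (A : Set G)) (hKB : K ≤ B) : A.relIndex K ∣ A.relIndex B := by
  have : (A.subgroupOf B).Normal := (Subgroup.normal_subgroupOf_iff_le_normalizer hAB).mpr hn
  have h1 := Subgroup.relIndex_dvd_index_of_normal (A.subgroupOf B) (K.subgroupOf B)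
  rwa [Subgroup.relIndex_subgroupOf hKB] at h1

theorem mem_normalizer_cj {g k : G} {X : Subgroup G}
    (h : g⁻¹ * k * g ∈ Subgroup.normalizer (X : Set G)) : k ∈ Subgroup.normalizer (cj g X : Set G) := by
  have key : ∀ k : G, g⁻¹ * k * g ∈ Subgroup.normalizer (X : Set G) →
      ∀ y ∈ cj g X, k * y * k⁻¹ ∈ cj g X := by
    intro k hk y hy
    rw [mem_cj] at hy ⊢
    have := conj_mem_of_mem_normalizer hk hy
    have e : g⁻¹ * (k * y * k⁻¹) * g = g⁻¹ * k * g * (g⁻¹ * y * g) * (g⁻¹ * k * g)⁻¹ := by group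
    rw [e]; exact this
  rw [Subgroup.mem_normalizer_iff]
  intro y
  constructor
  · exact key k h y
  · intro hy
    have hk' : g⁻¹ * k⁻¹ * g ∈ Subgroup.normalizer (X : Set G) := by
      have := inv_mem h
      have e : (g⁻¹ * k * g)⁻¹ = g⁻¹ * k⁻¹ * g := by group
      rwa [e] at this
    have := key k⁻¹ hk' _ hy
    have e : k⁻¹ * (k * y * k⁻¹) * k⁻¹⁻¹ = y := by group
    rwa [e] at this

/-- for `m ∈ M`: `[K : K ∩ m L m⁻¹] ∣ [M ∩ N : L]` -/
theorem relIndex_cj_dvd (M N : Subgroup G) {m : G} (hm : m ∈ M) :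
    (cj m (KK N M)).relIndex (KK M N) ∣ (KK N M).relIndex (M ⊓ N) := by
  have hKD : KK M N ≤ cj m (M ⊓ N) := by
    intro k hk
    rw [mem_cj]
    have := conj_inv_mem_of_mem_normalizer (le_normalizer_KK M N hm) hk
    exact Subgroup.mem_inf.mpr ⟨KK_le_left M N this, KK_le_right M N this⟩
  have hLD : cj m (KK N M) ≤ cj m (M ⊓ N) :=
    cj_mono (le_inf (KK_le_right N M) (KK_le_left N M))
  have hn : cj m (M ⊓ N) ≤ Subgroup.normalizer (cj m (KK N M) : Set G) := by
    intro k hk
    apply mem_normalizer_cj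
    rw [mem_cj] at hk
    exact le_normalizer_KK N M (Subgroup.mem_inf.mp hk).2
  have h1 := relIndex_dvd_relIndex_of_normal hLD hn hKD
  have h2 : (cj m (KK N M)).relIndex (cj m (M ⊓ N)) = (KK N M).relIndex (M ⊓ N) := by
    unfold cj
    exact Subgroup.relIndex_map_map_of_injective _ _ (MulAut.conj m).injective
  rwa [h2] at h1

/-- `K` normalizes `m L m⁻¹` for `m ∈ M` -/
theorem KK_le_normalizer_cj (M N : Subgroup G) {m : G} (hm : m ∈ M) :
    KK M N ≤ Subgroup.normalizer (cj m (KK N M) : Set G) := by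
  intro k hk
  apply mem_normalizer_cj
  have := conj_inv_mem_of_mem_normalizer (le_normalizer_KK M N hm) hk
  exact le_normalizer_KK N M (KK_le_right M N this)

/-- `P` as an intersection over coset representatives of `M / (M ∩ N)` -/
theorem PP_eq_iInf (M N : Subgroup G) :
    PP M N = ⨅ q : ↥M ⧸ (N.subgroupOf M), cj ((q.out : ↥M) : G) (KK N M) := by
  apply le_antisymm
  · apply le_iInf
    intro q y hy
    unfold PP cr at hy
    rw [Subgroup.mem_iInf] at hy
    exact hy q.out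
  · intro y hy
    rw [Subgroup.mem_iInf] at hy
    unfold PP cr
    rw [Subgroup.mem_iInf]
    intro m
    obtain ⟨δ, hδ⟩ := QuotientGroup.mk_out_eq_mul (N.subgroupOf M) m
    have h1 := hy (QuotientGroup.mk m)
    rw [hδ] at h1
    have hδN : ((δ : ↥M) : G) ∈ N := Subgroup.mem_subgroupOf.mp δ.2
    have e : ((m * (δ : ↥M) : ↥M) : G) = (m : G) * ((δ : ↥M) : G) := rfl
    rw [e, cj_mul, cj_eq_of_mem_normalizer (le_normalizer_KK N M hδN)] at h1
    exact h1

/-- `[K : P] ∣ (([N : M ∩ N] - 1)!)^[M : M ∩ N]` -/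
theorem relIndex_PP_KK_dvd (M N : Subgroup G) :
    (PP M N).relIndex (KK M N) ∣ ((M.relIndex N - 1).factorial) ^ (N.relIndex M) := by
  classical
  have : Fintype (↥M ⧸ (N.subgroupOf M)) := Fintype.ofFinite _
  set A : ↥M ⧸ (N.subgroupOf M) → Subgroup ↥(KK M N) :=
    fun q => (cj ((q.out : ↥M) : G) (KK N M)).subgroupOf (KK M N) with hA
  have h1 : (PP M N).subgroupOf (KK M N) = ⨅ q ∈ (Finset.univ : Finset (↥M ⧸ (N.subgroupOf M))), A q := by
    rw [PP_eq_iInf]
    simp only [Finset.mem_univ, iInf_pos, hA]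
    exact Subgroup.comap_iInf _ _
  have hnorm : ∀ q ∈ (Finset.univ : Finset (↥M ⧸ (N.subgroupOf M))), (A q).Normal := by
    intro q _
    rw [hA]
    have hle : cj ((q.out : ↥M) : G) (KK N M) ⊓ KK M N ≤ KK M N := inf_le_right
    have : (cj ((q.out : ↥M) : G) (KK N M)).subgroupOf (KK M N)
        = (cj ((q.out : ↥M) : G) (KK N M) ⊓ KK M N).subgroupOf (KK M N) :=
      (Subgroup.inf_subgroupOf_right _ _).symm
    show ((cj ((q.out : ↥M) : G) (KK N M)).subgroupOf (KK M N)).Normal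
    rw [this, Subgroup.normal_subgroupOf_iff_le_normalizer hle]
    exact le_normalizer_inf (KK_le_normalizer_cj M N q.out.2) Subgroup.le_normalizer
  have h2 := index_iInf_dvd Finset.univ A hnorm
  show ((PP M N).subgroupOf (KK M N)).index ∣ _
  rw [h1]
  apply h2.trans
  have h3 : ∀ q ∈ (Finset.univ : Finset (↥M ⧸ (N.subgroupOf M))),
      (A q).index ∣ (M.relIndex N - 1).factorial := by
    intro q _
    exact (relIndex_cj_dvd M N q.out.2).trans (relIndex_KK_inf_dvd M N)
  have h4 := Finset.prod_dvd_prod_of_dvd (fun q => (A q).index)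
    (fun _ => (M.relIndex N - 1).factorial) h3
  apply h4.trans
  rw [Finset.prod_const, Finset.card_univ]
  have : Fintype.card (↥M ⧸ (N.subgroupOf M)) = N.relIndex M := by
    rw [← Nat.card_eq_fintype_card]; rfl
  rw [this]

/-- **the index bound** -/
theorem relIndex_PP_dvd (M N : Subgroup G) :
    (PP M N).relIndex M ∣
      (N.relIndex M).factorial * ((M.relIndex N - 1).factorial) ^ (N.relIndex M) := by
  rw [← Subgroup.relIndex_mul_relIndex (PP M N) (KK M N) M (PP_le_KK M N) (KK_le_left M N), mul_comm]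
  exact Nat.mul_dvd_mul (relIndex_KK_dvd M N) (relIndex_PP_KK_dvd M N)

/-- if `P = 1` then `|M|` divides the bound -/
theorem card_dvd_of_PP_eq_bot (M N : Subgroup G) (h : PP M N = ⊥) :
    Nat.card ↥M ∣ (N.relIndex M).factorial * ((M.relIndex N - 1).factorial) ^ (N.relIndex M) := by
  have := relIndex_PP_dvd M N
  rwa [h, Subgroup.relIndex_bot_left] at this

end Cfsg.Agent.Helper11.TW6
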