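import Mathlib
import Cfsg.Agent.Lib.Helper11.TW5
import Cfsg.Agent.Lib.Helper11.TW6

/-!
# Thompson–Wielandt toolkit, part 7: primitive permutation groups (helper11)
-/

set_option autoImplicit false
set_option linter.unusedSectionVars false

namespace Cfsg.Agent.Helper11.TW7

open Cfsg Cfsg.Agent.Helper11.TW1 Cfsg.Agent.Helper11.TW2 Cfsg.Agent.Helper11.TW3
  Cfsg.Agent.Helper11.TW4 Cfsg.Agent.Helper11.TW5 Cfsg.Agent.Helper11.TW6

section transport

variable {A B : Type*} [Group A] [Group B]

theorem pCore_map_le (p : ℕ) (e : A ≃* B) : (pCore p A).map (e : A →* B) ≤ pCore p B := by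
  rw [Subgroup.map_le_iff_le_comap]
  unfold pCore
  apply sSup_le
  rintro X ⟨hXn, hXp⟩
  rw [← Subgroup.map_le_iff_le_comap]
  apply le_sSup
  exact ⟨hXn.map _ e.surjective, hXp.map _⟩

theorem pCore_map_eq (p : ℕ) (e : A ≃* B) : (pCore p A).map (e : A →* B) = pCore p B := by
  apply le_antisymm (pCore_map_le p e)
  have h := pCore_map_le p e.symm
  have h2 := Subgroup.map_mono (f := (e : A →* B)) h
  rw [Subgroup.map_map] at h2
  have e1 : ((e : A →* B).comp (e.symm : B →* A)) = MonoidHom.id B := by
    ext x; simp
  rwa [e1, Subgroup.map_id] at h2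

theorem card_pCore_eq [Finite A] (p : ℕ) (e : A ≃* B) : Nat.card ↥(pCore p A) = Nat.card ↥(pCore p B) := by
  rw [← pCore_map_eq p e]
  exact (Subgroup.card_map_of_injective e.injective).symm

end transport

variable {G : Type*} [Group G] [Finite G]

theorem card_pCoreOf (p : ℕ) (M : Subgroup G) : Nat.card ↥(pCoreOf p M) = Nat.card ↥(pCore p ↥M) := by
  unfold pCoreOf
  exact Subgroup.card_map_of_injective M.subtype_injective

theorem card_pCoreOf_cj (p : ℕ) (g : G) (M : Subgroup G) :
    Nat.card ↥(pCoreOf p (cj g M)) = Nat.card ↥(pCoreOf p M) := by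
  rw [card_pCoreOf, card_pCoreOf]
  unfold cj
  exact (card_pCore_eq p (M.equivMapOfInjective _ (MulAut.conj g).injective)).symm

variable {Ω : Type*} [MulAction G Ω]

theorem stabilizer_subgroup_eq (M : Subgroup G) (b : Ω) :
    MulAction.stabilizer ↥M b = (MulAction.stabilizer G b).subgroupOf M := by
  ext x
  rw [MulAction.mem_stabilizer_iff, Subgroup.mem_subgroupOf, MulAction.mem_stabilizer_iff]
  rfl

/-- `[G_a : G_{ab}]` is the length of the orbit of `b` under `G_a` -/
theorem relIndex_eq_card_orbit (a b : Ω) :
    (MulAction.stabilizer G b).relIndex (MulAction.stabilizer G a)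
      = Nat.card (MulAction.orbit (MulAction.stabilizer G a) b) := by
  unfold Subgroup.relIndex
  rw [← stabilizer_subgroup_eq, MulAction.index_stabilizer, Nat.card_coe_set_eq]

variable [Finite Ω]

theorem relIndex_symm [MulAction.IsPretransitive G Ω] (a b : Ω) :
    (MulAction.stabilizer G a).relIndex (MulAction.stabilizer G b)
      = (MulAction.stabilizer G b).relIndex (MulAction.stabilizer G a) := by
  set M := MulAction.stabilizer G a
  set N := MulAction.stabilizer G b
  have h1 : (M ⊓ N).relIndex M * M.index = (M ⊓ N).index := Subgroup.relIndex_mul_index inf_le_left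
  have h2 : (M ⊓ N).relIndex N * N.index = (M ⊓ N).index := Subgroup.relIndex_mul_index inf_le_right
  rw [Subgroup.inf_relIndex_left] at h1
  rw [Subgroup.inf_relIndex_right] at h2
  have hM : M.index = Nat.card Ω := MulAction.index_stabilizer_of_transitive G a
  have hN : N.index = Nat.card Ω := MulAction.index_stabilizer_of_transitive G b
  rw [hM] at h1
  rw [hN] at h2
  have hpos : 0 < Nat.card Ω := by
    have : Nonempty Ω := ⟨a⟩
    exact Nat.card_pos
  exact Nat.eq_of_mul_eq_mul_right hpos (h2.trans h1.symm)

theorem card_stabilizer_eq [MulAction.IsPretransitive G Ω] (a b : Ω) :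
    Nat.card ↥(MulAction.stabilizer G a) = Nat.card ↥(MulAction.stabilizer G b) := by
  have h1 := Subgroup.card_mul_index (MulAction.stabilizer G a)
  have h2 := Subgroup.card_mul_index (MulAction.stabilizer G b)
  rw [MulAction.index_stabilizer_of_transitive G a] at h1
  rw [MulAction.index_stabilizer_of_transitive G b] at h2
  have hpos : 0 < Nat.card Ω := by
    have : Nonempty Ω := ⟨a⟩
    exact Nat.card_pos
  exact Nat.eq_of_mul_eq_mul_right hpos (h1.trans h2.symm)

variable [FaithfulSMul G Ω]

/-- the standing hypotheses hold for two point stabilizers of a primitive group -/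
theorem pair_of_primitive (hprim : MulAction.IsPreprimitive G Ω) (a b : Ω)
    (h2 : 2 ≤ Nat.card (MulAction.orbit (MulAction.stabilizer G a) b)) :
    Pair (MulAction.stabilizer G a) (MulAction.stabilizer G b) := by
  have : MulAction.IsPretransitive G Ω := hprim.toIsPretransitive
  have hnt : Nontrivial Ω := by
    have h1 : Nontrivial ↥(MulAction.orbit (MulAction.stabilizer G a) b) :=
      Finite.one_lt_card_iff_nontrivial.mp (by omega)
    obtain ⟨x, y, hxy⟩ := h1
    exact ⟨⟨x, y, fun h => hxy (Subtype.ext h)⟩⟩
  have hmax : ∀ c : Ω, ∀ H : Subgroup G, MulAction.stabilizer G c ≤ H →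
      H = MulAction.stabilizer G c ∨ H = ⊤ := by
    intro c H hH
    have hco : IsCoatom (MulAction.stabilizer G c) :=
      MulAction.IsPreprimitive.isCoatom_stabilizer_of_isPreprimitive (G := G) c
    rcases eq_or_lt_of_le hH with h | h
    · exact Or.inl h.symm
    · exact Or.inr (hco.2 H h)
  have hcore : ∀ c : Ω, ∀ X : Subgroup G, X.Normal → X ≤ MulAction.stabilizer G c → X = ⊥ := by
    intro c X hXn hX
    rw [eq_bot_iff]
    intro x hx
    rw [Subgroup.mem_bot]
    apply FaithfulSMul.eq_of_smul_eq_smul (α := Ω)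
    intro ω
    obtain ⟨g, rfl⟩ := MulAction.exists_smul_eq G c ω
    have h1 : g⁻¹ * x * g ∈ X := by
      have := hXn.conj_mem x hx g⁻¹
      simpa using this
    have h2 : (g⁻¹ * x * g) • c = c := MulAction.mem_stabilizer_iff.mp (hX h1)
    rw [one_smul]
    calc x • g • c = g • (g⁻¹ * x * g) • c := by simp [smul_smul, mul_assoc]
      _ = g • c := by rw [h2]
  refine ⟨hmax a, hmax b, hcore a, hcore b, ?_, ?_⟩
  · intro hMN
    have horb : MulAction.orbit (MulAction.stabilizer G a) b = {b} := by
      ext x
      rw [MulAction.mem_orbit_iff, Set.mem_singleton_iff]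
      constructor
      · rintro ⟨m, rfl⟩
        have hm : (m : G) ∈ MulAction.stabilizer G b := by rw [← hMN]; exact m.2
        exact MulAction.mem_stabilizer_iff.mp hm
      · rintro rfl
        exact ⟨1, one_smul _ _⟩
    rw [horb] at h2
    simp at h2
  · intro p
    obtain ⟨g, hg⟩ := MulAction.exists_smul_eq G a b
    have e : MulAction.stabilizer G b = cj g (MulAction.stabilizer G a) := by
      rw [← hg]
      exact MulAction.stabilizer_smul_eq_stabilizer_map_conj g a
    rw [e, card_pCoreOf_cj]

/-- **Summary for the three statements.** With `M = G_a`, `N = G_b`, `d` the length of the `G_a`-orbit of `b`: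
`[M : P]` divides `d!((d-1)!)^d`; and either `|M|` divides this number, or for some prime `p`
the subgroup `P` is a nontrivial `p`-group and `F*(M) = O_p(M)`. -/
theorem summary (hprim : MulAction.IsPreprimitive G Ω) (a b : Ω) (d : ℕ)
    (hd : Nat.card (MulAction.orbit (MulAction.stabilizer G a) b) = d) (h2 : 2 ≤ d) :
    (PP (MulAction.stabilizer G a) (MulAction.stabilizer G b)).relIndex (MulAction.stabilizer G a) ∣
        Nat.factorial d * (Nat.factorial (d - 1)) ^ d ∧
      (Nat.card ↥(MulAction.stabilizer G a) ∣ Nat.factorial d * (Nat.factorial (d - 1)) ^ d ∨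
        ∃ p : ℕ, p.Prime ∧ PP (MulAction.stabilizer G a) (MulAction.stabilizer G b) ≠ ⊥ ∧
          IsPGroup p (PP (MulAction.stabilizer G a) (MulAction.stabilizer G b)) ∧
          generalizedFittingSubgroup ↥(MulAction.stabilizer G a)
            = pCore p ↥(MulAction.stabilizer G a)) := by
  have : MulAction.IsPretransitive G Ω := hprim.toIsPretransitive
  set M := MulAction.stabilizer G a with hM
  set N := MulAction.stabilizer G b with hN
  have hpair : Pair M N := pair_of_primitive hprim a b (by rw [hd]; exact h2)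
  have hd1 : N.relIndex M = d := by rw [relIndex_eq_card_orbit, hd]
  have hd2 : M.relIndex N = d := by rw [relIndex_symm, hd1]
  have hb1 := relIndex_PP_dvd M N
  rw [hd1, hd2] at hb1
  refine ⟨hb1, ?_⟩
  by_cases hP : PP M N = ⊥
  · left
    have := card_dvd_of_PP_eq_bot M N hP
    rwa [hd1, hd2] at this
  by_cases hQ : PP N M = ⊥
  · left
    have := card_dvd_of_PP_eq_bot N M hQ
    rw [hd1, hd2] at this
    rw [card_stabilizer_eq a b]
    exact this
  · right
    obtain ⟨p, hp, hPp, hF⟩ := main hpair hP hQ
    exact ⟨p, hp, hP, hPp, hF⟩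

end Cfsg.Agent.Helper11.TW7
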