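import Mathlib
import Cfsg.Agent.Lib.Helper11.TW7

/-!
# Thompson–Wielandt toolkit, part 8: Knapp's theorem (Fitting-free subconstituent) (helper11)
-/

set_option autoImplicit false
set_option linter.unusedSectionVars false

namespace Cfsg.Agent.Helper11.TW8

open Cfsg Cfsg.Agent.Helper11.TW1 Cfsg.Agent.Helper11.TW2 Cfsg.Agent.Helper11.TW3
  Cfsg.Agent.Helper11.TW4 Cfsg.Agent.Helper11.TW5 Cfsg.Agent.Helper11.TW6 Cfsg.Agent.Helper11.TW7
  Cfsg.Agent.Helper23

variable {G : Type*} [Group G] [Finite G]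

/-- abstract step: if `O_p(M ∩ N) ≤ K` then `O_p(M ∩ N) = 1` -/
theorem pCoreOf_inf_eq_bot {M N : Subgroup G} (h : Pair M N) (p : ℕ) [Fact p.Prime]
    (hle : pCoreOf p (M ⊓ N) ≤ KK M N) : pCoreOf p (M ⊓ N) = ⊥ := by
  by_contra hV
  set D := M ⊓ N with hD
  set V := pCoreOf p D with hVdef
  set K := KK M N with hK
  have hKD : K ≤ D := le_inf (KK_le_left M N) (KK_le_right M N)
  have hVD : V ≤ D := pCoreOf_le D
  have hVp : IsPGroup p V := pCoreOf_isPGroup D
  -- `V = O_p(K)`
  have hVK : V = pCoreOf p K := by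
    apply le_antisymm
    · exact le_pCoreOf_of_normal_pgroup hle hVp (hKD.trans (le_normalizer_pCoreOf D))
    · apply le_pCoreOf_of_normal_pgroup ((pCoreOf_le K).trans hKD) (pCoreOf_isPGroup K)
      exact (inf_le_left.trans (le_normalizer_KK M N)).trans (normalizer_le_normalizer_pCoreOf K)
  have hMV : M ≤ Subgroup.normalizer (V : Set G) := by
    rw [hVK]
    exact (le_normalizer_KK M N).trans (normalizer_le_normalizer_pCoreOf K)
  have hVM : V ≤ M := hVD.trans inf_le_left
  set RN := pCoreOf p N with hRN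
  set RM := pCoreOf p M with hRM
  have h1 : RN ≤ V := by
    apply le_of_normalizer_inf_le hVp (pCoreOf_isPGroup N)
    · exact (hVD.trans inf_le_right).trans (le_normalizer_pCoreOf N)
    · intro b hb hbn
      have hbM : b ∈ M := h.mem_of_mem_normalizer hV hVM hMV hbn
      have hbN : b ∈ N := pCoreOf_le N hb
      have hX : RN ⊓ D ≤ pCoreOf p D := by
        apply le_pCoreOf_of_normal_pgroup inf_le_right ((pCoreOf_isPGroup N).to_le inf_le_left)
        exact le_normalizer_inf (inf_le_right.trans (le_normalizer_pCoreOf N)) Subgroup.le_normalizer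
      exact hX (Subgroup.mem_inf.mpr ⟨hb, Subgroup.mem_inf.mpr ⟨hbM, hbN⟩⟩)
  have h2 : V ≤ RM := le_pCoreOf_of_normal_pgroup hVM hVp hMV
  have hcard : Nat.card ↥RM = Nat.card ↥RN := h.cardp p
  have heq : RN = RM := Subgroup.eq_of_le_of_card_ge (h1.trans h2) hcard.le
  have hbot : RM = ⊥ := by
    apply h.eq_bot_of_le_normalizers (pCoreOf_le M) (le_normalizer_pCoreOf M)
    show N ≤ Subgroup.normalizer (RM : Set G)
    rw [← heq]
    exact le_normalizer_pCoreOf N
  apply hV
  rw [eq_bot_iff, ← hbot]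
  exact h2

variable {Ω : Type*} [MulAction G Ω] [Finite Ω]

/-- the Fitting-free hypothesis forces `O_p(G_{ab})` to fix the suborbit pointwise -/
theorem pCoreOf_inf_le_KK (a b : Ω) (p : ℕ) [Fact p.Prime]
    (hF : fittingSubgroup ↥(((MulAction.stabilizer G b).subgroupOf (MulAction.stabilizer G a)).map
      (MulAction.toPermHom (MulAction.stabilizer G a)
        (MulAction.orbit (MulAction.stabilizer G a) b))) = ⊥) :
    pCoreOf p (MulAction.stabilizer G a ⊓ MulAction.stabilizer G b)
      ≤ KK (MulAction.stabilizer G a) (MulAction.stabilizer G b) := by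
  set M := MulAction.stabilizer G a with hM
  set N := MulAction.stabilizer G b with hN
  set D := M ⊓ N with hD
  set V := pCoreOf p D with hV
  set φ := MulAction.toPermHom ↥M ↥(MulAction.orbit ↥M b) with hφ
  set Im := (N.subgroupOf M).map φ with hIm
  have hVD : V ≤ D := pCoreOf_le D
  have hVp : IsPGroup p V := pCoreOf_isPGroup D
  have hDV : D ≤ Subgroup.normalizer (V : Set G) := le_normalizer_pCoreOf D
  set V' := (V.subgroupOf M).map φ with hV'
  have hV'Im : V' ≤ Im := by
    apply Subgroup.map_mono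
    intro x hx
    rw [Subgroup.mem_subgroupOf] at hx ⊢
    exact (hVD hx).2
  set W := V'.subgroupOf Im with hW
  have hWn : W.Normal := by
    constructor
    rintro ⟨w, hwIm⟩ hw ⟨x, hxIm⟩
    rw [hW, Subgroup.mem_subgroupOf] at hw ⊢
    obtain ⟨v, hv, rfl⟩ := hw
    obtain ⟨n, hn, rfl⟩ := hxIm
    refine ⟨n * v * n⁻¹, ?_, by simp⟩
    rw [SetLike.mem_coe, Subgroup.mem_subgroupOf] at hv hn ⊢
    have hnD : (n : G) ∈ D := Subgroup.mem_inf.mpr ⟨n.2, hn⟩
    have := conj_mem_of_mem_normalizer (hDV hnD) hv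
    simpa using this
  have hWp : IsPGroup p W := by
    have h1 : IsPGroup p (V.subgroupOf M) := hVp.comap_of_injective M.subtype M.subtype_injective
    have h2 : IsPGroup p V' := h1.map φ
    exact h2.comap_of_injective Im.subtype Im.subtype_injective
  have hWnil : Group.IsNilpotent ↥W := hWp.isNilpotent
  have hWbot : W = ⊥ := by
    rw [eq_bot_iff, ← hF]
    exact le_sSup ⟨hWn, hWnil⟩
  have hV'bot : V' = ⊥ := by
    rw [eq_bot_iff]
    intro x hx
    have : (⟨x, hV'Im hx⟩ : ↥Im) ∈ W := Subgroup.mem_subgroupOf.mpr hx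
    rw [hWbot, Subgroup.mem_bot] at this
    rw [Subgroup.mem_bot]
    exact congrArg Subtype.val this
  -- so `V` acts trivially on the orbit
  intro v hv
  have hvM : v ∈ M := (hVD hv).1
  refine Subgroup.mem_inf.mpr ⟨hvM, mem_cr.mpr fun m hm => ?_⟩
  have h1 : φ ⟨v, hvM⟩ ∈ V' := ⟨⟨v, hvM⟩, Subgroup.mem_subgroupOf.mpr hv, rfl⟩
  rw [hV'bot, Subgroup.mem_bot] at h1
  -- apply to the point `m • b`
  have hpt : m • b ∈ MulAction.orbit ↥M b := ⟨⟨m, hm⟩, rfl⟩
  have h2 := congrArg (fun σ : Equiv.Perm ↥(MulAction.orbit ↥M b) => ((σ ⟨m • b, hpt⟩ : ↥(MulAction.orbit ↥M b)) : Ω)) h1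
  simp only [Equiv.Perm.coe_one, id_eq] at h2
  have h3 : ((φ ⟨v, hvM⟩ ⟨m • b, hpt⟩ : ↥(MulAction.orbit ↥M b)) : Ω) = v • (m • b) := rfl
  rw [h3] at h2
  rw [MulAction.mem_stabilizer_iff]
  calc (m⁻¹ * v * m) • b = m⁻¹ • (v • (m • b)) := by simp [smul_smul, mul_assoc]
    _ = m⁻¹ • (m • b) := by rw [h2]
    _ = b := by simp

variable [FaithfulSMul G Ω]

/-- **Knapp's theorem**, assembled -/
theorem knapp (hprim : MulAction.IsPreprimitive G Ω) (a b : Ω) (d : ℕ)
    (hd : Nat.card (MulAction.orbit (MulAction.stabilizer G a) b) = d) (h2 : 2 ≤ d)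
    (hF : fittingSubgroup ↥(((MulAction.stabilizer G b).subgroupOf (MulAction.stabilizer G a)).map
      (MulAction.toPermHom (MulAction.stabilizer G a)
        (MulAction.orbit (MulAction.stabilizer G a) b))) = ⊥) :
    fittingSubgroup ↥(MulAction.stabilizer G a ⊓ MulAction.stabilizer G b) = ⊥ ∧
      Nat.card ↥(MulAction.stabilizer G a) ∣ Nat.factorial d * (Nat.factorial (d - 1)) ^ d := by
  set M := MulAction.stabilizer G a with hM
  set N := MulAction.stabilizer G b with hN
  have hpair : Pair M N := pair_of_primitive hprim a b (by rw [hd]; exact h2)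
  have hcore : ∀ p : ℕ, p.Prime → pCoreOf p (M ⊓ N) = ⊥ := by
    intro p hp
    have := Fact.mk hp
    exact pCoreOf_inf_eq_bot hpair p (pCoreOf_inf_le_KK a b p hF)
  constructor
  · rw [Cfsg.Agent.S0009.result (G := ↥(M ⊓ N))]
    apply le_antisymm _ bot_le
    apply iSup_le
    intro p
    have := hcore p p.2
    rw [(Subgroup.map_eq_bot_iff_of_injective _ (M ⊓ N).subtype_injective).mp this]
  · obtain ⟨_, h | ⟨p, hp, hP, hPp, _⟩⟩ := summary hprim a b d hd h2
    · exact h
    · exfalso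
      apply hP
      have := Fact.mk hp
      rw [eq_bot_iff, ← hcore p hp]
      apply le_pCoreOf_of_normal_pgroup
        ((PP_le M N).trans (le_inf (KK_le_right N M) (KK_le_left N M))) hPp
      exact inf_le_left.trans (le_normalizer_PP M N)

end Cfsg.Agent.Helper11.TW8
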