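import Mathlib
import Cfsg.Prelude.Def_PLocal

/-!
# Uniserial actions of `p`-groups, part 1: the iterated commutator chain
-/

set_option autoImplicit false
set_option linter.style.haveILetI false

namespace Cfsg.Agent.Helper11.Uni

open Cfsg
open scoped commutatorElement

variable {L : Type*} [Group L]

theorem G_le_normalizer_iter (N G : Subgroup L) (hGN : G ≤ Subgroup.normalizer (N : Set L)) :
    ∀ i : ℕ, G ≤ Subgroup.normalizer (iterCommutator N G i : Set L)
  | 0 => hGN
  | _ + 1 => Subgroup.normalizer_commutator_ge_right _ _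

theorem iter_succ_le (N G : Subgroup L) (hGN : G ≤ Subgroup.normalizer (N : Set L)) (i : ℕ) :
    iterCommutator N G (i + 1) ≤ iterCommutator N G i :=
  Subgroup.le_normalizer_iff_commutator_le_left.mp (G_le_normalizer_iter N G hGN i)

theorem iter_antitone (N G : Subgroup L) (hGN : G ≤ Subgroup.normalizer (N : Set L)) :
    Antitone (iterCommutator N G) :=
  antitone_nat_of_succ_le (iter_succ_le N G hGN)

theorem iter_le (N G : Subgroup L) (hGN : G ≤ Subgroup.normalizer (N : Set L)) (i : ℕ) :
    iterCommutator N G i ≤ N :=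
  iter_antitone N G hGN (Nat.zero_le i)

theorem iter_mono_right (N G X : Subgroup L) (hGX : G ≤ X) :
    ∀ i : ℕ, iterCommutator N G i ≤ iterCommutator N X i
  | 0 => le_rfl
  | i + 1 => Subgroup.commutator_mono (iter_mono_right N G X hGX i) hGX

/-- A `p`-group acting on a nontrivial `p`-group does not have `[H, G] = H`. -/
theorem commutator_lt [Finite L] {p : ℕ} [Fact p.Prime] {H G : Subgroup L} (hH : IsPGroup p H)
    (hG : IsPGroup p G) (hGH : G ≤ Subgroup.normalizer (H : Set L)) (hne : H ≠ ⊥) : ⁅H, G⁆ < H := by
  refine lt_of_le_of_ne (Subgroup.le_normalizer_iff_commutator_le_left.mp hGH) ?_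
  intro heq
  apply hne
  have hX : IsPGroup p ↥(H ⊔ G) := hH.to_sup_of_normal_left' hG hGH
  haveI : Group.IsNilpotent ↥(H ⊔ G) := hX.isNilpotent
  obtain ⟨n, hn⟩ := (Subgroup.isNilpotent_iff_lowerCentralSeries (H ⊔ G)).mp inferInstance
  have h1 : ∀ i : ℕ, H ≤ (H ⊔ G).lowerCentralSeries i := by
    intro i
    induction i with
    | zero => exact le_sup_left
    | succ i ih =>
      rw [Subgroup.lowerCentralSeries_succ]
      exact (le_of_eq heq.symm).trans (Subgroup.commutator_mono ih le_sup_right)
  rw [eq_bot_iff, ← hn]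
  exact h1 n

/-- A chain of natural numbers descending strictly from `n` to something positive in `n - 1` steps. -/
theorem nat_chain (e : ℕ → ℕ) (n : ℕ) (h0 : e 0 = n) (hstep : ∀ i, i + 1 ≤ n - 1 → e (i + 1) < e i)
    (hlast : 1 ≤ e (n - 1)) : ∀ i, i ≤ n - 1 → e i = n - i := by
  have hup : ∀ i, i ≤ n - 1 → e i ≤ n - i := by
    intro i
    induction i with
    | zero => intro _; omega
    | succ i ih =>
      intro hi
      have := ih (by omega)
      have := hstep i hi
      omega
  have hdown : ∀ k, k ≤ n - 1 → k + 1 ≤ e (n - 1 - k) := by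
    intro k
    induction k with
    | zero => intro _; simpa using hlast
    | succ k ih =>
      intro hk
      have h1 := ih (by omega)
      have h2 := hstep (n - 1 - (k + 1)) (by omega)
      have h3 : n - 1 - (k + 1) + 1 = n - 1 - k := by omega
      rw [h3] at h2
      omega
  intro i hi
  have h1 := hup i hi
  have h2 := hdown (n - 1 - i) (by omega)
  have h3 : n - 1 - (n - 1 - i) = i := by omega
  rw [h3] at h2
  omega

theorem nat_chain_le (e : ℕ → ℕ) (n m : ℕ) (h0 : e 0 = n) (hstep : ∀ i, i < m → e (i + 1) < e i) :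
    ∀ i, i ≤ m → e i + i ≤ n := by
  intro i
  induction i with
  | zero => intro _; omega
  | succ i ih =>
    intro hi
    have := ih (by omega)
    have := hstep i (by omega)
    omega

end Cfsg.Agent.Helper11.Uni
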