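import Mathlib
import Cfsg.Prelude.Def_PLocal
import Cfsg.Agent.Lib.Helper11.Uniserial1

/-!
# Uniserial actions of `p`-groups, part 2: index-`p` chains
-/

set_option autoImplicit false
set_option linter.style.haveILetI false
set_option linter.unusedSectionVars false

namespace Cfsg.Agent.Helper11.Uni

open Cfsg
open scoped commutatorElement

variable {L : Type*} [Group L]

theorem card_mul_relIndex' {A B : Subgroup L} (h : A ≤ B) :
    Nat.card A * A.relIndex B = Nat.card B := by
  have := Subgroup.relIndex_mul_relIndex (⊥ : Subgroup L) A B bot_le h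
  rwa [Subgroup.relIndex_bot_left, Subgroup.relIndex_bot_left] at this

/-- If `A ≤ B < D` and `A` has prime index in `D` then `B = A`. -/
theorem eq_of_le_of_lt_of_relIndex_prime {p : ℕ} (hp : p.Prime) {A B D : Subgroup L} (hAB : A ≤ B)
    (hBD : B < D) (hidx : A.relIndex D = p) : B = A := by
  have h := Subgroup.relIndex_mul_relIndex A B D hAB hBD.le
  rw [hidx] at h
  have hdvd : A.relIndex B ∣ p := Dvd.intro _ h
  rcases (Nat.dvd_prime hp).mp hdvd with h1 | h1
  · exact le_antisymm (Subgroup.relIndex_eq_one.mp h1) hAB
  · rw [h1] at h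
    have h2 : B.relIndex D = 1 := by
      have hp0 : 0 < p := hp.pos
      exact Nat.eq_of_mul_eq_mul_left hp0 (by rw [h, mul_one])
    exact absurd (Subgroup.relIndex_eq_one.mp h2) (not_le_of_gt hBD)

/-- If `A < B ≤ D` and `A` has prime index in `D` then `B = D`. -/
theorem eq_of_lt_of_le_of_relIndex_prime {p : ℕ} (hp : p.Prime) {A B D : Subgroup L} (hAB : A < B)
    (hBD : B ≤ D) (hidx : A.relIndex D = p) : B = D := by
  have h := Subgroup.relIndex_mul_relIndex A B D hAB.le hBD
  rw [hidx] at h
  have hdvd : B.relIndex D ∣ p := Dvd.intro_left _ h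
  rcases (Nat.dvd_prime hp).mp hdvd with h1 | h1
  · exact le_antisymm hBD (Subgroup.relIndex_eq_one.mp h1)
  · rw [h1] at h
    have h2 : A.relIndex B = 1 := by
      have hp0 : 0 < p := hp.pos
      exact Nat.eq_of_mul_eq_mul_right hp0 (by rw [h, one_mul])
    exact absurd (Subgroup.relIndex_eq_one.mp h2) (not_le_of_gt hAB)

section chain

variable [Finite L] {p : ℕ} [Fact p.Prime] (N G : Subgroup L)

/-- The chain condition: every nontrivial term has index `p` over the next one. -/
def HC (p : ℕ) (N G : Subgroup L) : Prop :=
  ∀ i : ℕ, iterCommutator N G i ≠ ⊥ → (iterCommutator N G (i + 1)).relIndex (iterCommutator N G i) = p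

/-- The cardinality condition. -/
def HCard (p : ℕ) (N G : Subgroup L) (n : ℕ) : Prop :=
  ∀ i : ℕ, i ≤ n → Nat.card (iterCommutator N G i) = p ^ (n - i)

variable {N G}

theorem iter_eq_bot_of_le {i j : ℕ} (hij : i ≤ j) (h : iterCommutator N G i = ⊥) :
    iterCommutator N G j = ⊥ := by
  induction j, hij using Nat.le_induction with
  | base => exact h
  | succ j _ ih =>
    show ⁅iterCommutator N G j, G⁆ = ⊥
    rw [ih]
    exact Subgroup.commutator_bot_left G

theorem HCard_of_HC (hGN : G ≤ Subgroup.normalizer (N : Set L)) (n : ℕ) (hn : Nat.card N = p ^ n)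
    (h : HC p N G) : HCard p N G n := by
  have hp : p.Prime := Fact.out
  intro i
  induction i with
  | zero => intro _; exact hn
  | succ i ih =>
    intro hi
    have h1 := ih (by omega)
    have hne : iterCommutator N G i ≠ ⊥ := by
      intro h0
      rw [h0, Subgroup.card_bot] at h1
      have : 1 < p ^ (n - i) := Nat.one_lt_pow (by omega) hp.one_lt
      omega
    have h2 := h i hne
    have h3 := card_mul_relIndex' (iter_succ_le N G hGN i)
    rw [h2, h1] at h3
    have h4 : n - i = (n - (i + 1)) + 1 := by omega
    rw [h4, pow_succ] at h3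
    exact Nat.eq_of_mul_eq_mul_right hp.pos h3

theorem HC_of_HCard (hGN : G ≤ Subgroup.normalizer (N : Set L)) (n : ℕ)
    (h : HCard p N G n) : HC p N G := by
  have hp : p.Prime := Fact.out
  intro i hne
  have hbot : iterCommutator N G n = ⊥ := by
    rw [← Subgroup.card_eq_one, h n le_rfl]; simp
  have hi : i < n := by
    by_contra hcon
    exact hne (iter_eq_bot_of_le (by omega) hbot)
  have h1 := h i hi.le
  have h2 := h (i + 1) hi
  have h3 := card_mul_relIndex' (iter_succ_le N G hGN i)
  rw [h2, h1] at h3
  have h4 : n - i = (n - (i + 1)) + 1 := by omega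
  rw [h4, pow_succ] at h3
  exact Nat.eq_of_mul_eq_mul_left (pow_pos hp.pos _) h3

theorem long_of_HCard (n : ℕ) (h : HCard p N G n) : iterCommutator N G (n - 1) ≠ ⊥ ∨ n = 0 := by
  have hp : p.Prime := Fact.out
  rcases Nat.eq_zero_or_pos n with h0 | h0
  · exact Or.inr h0
  · left
    intro hb
    have h1 := h (n - 1) (by omega)
    rw [hb, Subgroup.card_bot] at h1
    have : 1 < p ^ (n - (n - 1)) := Nat.one_lt_pow (by omega) hp.one_lt
    omega

theorem HCard_of_long (hN : IsPGroup p N) (hG : IsPGroup p G)
    (hGN : G ≤ Subgroup.normalizer (N : Set L)) (n : ℕ) (hn : Nat.card N = p ^ n)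
    (h : iterCommutator N G (n - 1) ≠ ⊥ ∨ n = 0) : HCard p N G n := by
  have hp : p.Prime := Fact.out
  rcases Nat.eq_zero_or_pos n with h0 | h0
  · subst h0
    intro i hi
    have : i = 0 := by omega
    subst this
    exact hn
  · have hlong : iterCommutator N G (n - 1) ≠ ⊥ := by
      rcases h with h | h
      · exact h
      · omega
    have hPi : ∀ i, IsPGroup p (iterCommutator N G i) := fun i => hN.to_le (iter_le N G hGN i)
    have hex : ∀ i, ∃ k, Nat.card (iterCommutator N G i) = p ^ k := fun i =>
      (IsPGroup.iff_card).mp (hPi i)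
    choose e he using hex
    have hne : ∀ i, i ≤ n - 1 → iterCommutator N G i ≠ ⊥ := fun i hi hb =>
      hlong (iter_eq_bot_of_le hi hb)
    have hlt : ∀ i, iterCommutator N G i ≠ ⊥ → e (i + 1) < e i := by
      intro i hi
      have h1 : iterCommutator N G (i + 1) < iterCommutator N G i :=
        commutator_lt (hPi i) hG (G_le_normalizer_iter N G hGN i) hi
      have h2 : Nat.card (iterCommutator N G (i + 1)) < Nat.card (iterCommutator N G i) := by
        have h3 := card_mul_relIndex' h1.le
        have h4 : (iterCommutator N G (i + 1)).relIndex (iterCommutator N G i) ≠ 1 := by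
          intro h5
          exact not_le_of_gt h1 (Subgroup.relIndex_eq_one.mp h5)
        have h6 : (iterCommutator N G (i + 1)).relIndex (iterCommutator N G i) ≠ 0 := by
          intro h5
          rw [h5, mul_zero] at h3
          exact Nat.card_pos.ne h3
        have h7 : 0 < Nat.card (iterCommutator N G (i + 1)) := Nat.card_pos
        nlinarith [Nat.two_le_iff _ |>.mpr ⟨h6, h4⟩]
      rw [he, he] at h2
      exact (Nat.pow_lt_pow_iff_right hp.one_lt).mp h2
    have h0' : e 0 = n := by
      have := he 0
      rw [show iterCommutator N G 0 = N from rfl, hn] at this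
      exact (Nat.pow_right_injective hp.two_le this).symm
    have hlast : 1 ≤ e (n - 1) := by
      by_contra hcon
      have : e (n - 1) = 0 := by omega
      have h1 := he (n - 1)
      rw [this, pow_zero, Subgroup.card_eq_one] at h1
      exact hlong h1
    have hchain := nat_chain e n h0' (fun i hi => hlt i (hne i (by omega))) hlast
    intro i hi
    rcases Nat.lt_or_ge i n with hi' | hi'
    · rw [he, hchain i (by omega)]
    · have hin : i = n := by omega
      subst hin
      have h1 := hlt (i - 1) hlong
      rw [hchain (i - 1) le_rfl] at h1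
      have h2 : i - 1 + 1 = i := by omega
      rw [h2] at h1
      have h3 : e i = 0 := by omega
      rw [he, h3]; simp

end chain

end Cfsg.Agent.Helper11.Uni
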