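import Mathlib
import Cfsg.Prelude.Def_PLocal
import Cfsg.Agent.Lib.Helper11.Uniserial2

/-!
# Uniserial actions of `p`-groups, part 3: the invariant subgroups are the chain terms
-/

set_option autoImplicit false
set_option linter.style.haveILetI false
set_option linter.unusedSectionVars false

namespace Cfsg.Agent.Helper11.Uni

open Cfsg
open scoped commutatorElement

variable {L : Type*} [Group L] [Finite L] {p : ℕ} [Fact p.Prime] {N G : Subgroup L}

/-- Under the chain condition, the chain for `G` equals the chain for `N ⊔ G`. -/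
theorem iter_eq_iter_sup (hN : IsPGroup p N) (hG : IsPGroup p G)
    (hGN : G ≤ Subgroup.normalizer (N : Set L)) (h : HC p N G) :
    ∀ i : ℕ, iterCommutator N (N ⊔ G) i = iterCommutator N G i := by
  have hp : p.Prime := Fact.out
  have hX : IsPGroup p ↥(N ⊔ G) := hN.to_sup_of_normal_left' hG hGN
  have hXN : N ⊔ G ≤ Subgroup.normalizer (N : Set L) := sup_le Subgroup.le_normalizer hGN
  intro i
  induction i with
  | zero => rfl
  | succ i ih =>
    by_cases hb : iterCommutator N G i = ⊥
    · show ⁅iterCommutator N (N ⊔ G) i, N ⊔ G⁆ = ⁅iterCommutator N G i, G⁆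
      rw [ih, hb, Subgroup.commutator_bot_left, Subgroup.commutator_bot_left]
    · have h1 : iterCommutator N G (i + 1) ≤ iterCommutator N (N ⊔ G) (i + 1) :=
        iter_mono_right N G (N ⊔ G) le_sup_right (i + 1)
      have h2 : iterCommutator N (N ⊔ G) (i + 1) < iterCommutator N G i := by
        have h3 : iterCommutator N (N ⊔ G) (i + 1) < iterCommutator N (N ⊔ G) i :=
          commutator_lt (hN.to_le (iter_le N (N ⊔ G) hXN i)) hX
            (G_le_normalizer_iter N (N ⊔ G) hXN i) (by rw [ih]; exact hb)
        rwa [ih] at h3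
      exact eq_of_le_of_lt_of_relIndex_prime hp h1 h2 (h i hb)

theorem N_le_normalizer_iter (hN : IsPGroup p N) (hG : IsPGroup p G)
    (hGN : G ≤ Subgroup.normalizer (N : Set L)) (h : HC p N G) (i : ℕ) :
    N ≤ Subgroup.normalizer (iterCommutator N G i : Set L) := by
  have hXN : N ⊔ G ≤ Subgroup.normalizer (N : Set L) := sup_le Subgroup.le_normalizer hGN
  have := G_le_normalizer_iter N (N ⊔ G) hXN i
  rw [iter_eq_iter_sup hN hG hGN h i] at this
  exact le_sup_left.trans this

/-- One step of the downward induction. -/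
theorem invariant_step (hN : IsPGroup p N) (hG : IsPGroup p G)
    (hGN : G ≤ Subgroup.normalizer (N : Set L)) (h : HC p N G) (i : ℕ)
    (IH : ∀ K : Subgroup L, K ≤ iterCommutator N G (i + 1) →
      G ≤ Subgroup.normalizer (K : Set L) → ¬ K ≤ iterCommutator N G (i + 2) →
      K = iterCommutator N G (i + 1))
    (K : Subgroup L) (hK : K ≤ iterCommutator N G i)
    (hGK : G ≤ Subgroup.normalizer (K : Set L)) (hnot : ¬ K ≤ iterCommutator N G (i + 1)) :
    K = iterCommutator N G i := by
  have hp : p.Prime := Fact.out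
  have hne : iterCommutator N G i ≠ ⊥ := by
    intro hb
    apply hnot
    rw [hb] at hK
    exact hK.trans bot_le
  have hidx := h i hne
  have hle1 : iterCommutator N G (i + 1) ≤ iterCommutator N G i := iter_succ_le N G hGN i
  have hle2 : iterCommutator N G (i + 2) ≤ iterCommutator N G (i + 1) := iter_succ_le N G hGN (i + 1)
  -- `C i = K ⊔ C (i+1)`
  have hsup : K ⊔ iterCommutator N G (i + 1) = iterCommutator N G i := by
    refine eq_of_lt_of_le_of_relIndex_prime hp ?_ (sup_le hK hle1) hidx
    refine lt_of_le_of_ne le_sup_right ?_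
    intro heq
    apply hnot
    rw [heq]
    exact le_sup_left
  have hKN : K ≤ N := hK.trans (iter_le N G hGN i)
  have hNn1 : N ≤ Subgroup.normalizer (iterCommutator N G (i + 1) : Set L) :=
    N_le_normalizer_iter hN hG hGN h (i + 1)
  have hNn2 : N ≤ Subgroup.normalizer (iterCommutator N G (i + 2) : Set L) :=
    N_le_normalizer_iter hN hG hGN h (i + 2)
  -- every element of `C i` is a product
  have hprod : ∀ x ∈ iterCommutator N G i, ∃ k ∈ K, ∃ c ∈ iterCommutator N G (i + 1), x = k * c := by
    intro x hx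
    rw [← hsup] at hx
    have hmem : x ∈ ((K ⊔ iterCommutator N G (i + 1) : Subgroup L) : Set L) := hx
    rw [Subgroup.coe_mul_of_left_le_normalizer_right K (iterCommutator N G (i + 1)) (hKN.trans hNn1)] at hmem
    obtain ⟨k, hk, c, hc, rfl⟩ := Set.mem_mul.mp hmem
    exact ⟨k, hk, c, hc, rfl⟩
  -- `C (i+1) ≤ (K ⊓ C (i+1)) ⊔ C (i+2)`
  have hkey : iterCommutator N G (i + 1) ≤
      (K ⊓ iterCommutator N G (i + 1)) ⊔ iterCommutator N G (i + 2) := by
    show ⁅iterCommutator N G i, G⁆ ≤ _
    rw [Subgroup.commutator_le]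
    intro x hx g hg
    obtain ⟨k, hk, c, hc, rfl⟩ := hprod x hx
    have e1 : ⁅k * c, g⁆ = (k * ⁅c, g⁆ * k⁻¹) * ⁅k, g⁆ := by
      simp only [commutatorElement_def]; group
    rw [e1]
    refine Subgroup.mul_mem _ (Subgroup.mem_sup_right ?_) (Subgroup.mem_sup_left ?_)
    · have hcg : ⁅c, g⁆ ∈ iterCommutator N G (i + 2) :=
        Subgroup.commutator_mem_commutator hc hg
      exact ((Subgroup.mem_normalizer_iff.mp (hNn2 (hKN hk))) _).mp hcg
    · refine ⟨?_, ?_⟩
      · have hgk : g * k * g⁻¹ ∈ K := ((Subgroup.mem_normalizer_iff.mp (hGK hg)) k).mp hk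
        have e2 : ⁅k, g⁆ = k * (g * k * g⁻¹)⁻¹ := by
          simp only [commutatorElement_def]; group
        rw [e2]
        exact K.mul_mem hk (K.inv_mem hgk)
      · exact Subgroup.commutator_mem_commutator (hK hk) hg
  -- `C (i+1) ≤ K`
  have hCK : iterCommutator N G (i + 1) ≤ K := by
    by_cases hb : iterCommutator N G (i + 1) = ⊥
    · rw [hb]; exact bot_le
    · have hlt : iterCommutator N G (i + 2) < iterCommutator N G (i + 1) :=
        commutator_lt (hN.to_le (iter_le N G hGN (i + 1))) hG
          (G_le_normalizer_iter N G hGN (i + 1)) hb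
      have hK' : ¬ (K ⊓ iterCommutator N G (i + 1)) ≤ iterCommutator N G (i + 2) := by
        intro hcon
        have : iterCommutator N G (i + 1) ≤ iterCommutator N G (i + 2) :=
          hkey.trans (sup_le hcon le_rfl)
        exact not_le_of_gt hlt this
      have hGK' : G ≤ Subgroup.normalizer ((K ⊓ iterCommutator N G (i + 1) : Subgroup L) : Set L) := by
        intro g hg
        have h1 := Subgroup.mem_normalizer_iff.mp (hGK hg)
        have h2 := Subgroup.mem_normalizer_iff.mp (G_le_normalizer_iter N G hGN (i + 1) hg)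
        rw [Subgroup.mem_normalizer_iff]
        intro x
        rw [Subgroup.mem_inf, Subgroup.mem_inf, h1 x, h2 x]
      have := IH (K ⊓ iterCommutator N G (i + 1)) inf_le_right hGK' hK'
      rw [← this]
      exact inf_le_left
  rw [← hsup]
  exact (sup_eq_left.mpr hCK).symm

theorem invariant_eq_of_not_le (hN : IsPGroup p N) (hG : IsPGroup p G)
    (hGN : G ≤ Subgroup.normalizer (N : Set L)) (n : ℕ) (hn : Nat.card N = p ^ n) (h : HC p N G) :
    ∀ d i : ℕ, n ≤ i + d → ∀ K : Subgroup L, K ≤ iterCommutator N G i →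
      G ≤ Subgroup.normalizer (K : Set L) → ¬ K ≤ iterCommutator N G (i + 1) →
      K = iterCommutator N G i := by
  have hcard := HCard_of_HC hGN n hn h
  have hbot : iterCommutator N G n = ⊥ := by
    rw [← Subgroup.card_eq_one, hcard n le_rfl]; simp
  intro d
  induction d with
  | zero =>
    intro i hi K hK _ hnot
    exfalso
    apply hnot
    have : iterCommutator N G i = ⊥ := iter_eq_bot_of_le (by omega) hbot
    rw [this] at hK
    exact hK.trans bot_le
  | succ d ih =>
    intro i hi K hK hGK hnot
    exact invariant_step hN hG hGN h i (ih (i + 1) (by omega)) K hK hGK hnot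

/-- Every invariant subgroup is a chain term. -/
theorem invariant_eq_iter (hN : IsPGroup p N) (hG : IsPGroup p G)
    (hGN : G ≤ Subgroup.normalizer (N : Set L)) (n : ℕ) (hn : Nat.card N = p ^ n) (h : HC p N G)
    (H : Subgroup L) (hH : H ≤ N) (hGH : G ≤ Subgroup.normalizer (H : Set L)) :
    ∃ i ≤ n, H = iterCommutator N G i := by
  have hcard := HCard_of_HC hGN n hn h
  have hbot : iterCommutator N G n = ⊥ := by
    rw [← Subgroup.card_eq_one, hcard n le_rfl]; simp
  by_cases hHb : H = ⊥
  · exact ⟨n, le_rfl, by rw [hHb, hbot]⟩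
  · have hex : ∃ j, ¬ H ≤ iterCommutator N G j := ⟨n, by
      rw [hbot, le_bot_iff]; exact hHb⟩
    classical
    have hj := Nat.find_spec hex
    have hmin := fun m => Nat.find_min (H := hex) (m := m)
    have hjn : Nat.find hex ≤ n := Nat.find_min' hex (by rw [hbot, le_bot_iff]; exact hHb)
    rcases Nat.eq_zero_or_pos (Nat.find hex) with h0 | h0
    · exfalso
      rw [h0] at hj
      exact hj hH
    · obtain ⟨i, hi⟩ : ∃ i, Nat.find hex = i + 1 := ⟨Nat.find hex - 1, by omega⟩
      have hle : H ≤ iterCommutator N G i := by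
        by_contra hcon
        exact hmin i (by omega) hcon
      rw [hi] at hj
      refine ⟨i, by omega, ?_⟩
      exact invariant_eq_of_not_le hN hG hGN n hn h n i (by omega) H hle hGH hj

/-- Under the chain condition the action is uniserial. -/
theorem uniserial_of_HC (hN : IsPGroup p N) (hG : IsPGroup p G)
    (hGN : G ≤ Subgroup.normalizer (N : Set L)) (n : ℕ) (hn : Nat.card N = p ^ n) (h : HC p N G)
    (H : Subgroup L) (hH : H ≤ N) (hGH : G ≤ Subgroup.normalizer (H : Set L)) (hne : H ≠ ⊥) :
    (⁅H, G⁆).relIndex H = p := by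
  obtain ⟨i, _, rfl⟩ := invariant_eq_iter hN hG hGN n hn h H hH hGH
  exact h i hne

end Cfsg.Agent.Helper11.Uni
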