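import Cfsg.Agent.Lib.Helper11.ZJ10
import Cfsg.Agent.Lib.Helper11.ZJ9
import Cfsg.Prelude.Def_ConjugacyFunctors

/-!
# The conjugacy functor attached to a strongly closed subgroup
-/

set_option autoImplicit false
set_option linter.style.haveILetI false
set_option linter.unusedSectionVars false

namespace Cfsg.Agent.Helper11.ZJ

open Cfsg
open scoped commutatorElement

/-- `W` commutes with homomorphisms injective on `P`, for compatible classes of good subgroups. -/
theorem W_map_of_injOn {G G' : Type*} [Group G] [Group G'] [Finite G] {Good : Subgroup G → Prop}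
    {Good' : Subgroup G' → Prop} (hG : GoodAx Good) (f : G →* G') (P : Subgroup G)
    (hinj : f.ker ⊓ P = ⊥)
    (hpush : ∀ Y : Subgroup G, Y ≤ P → Good Y → Good' (Y.map f))
    (hpull : ∀ Y' : Subgroup G', Y' ≤ P.map f → Good' Y' → Good (P ⊓ Y'.comap f)) :
    W Good' (P.map f) = (W Good P).map f := by
  have hinj' : ∀ x ∈ P, ∀ y ∈ P, f x = f y → x = y := by
    intro x hx y hy hxy
    have h0 : x⁻¹ * y ∈ f.ker := by
      rw [MonoidHom.mem_ker, map_mul, map_inv, hxy, inv_mul_cancel]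
    have h1 : x⁻¹ * y ∈ f.ker ⊓ P := ⟨h0, P.mul_mem (P.inv_mem hx) hy⟩
    rw [hinj, Subgroup.mem_bot] at h1
    calc x = x * (x⁻¹ * y) := by rw [h1, mul_one]
      _ = y := by group
  have hcard : ∀ Y : Subgroup G, Y ≤ P → Nat.card (Y.map f) = Nat.card Y := by
    intro Y hY
    symm
    apply Nat.card_congr
    refine Equiv.ofBijective (fun y : Y => (⟨f y, Subgroup.mem_map_of_mem f y.2⟩ : Y.map f)) ⟨?_, ?_⟩
    · intro y₁ y₂ h
      have h1 : f y₁ = f y₂ := congrArg Subtype.val h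
      exact Subtype.ext (hinj' _ (hY y₁.2) _ (hY y₂.2) h1)
    · rintro ⟨_, ⟨y, hy, rfl⟩⟩
      exact ⟨⟨y, hy⟩, rfl⟩
  have hpullmap : ∀ Y' : Subgroup G', Y' ≤ P.map f → (P ⊓ Y'.comap f).map f = Y' := by
    intro Y' hY'
    apply le_antisymm
    · rintro _ ⟨x, hx, rfl⟩
      exact hx.2
    · intro y' hy'
      obtain ⟨x, hx, rfl⟩ := hY' hy'
      exact ⟨x, ⟨hx, hy'⟩, rfl⟩
  have hfam1 : ∀ A ∈ Fam Good P, A.map f ∈ Fam Good' (P.map f) := by
    intro A hA
    refine ⟨Subgroup.map_mono hA.1, hpush A hA.1 hA.2.1, fun Y' hY' hY'c => ?_⟩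
    rw [← hpullmap Y' hY', hcard _ inf_le_left, hcard A hA.1]
    exact hA.2.2 _ inf_le_left (hpull Y' hY' hY'c)
  have hfam2 : ∀ A' ∈ Fam Good' (P.map f), P ⊓ A'.comap f ∈ Fam Good P := by
    intro A' hA'
    refine ⟨inf_le_left, hpull A' hA'.1 hA'.2.1, fun Y hY hYc => ?_⟩
    rw [← hcard Y hY, ← hcard _ inf_le_left, hpullmap A' hA'.1]
    exact hA'.2.2 _ (Subgroup.map_mono hY) (hpush Y hY hYc)
  apply le_antisymm
  · intro y' hy'
    obtain ⟨A₀, hA₀⟩ := Fam_nonempty hG P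
    obtain ⟨a₀, ha₀, rfl⟩ := W_le_of_mem (hfam1 A₀ hA₀) hy'
    refine ⟨a₀, ?_, rfl⟩
    show a₀ ∈ sInf (Fam Good P)
    rw [Subgroup.mem_sInf]
    intro A hA
    obtain ⟨a, ha, haa⟩ := W_le_of_mem (hfam1 A hA) hy'
    have : a = a₀ := hinj' _ (hA.1 ha) _ (hA₀.1 ha₀) haa
    rw [← this]; exact ha
  · rintro _ ⟨x, hx, rfl⟩
    show f x ∈ sInf (Fam Good' (P.map f))
    rw [Subgroup.mem_sInf]
    intro A' hA'
    have h1 := W_le_of_mem (hfam2 A' hA') hx
    exact h1.2

section classes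

variable {G G' : Type*} [Group G] [Group G']

theorem comm_push (f : G →* G') (Y : Subgroup G) (hY : IsMulCommutative Y) :
    IsMulCommutative (Y.map f) := by
  rw [Repl.isMulCommutative_iff_forall] at hY ⊢
  rintro _ ⟨x, hx, rfl⟩ _ ⟨y, hy, rfl⟩
  rw [← map_mul, ← map_mul, hY x hx y hy]

theorem injOn_of_ker_inf {f : G →* G'} {P : Subgroup G} (hinj : f.ker ⊓ P = ⊥) :
    ∀ x ∈ P, ∀ y ∈ P, f x = f y → x = y := by
  intro x hx y hy hxy
  have h0 : x⁻¹ * y ∈ f.ker := by
    rw [MonoidHom.mem_ker, map_mul, map_inv, hxy, inv_mul_cancel]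
  have h1 : x⁻¹ * y ∈ f.ker ⊓ P := ⟨h0, P.mul_mem (P.inv_mem hx) hy⟩
  rw [hinj, Subgroup.mem_bot] at h1
  calc x = x * (x⁻¹ * y) := by rw [h1, mul_one]
    _ = y := by group

theorem comm_pull (f : G →* G') (P : Subgroup G) (hinj : f.ker ⊓ P = ⊥) (Y' : Subgroup G')
    (hY' : IsMulCommutative Y') : IsMulCommutative ↥(P ⊓ Y'.comap f) := by
  rw [Repl.isMulCommutative_iff_forall] at hY' ⊢
  intro x hx y hy
  apply injOn_of_ker_inf hinj _ (P.mul_mem hx.1 hy.1) _ (P.mul_mem hy.1 hx.1)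
  rw [map_mul, map_mul]
  exact hY' _ hx.2 _ hy.2

theorem elemAb_push (p : ℕ) (f : G →* G') (Y : Subgroup G) (hY : IsElementaryAbelian p Y) :
    IsElementaryAbelian p (Y.map f) := by
  refine ⟨comm_push f Y hY.1, ?_⟩
  rintro _ ⟨x, hx, rfl⟩
  rw [← map_pow, hY.2 x hx, map_one]

theorem elemAb_pull (p : ℕ) (f : G →* G') (P : Subgroup G) (hinj : f.ker ⊓ P = ⊥)
    (Y' : Subgroup G') (hY' : IsElementaryAbelian p Y') :
    IsElementaryAbelian p (P ⊓ Y'.comap f) := by
  refine ⟨comm_pull f P hinj Y' hY'.1, ?_⟩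
  intro x hx
  apply injOn_of_ker_inf hinj _ (P.pow_mem hx.1 p) _ P.one_mem
  rw [map_pow, map_one]
  exact hY'.2 _ hx.2

/-- Central elements of order dividing `p` lie in every elementary abelian subgroup of largest
order. -/
theorem omega_center_le_W_elemAb [Finite G] (p : ℕ) (P : Subgroup G) {z : G}
    (hz : z ∈ P ⊓ Subgroup.centralizer (P : Set G)) (hzp : z ^ p = 1) :
    z ∈ W (fun A : Subgroup G => IsElementaryAbelian p A) P := by
  show z ∈ sInf (Fam (fun A : Subgroup G => IsElementaryAbelian p A) P)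
  rw [Subgroup.mem_sInf]
  intro A hA
  have hzA : ∀ a ∈ A, a * z = z * a := fun a ha =>
    (Subgroup.mem_centralizer_iff.mp hz.2) a (hA.1 ha)
  have hB := isElementaryAbelian_sup_zpowers hA.2.1 hzA hzp
  have hle : A ⊔ Subgroup.zpowers z ≤ P := by
    apply sup_le hA.1
    rw [Subgroup.zpowers_le]; exact hz.1
  have hcard := hA.2.2 _ hle hB
  have h1 := Subgroup.eq_of_le_of_card_ge (le_sup_left : A ≤ A ⊔ Subgroup.zpowers z) hcard
  rw [h1]
  exact Subgroup.mem_sup_right (Subgroup.mem_zpowers z)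

theorem W_elemAb_ne_bot [Finite G] {p : ℕ} [Fact p.Prime] {P : Subgroup G} (hP : IsPGroup p P)
    (hne : P ≠ ⊥) : W (fun A : Subgroup G => IsElementaryAbelian p A) P ≠ ⊥ := by
  haveI : Nontrivial ↥P := (Subgroup.nontrivial_iff_ne_bot P).mpr hne
  haveI := hP.center_nontrivial
  have hZp : IsPGroup p ↥(Subgroup.center ↥P) := hP.to_subgroup _
  obtain ⟨k, hk⟩ := IsPGroup.iff_card.mp hZp
  have hk0 : k ≠ 0 := by
    intro h
    rw [h, pow_zero] at hk
    have := (Nat.card_eq_one_iff_unique.mp hk).1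
    exact not_subsingleton ↥(Subgroup.center ↥P) this
  have hdvd : p ∣ Nat.card ↥(Subgroup.center ↥P) := by
    rw [hk]; exact dvd_pow_self p hk0
  obtain ⟨z, hz⟩ := exists_prime_orderOf_dvd_card' p hdvd
  intro hbot
  have h0 : ((z : ↥P) : G) ∈ Subgroup.centralizer (P : Set G) := by
    rw [Subgroup.mem_centralizer_iff]
    intro y hy
    have := (Subgroup.mem_center_iff.mp z.2) ⟨y, hy⟩
    exact congrArg Subtype.val this
  have h1 : ((z : ↥P) : G) ∈ P ⊓ Subgroup.centralizer (P : Set G) := ⟨(z : ↥P).2, h0⟩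
  have hzp : ((z : ↥P) : G) ^ p = 1 := by
    have h2 : z ^ p = 1 := by rw [← hz]; exact pow_orderOf_eq_one z
    have h3 := congrArg (fun w : ↥(Subgroup.center ↥P) => ((w : ↥P) : G)) h2
    simpa using h3
  have h2 := omega_center_le_W_elemAb p P h1 hzp
  rw [hbot, Subgroup.mem_bot] at h2
  have hz1 : z = 1 := by
    apply Subtype.ext
    apply Subtype.ext
    exact h2
  rw [hz1, orderOf_one] at hz
  exact (Fact.out : p.Prime).one_lt.ne hz

end classes

section functor

variable {G : Type*} [Group G]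

/-- The subgroup of `R` generated by the elements of `R` conjugate into `D`. -/
def Dgen (D R : Subgroup G) : Subgroup G :=
  Subgroup.closure {x : G | x ∈ R ∧ ∃ g : G, g * x * g⁻¹ ∈ D}

theorem Dgen_le (D R : Subgroup G) : Dgen D R ≤ R := by
  unfold Dgen
  rw [Subgroup.closure_le]
  intro x hx
  exact hx.1

theorem Dgen_map_conj (D R : Subgroup G) (g : G) :
    Dgen D (R.map (MulAut.conj g).toMonoidHom) = (Dgen D R).map (MulAut.conj g).toMonoidHom := by
  unfold Dgen
  rw [MonoidHom.map_closure]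
  congr 1
  ext y
  constructor
  · rintro ⟨⟨x, hx, rfl⟩, h, hh⟩
    refine ⟨x, ⟨hx, h * g, ?_⟩, rfl⟩
    have : h * g * x * (h * g)⁻¹ = h * ((MulAut.conj g).toMonoidHom x) * h⁻¹ := by
      simp [MulAut.conj_apply, mul_assoc]
    rw [this]; exact hh
  · rintro ⟨x, ⟨hx, h, hh⟩, rfl⟩
    refine ⟨⟨x, hx, rfl⟩, h * g⁻¹, ?_⟩
    have : h * g⁻¹ * ((MulAut.conj g).toMonoidHom x) * (h * g⁻¹)⁻¹ = h * x * h⁻¹ := by
      simp [MulAut.conj_apply, mul_assoc]
    rw [this]; exact hh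

theorem Dgen_eq_inf {D S R : Subgroup G} (hD : IsStronglyClosed D S) (hR : R ≤ S) :
    Dgen D R = D ⊓ R := by
  apply le_antisymm
  · unfold Dgen
    rw [Subgroup.closure_le]
    rintro x ⟨hxR, g, hg⟩
    refine ⟨?_, hxR⟩
    have h1 := hD.2 (g * x * g⁻¹) hg g⁻¹
    have h2 : g⁻¹ * (g * x * g⁻¹) * g⁻¹⁻¹ = x := by group
    rw [h2] at h1
    exact h1 (hR hxR)
  · intro x hx
    exact Subgroup.subset_closure ⟨hx.2, 1, by simpa using hx.1⟩

open Classical in
/-- The functor `R ↦ W(D_R)` (with `W(R)` as a fallback when `D_R = 1`). -/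
noncomputable def scFunctor (Good : Subgroup G → Prop) (D : Subgroup G) (R : Subgroup G) :
    Subgroup G :=
  if Dgen D R = ⊥ then W Good R else W Good (Dgen D R)

theorem scFunctor_of_ne {Good : Subgroup G → Prop} {D R : Subgroup G} (h : Dgen D R ≠ ⊥) :
    scFunctor Good D R = W Good (Dgen D R) := by
  unfold scFunctor
  rw [if_neg h]

theorem isConjugacyFunctor_scFunctor [Finite G] {p : ℕ} {Good : Subgroup G → Prop}
    (hG : GoodAx Good)
    (hne : ∀ P : Subgroup G, IsPGroup p P → P ≠ ⊥ → W Good P ≠ ⊥) (D : Subgroup G) :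
    IsConjugacyFunctor p (scFunctor Good D) := by
  intro P hP
  refine ⟨?_, ?_, ?_⟩
  · unfold scFunctor
    split_ifs with h
    · exact W_le hG P
    · exact (W_le hG _).trans (Dgen_le D P)
  · intro hPne
    unfold scFunctor
    split_ifs with h
    · exact hne P hP hPne
    · exact hne _ (hP.to_le (Dgen_le D P)) h
  · intro g
    have hiff : Dgen D (P.map (MulAut.conj g).toMonoidHom) = ⊥ ↔ Dgen D P = ⊥ := by
      rw [Dgen_map_conj]
      exact (Subgroup.map_eq_bot_iff_of_injective _ (MulAut.conj g).injective)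
    unfold scFunctor
    by_cases h : Dgen D P = ⊥
    · rw [if_pos h, if_pos (hiff.mpr h)]
      exact (W_map hG (MulAut.conj g) P).symm
    · rw [if_neg h, if_neg (fun h' => h (hiff.mp h')), Dgen_map_conj]
      exact (W_map hG (MulAut.conj g) _).symm

end functor

end Cfsg.Agent.Helper11.ZJ
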