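import Cfsg.Agent.Lib.Helper11.ZJ11
import Cfsg.Agent.Lib.Helper11.PStab2

/-!
# Local control of strong fusion in `p`-constrained groups
-/

set_option autoImplicit false
set_option linter.style.haveILetI false
set_option linter.unusedSectionVars false

namespace Cfsg.Agent.Helper11.ZJ

open Cfsg Cfsg.Agent.Helper54
open scoped commutatorElement

section sylowconj

variable {M : Type*} [Group M] [Finite M] {p : ℕ} [Fact p.Prime]

/-- A `p`-subgroup of `K₀ U` (`K₀` a `p'`-group normalized by the `p`-group `U`) is conjugate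
into `U` by an element of `K₀`. -/
theorem exists_le_map_conj (K₀ U U' : Subgroup M) (hK₀ : (Nat.card K₀).Coprime p)
    (hU : IsPGroup p U) (hU' : IsPGroup p U')
    (hUK : U ≤ Subgroup.normalizer (K₀ : Set M)) (hle : U' ≤ K₀ ⊔ U) :
    ∃ c ∈ K₀, U' ≤ U.map (MulAut.conj c).toMonoidHom := by
  classical
  have hUY : U ≤ K₀ ⊔ U := le_sup_right
  have hmul : ∀ y ∈ K₀ ⊔ U, ∃ k ∈ K₀, ∃ u ∈ U, y = k * u := by
    intro y hy
    have hmem : y ∈ ((K₀ ⊔ U : Subgroup M) : Set M) := hy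
    rw [Subgroup.coe_mul_of_right_le_normalizer_left K₀ U hUK] at hmem
    obtain ⟨k, hk, u, hu, rfl⟩ := Set.mem_mul.mp hmem
    exact ⟨k, hk, u, hu, rfl⟩
  have hmax : ∀ Q : Subgroup ↥(K₀ ⊔ U), IsPGroup p Q → U.subgroupOf (K₀ ⊔ U) ≤ Q →
      Q = U.subgroupOf (K₀ ⊔ U) := by
    intro Q hQ hUQ
    apply le_antisymm _ hUQ
    intro q hq
    obtain ⟨k, hk, u, hu, hqe⟩ := hmul (q : M) q.2
    have huQ : (⟨u, hUY hu⟩ : ↥(K₀ ⊔ U)) ∈ Q := hUQ (Subgroup.mem_subgroupOf.mpr hu)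
    have hkY : k ∈ K₀ ⊔ U := Subgroup.mem_sup_left hk
    have hkQ : (⟨k, hkY⟩ : ↥(K₀ ⊔ U)) ∈ Q := by
      have : (⟨k, hkY⟩ : ↥(K₀ ⊔ U)) = q * (⟨u, hUY hu⟩ : ↥(K₀ ⊔ U))⁻¹ := by
        apply Subtype.ext
        show k = (q : M) * u⁻¹
        rw [hqe]; group
      rw [this]
      exact Q.mul_mem hq (Q.inv_mem huQ)
    have hQmap : IsPGroup p (Q.map (K₀ ⊔ U).subtype) := hQ.map _
    have hinf := inf_eq_bot_of_isPGroup_of_coprime K₀ (Q.map (K₀ ⊔ U).subtype) hK₀ hQmap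
    have hk1 : k ∈ K₀ ⊓ Q.map (K₀ ⊔ U).subtype := ⟨hk, ⟨⟨k, hkY⟩, hkQ, rfl⟩⟩
    rw [hinf, Subgroup.mem_bot] at hk1
    rw [Subgroup.mem_subgroupOf, hqe, hk1, one_mul]
    exact hu
  let S1 : Sylow p ↥(K₀ ⊔ U) :=
    { toSubgroup := U.subgroupOf (K₀ ⊔ U)
      isPGroup' := hU.comap_subtype
      is_maximal' := fun {Q} hQ hUQ => hmax Q hQ hUQ }
  have hU'Y : IsPGroup p (U'.subgroupOf (K₀ ⊔ U)) := hU'.comap_subtype
  obtain ⟨S2, hS2⟩ := hU'Y.exists_le_sylow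
  obtain ⟨g, hg⟩ := MulAction.exists_smul_eq ↥(K₀ ⊔ U) S1 S2
  obtain ⟨k, hk, u, hu, hge⟩ := hmul (g : M) g.2
  refine ⟨k, hk, ?_⟩
  intro x hx
  have h2 : (⟨x, hle hx⟩ : ↥(K₀ ⊔ U)) ∈ U'.subgroupOf (K₀ ⊔ U) := Subgroup.mem_subgroupOf.mpr hx
  have h3 : (⟨x, hle hx⟩ : ↥(K₀ ⊔ U)) ∈ (S2 : Subgroup ↥(K₀ ⊔ U)) := hS2 h2
  rw [← hg, Sylow.smul_def, Sylow.pointwise_smul_def,
    Subgroup.mem_pointwise_smul_iff_inv_smul_mem] at h3
  have h4 : (MulAut.conj g)⁻¹ • (⟨x, hle hx⟩ : ↥(K₀ ⊔ U)) ∈ U.subgroupOf (K₀ ⊔ U) := h3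
  rw [Subgroup.mem_subgroupOf] at h4
  have h5 : (((MulAut.conj g)⁻¹ • (⟨x, hle hx⟩ : ↥(K₀ ⊔ U)) : ↥(K₀ ⊔ U)) : M) =
      (g : M)⁻¹ * x * (g : M) := by
    rw [← map_inv, MulAut.smul_def, MulAut.conj_apply]
    simp only [Subgroup.coe_mul, Subgroup.coe_inv, inv_inv]
  rw [h5, hge] at h4
  refine ⟨u * ((k * u)⁻¹ * x * (k * u)) * u⁻¹, U.mul_mem (U.mul_mem hu h4) (U.inv_mem hu), ?_⟩
  simp only [MulEquiv.coe_toMonoidHom, MulAut.conj_apply]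
  group

/-- Two elements acting on a `p`-subgroup `U ≤ N`, one of them in the normal `p'`-subgroup `K`:
the action of `κ ∈ K` with `κ U κ⁻¹ ≤ N` is induced by an element of `N ∩ K`. -/
theorem exists_conj_agree (K : Subgroup M) [hKn : K.Normal] (hK : (Nat.card K).Coprime p)
    (N U : Subgroup M) (hU : IsPGroup p U) (hUN : U ≤ N) (κ : M) (hκ : κ ∈ K)
    (hUκ : ∀ u ∈ U, κ * u * κ⁻¹ ∈ N) :
    ∃ c ∈ N ⊓ K, ∀ u ∈ U, c * u * c⁻¹ = κ * u * κ⁻¹ := by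
  have hK₀ : (Nat.card ↥(N ⊓ K)).Coprime p :=
    Nat.Coprime.coprime_dvd_left (Subgroup.card_dvd_of_le inf_le_right) hK
  have hUK : U ≤ Subgroup.normalizer ((N ⊓ K : Subgroup M) : Set M) := by
    intro u hu
    apply Subgroup.mem_normalizer_fintype
    intro x hx
    have hx' : x ∈ N ⊓ K := hx
    exact ⟨N.mul_mem (N.mul_mem (hUN hu) hx'.1) (N.inv_mem (hUN hu)), hKn.conj_mem x hx'.2 u⟩
  have hU' : IsPGroup p (U.map (MulAut.conj κ).toMonoidHom) := hU.map _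
  have hle : U.map (MulAut.conj κ).toMonoidHom ≤ (N ⊓ K) ⊔ U := by
    rintro _ ⟨u, hu, rfl⟩
    have e1 : (MulAut.conj κ).toMonoidHom u = (κ * u * κ⁻¹ * u⁻¹) * u := by
      simp [MulAut.conj_apply]
    rw [e1]
    refine Subgroup.mul_mem _ (Subgroup.mem_sup_left ⟨?_, ?_⟩) (Subgroup.mem_sup_right hu)
    · exact N.mul_mem (hUκ u hu) (N.inv_mem (hUN hu))
    · have e2 : κ * u * κ⁻¹ * u⁻¹ = κ * (u * κ⁻¹ * u⁻¹) := by group
      rw [e2]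
      exact K.mul_mem hκ (hKn.conj_mem _ (K.inv_mem hκ) u)
  obtain ⟨c, hc, hcU⟩ := exists_le_map_conj (N ⊓ K) U _ hK₀ hU hU' hUK hle
  refine ⟨c, hc, ?_⟩
  have hinf : K ⊓ U = ⊥ := inf_eq_bot_of_isPGroup_of_coprime K U hK hU
  intro u hu
  obtain ⟨u₁, hu₁, hu₁e⟩ := hcU ⟨u, hu, rfl⟩
  have e3 : c * u₁ * c⁻¹ = κ * u * κ⁻¹ := by
    simpa [MulAut.conj_apply] using hu₁e
  -- `z = c⁻¹ κ` maps `u` to `u₁`
  have hz : u₁ * u⁻¹ ∈ K ⊓ U := by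
    refine ⟨?_, U.mul_mem hu₁ (U.inv_mem hu)⟩
    have e4 : u₁ = (c⁻¹ * κ) * u * (c⁻¹ * κ)⁻¹ := by
      have : u₁ = c⁻¹ * (c * u₁ * c⁻¹) * c := by group
      rw [this, e3]; group
    have e5 : u₁ * u⁻¹ = (c⁻¹ * κ) * (u * (c⁻¹ * κ)⁻¹ * u⁻¹) := by
      rw [e4]; group
    rw [e5]
    have hzK : c⁻¹ * κ ∈ K := K.mul_mem (K.inv_mem hc.2) hκ
    exact K.mul_mem hzK (hKn.conj_mem _ (K.inv_mem hzK) u)
  rw [hinf, Subgroup.mem_bot] at hz
  have hu₁u : u₁ = u := by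
    calc u₁ = (u₁ * u⁻¹) * u := by group
      _ = u := by rw [hz, one_mul]
  rw [← e3, hu₁u]

end sylowconj

section quotient

variable {X : Type*} [Group X] [Finite X] {p : ℕ} [Fact p.Prime]

/-- Strong closure passes to the quotient by a normal `p'`-subgroup. -/
theorem sc_quotient (K : Subgroup X) [hKn : K.Normal] (hK : (Nat.card K).Coprime p)
    (R : Sylow p X) (D : Subgroup X) (hD : IsStronglyClosed D (R : Subgroup X)) :
    IsStronglyClosed (D.map (QuotientGroup.mk' K))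
      ((R : Subgroup X).map (QuotientGroup.mk' K)) := by
  refine ⟨Subgroup.map_mono hD.1, ?_⟩
  rintro _ ⟨x, hx, rfl⟩ g' hg'
  obtain ⟨g, rfl⟩ := QuotientGroup.mk'_surjective K g'
  obtain ⟨r, hr, hre⟩ := hg'
  have hy : g * x * g⁻¹ ∈ K ⊔ (R : Subgroup X) := by
    have h1 : r⁻¹ * (g * x * g⁻¹) ∈ K := by
      rw [← QuotientGroup.eq_one_iff, ← QuotientGroup.mk'_apply, map_mul, map_inv, hre]
      simp only [map_mul, map_inv]
      group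
    have h2 : g * x * g⁻¹ = r * (r⁻¹ * (g * x * g⁻¹)) := by group
    rw [h2]
    exact Subgroup.mul_mem _ (Subgroup.mem_sup_right hr) (Subgroup.mem_sup_left h1)
  have hxp : IsPGroup p (Subgroup.zpowers (g * x * g⁻¹)) := by
    have h1 : IsPGroup p (Subgroup.zpowers x) :=
      R.isPGroup'.to_le (Subgroup.zpowers_le.mpr (hD.1 hx))
    have h2 : Subgroup.zpowers (g * x * g⁻¹) =
        (Subgroup.zpowers x).map (MulAut.conj g).toMonoidHom := by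
      rw [MonoidHom.map_zpowers]; rfl
    rw [h2]; exact h1.map _
  have hRK : (R : Subgroup X) ≤ Subgroup.normalizer (K : Set X) := by
    rw [Subgroup.normalizer_eq_top_iff.mpr hKn]; exact le_top
  obtain ⟨c, hc, hle⟩ := exists_le_map_conj K (R : Subgroup X) _ hK R.isPGroup' hxp hRK
    (Subgroup.zpowers_le.mpr hy)
  obtain ⟨r₁, hr₁, hr₁e⟩ := hle (Subgroup.mem_zpowers _)
  have e1 : c * r₁ * c⁻¹ = g * x * g⁻¹ := by simpa [MulAut.conj_apply] using hr₁e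
  have e2 : r₁ = (c⁻¹ * g) * x * (c⁻¹ * g)⁻¹ := by
    have : r₁ = c⁻¹ * (c * r₁ * c⁻¹) * c := by group
    rw [this, e1]; group
  have h3 : (c⁻¹ * g) * x * (c⁻¹ * g)⁻¹ ∈ D := hD.2 x hx (c⁻¹ * g) (e2 ▸ hr₁)
  refine ⟨(c⁻¹ * g) * x * (c⁻¹ * g)⁻¹, h3, ?_⟩
  have hc1 : (QuotientGroup.mk' K) c = 1 := by
    rw [QuotientGroup.mk'_apply, QuotientGroup.eq_one_iff]; exact hc
  simp only [map_mul, map_inv, hc1, inv_one, one_mul]

/-- The normalizer form of `p`-stability gives the hypothesis of the ZJ theorem in the quotient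
by a normal `p'`-subgroup. -/
theorem hst_quotient (hst : IsNormalizerPStable p X) (K : Subgroup X) [hKn : K.Normal]
    (hK : (Nat.card K).Coprime p) (V' : Subgroup (X ⧸ K)) [hV'n : V'.Normal] (hV' : IsPGroup p V')
    (A' : Subgroup (X ⧸ K)) (hA' : IsPGroup p A') (hq : ⁅⁅V', A'⁆, A'⁆ = ⊥) :
    A' ≤ stabL p V' := by
  obtain ⟨A, V, hA, hV, hAN, rfl, rfl, hq', _⟩ := PStab.exists_lift K hK A' V' hA' hV' hV'n hq
  apply le_stabL_of_concl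
  apply (PStab.concl_iff K hK V hV A hAN).mp
  rintro _ ⟨a, ha, rfl⟩
  have haA : (a : X) ∈ A := ha
  have hz : Subgroup.zpowers (a : X) ≤ A := Subgroup.zpowers_le.mpr haA
  have hq'' : ⁅⁅V, Subgroup.zpowers (a : X)⁆, Subgroup.zpowers (a : X)⁆ = ⊥ := by
    rw [eq_bot_iff, ← hq']
    exact Subgroup.commutator_mono (Subgroup.commutator_mono le_rfl hz) hz
  exact hst V hV a.1 a.2 hq''

end quotient

end Cfsg.Agent.Helper11.ZJ
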