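import Cfsg.Agent.Lib.Helper11.ZJ12
import Cfsg.Agent.Lib.Helper54.PConstrainedLocal
import Cfsg.Agent.S1961
import Cfsg.Agent.S1967
import Cfsg.Agent.S3836

/-!
# Control of strong fusion by `N_G(W(D))` for a strongly closed subgroup `D`,
when the `p`-local subgroups are `p`-constrained
-/

set_option autoImplicit false
set_option linter.style.haveILetI false
set_option linter.unusedSectionVars false
set_option linter.unusedVariables false

namespace Cfsg.Agent.Helper11.ZJ

open Cfsg Cfsg.Agent.Helper54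
open scoped commutatorElement

universe u

/-- A uniform class of "good" abelian subgroups over all groups of a universe. -/
structure GoodSys (p : ℕ) where
  Good : ∀ (X : Type u) [Group X], Subgroup X → Prop
  ax : ∀ (X : Type u) [Group X], GoodAx (Good X)
  push : ∀ {X Y : Type u} [Group X] [Group Y] (f : X →* Y) (A : Subgroup X),
    Good X A → Good Y (A.map f)
  pull : ∀ {X Y : Type u} [Group X] [Group Y] (f : X →* Y) (P : Subgroup X), f.ker ⊓ P = ⊥ →
    ∀ Y' : Subgroup Y, Good Y Y' → Good X (P ⊓ Y'.comap f)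
  ne_bot : ∀ (X : Type u) [Group X] [Finite X] (P : Subgroup X), IsPGroup p P → P ≠ ⊥ →
    W (Good X) P ≠ ⊥

/-- The class of all abelian subgroups. -/
def commSys (p : ℕ) [Fact p.Prime] : GoodSys.{u} p where
  Good := fun X _ A => IsMulCommutative A
  ax := fun X _ => goodAx_comm
  push := fun f A hA => comm_push f A hA
  pull := fun f P hinj Y' hY' => comm_pull f P hinj Y' hY'
  ne_bot := fun X _ _ P hP hne => ZJ_ne_bot hP hne

/-- The class of all elementary abelian subgroups. -/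
def elemAbSys (p : ℕ) [Fact p.Prime] : GoodSys.{u} p where
  Good := fun X _ A => IsElementaryAbelian p A
  ax := fun X _ => goodAx_elemAb p
  push := fun f A hA => elemAb_push p f A hA
  pull := fun f P hinj Y' hY' => elemAb_pull p f P hinj Y' hY'
  ne_bot := fun X _ _ P hP hne => W_elemAb_ne_bot hP hne

section typelevel

variable {p : ℕ} [Fact p.Prime] (𝒢 : GoodSys.{u} p) {X : Type u} [Group X] [Finite X]

/-- In a `p`-constrained, `p`-stable group, `X = N_X(W(D)) O_{p'}(X)`. -/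
theorem exists_mul_mem_normalizer_W (hp : p ≠ 2) (hc : IsPConstrained p X)
    (hst : IsNormalizerPStable p X) (R : Sylow p X) (D : Subgroup X)
    (hD : IsStronglyClosed D (R : Subgroup X)) (c : X) :
    ∃ k ∈ pPrimeCore p X, c * k ∈ Subgroup.normalizer ((W (𝒢.Good X) D : Subgroup X) : Set X) := by
  have hK : (Nat.card (pPrimeCore p X)).Coprime p := pPrimeCore_coprime p
  have hc' : IsCharP p (X ⧸ pPrimeCore p X) := isPConstrained_iff_isCharP_quotient.mp hc
  have hsurj := QuotientGroup.mk'_surjective (pPrimeCore p X)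
  have hDq := sc_quotient (pPrimeCore p X) hK R D hD
  rw [← Sylow.coe_mapSurjective hsurj R] at hDq
  have hst' : ∀ (V : Subgroup (X ⧸ pPrimeCore p X)) [V.Normal], IsPGroup p V →
      ∀ A : Subgroup (X ⧸ pPrimeCore p X), A ≤ ((R.mapSurjective hsurj : Sylow p _) : Subgroup _) →
      ⁅⁅V, A⁆, A⁆ = ⊥ → A ≤ stabL p V :=
    fun V _ hV A hA hq =>
      hst_quotient hst (pPrimeCore p X) hK V hV A ((R.mapSurjective hsurj).isPGroup'.to_le hA) hq
  have hnorm := W_normal_sc (𝒢.ax (X ⧸ pPrimeCore p X)) hp hc' hDq hst'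
  have hDp : IsPGroup p D := R.isPGroup'.to_le hD.1
  have hinf : (QuotientGroup.mk' (pPrimeCore p X)).ker ⊓ D = ⊥ := by
    rw [QuotientGroup.ker_mk']
    exact inf_eq_bot_of_isPGroup_of_coprime _ _ hK hDp
  have hWmap := W_map_of_injOn (𝒢.ax X) (QuotientGroup.mk' (pPrimeCore p X)) D hinf
    (Good' := 𝒢.Good (X ⧸ pPrimeCore p X))
    (fun Y _ hY => 𝒢.push _ Y hY) (fun Y' _ hY' => 𝒢.pull _ D hinf Y' hY')
  rw [hWmap] at hnorm
  have hZp : IsPGroup p (W (𝒢.Good X) D) := hDp.to_le (W_le (𝒢.ax X) _)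
  apply exists_mul_mem_normalizer (pPrimeCore p X) hK _ hZp c
  intro t ht
  have h2 : (QuotientGroup.mk' (pPrimeCore p X)) c * (QuotientGroup.mk' (pPrimeCore p X)) t *
      ((QuotientGroup.mk' (pPrimeCore p X)) c)⁻¹ ∈
      (W (𝒢.Good X) D).map (QuotientGroup.mk' (pPrimeCore p X)) :=
    hnorm.conj_mem _ (Subgroup.mem_map_of_mem _ ht) _
  obtain ⟨t', ht', h3⟩ := h2
  have h4 : t'⁻¹ * (c * t * c⁻¹) ∈ pPrimeCore p X := by
    rw [← QuotientGroup.eq_one_iff, ← QuotientGroup.mk'_apply]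
    simp only [map_mul, map_inv]
    rw [h3]
    group
  have h5 : c * t * c⁻¹ = t' * (t'⁻¹ * (c * t * c⁻¹)) := by group
  rw [h5]
  exact Subgroup.mul_mem _ (Subgroup.mem_sup_left ht') (Subgroup.mem_sup_right h4)

/-- Local control of strong fusion in a `p`-constrained, `p`-stable group. -/
theorem local_control (hp : p ≠ 2) (hc : IsPConstrained p X)
    (hst : IsNormalizerPStable p X) (R : Sylow p X) (D : Subgroup X)
    (hD : IsStronglyClosed D (R : Subgroup X)) (A : Set X) (h : X)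
    (hA : A ⊆ (R : Subgroup X)) (hAh : ∀ a ∈ A, h * a * h⁻¹ ∈ (R : Subgroup X)) :
    ∃ x ∈ Subgroup.normalizer ((W (𝒢.Good X) D : Subgroup X) : Set X),
      ∀ a ∈ A, x * a * x⁻¹ = h * a * h⁻¹ := by
  have hK : (Nat.card (pPrimeCore p X)).Coprime p := pPrimeCore_coprime p
  have hUR : Subgroup.closure A ≤ (R : Subgroup X) := (Subgroup.closure_le _).mpr hA
  have hUh : ∀ u ∈ Subgroup.closure A, h * u * h⁻¹ ∈ (R : Subgroup X) := by
    intro u hu
    have h1 : (Subgroup.closure A).map (MulAut.conj h).toMonoidHom ≤ (R : Subgroup X) := by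
      rw [MonoidHom.map_closure, Subgroup.closure_le]
      rintro _ ⟨a, ha, rfl⟩
      exact hAh a ha
    exact h1 ⟨u, hu, rfl⟩
  have hRN : (R : Subgroup X) ≤
      Subgroup.normalizer ((W (𝒢.Good X) D : Subgroup X) : Set X) :=
    (sc_le_normalizer hD).trans (normalizer_le_normalizer_W (𝒢.ax X) D)
  obtain ⟨k, hk, hn⟩ := exists_mul_mem_normalizer_W 𝒢 hp hc hst R D hD h
  have hκ : k⁻¹ ∈ pPrimeCore p X := Subgroup.inv_mem _ hk
  have hUκ : ∀ u ∈ Subgroup.closure A, k⁻¹ * u * k⁻¹⁻¹ ∈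
      Subgroup.normalizer ((W (𝒢.Good X) D : Subgroup X) : Set X) := by
    intro u hu
    have e1 : k⁻¹ * u * k⁻¹⁻¹ = (h * k)⁻¹ * (h * u * h⁻¹) * (h * k) := by group
    rw [e1]
    exact Subgroup.mul_mem _ (Subgroup.mul_mem _ (Subgroup.inv_mem _ hn) (hRN (hUh u hu))) hn
  obtain ⟨c, hc', hcu⟩ := exists_conj_agree (pPrimeCore p X) hK _ (Subgroup.closure A)
    (R.isPGroup'.to_le hUR) (hUR.trans hRN) k⁻¹ hκ hUκ
  refine ⟨h * k * c, Subgroup.mul_mem _ hn hc'.1, ?_⟩
  intro a ha
  have h1 := hcu a (Subgroup.subset_closure ha)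
  have e2 : h * k * c * a * (h * k * c)⁻¹ = (h * k) * (c * a * c⁻¹) * (h * k)⁻¹ := by group
  rw [e2, h1]
  group

end typelevel

end Cfsg.Agent.Helper11.ZJ
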