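import Cfsg.Agent.Lib.Helper11.ZJ1
import Cfsg.Agent.Lib.Helper11.Replacement6

/-!
# Tools for the ZJ theorem, part 2: the family of largest "good" abelian subgroups and `W(P)`.
-/

set_option autoImplicit false
set_option linter.style.haveILetI false

namespace Cfsg.Agent.Helper11.ZJ

open Cfsg
open scoped commutatorElement

variable {G : Type*} [Group G]

/-- Axioms on a class of "good" abelian subgroups (abelian, or elementary abelian). -/
structure GoodAx (Good : Subgroup G → Prop) : Prop where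
  bot : Good ⊥
  comm : ∀ A : Subgroup G, Good A → IsMulCommutative A
  map : ∀ (φ : G ≃* G) (A : Subgroup G), Good A → Good (A.map φ.toMonoidHom)
  repl : ∀ A X : Subgroup G, Good A → IsMulCommutative X →
    (∀ n : ℕ, (∀ a ∈ A, a ^ n = 1) → ∀ x ∈ X, x ^ n = 1) → Good X

/-- The good subgroups of `P` of largest order. -/
def Fam (Good : Subgroup G → Prop) (P : Subgroup G) : Set (Subgroup G) :=
  {A | A ≤ P ∧ Good A ∧ ∀ Y : Subgroup G, Y ≤ P → Good Y → Nat.card Y ≤ Nat.card A}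

/-- The intersection of the good subgroups of `P` of largest order. -/
def W (Good : Subgroup G → Prop) (P : Subgroup G) : Subgroup G := sInf (Fam Good P)

variable {Good : Subgroup G → Prop}

theorem Fam_nonempty [Finite G] (hG : GoodAx Good) (P : Subgroup G) : (Fam Good P).Nonempty := by
  classical
  let X : Set (Subgroup G) := {Y | Y ≤ P ∧ Good Y}
  have hfin : X.Finite := Set.toFinite X
  have hne : X.Nonempty := ⟨⊥, bot_le, hG.bot⟩
  obtain ⟨M, hM, hmax⟩ := Set.exists_max_image X (fun N => Nat.card N) hfin hne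
  exact ⟨M, hM.1, hM.2, fun Y hY hYg => hmax Y ⟨hY, hYg⟩⟩

theorem W_le_of_mem {P A : Subgroup G} (hA : A ∈ Fam Good P) : W Good P ≤ A :=
  sInf_le hA

theorem W_le [Finite G] (hG : GoodAx Good) (P : Subgroup G) : W Good P ≤ P := by
  obtain ⟨A, hA⟩ := Fam_nonempty hG P
  exact (W_le_of_mem hA).trans hA.1

theorem W_comm [Finite G] (hG : GoodAx Good) (P : Subgroup G) {x y : G} (hx : x ∈ W Good P)
    (hy : y ∈ W Good P) : x * y = y * x := by
  obtain ⟨A, hA⟩ := Fam_nonempty hG P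
  exact (Repl.isMulCommutative_iff_forall A).mp (hG.comm A hA.2.1) x (W_le_of_mem hA hx) y
    (W_le_of_mem hA hy)

theorem Fam_mono {P P₁ A : Subgroup G} (hA : A ∈ Fam Good P) (hA1 : A ≤ P₁) (h1 : P₁ ≤ P) :
    A ∈ Fam Good P₁ :=
  ⟨hA1, hA.2.1, fun Y hY hYg => hA.2.2 Y (hY.trans h1) hYg⟩

theorem Fam_subset {P P₁ A : Subgroup G} (hA : A ∈ Fam Good P) (hA1 : A ≤ P₁) (h1 : P₁ ≤ P) :
    Fam Good P₁ ⊆ Fam Good P := by
  intro A₁ hA₁
  refine ⟨hA₁.1.trans h1, hA₁.2.1, fun Y hY hYg => ?_⟩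
  exact (hA.2.2 Y hY hYg).trans (hA₁.2.2 A hA1 hA.2.1)

theorem W_mono {P P₁ A : Subgroup G} (hA : A ∈ Fam Good P) (hA1 : A ≤ P₁) (h1 : P₁ ≤ P) :
    W Good P ≤ W Good P₁ :=
  sInf_le_sInf (Fam_subset hA hA1 h1)

theorem Fam_map (hG : GoodAx Good) (φ : G ≃* G) {P A : Subgroup G} (hA : A ∈ Fam Good P) :
    A.map φ.toMonoidHom ∈ Fam Good (P.map φ.toMonoidHom) := by
  refine ⟨Subgroup.map_mono hA.1, hG.map φ A hA.2.1, fun Y hY hYg => ?_⟩
  have h1 : Y.map φ.symm.toMonoidHom ≤ P := by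
    rintro _ ⟨y, hy, rfl⟩
    obtain ⟨x, hx, rfl⟩ := hY hy
    simpa using hx
  have h2 := hA.2.2 _ h1 (hG.map φ.symm Y hYg)
  have h3 : Nat.card (Y.map φ.symm.toMonoidHom) = Nat.card Y :=
    Subgroup.card_map_of_injective φ.symm.injective
  have h4 : Nat.card (A.map φ.toMonoidHom) = Nat.card A :=
    Subgroup.card_map_of_injective φ.injective
  rw [h4, ← h3]; exact h2

theorem W_map (hG : GoodAx Good) (φ : G ≃* G) (P : Subgroup G) :
    (W Good P).map φ.toMonoidHom = W Good (P.map φ.toMonoidHom) := by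
  apply le_antisymm
  · rintro _ ⟨x, hx, rfl⟩
    rw [W, Subgroup.mem_sInf]
    intro A₂ hA₂
    have h1 := Fam_map hG φ.symm hA₂
    have h2 : (P.map φ.toMonoidHom).map φ.symm.toMonoidHom = P := by
      ext y
      constructor
      · rintro ⟨_, ⟨z, hz, rfl⟩, rfl⟩
        simpa using hz
      · intro hy
        exact ⟨φ y, ⟨y, hy, rfl⟩, by simp⟩
    rw [h2] at h1
    obtain ⟨y, hy, hyx⟩ := W_le_of_mem h1 hx
    have : φ x = y := by
      rw [← hyx]; simp
    show φ x ∈ A₂
    rw [this]; exact hy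
  · intro y hy
    refine ⟨φ.symm y, ?_, by simp⟩
    show φ.symm y ∈ sInf (Fam Good P)
    rw [Subgroup.mem_sInf]
    intro A hA
    obtain ⟨a, ha, hay⟩ := W_le_of_mem (Fam_map hG φ hA) hy
    have : φ.symm y = a := by
      rw [← hay]; simp
    rw [this]; exact ha

theorem W_conj_eq (hG : GoodAx Good) {P : Subgroup G} {g : G}
    (hg : g ∈ Subgroup.normalizer (P : Set G)) :
    (W Good P).map (MulAut.conj g).toMonoidHom = W Good P := by
  rw [W_map hG (MulAut.conj g) P]
  congr 1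
  ext x
  constructor
  · rintro ⟨y, hy, rfl⟩
    exact (Subgroup.mem_normalizer_iff.mp hg y).mp hy
  · intro hx
    refine ⟨g⁻¹ * x * g, ?_, by simp [MulAut.conj_apply, mul_assoc]⟩
    have := (Subgroup.mem_normalizer_iff.mp (Subgroup.inv_mem _ hg) x).mp hx
    simpa using this

theorem normalizer_le_normalizer_W (hG : GoodAx Good) (P : Subgroup G) :
    Subgroup.normalizer (P : Set G) ≤ Subgroup.normalizer (W Good P : Set G) := by
  intro g hg
  rw [Subgroup.mem_normalizer_iff]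
  intro x
  have h1 := W_conj_eq hG hg
  have h2 := W_conj_eq hG (Subgroup.inv_mem _ hg)
  constructor
  · intro hx
    rw [← h1]
    exact ⟨x, hx, rfl⟩
  · intro hx
    rw [← h2]
    exact ⟨g * x * g⁻¹, hx, by simp [mul_assoc]⟩

theorem le_normalizer_W (hG : GoodAx Good) (P : Subgroup G) :
    P ≤ Subgroup.normalizer (W Good P : Set G) :=
  Subgroup.le_normalizer.trans (normalizer_le_normalizer_W hG P)

end Cfsg.Agent.Helper11.ZJ
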