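import Cfsg.Agent.Lib.Helper11.ZJ2

/-!
# Tools for the ZJ theorem, part 3: the replacement theorem inside a `p`-subgroup of `G`.
-/

set_option autoImplicit false
set_option linter.style.haveILetI false

namespace Cfsg.Agent.Helper11.ZJ

open Cfsg
open scoped commutatorElement

variable {G : Type*} [Group G] {Good : Subgroup G → Prop}

theorem isMulCommutative_of_map_subtype {P : Subgroup G} (A' : Subgroup ↥P)
    (h : IsMulCommutative (A'.map P.subtype)) : IsMulCommutative A' := by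
  rw [Repl.isMulCommutative_iff_forall] at h ⊢
  intro x hx y hy
  apply Subtype.ext
  exact h x ⟨x, hx, rfl⟩ y ⟨y, hy, rfl⟩

theorem isMulCommutative_map_subtype {P : Subgroup G} (A' : Subgroup ↥P)
    (h : IsMulCommutative A') : IsMulCommutative (A'.map P.subtype) := by
  rw [Repl.isMulCommutative_iff_forall] at h ⊢
  rintro _ ⟨x, hx, rfl⟩ _ ⟨y, hy, rfl⟩
  exact congrArg Subtype.val (h x hx y hy)

/-- The replacement theorem for the family of largest good subgroups of a `p`-subgroup `P`. -/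
theorem exists_normalized [Finite G] {p : ℕ} [Fact p.Prime] (hG : GoodAx Good) (hp : p ≠ 2)
    {P : Subgroup G} (hP : IsPGroup p P) (B : Subgroup G) [B.Normal] (hBP : B ≤ P)
    {U : Subgroup G} (hU : U ∈ Fam Good P) (hBU : ⁅B, B⁆ ≤ U) (hnU : ¬ B ≤ U) :
    ∃ A ∈ Fam Good P, ⁅B, B⁆ ≤ A ∧ ¬ B ≤ A ∧ B ≤ Subgroup.normalizer (A : Set G) := by
  classical
  let Fam' : Set (Subgroup ↥P) := {A' | A'.map P.subtype ∈ Fam Good P}
  have hB2 : p = 2 → IsMulCommutative (B.subgroupOf P) := fun h => absurd h hp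
  have hcomm' : ∀ A' ∈ Fam', IsMulCommutative A' := by
    intro A' hA'
    exact isMulCommutative_of_map_subtype A' (hG.comm _ hA'.2.1)
  have hstar : ∀ A' ∈ Fam', ⁅B.subgroupOf P, B.subgroupOf P⁆ ≤ A' → ∀ b ∈ B.subgroupOf P,
      b ∈ Subgroup.normalizer ((Subgroup.normalizer (A' : Set ↥P)) : Set ↥P) →
      b ∉ Subgroup.normalizer (A' : Set ↥P) → Repl.Astar A' b ∈ Fam' := by
    intro A' hA' hBA' b hb hbN hbA
    have hA'c := hcomm' A' hA'
    have hnot : ¬ B.subgroupOf P ≤ Subgroup.normalizer (A' : Set ↥P) := fun h => hbA (h hb)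
    have hres := Cfsg.Agent.S0650.result hP (B.subgroupOf P) hB2 A' hA'c hBA' hnot b hb hbN hbA
    obtain ⟨hcard, hcomm, _, _, _, _, _, _, _, hexp⟩ := hres
    have hexp' := hexp hp
    refine ⟨Subgroup.map_subtype_le _, ?_, ?_⟩
    · refine hG.repl (A'.map P.subtype) _ hA'.2.1 (isMulCommutative_map_subtype _ hcomm) ?_
      intro n hn x hx
      obtain ⟨x', hx', rfl⟩ := hx
      have h1 : Monoid.exponent ↥A' ∣ n := by
        apply Monoid.exponent_dvd_of_forall_pow_eq_one
        intro g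
        apply Subtype.ext
        apply Subtype.ext
        have := hn (g : ↥P) ⟨g, g.2, rfl⟩
        simpa using this
      obtain ⟨k, hk⟩ := hexp'.trans h1
      have h2 : (⟨x', hx'⟩ : ↥(Repl.Astar A' b)) ^ n = 1 := by
        rw [hk, pow_mul, Monoid.pow_exponent_eq_one, one_pow]
      have h3 := congrArg Subtype.val (congrArg Subtype.val h2)
      simpa using h3
    · intro Y hY hYg
      have h1 := hA'.2.2 Y hY hYg
      have h2 : Nat.card (A'.map P.subtype) = Nat.card A' :=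
        Subgroup.card_map_of_injective P.subtype_injective
      have h3 : Nat.card ((Repl.Astar A' b).map P.subtype) = Nat.card (Repl.Astar A' b) :=
        Subgroup.card_map_of_injective P.subtype_injective
      rw [h3, hcard, ← h2]; exact h1
  have hU' : U.subgroupOf P ∈ Fam' := by
    show (U.subgroupOf P).map P.subtype ∈ Fam Good P
    rw [Subgroup.map_subgroupOf_eq_of_le hU.1]; exact hU
  have hBU' : ⁅B.subgroupOf P, B.subgroupOf P⁆ ≤ U.subgroupOf P := by
    rw [Subgroup.commutator_le]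
    intro x hx y hy
    rw [Subgroup.mem_subgroupOf]
    apply hBU
    exact Subgroup.commutator_mem_commutator (Subgroup.mem_subgroupOf.mp hx)
      (Subgroup.mem_subgroupOf.mp hy)
  have hnU' : ¬ B.subgroupOf P ≤ U.subgroupOf P := by
    intro h
    apply hnU
    intro x hx
    have : (⟨x, hBP hx⟩ : ↥P) ∈ B.subgroupOf P := Subgroup.mem_subgroupOf.mpr hx
    exact Subgroup.mem_subgroupOf.mp (h this)
  obtain ⟨A', hA'F, hBA', hnBA', hBN'⟩ :=
    Repl.exists_normalized_member hP hp (B.subgroupOf P) Fam' hcomm' hstar (U.subgroupOf P) hU'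
      hBU' hnU'
  refine ⟨A'.map P.subtype, hA'F, ?_, ?_, ?_⟩
  · rw [Subgroup.commutator_le]
    intro x hx y hy
    refine ⟨⁅(⟨x, hBP hx⟩ : ↥P), ⟨y, hBP hy⟩⁆, hBA' ?_, rfl⟩
    exact Subgroup.commutator_mem_commutator (Subgroup.mem_subgroupOf.mpr hx)
      (Subgroup.mem_subgroupOf.mpr hy)
  · intro h
    apply hnBA'
    intro x hx
    obtain ⟨y, hy, hyx⟩ := h (Subgroup.mem_subgroupOf.mp hx)
    have : y = x := Subtype.ext hyx
    rw [← this]; exact hy
  · intro b hb
    have hb' : (⟨b, hBP hb⟩ : ↥P) ∈ Subgroup.normalizer (A' : Set ↥P) :=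
      hBN' (Subgroup.mem_subgroupOf.mpr hb)
    rw [Subgroup.mem_normalizer_iff] at hb' ⊢
    intro g
    constructor
    · rintro ⟨a', ha', rfl⟩
      exact ⟨⟨b, hBP hb⟩ * a' * (⟨b, hBP hb⟩ : ↥P)⁻¹, (hb' a').mp ha', rfl⟩
    · rintro ⟨c', hc', hc⟩
      refine ⟨(⟨b, hBP hb⟩ : ↥P)⁻¹ * c' * ⟨b, hBP hb⟩, ?_, ?_⟩
      · apply (hb' _).mpr
        have : (⟨b, hBP hb⟩ : ↥P) * ((⟨b, hBP hb⟩ : ↥P)⁻¹ * c' * ⟨b, hBP hb⟩) *
            (⟨b, hBP hb⟩ : ↥P)⁻¹ = c' := by group
        rw [this]; exact hc'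
      · show b⁻¹ * (P.subtype c') * b = g
        rw [hc]; group

end Cfsg.Agent.Helper11.ZJ
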