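import Cfsg.Agent.Lib.Helper11.ZJ3

/-!
# Tools for the ZJ theorem, part 4: auxiliary lemmas for the main induction.
-/

set_option autoImplicit false
set_option linter.style.haveILetI false

namespace Cfsg.Agent.Helper11.ZJ

open Cfsg
open scoped commutatorElement

variable {G : Type*} [Group G] {Good : Subgroup G → Prop}

/-- If `[Z, B] ≤ Y` with `B`, `Y` normal, then also `[Z^G, B] ≤ Y`. -/
theorem commutator_normalClosure_le {Z B Y : Subgroup G} [hB : B.Normal] [hY : Y.Normal]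
    (h : ⁅Z, B⁆ ≤ Y) : ⁅Subgroup.normalClosure (Z : Set G), B⁆ ≤ Y := by
  let K : Subgroup G :=
    { carrier := {x | ∀ b ∈ B, ⁅x, b⁆ ∈ Y}
      one_mem' := by
        intro b _
        have : ⁅(1 : G), b⁆ = 1 := by rw [commutatorElement_def]; group
        rw [this]; exact Y.one_mem
      mul_mem' := by
        intro x y hx hy b hb
        have : ⁅x * y, b⁆ = x * ⁅y, b⁆ * x⁻¹ * ⁅x, b⁆ := by
          simp only [commutatorElement_def]; group
        rw [this]
        exact Y.mul_mem (hY.conj_mem _ (hy b hb) x) (hx b hb)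
      inv_mem' := by
        intro x hx b hb
        have : ⁅x⁻¹, b⁆ = x⁻¹ * ⁅x, b⁆⁻¹ * x⁻¹⁻¹ := by
          simp only [commutatorElement_def]; group
        rw [this]
        exact hY.conj_mem _ (Y.inv_mem (hx b hb)) x⁻¹ }
  have hKn : K.Normal := by
    refine ⟨fun x hx g b hb => ?_⟩
    have h1 : g⁻¹ * b * g⁻¹⁻¹ ∈ B := hB.conj_mem b hb g⁻¹
    have : ⁅g * x * g⁻¹, b⁆ = g * ⁅x, g⁻¹ * b * g⁻¹⁻¹⁆ * g⁻¹ := by
      simp only [commutatorElement_def]; group
    rw [this]
    exact hY.conj_mem _ (hx _ h1) g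
  have hZK : (Z : Set G) ⊆ K := fun z hz b hb => h (Subgroup.commutator_mem_commutator hz hb)
  have h2 := Subgroup.normalClosure_le_normal hZK
  rw [Subgroup.commutator_le]
  intro x hx b hb
  exact h2 hx b hb

theorem commutator_W_inf_le [Finite G] (hG : GoodAx Good) {P B : Subgroup G} [B.Normal]
    (hBP : B ≤ P) : ⁅W Good P ⊓ B, B⁆ ≤ W Good P ⊓ ⁅B, B⁆ := by
  rw [Subgroup.commutator_le]
  intro z hz b hb
  refine ⟨?_, Subgroup.commutator_mem_commutator hz.2 hb⟩
  have hbN := le_normalizer_W hG P (hBP hb)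
  have h1 : b * z⁻¹ * b⁻¹ ∈ W Good P :=
    (Subgroup.mem_normalizer_iff.mp hbN z⁻¹).mp (inv_mem hz.1)
  have : ⁅z, b⁆ = z * (b * z⁻¹ * b⁻¹) := by rw [commutatorElement_def]; group
  rw [this]; exact mul_mem hz.1 h1

theorem W_inf_normal_of (hG : GoodAx Good) {P₁ B : Subgroup G} [hB : B.Normal]
    (h : Subgroup.normalizer (P₁ : Set G) ⊔ Subgroup.centralizer (B : Set G) = ⊤) :
    (W Good P₁ ⊓ B).Normal := by
  rw [← Subgroup.normalizer_eq_top_iff, eq_top_iff, ← h]
  apply sup_le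
  · intro g hg
    have h1 := normalizer_le_normalizer_W hG P₁ hg
    rw [Subgroup.mem_normalizer_iff] at h1 ⊢
    intro x
    constructor
    · rintro ⟨hx1, hx2⟩
      exact ⟨(h1 x).mp hx1, hB.conj_mem x hx2 g⟩
    · rintro ⟨hx1, hx2⟩
      refine ⟨(h1 x).mpr hx1, ?_⟩
      have h2 := hB.conj_mem _ hx2 g⁻¹
      have : g⁻¹ * (g * x * g⁻¹) * g⁻¹⁻¹ = x := by group
      rw [this] at h2; exact h2
  · intro c hc
    rw [Subgroup.mem_centralizer_iff] at hc
    rw [Subgroup.mem_normalizer_iff]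
    intro x
    have key : x ∈ B → c * x * c⁻¹ = x := by
      intro hx
      rw [← hc x hx]; group
    constructor
    · rintro ⟨hx1, hx2⟩
      rw [key hx2]; exact ⟨hx1, hx2⟩
    · rintro ⟨hx1, hx2⟩
      have h2 := hB.conj_mem _ hx2 c⁻¹
      have : c⁻¹ * (c * x * c⁻¹) * c⁻¹⁻¹ = x := by group
      rw [this] at h2
      rw [key h2] at hx1
      exact ⟨hx1, h2⟩

/-- The derived subgroup of a nontrivial `p`-subgroup is a proper subgroup. -/
theorem commutator_ne_self [Finite G] {p : ℕ} [Fact p.Prime] {B : Subgroup G}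
    (hBp : IsPGroup p B) (hne : B ≠ ⊥) : ⁅B, B⁆ ≠ B := by
  intro heq
  haveI : Group.IsNilpotent ↥B := hBp.isNilpotent
  haveI : Nontrivial ↥B := (Subgroup.nontrivial_iff_ne_bot B).mpr hne
  have h1 := Group.IsSolvable.commutator_lt_top_of_nontrivial ↥B
  apply ne_of_lt h1
  rw [eq_top_iff]
  intro x _
  have h2 : (commutator ↥B).map B.subtype = ⁅B, B⁆ := by
    rw [commutator_def, Subgroup.map_commutator, ← MonoidHom.range_eq_map, Subgroup.range_subtype]
  have h3 : (x : G) ∈ (commutator ↥B).map B.subtype := by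
    rw [h2, heq]; exact x.2
  obtain ⟨y, hy, hyx⟩ := h3
  have : y = x := Subtype.ext hyx
  rw [← this]; exact hy

theorem card_lt_of_lt' [Finite G] {H K : Subgroup G} (h : H < K) : Nat.card H < Nat.card K := by
  by_contra hcon
  push Not at hcon
  exact (ne_of_lt h) (Subgroup.eq_of_le_of_card_ge (le_of_lt h) hcon)

end Cfsg.Agent.Helper11.ZJ
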