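import Cfsg.Agent.Lib.Helper11.ZJ4

/-!
# The ZJ theorem for a general class of "good" abelian subgroups.
-/

set_option autoImplicit false
set_option linter.style.haveILetI false

namespace Cfsg.Agent.Helper11.ZJ

open Cfsg
open scoped commutatorElement

variable {G : Type*} [Group G] {Good : Subgroup G → Prop}

/-- Main induction: `W(P) ∩ B` is normal in `G` for every normal `p`-subgroup `B`. -/
theorem W_inf_normal [Finite G] {p : ℕ} [Fact p.Prime] (hG : GoodAx Good) (hp : p ≠ 2)
    (hst : ∀ (V : Subgroup G) [V.Normal], IsPGroup p V → IsPStableOn p V) (S : Sylow p G) :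
    ∀ n : ℕ, ∀ B : Subgroup G, B.Normal → IsPGroup p B → Nat.card B = n →
      (W Good (S : Subgroup G) ⊓ B).Normal := by
  intro n
  induction n using Nat.strong_induction_on with
  | _ n ih =>
  intro B hBn hBp hcard
  by_contra hnot
  haveI := hBn
  have hBP : B ≤ (S : Subgroup G) := hBp.le_sylow_of_normal S
  -- `B` is the normal closure of `Z₁ = W ∩ B`
  have hB0 : Subgroup.normalClosure ((W Good (S : Subgroup G) ⊓ B : Subgroup G) : Set G) = B := by
    by_contra hne
    have hle : Subgroup.normalClosure ((W Good (S : Subgroup G) ⊓ B : Subgroup G) : Set G) ≤ B :=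
      Subgroup.normalClosure_le_normal inf_le_right
    have hlt := card_lt_of_lt' (lt_of_le_of_ne hle hne)
    have h1 := ih _ (hcard ▸ hlt) _ Subgroup.normalClosure_normal (hBp.to_le hle) rfl
    have heq : W Good (S : Subgroup G) ⊓
        Subgroup.normalClosure ((W Good (S : Subgroup G) ⊓ B : Subgroup G) : Set G) =
        W Good (S : Subgroup G) ⊓ B :=
      le_antisymm (inf_le_inf_left _ hle) (le_inf inf_le_left Subgroup.subset_normalClosure)
    rw [heq] at h1
    exact hnot h1
  -- `B` is nontrivial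
  have hBne : B ≠ ⊥ := by
    intro h
    apply hnot
    rw [h, inf_bot_eq]
    infer_instance
  -- the derived subgroup
  have hB'lt : ⁅B, B⁆ < B :=
    lt_of_le_of_ne (Subgroup.commutator_le_right B B) (commutator_ne_self hBp hBne)
  have hYn : (W Good (S : Subgroup G) ⊓ ⁅B, B⁆).Normal :=
    ih _ (hcard ▸ card_lt_of_lt' hB'lt) _ inferInstance (hBp.to_le (le_of_lt hB'lt)) rfl
  haveI := hYn
  have h1 : ⁅W Good (S : Subgroup G) ⊓ B, B⁆ ≤ W Good (S : Subgroup G) ⊓ ⁅B, B⁆ :=
    commutator_W_inf_le hG hBP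
  have h2 := commutator_normalClosure_le h1
  rw [hB0] at h2
  have hB'W : ⁅B, B⁆ ≤ W Good (S : Subgroup G) := h2.trans inf_le_left
  -- `B` is not inside `W`
  have hBW : ¬ B ≤ W Good (S : Subgroup G) := by
    intro h
    apply hnot
    rw [inf_eq_right.mpr h]
    exact hBn
  obtain ⟨U, hU, hnU⟩ : ∃ U ∈ Fam Good (S : Subgroup G), ¬ B ≤ U := by
    by_contra hcon
    push Not at hcon
    exact hBW (le_sInf hcon)
  obtain ⟨A, hA, hBA, hnBA, hBNA⟩ :=
    exists_normalized hG hp S.isPGroup' B hBP hU (hB'W.trans (W_le_of_mem hU)) hnU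
  -- `A` acts quadratically on `B`
  have hquad : ⁅⁅B, A⁆, A⁆ = ⊥ := by
    have h3 : ⁅B, A⁆ ≤ A := by
      rw [Subgroup.commutator_le]
      intro b hb a ha
      have h4 : b * a * b⁻¹ ∈ A := (Subgroup.mem_normalizer_iff.mp (hBNA hb) a).mp ha
      have : ⁅b, a⁆ = b * a * b⁻¹ * a⁻¹ := commutatorElement_def b a
      rw [this]
      exact A.mul_mem h4 (A.inv_mem ha)
    rw [eq_bot_iff]
    refine (Subgroup.commutator_mono h3 le_rfl).trans ?_
    rw [Subgroup.commutator_le]
    intro x hx y hy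
    have hc := (Repl.isMulCommutative_iff_forall A).mp (hG.comm A hA.2.1) x hx y hy
    rw [Subgroup.mem_bot, commutatorElement_def, hc]
    group
  have hAL : A ≤ stabL p B := le_stabL_of_quadratic B (hst B hBp) A hquad
  have hAP1 : A ≤ (S : Subgroup G) ⊓ stabL p B := le_inf hA.1 hAL
  have hW1 : W Good (S : Subgroup G) ≤ W Good ((S : Subgroup G) ⊓ stabL p B) :=
    W_mono hA hAP1 inf_le_left
  have hA1 : A ∈ Fam Good ((S : Subgroup G) ⊓ stabL p B) := Fam_mono hA hAP1 inf_le_left
  have hXn : (W Good ((S : Subgroup G) ⊓ stabL p B) ⊓ B).Normal :=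
    W_inf_normal_of hG (normalizer_sup_centralizer_eq_top S B)
  have hXlt : W Good ((S : Subgroup G) ⊓ stabL p B) ⊓ B < B := by
    refine lt_of_le_of_ne inf_le_right ?_
    intro heq
    apply hnBA
    have : B ≤ W Good ((S : Subgroup G) ⊓ stabL p B) := inf_eq_right.mp heq
    exact this.trans (W_le_of_mem hA1)
  have h5 := ih _ (hcard ▸ card_lt_of_lt' hXlt) _ hXn (hBp.to_le (le_of_lt hXlt)) rfl
  have heq : W Good (S : Subgroup G) ⊓ (W Good ((S : Subgroup G) ⊓ stabL p B) ⊓ B) =
      W Good (S : Subgroup G) ⊓ B := by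
    rw [← inf_assoc, inf_eq_left.mpr hW1]
  rw [heq] at h5
  exact hnot h5

/-- `W(P)` is normal in `G`. -/
theorem W_normal [Finite G] {p : ℕ} [Fact p.Prime] (hG : GoodAx Good) (hp : p ≠ 2)
    (hc : Subgroup.centralizer (pCore p G : Set G) ≤ pCore p G)
    (hst : ∀ (V : Subgroup G) [V.Normal], IsPGroup p V → IsPStableOn p V) (S : Sylow p G) :
    (W Good (S : Subgroup G)).Normal := by
  haveI hQn := pCore_normal' p G
  have hQp : IsPGroup p (pCore p G) := isPGroup_pCore'
  have hQS : pCore p G ≤ (S : Subgroup G) := pCore_le_sylow' S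
  have hquad : ⁅⁅pCore p G, W Good (S : Subgroup G)⁆, W Good (S : Subgroup G)⁆ = ⊥ := by
    have h3 : ⁅pCore p G, W Good (S : Subgroup G)⁆ ≤ W Good (S : Subgroup G) := by
      rw [Subgroup.commutator_le]
      intro b hb a ha
      have hbN := le_normalizer_W hG (S : Subgroup G) (hQS hb)
      have h4 : b * a * b⁻¹ ∈ W Good (S : Subgroup G) :=
        (Subgroup.mem_normalizer_iff.mp hbN a).mp ha
      have : ⁅b, a⁆ = b * a * b⁻¹ * a⁻¹ := commutatorElement_def b a
      rw [this]
      exact Subgroup.mul_mem _ h4 (Subgroup.inv_mem _ ha)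
    rw [eq_bot_iff]
    refine (Subgroup.commutator_mono h3 le_rfl).trans ?_
    rw [Subgroup.commutator_le]
    intro x hx y hy
    have hc' := W_comm hG (S : Subgroup G) hx hy
    rw [Subgroup.mem_bot, commutatorElement_def, hc']
    group
  have hWL := le_stabL_of_quadratic (pCore p G) (hst (pCore p G) hQp) _ hquad
  have hLp : IsPGroup p (stabL p (pCore p G)) := isPGroup_stabL (pCore p G) (hQp.to_le hc)
  have hLQ : stabL p (pCore p G) ≤ pCore p G := le_pCore' (stabL_normal p (pCore p G)) hLp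
  have h5 := W_inf_normal hG hp hst S _ (pCore p G) hQn hQp rfl
  rw [inf_eq_left.mpr (hWL.trans hLQ)] at h5
  exact h5

/-- `W(P)` is characteristic in `G`. -/
theorem W_characteristic [Finite G] {p : ℕ} [Fact p.Prime] (hG : GoodAx Good) (hp : p ≠ 2)
    (hc : Subgroup.centralizer (pCore p G : Set G) ≤ pCore p G)
    (hst : ∀ (V : Subgroup G) [V.Normal], IsPGroup p V → IsPStableOn p V) (S : Sylow p G) :
    (W Good (S : Subgroup G)).Characteristic := by
  haveI hWn := W_normal hG hp hc hst S
  rw [Subgroup.characteristic_iff_map_eq]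
  intro φ
  rw [W_map hG φ]
  have hsurj : Function.Surjective ⇑φ.toMonoidHom := φ.surjective
  obtain ⟨g, hg⟩ := MulAction.exists_smul_eq G S (S.mapSurjective hsurj)
  have h1 : (S : Subgroup G).map φ.toMonoidHom =
      (S : Subgroup G).map (MulAut.conj g).toMonoidHom := by
    rw [← Sylow.coe_mapSurjective hsurj S, ← hg]; rfl
  rw [h1, ← W_map hG (MulAut.conj g)]
  exact Subgroup.Normal.map_conj_eq _ g

end Cfsg.Agent.Helper11.ZJ
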