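import Cfsg.Agent.Lib.Helper11.ZJ5
import Cfsg.Agent.Lib.Helper11.ElemAb

/-!
# The two classes of subgroups to which the general ZJ theorem is applied.
-/

set_option autoImplicit false
set_option linter.style.haveILetI false

namespace Cfsg.Agent.Helper11.ZJ

open Cfsg
open scoped commutatorElement

variable {G : Type*} [Group G]

/-- The image in `G` of the intersection of a nonempty family of subgroups of `P`. -/
theorem map_sInf_subtype (P : Subgroup G) (𝒜 : Set (Subgroup ↥P)) (hne : 𝒜.Nonempty) :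
    (sInf 𝒜).map P.subtype = sInf (Set.image (fun A : Subgroup ↥P => A.map P.subtype) 𝒜) := by
  ext x
  rw [Subgroup.mem_sInf]
  constructor
  · rintro ⟨x', hx', rfl⟩ _ ⟨A', hA', rfl⟩
    exact ⟨x', (Subgroup.mem_sInf.mp hx') A' hA', rfl⟩
  · intro h
    obtain ⟨A₀, hA₀⟩ := hne
    obtain ⟨x', _, hx'⟩ := h _ ⟨A₀, hA₀, rfl⟩
    refine ⟨x', ?_, hx'⟩
    show x' ∈ sInf 𝒜
    rw [Subgroup.mem_sInf]
    intro A' hA'
    obtain ⟨x'', hx''1, hx''2⟩ := h _ ⟨A', hA', rfl⟩
    have : x'' = x' := Subtype.ext (by rw [← hx'] at hx''2; exact hx''2)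
    rw [← this]; exact hx''1

theorem goodAx_comm : GoodAx (fun A : Subgroup G => IsMulCommutative A) where
  bot := by
    rw [Repl.isMulCommutative_iff_forall]
    intro x hx y hy
    rw [Subgroup.mem_bot] at hx hy
    rw [hx, hy]
  comm := fun _ h => h
  map := by
    intro φ A hA
    rw [Repl.isMulCommutative_iff_forall] at hA ⊢
    rintro _ ⟨x, hx, rfl⟩ _ ⟨y, hy, rfl⟩
    show φ x * φ y = φ y * φ x
    rw [← map_mul, ← map_mul, hA x hx y hy]
  repl := fun _ _ _ h _ => h

theorem goodAx_elemAb (p : ℕ) : GoodAx (fun A : Subgroup G => IsElementaryAbelian p A) where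
  bot := isElementaryAbelian_bot p
  comm := fun _ h => h.1
  map := by
    intro φ A hA
    refine ⟨(goodAx_comm (G := G)).map φ A hA.1, ?_⟩
    rintro _ ⟨x, hx, rfl⟩
    show φ x ^ p = 1
    rw [← map_pow, hA.2 x hx, map_one]
  repl := by
    intro A X hA hX h
    exact ⟨hX, h p hA.2⟩

end Cfsg.Agent.Helper11.ZJ
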