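import Cfsg.Agent.Lib.Helper11.ZJ7
import Cfsg.Agent.Lib.Helper11.ZJ6
import Cfsg.Agent.Lib.Helper54.PConstrained
import Cfsg.Agent.S0647

/-!
# The ZJ theorem in the vocabulary of `p`-constrained, `p`-stable groups
-/

set_option autoImplicit false
set_option linter.style.haveILetI false

namespace Cfsg.Agent.Helper11.ZJ

open Cfsg
open scoped commutatorElement

variable {G : Type*} [Group G]

/-- A normal subgroup whose elements have `p`-power order modulo `C_G(V)` lies in the preimage of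
`O_p(G/C_G(V))`. -/
theorem le_stabL_of_normal_pow {p : ℕ} (V : Subgroup G) [V.Normal] (D : Subgroup G) (hD : D.Normal)
    (hpow : ∀ d ∈ D, ∃ k : ℕ, d ^ p ^ k ∈ Subgroup.centralizer (V : Set G)) : D ≤ stabL p V := by
  intro d hd
  show QuotientGroup.mk' (Subgroup.centralizer (V : Set G)) d ∈ pCore p _
  have hmapN : (D.map (QuotientGroup.mk' (Subgroup.centralizer (V : Set G)))).Normal :=
    hD.map _ (QuotientGroup.mk'_surjective _)
  have hmapP : IsPGroup p (D.map (QuotientGroup.mk' (Subgroup.centralizer (V : Set G)))) := by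
    rw [isPGroup_subgroup_iff']
    rintro y ⟨d, hd, rfl⟩
    obtain ⟨k, hk⟩ := hpow d hd
    refine ⟨k, ?_⟩
    rw [QuotientGroup.mk'_apply, ← QuotientGroup.mk_pow]
    exact (QuotientGroup.eq_one_iff _).mpr hk
  exact le_pCore' hmapN hmapP (Subgroup.mem_map_of_mem _ hd)

/-- From the conclusion of `Cfsg.IsPStable` (for a normal subgroup `V`) to membership in the
preimage of `O_p(G/C_G(V))`. -/
theorem le_stabL_of_concl {p : ℕ} (V : Subgroup G) [hV : V.Normal] (A : Subgroup G)
    (h : (A.subgroupOf (Subgroup.normalizer (V : Set G))).map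
        (QuotientGroup.mk' ((Subgroup.centralizer (V : Set G)).subgroupOf
          (Subgroup.normalizer (V : Set G)))) ≤ pCore p _) : A ≤ stabL p V := by
  have hN : Subgroup.normalizer (V : Set G) = ⊤ := Subgroup.normalizer_eq_top_iff.mpr hV
  have hmemN : ∀ g : G, g ∈ Subgroup.normalizer (V : Set G) := fun g => by rw [hN]; trivial
  set pre : Subgroup ↥(Subgroup.normalizer (V : Set G)) :=
    (pCore p (↥(Subgroup.normalizer (V : Set G)) ⧸ (Subgroup.centralizer (V : Set G)).subgroupOf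
      (Subgroup.normalizer (V : Set G)))).comap (QuotientGroup.mk' _) with hpre
  have hpren : pre.Normal := (pCore_normal' p _).comap _
  have hDn : (pre.map (Subgroup.normalizer (V : Set G)).subtype).Normal := by
    refine ⟨fun x hx g => ?_⟩
    obtain ⟨x', hx', rfl⟩ := hx
    exact ⟨⟨g, hmemN g⟩ * x' * (⟨g, hmemN g⟩ : ↥(Subgroup.normalizer (V : Set G)))⁻¹,
      hpren.conj_mem x' hx' ⟨g, hmemN g⟩, rfl⟩
  have hpow : ∀ d ∈ pre.map (Subgroup.normalizer (V : Set G)).subtype,
      ∃ k : ℕ, d ^ p ^ k ∈ Subgroup.centralizer (V : Set G) := by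
    rintro _ ⟨x', hx', rfl⟩
    have hx'' : QuotientGroup.mk' ((Subgroup.centralizer (V : Set G)).subgroupOf
        (Subgroup.normalizer (V : Set G))) x' ∈ pCore p _ := hx'
    obtain ⟨k, hk⟩ := (isPGroup_subgroup_iff'.mp isPGroup_pCore') _ hx''
    refine ⟨k, ?_⟩
    rw [QuotientGroup.mk'_apply, ← QuotientGroup.mk_pow, QuotientGroup.eq_one_iff,
      Subgroup.mem_subgroupOf] at hk
    simpa using hk
  have hAD : A ≤ pre.map (Subgroup.normalizer (V : Set G)).subtype := by
    intro a ha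
    refine ⟨⟨a, hmemN a⟩, ?_, rfl⟩
    show QuotientGroup.mk' _ (⟨a, hmemN a⟩ : ↥(Subgroup.normalizer (V : Set G))) ∈ pCore p _
    exact h (Subgroup.mem_map_of_mem _ (Subgroup.mem_subgroupOf.mpr ha))
  exact hAD.trans (le_stabL_of_normal_pow V _ hDn hpow)

/-- The ZJ theorem for `p`-constrained, `p`-stable groups with trivial `p'`-core. -/
theorem W_characteristic_of_pPrimeCore_eq_bot [Finite G] {p : ℕ} [Fact p.Prime] (hp : p ≠ 2)
    (hc : IsPConstrained p G) (hs : IsPStable p G) (hK : pPrimeCore p G = ⊥) (S : Sylow p G)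
    {Good : Subgroup G → Prop} (hG : GoodAx Good) : (W Good (S : Subgroup G)).Characteristic := by
  have hc' := Helper54.isPConstrained_iff_isCharP_quotient.mp hc
  have hcharp : Helper54.IsCharP p G :=
    Helper54.IsCharP.of_mulEquiv
      ((QuotientGroup.quotientMulEquivOfEq hK).trans QuotientGroup.quotientBot) hc'
  apply W_characteristic' hG hp hcharp S
  intro V hVn hVp A hAS hq
  apply le_stabL_of_concl V A
  apply hs.2.2 A V (S.isPGroup'.to_le hAS) hVp
  · intro a _ x hx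
    exact hVn.conj_mem x hx a
  · intro x hx
    rw [Helper54.mem_pPrimePCore_iff]
    exact le_pCore' (hVn.map _ (QuotientGroup.mk'_surjective _)) (hVp.map _)
      (Subgroup.mem_map_of_mem _ hx)
  · infer_instance
  · exact hq

/-- `W` (for the class of all abelian subgroups) commutes with homomorphisms injective on `P`. -/
theorem W_comm_map {G' : Type*} [Group G'] [Finite G] (f : G →* G') (P : Subgroup G)
    (hinj : f.ker ⊓ P = ⊥) :
    W (fun A : Subgroup G' => IsMulCommutative A) (P.map f) =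
      (W (fun A : Subgroup G => IsMulCommutative A) P).map f := by
  have hinj' : ∀ x ∈ P, ∀ y ∈ P, f x = f y → x = y := by
    intro x hx y hy hxy
    have h0 : x⁻¹ * y ∈ f.ker := by
      rw [MonoidHom.mem_ker, map_mul, map_inv, hxy, inv_mul_cancel]
    have h1 : x⁻¹ * y ∈ f.ker ⊓ P := ⟨h0, P.mul_mem (P.inv_mem hx) hy⟩
    rw [hinj, Subgroup.mem_bot] at h1
    calc x = x * (x⁻¹ * y) := by rw [h1, mul_one]
      _ = y := by group
  -- cardinalities
  have hcard : ∀ Y : Subgroup G, Y ≤ P → Nat.card (Y.map f) = Nat.card Y := by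
    intro Y hY
    symm
    apply Nat.card_congr
    refine Equiv.ofBijective (fun y : Y => (⟨f y, Subgroup.mem_map_of_mem f y.2⟩ : Y.map f)) ⟨?_, ?_⟩
    · intro y₁ y₂ h
      have h1 : f y₁ = f y₂ := congrArg Subtype.val h
      exact Subtype.ext (hinj' _ (hY y₁.2) _ (hY y₂.2) h1)
    · rintro ⟨_, ⟨y, hy, rfl⟩⟩
      exact ⟨⟨y, hy⟩, rfl⟩
  have hcommmap : ∀ Y : Subgroup G, IsMulCommutative Y → IsMulCommutative (Y.map f) := by
    intro Y hY
    rw [Repl.isMulCommutative_iff_forall] at hY ⊢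
    rintro _ ⟨x, hx, rfl⟩ _ ⟨y, hy, rfl⟩
    rw [← map_mul, ← map_mul, hY x hx y hy]
  -- pulling back subgroups of the image
  have hpull : ∀ Y' : Subgroup G', Y' ≤ P.map f → (P ⊓ Y'.comap f).map f = Y' := by
    intro Y' hY'
    apply le_antisymm
    · rintro _ ⟨x, hx, rfl⟩
      exact hx.2
    · intro y' hy'
      obtain ⟨x, hx, rfl⟩ := hY' hy'
      exact ⟨x, ⟨hx, hy'⟩, rfl⟩
  have hpullcomm : ∀ Y' : Subgroup G', IsMulCommutative Y' → IsMulCommutative ↥(P ⊓ Y'.comap f) := by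
    intro Y' hY'
    rw [Repl.isMulCommutative_iff_forall] at hY' ⊢
    intro x hx y hy
    apply hinj' _ (P.mul_mem hx.1 hy.1) _ (P.mul_mem hy.1 hx.1)
    rw [map_mul, map_mul]
    exact hY' _ hx.2 _ hy.2
  have hfam1 : ∀ A ∈ Fam (fun A : Subgroup G => IsMulCommutative A) P,
      A.map f ∈ Fam (fun A : Subgroup G' => IsMulCommutative A) (P.map f) := by
    intro A hA
    refine ⟨Subgroup.map_mono hA.1, hcommmap A hA.2.1, fun Y' hY' hY'c => ?_⟩
    rw [← hpull Y' hY', hcard _ inf_le_left, hcard A hA.1]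
    exact hA.2.2 _ inf_le_left (hpullcomm Y' hY'c)
  have hfam2 : ∀ A' ∈ Fam (fun A : Subgroup G' => IsMulCommutative A) (P.map f),
      P ⊓ A'.comap f ∈ Fam (fun A : Subgroup G => IsMulCommutative A) P := by
    intro A' hA'
    refine ⟨inf_le_left, hpullcomm A' hA'.2.1, fun Y hY hYc => ?_⟩
    rw [← hcard Y hY, ← hcard _ inf_le_left, hpull A' hA'.1]
    exact hA'.2.2 _ (Subgroup.map_mono hY) (hcommmap Y hYc)
  apply le_antisymm
  · intro y' hy'
    obtain ⟨A₀, hA₀⟩ := Fam_nonempty (goodAx_comm (G := G)) P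
    obtain ⟨a₀, ha₀, rfl⟩ := W_le_of_mem (hfam1 A₀ hA₀) hy'
    refine ⟨a₀, ?_, rfl⟩
    show a₀ ∈ sInf (Fam (fun A : Subgroup G => IsMulCommutative A) P)
    rw [Subgroup.mem_sInf]
    intro A hA
    obtain ⟨a, ha, haa⟩ := W_le_of_mem (hfam1 A hA) hy'
    have : a = a₀ := hinj' _ (hA.1 ha) _ (hA₀.1 ha₀) haa
    rw [← this]; exact ha
  · rintro _ ⟨x, hx, rfl⟩
    show f x ∈ sInf (Fam (fun A : Subgroup G' => IsMulCommutative A) (P.map f))
    rw [Subgroup.mem_sInf]
    intro A' hA'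
    have h1 := W_le_of_mem (hfam2 A' hA') hx
    exact h1.2

/-- `Z(J(P))`, computed in `G`, is the image of `Z(J(P))` computed in `P`. -/
theorem centerThompsonAOf_eq' (P : Subgroup G) :
    Cfsg.centerThompsonAOf P =
      (Cfsg.thompsonSubgroupA ↥P ⊓
        Subgroup.centralizer (Cfsg.thompsonSubgroupA ↥P : Set ↥P)).map P.subtype := by
  ext x
  unfold Cfsg.centerThompsonAOf Cfsg.thompsonSubgroupAOf
  rw [Subgroup.mem_inf, Subgroup.mem_map]
  constructor
  · rintro ⟨⟨x', hx', rfl⟩, hx2⟩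
    have hx3 : x' ∈ Subgroup.centralizer (Cfsg.thompsonSubgroupA ↥P : Set ↥P) := by
      rw [Subgroup.mem_centralizer_iff] at hx2 ⊢
      intro y hy
      apply Subtype.ext
      exact hx2 (P.subtype y) ⟨y, hy, rfl⟩
    exact ⟨x', ⟨hx', hx3⟩, rfl⟩
  · rintro ⟨x', hx12, rfl⟩
    have hx12' : x' ∈ Cfsg.thompsonSubgroupA ↥P ⊓
        Subgroup.centralizer (Cfsg.thompsonSubgroupA ↥P : Set ↥P) := hx12
    rw [Subgroup.mem_inf] at hx12'
    obtain ⟨hx', hx2⟩ := hx12'
    refine ⟨⟨x', hx', rfl⟩, ?_⟩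
    rw [Subgroup.mem_centralizer_iff] at hx2 ⊢
    rintro _ ⟨y, hy, rfl⟩
    exact congrArg Subtype.val (hx2 y hy)

/-- `Z(J(P))` (abelian version) is the intersection of the abelian subgroups of `P` of largest order. -/
theorem centerThompsonAOf_eq_W [Finite G] (P : Subgroup G) :
    Cfsg.centerThompsonAOf P = W (fun A : Subgroup G => IsMulCommutative A) P := by
  have hG := goodAx_comm (G := G)
  have h3 : Set.image (fun A : Subgroup ↥P => A.map P.subtype) (Cfsg.maxAbelianSubgroups ↥P) =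
      Fam (fun A : Subgroup G => IsMulCommutative A) P := by
    ext X
    exact Repl.mem_image_maxAbelian_iff P X
  have hne : (Cfsg.maxAbelianSubgroups ↥P).Nonempty := by
    obtain ⟨A, hA⟩ := Fam_nonempty hG P
    rw [← h3] at hA
    obtain ⟨A', hA', _⟩ := hA
    exact ⟨A', hA'⟩
  have h1 := (Cfsg.Agent.S0647.result (Cfsg.maxAbelianSubgroups ↥P) hne
    (fun A hA => hA.1) (fun A hA B hB hAB =>
      (Subgroup.eq_of_le_of_card_ge hAB (hA.2 B hB)).symm)).1
  have h2 := map_sInf_subtype P _ hne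
  rw [centerThompsonAOf_eq']
  show (sSup (Cfsg.maxAbelianSubgroups ↥P) ⊓
    Subgroup.centralizer ((sSup (Cfsg.maxAbelianSubgroups ↥P) : Subgroup ↥P) : Set ↥P)).map
      P.subtype = _
  rw [← h1, h2, h3]
  rfl

end Cfsg.Agent.Helper11.ZJ
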